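import Mathlib.AlgebraicGeometry.IdealSheaf.Functorial
import Mathlib.AlgebraicGeometry.IdealSheaf.Subscheme

/-!
# Affine-local description of the inverse image ideal sheaf `IdealSheafData.comap`
-/

set_option autoImplicit false
universe u

open CategoryTheory CategoryTheory.Limits AlgebraicGeometry

namespace Groth.Agent.Lib.helper6

open Scheme.IdealSheafData

/-- Affine case: for a morphism of affine schemes, the inverse image ideal is the extension. -/
theorem ideal_comap_top_of_isAffine {X Y : Scheme.{u}} [IsAffine X] [IsAffine Y] (f : X ⟶ Y)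
    (K : Y.IdealSheafData) :
    (K.comap f).ideal ⟨⊤, isAffineOpen_top X⟩ =
      (K.ideal ⟨⊤, isAffineOpen_top Y⟩).map f.appTop.hom := by
  have key : ∀ J : X.IdealSheafData, (J.map f).ideal ⟨⊤, isAffineOpen_top Y⟩ =
      (J.ideal ⟨⊤, isAffineOpen_top X⟩).comap f.appTop.hom := fun J =>
    ideal_map J f ⟨⊤, isAffineOpen_top Y⟩ (isAffineOpen_top X)
  apply le_antisymm
  · let J : X.IdealSheafData := ofIdealTop ((K.ideal ⟨⊤, isAffineOpen_top Y⟩).map f.appTop.hom)
    have hJ : J.ideal ⟨⊤, isAffineOpen_top X⟩ =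
        (K.ideal ⟨⊤, isAffineOpen_top Y⟩).map f.appTop.hom := by
      simp [J]
    have h1 : K ≤ J.map f := by
      apply le_of_isAffine
      rw [key, hJ]
      exact Ideal.le_comap_map
    have h2 : K.comap f ≤ J := le_map_iff_comap_le.mp h1
    exact (h2 _).trans hJ.le
  · rw [Ideal.map_le_iff_le_comap, ← key]
    exact le_map_comap K f ⟨⊤, isAffineOpen_top Y⟩

/-- Affine-local description of the inverse image ideal sheaf: on an affine open `W` of `X` mapping
into an affine open `U` of `Y`, the ideal of `K.comap f` is the extension of the ideal of `K`. -/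
theorem ideal_comap {X Y : Scheme.{u}} (f : X ⟶ Y) (K : Y.IdealSheafData)
    (U : Y.affineOpens) (W : X.affineOpens) (h : W.1 ≤ f ⁻¹ᵁ U.1) :
    (K.comap f).ideal W = (K.ideal U).map (f.appLE U.1 W.1 h).hom := by
  have : IsAffine W.1.toScheme := W.2
  have : IsAffine U.1.toScheme := U.2
  let g := f.resLE U.1 W.1 h
  have e1 : (K.comap f).comap W.1.ι = (K.comap U.1.ι).comap g := by
    rw [← comap_comp, ← comap_comp, Scheme.Hom.resLE_comp_ι]
  have e2 := ideal_comap_of_isOpenImmersion (K.comap f) W.1.ι ⟨⊤, isAffineOpen_top _⟩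
  have e3 := ideal_comap_of_isOpenImmersion K U.1.ι ⟨⊤, isAffineOpen_top _⟩
  have e4 := ideal_comap_top_of_isAffine g (K.comap U.1.ι)
  rw [← e1, e2, e3] at e4
  simp only [Scheme.Opens.ι_appIso, Iso.refl_inv] at e4
  erw [Ideal.comap_id, Ideal.comap_id] at e4
  have hW : ((K.comap f).ideal
      ⟨W.1.ι ''ᵁ ⊤, (isAffineOpen_top _).image_of_isOpenImmersion W.1.ι⟩).map W.1.topIso.hom.hom =
      (K.comap f).ideal W :=
    map_ideal' (K.comap f) (U := W)
      (V := ⟨W.1.ι ''ᵁ ⊤, (isAffineOpen_top _).image_of_isOpenImmersion W.1.ι⟩)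
      (eqToHom W.1.ι_image_top.symm).op
  have hU : (K.ideal U).map U.1.topIso.inv.hom =
      K.ideal ⟨U.1.ι ''ᵁ ⊤, (isAffineOpen_top _).image_of_isOpenImmersion U.1.ι⟩ :=
    map_ideal' K (V := U)
      (U := ⟨U.1.ι ''ᵁ ⊤, (isAffineOpen_top _).image_of_isOpenImmersion U.1.ι⟩)
      (eqToHom U.1.ι_image_top).op
  have key : f.appLE U.1 W.1 h = U.1.topIso.inv ≫ g.appTop ≫ W.1.topIso.hom := by
    simp only [Scheme.Hom.appTop, g, Scheme.Hom.resLE_app_top, Category.assoc, Iso.inv_hom_id,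
      Category.comp_id, Iso.inv_hom_id_assoc]
  rw [← hW, e4, ← hU, key]
  erw [Ideal.map_map, Ideal.map_map]
  rfl

/-- Every point of `X` has an affine open neighbourhood mapping into an affine open of `Y`. -/
theorem exists_affineOpens_le_preimage {X Y : Scheme.{u}} (f : X ⟶ Y) (x : X) :
    ∃ (U : Y.affineOpens) (W : X.affineOpens), x ∈ W.1 ∧ W.1 ≤ f ⁻¹ᵁ U.1 := by
  obtain ⟨_, ⟨U, hU, rfl⟩, hxU, -⟩ :=
    Y.isBasis_affineOpens.exists_subset_of_mem_open (Set.mem_univ (f x)) isOpen_univ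
  obtain ⟨_, ⟨W, hW, rfl⟩, hxW, hWU⟩ :=
    X.isBasis_affineOpens.exists_subset_of_mem_open (show x ∈ (f ⁻¹ᵁ U : Set X) from hxU)
      (f ⁻¹ᵁ U).2
  exact ⟨⟨U, hU⟩, ⟨W, hW⟩, hxW, hWU⟩

/-- Two ideal sheaves on `X` agree if they agree on every affine open mapping into an affine open
of `Y`. -/
theorem ext_of_forall_affineOpens_le_preimage {X Y : Scheme.{u}} (f : X ⟶ Y)
    {I J : X.IdealSheafData}
    (H : ∀ (U : Y.affineOpens) (W : X.affineOpens), W.1 ≤ f ⁻¹ᵁ U.1 → I.ideal W = J.ideal W) :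
    I = J := by
  choose U W hxW hWU using exists_affineOpens_le_preimage f
  refine ext_of_iSup_eq_top W ?_ fun x => H (U x) (W x) (hWU x)
  rw [eq_top_iff]
  intro x _
  exact TopologicalSpace.Opens.mem_iSup.mpr ⟨x, hxW x⟩

theorem comap_mul {X Y : Scheme.{u}} (f : X ⟶ Y) (K₁ K₂ : Y.IdealSheafData) :
    (K₁ * K₂).comap f = K₁.comap f * K₂.comap f := by
  refine ext_of_forall_affineOpens_le_preimage f fun U W h => ?_
  rw [ideal_comap f _ U W h, ideal_mul, Pi.mul_apply, Ideal.map_mul, ideal_mul, Pi.mul_apply,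
    ideal_comap f _ U W h, ideal_comap f _ U W h]

theorem comap_pow {X Y : Scheme.{u}} (f : X ⟶ Y) (K : Y.IdealSheafData) (n : ℕ) :
    (K ^ n).comap f = (K.comap f) ^ n := by
  refine ext_of_forall_affineOpens_le_preimage f fun U W h => ?_
  rw [ideal_comap f _ U W h, ideal_pow, Pi.pow_apply, Ideal.map_pow, ideal_pow, Pi.pow_apply,
    ideal_comap f _ U W h]

end Groth.Agent.Lib.helper6

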