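import Mathlib

/-!
# Every module is a direct limit of finitely presented modules (helper6)

For an `R`-module `M` let `F = M →₀ N₀` with `N₀ ≃ R` (a copy of `R` regarded only as a module,
which avoids instance clashes) and its canonical surjection `π : F → M`.  The index set consists of
pairs `(A, L)` with `A` a finite subset of `M` and `L` a finitely generated submodule of `ker π`
contained in the span `F_A` of the basis vectors in `A`; the module attached to it is `F_A / L`.
-/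

set_option autoImplicit false
universe u

namespace Groth.Agent.Lib.helper6.FPLim

variable {R : Type u} [CommRing R] (M : Type u) [AddCommGroup M] [Module R M]
  {N₀ : Type u} [AddCommGroup N₀] [Module R N₀] (e₀ : N₀ ≃ₗ[R] R)

/-- The canonical surjection from the free module on `M`. -/
noncomputable def π : (M →₀ N₀) →ₗ[R] M :=
  Finsupp.lsum R (fun m : M => (LinearMap.toSpanSingleton R M m) ∘ₗ e₀.toLinearMap)

theorem π_single (m : M) (n : N₀) : π M e₀ (Finsupp.single m n) = e₀ n • m := by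
  simp [π]

/-- The span of the basis vectors in `A`. -/
noncomputable abbrev FA (A : Finset M) : Submodule R (M →₀ N₀) :=
  Finsupp.supported N₀ R (A : Set M)

/-- The index set. -/
def Idx : Type u :=
  {p : Finset M × Submodule R (M →₀ N₀) //
    p.2.FG ∧ p.2 ≤ LinearMap.ker (π M e₀) ∧ p.2 ≤ FA (R := R) (N₀ := N₀) M p.1}

instance : Preorder (Idx M e₀) :=
  inferInstanceAs (Preorder {p : Finset M × Submodule R (M →₀ N₀) //
    p.2.FG ∧ p.2 ≤ LinearMap.ker (π M e₀) ∧ p.2 ≤ FA (R := R) (N₀ := N₀) M p.1})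

theorem FA_mono {A B : Finset M} (h : A ≤ B) :
    FA (R := R) (N₀ := N₀) M A ≤ FA (R := R) (N₀ := N₀) M B :=
  Finsupp.supported_mono (Finset.coe_subset.mpr h)

instance : IsDirected (Idx M e₀) (· ≤ ·) := by
  classical
  refine ⟨fun a b => ⟨⟨(a.1.1 ∪ b.1.1, a.1.2 ⊔ b.1.2), a.2.1.sup b.2.1,
    sup_le a.2.2.1 b.2.2.1,
    sup_le (a.2.2.2.trans (FA_mono M Finset.subset_union_left))
      (b.2.2.2.trans (FA_mono M Finset.subset_union_right))⟩,
    ⟨Finset.subset_union_left, le_sup_left⟩, ⟨Finset.subset_union_right, le_sup_right⟩⟩⟩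

instance : Nonempty (Idx M e₀) :=
  ⟨⟨(∅, ⊥), Submodule.fg_bot, bot_le, bot_le⟩⟩

/-- The finitely presented modules. -/
def G (i : Idx M e₀) : Type u :=
  ↥(FA (R := R) (N₀ := N₀) M i.1.1) ⧸ (i.1.2.comap (FA (R := R) (N₀ := N₀) M i.1.1).subtype)

noncomputable instance (i : Idx M e₀) : AddCommGroup (G M e₀ i) :=
  Submodule.Quotient.addCommGroup _

noncomputable instance (i : Idx M e₀) : Module R (G M e₀ i) :=
  Submodule.Quotient.module _

/-- The quotient map. -/
noncomputable def mk (i : Idx M e₀) : ↥(FA (R := R) (N₀ := N₀) M i.1.1) →ₗ[R] G M e₀ i :=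
  Submodule.mkQ _

theorem mk_surjective (i : Idx M e₀) : Function.Surjective (mk M e₀ i) :=
  Submodule.mkQ_surjective _

theorem ker_mk (i : Idx M e₀) :
    LinearMap.ker (mk M e₀ i) = i.1.2.comap (FA (R := R) (N₀ := N₀) M i.1.1).subtype :=
  Submodule.ker_mkQ _

theorem mk_eq_zero (i : Idx M e₀) (v : ↥(FA (R := R) (N₀ := N₀) M i.1.1)) :
    mk M e₀ i v = 0 ↔ v.1 ∈ i.1.2 := by
  rw [← LinearMap.mem_ker, ker_mk]
  exact Iff.rfl

/-- The transition maps. -/
noncomputable def tr (i j : Idx M e₀) (h : i ≤ j) : G M e₀ i →ₗ[R] G M e₀ j :=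
  Submodule.liftQ _ (mk M e₀ j ∘ₗ Submodule.inclusion (FA_mono M h.1)) (by
    intro v hv
    rw [LinearMap.mem_ker, LinearMap.comp_apply, mk_eq_zero]
    exact h.2 hv)

theorem tr_mk (i j : Idx M e₀) (h : i ≤ j) (v : ↥(FA (R := R) (N₀ := N₀) M i.1.1)) :
    tr M e₀ i j h (mk M e₀ i v) = mk M e₀ j (Submodule.inclusion (FA_mono M h.1) v) := rfl

instance : DirectedSystem (G M e₀) (fun i j h => tr M e₀ i j h) where
  map_self i x := by
    obtain ⟨v, rfl⟩ := mk_surjective M e₀ i x
    rfl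
  map_map k j i hij hjk x := by
    obtain ⟨v, rfl⟩ := mk_surjective M e₀ i x
    rfl

instance fp (i : Idx M e₀) : Module.FinitePresentation R (G M e₀ i) := by
  have h1 : Module.FinitePresentation R ↥(FA (R := R) (N₀ := N₀) M i.1.1) := by
    let e := (Finsupp.supportedEquivFinsupp (M := N₀) (R := R) (i.1.1 : Set M)).trans
      (Finsupp.mapRange.linearEquiv (α := ↥(i.1.1 : Set M)) e₀)
    exact Module.finitePresentation_of_surjective e.symm.toLinearMap e.symm.surjective
      (by rw [LinearEquiv.ker]; exact Submodule.fg_bot)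
  refine Module.finitePresentation_of_surjective (mk M e₀ i) (mk_surjective M e₀ i) ?_
  rw [ker_mk]
  have : Module.Finite R ↥i.1.2 := Module.Finite.iff_fg.mpr i.2.1
  exact Module.Finite.iff_fg.mp
    (Module.Finite.equiv (Submodule.comapSubtypeEquivOfLe i.2.2.2).symm)

/-- The maps to `M`. -/
noncomputable def φ (i : Idx M e₀) : G M e₀ i →ₗ[R] M :=
  Submodule.liftQ _ ((π M e₀) ∘ₗ (FA (R := R) (N₀ := N₀) M i.1.1).subtype) (by
    intro v hv
    exact i.2.2.1 hv)

theorem φ_mk (i : Idx M e₀) (v : ↥(FA (R := R) (N₀ := N₀) M i.1.1)) :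
    φ M e₀ i (mk M e₀ i v) = π M e₀ v.1 := rfl

theorem φ_tr (i j : Idx M e₀) (h : i ≤ j) (x : G M e₀ i) :
    φ M e₀ j (tr M e₀ i j h x) = φ M e₀ i x := by
  obtain ⟨v, rfl⟩ := mk_surjective M e₀ i x
  rfl

variable [DecidableEq (Idx M e₀)]

/-- The comparison map from the direct limit. -/
noncomputable def Φ : Module.DirectLimit (G M e₀) (tr M e₀) →ₗ[R] M :=
  Module.DirectLimit.lift R (Idx M e₀) (G M e₀) (tr M e₀) (φ M e₀) (φ_tr M e₀)

theorem Φ_surjective : Function.Surjective (Φ M e₀) := by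
  intro m
  let i₀ : Idx M e₀ := ⟨({m}, ⊥), Submodule.fg_bot, bot_le, bot_le⟩
  have hv : Finsupp.single m (e₀.symm 1) ∈ FA (R := R) (N₀ := N₀) M i₀.1.1 :=
    Finsupp.single_mem_supported R (e₀.symm 1) (by simp [i₀])
  refine ⟨Module.DirectLimit.of R (Idx M e₀) (G M e₀) (tr M e₀) i₀
    (mk M e₀ i₀ ⟨Finsupp.single m (e₀.symm 1), hv⟩), ?_⟩
  rw [Φ, Module.DirectLimit.lift_of, φ_mk, π_single, LinearEquiv.apply_symm_apply, one_smul]

theorem Φ_injective : Function.Injective (Φ M e₀) := by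
  rw [injective_iff_map_eq_zero]
  intro z hz
  obtain ⟨i, y, rfl⟩ := Module.DirectLimit.exists_of z
  obtain ⟨v, rfl⟩ := mk_surjective M e₀ i y
  rw [Φ, Module.DirectLimit.lift_of, φ_mk] at hz
  have hvK : v.1 ∈ LinearMap.ker (π M e₀) := hz
  let i' : Idx M e₀ := ⟨(i.1.1, i.1.2 ⊔ Submodule.span R {v.1}),
    i.2.1.sup (Submodule.fg_span_singleton _),
    sup_le i.2.2.1 ((Submodule.span_singleton_le_iff_mem _ _).mpr hvK),
    sup_le i.2.2.2 ((Submodule.span_singleton_le_iff_mem _ _).mpr v.2)⟩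
  have hii' : i ≤ i' := ⟨le_rfl, le_sup_left⟩
  have h0 : tr M e₀ i i' hii' (mk M e₀ i v) = 0 := by
    rw [tr_mk, mk_eq_zero]
    exact Submodule.mem_sup_right (Submodule.mem_span_singleton_self v.1)
  have h1 := Module.DirectLimit.of_f (R := R) (ι := Idx M e₀) (G := G M e₀) (f := tr M e₀)
    (hij := hii') (x := mk M e₀ i v)
  rw [h0, map_zero] at h1
  exact h1.symm

/-- The direct limit of the `G i` is `M`. -/
noncomputable def equiv : Module.DirectLimit (G M e₀) (tr M e₀) ≃ₗ[R] M :=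
  LinearEquiv.ofBijective (Φ M e₀) ⟨Φ_injective M e₀, Φ_surjective M e₀⟩

end Groth.Agent.Lib.helper6.FPLim
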