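import Mathlib

/-!
# Reflexive modules over a domain (helper6; for S6870, S6872, S6873, S6875, ...)
-/

namespace Groth.Agent.Lib.Helper6.Reflexive

open Module

universe u v

variable {R : Type u} [CommRing R] [IsDomain R]

/-- A finite module over a domain contains a free submodule with "torsion quotient" (killed by a
single nonzero `c`). -/
theorem exists_free_sub (M : Type v) [AddCommGroup M] [Module R M] [Module.Finite R M] :
    ∃ (n : ℕ) (x : Fin n → M) (c : R), LinearIndependent R x ∧ c ≠ 0 ∧
      ∀ m : M, c • m ∈ Submodule.span R (Set.range x) := by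
  classical
  obtain ⟨G, hG⟩ := (Module.finite_def.mp ‹Module.Finite R M›)
  have key : ∀ G : Finset M, ∃ (n : ℕ) (x : Fin n → M) (c : R), LinearIndependent R x ∧ c ≠ 0 ∧
      ∀ m ∈ Submodule.span R (G : Set M), c • m ∈ Submodule.span R (Set.range x) := by
    intro G
    induction G using Finset.induction_on with
    | empty =>
      refine ⟨0, Fin.elim0, 1, linearIndependent_empty_type, one_ne_zero, ?_⟩
      intro m hm
      rw [Finset.coe_empty, Submodule.span_empty, Submodule.mem_bot] at hm
      rw [hm, smul_zero]; exact zero_mem _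
    | insert g G hg ih =>
      obtain ⟨n, x, c, hx, hc, hspan⟩ := ih
      by_cases hcase : ∃ a : R, a ≠ 0 ∧ a • g ∈ Submodule.span R (Set.range x)
      · obtain ⟨a, ha, hag⟩ := hcase
        refine ⟨n, x, c * a, hx, mul_ne_zero hc ha, ?_⟩
        intro m hm
        rw [Finset.coe_insert, Submodule.span_insert, Submodule.mem_sup] at hm
        obtain ⟨y, hy, z, hz, rfl⟩ := hm
        obtain ⟨r, rfl⟩ := Submodule.mem_span_singleton.mp hy
        rw [smul_add]
        refine add_mem ?_ ?_
        · have : (c * a) • r • g = (c * r) • (a • g) := by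
            simp only [smul_smul]
            congr 1; ring
          rw [this]; exact Submodule.smul_mem _ _ hag
        · have : (c * a) • z = a • (c • z) := by rw [smul_smul, mul_comm]
          rw [this]; exact Submodule.smul_mem _ _ (hspan z hz)
      · push Not at hcase
        refine ⟨n + 1, Fin.cons g x, c, ?_, hc, ?_⟩
        · refine LinearIndependent.finCons' g x hx ?_
          intro a y hy hay
          by_contra ha
          refine hcase a ha ?_
          have : a • g = -y := eq_neg_of_add_eq_zero_left hay
          rw [this]; exact neg_mem hy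
        · intro m hm
          rw [Finset.coe_insert, Submodule.span_insert, Submodule.mem_sup] at hm
          obtain ⟨y, hy, z, hz, rfl⟩ := hm
          obtain ⟨r, rfl⟩ := Submodule.mem_span_singleton.mp hy
          rw [smul_add]
          refine add_mem ?_ ?_
          · rw [smul_smul]
            refine Submodule.smul_mem _ _ (Submodule.subset_span ⟨0, ?_⟩)
            rw [Fin.cons_zero]
          · refine Submodule.span_mono ?_ (hspan z hz)
            rintro _ ⟨i, rfl⟩
            exact ⟨i.succ, by rw [Fin.cons_succ]⟩
  obtain ⟨n, x, c, hx, hc, h⟩ := key G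
  exact ⟨n, x, c, hx, hc, fun m => h m (by rw [hG]; trivial)⟩

/-- Kernel and cokernel of the evaluation map to the double dual are killed by one nonzero `c`. -/
theorem eval_ker_coker (M : Type v) [AddCommGroup M] [Module R M] [Module.Finite R M] :
    ∃ c : R, c ≠ 0 ∧ (∀ x : M, Module.Dual.eval R M x = 0 → c • x = 0) ∧
      ∀ y : Module.Dual R (Module.Dual R M), c • y ∈ LinearMap.range (Module.Dual.eval R M) := by
  classical
  obtain ⟨n, x, c, hx, hc, hspan⟩ := exists_free_sub (R := R) M
  let cm : M →ₗ[R] Submodule.span R (Set.range x) :=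
    LinearMap.codRestrict (Submodule.span R (Set.range x)) (c • LinearMap.id) (fun m => hspan m)
  let ψ : Fin n → Module.Dual R M := fun j => (Finsupp.lapply j) ∘ₗ hx.repr ∘ₗ cm
  have hsum : ∀ m : M, ∑ j, ψ j m • x j = c • m := by
    intro m
    have h1 := hx.linearCombination_repr (cm m)
    rw [Finsupp.linearCombination_apply, Finsupp.sum_fintype _ _ (fun i => zero_smul R (x i))] at h1
    exact h1
  refine ⟨c, hc, ?_, ?_⟩
  · intro m hm
    rw [← hsum m]
    refine Finset.sum_eq_zero fun j _ => ?_
    have : ψ j m = 0 := by
      have := LinearMap.congr_fun hm (ψ j)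
      simpa using this
    rw [this, zero_smul]
  · intro φ
    refine ⟨∑ j, φ (ψ j) • x j, ?_⟩
    ext θ
    rw [Module.Dual.eval_apply, map_sum, LinearMap.smul_apply]
    have hθ : c • θ = ∑ j, θ (x j) • ψ j := by
      ext m
      rw [LinearMap.smul_apply, LinearMap.sum_apply]
      simp only [LinearMap.smul_apply, smul_eq_mul]
      rw [← smul_eq_mul, ← map_smul, ← hsum m, map_sum]
      refine Finset.sum_congr rfl fun j _ => ?_
      rw [map_smul, smul_eq_mul, mul_comm]
    have h2 : c • φ θ = φ (c • θ) := (map_smul φ c θ).symm
    rw [h2, hθ, map_sum]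
    refine Finset.sum_congr rfl fun j _ => ?_
    rw [map_smul, map_smul, smul_eq_mul, smul_eq_mul, mul_comm]

/-- Kernel of a map from a reflexive module to a torsion-free module is reflexive
(no finiteness needed on `M'`, `M''`). -/
theorem reflexive_of_exact {M : Type v} {M' M'' : Type*} [AddCommGroup M] [Module R M]
    [Module.Finite R M]
    [AddCommGroup M'] [Module R M'] [AddCommGroup M''] [Module R M'']
    (f : M →ₗ[R] M') (g : M' →ₗ[R] M'') (hf : Function.Injective f) (hfg : Function.Exact f g)
    [Module.IsReflexive R M'] (htf : ∀ (r : R) (y : M''), r ≠ 0 → r • y = 0 → y = 0) :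
    Module.IsReflexive R M := by
  obtain ⟨c, hc, hker, hcok⟩ := eval_ker_coker (R := R) M
  have hM'tf : ∀ y : M', c • y = 0 → y = 0 := fun y hy => (smul_eq_zero_iff_right hc).mp hy
  constructor
  constructor
  · rw [← LinearMap.ker_eq_bot, LinearMap.ker_eq_bot']
    intro m hm
    apply hf
    rw [map_zero]
    apply hM'tf
    rw [← map_smul, hker m hm, map_zero]
  · intro φ
    obtain ⟨m₀, hm₀⟩ := hcok φ
    obtain ⟨m', hm'⟩ := (Module.bijective_dual_eval R M').2 (f.dualMap.dualMap φ)
    have h1 : c • m' = f m₀ := by
      apply (Module.bijective_dual_eval R M').1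
      rw [map_smul, hm', ← map_smul, ← hm₀]
      ext θ; rfl
    have h2 : g m' = 0 := by
      apply htf c _ hc
      rw [← map_smul, h1]
      exact hfg.apply_apply_eq_zero m₀
    obtain ⟨m, rfl⟩ := (hfg m').mp h2
    refine ⟨m, ?_⟩
    have h3 : c • m = m₀ := by
      apply hf; rw [map_smul]; exact h1
    have h4 : c • (Module.Dual.eval R M m) = c • φ := by rw [← map_smul, h3, hm₀]
    ext θ
    have := LinearMap.congr_fun h4 θ
    simp only [LinearMap.smul_apply, smul_eq_mul] at this
    exact mul_left_cancel₀ hc this

end Groth.Agent.Lib.Helper6.Reflexive
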