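import Mathlib
import Groth.Agent.Lib.Helper6.Reflexive

/-!
# Reflexive / torsion-free modules over a domain, part 2 (helper6; for S6874, S6866)
-/

namespace Groth.Agent.Lib.Helper6.Reflexive

open Module TensorProduct

universe u v

variable {R : Type u} [CommRing R] [IsDomain R]

/-- A finite torsion-free module over a domain embeds into a finite free module. -/
theorem exists_embedding_free (M : Type v) [AddCommGroup M] [Module R M] [Module.Finite R M]
    [Module.IsTorsionFree R M] :
    ∃ (k : ℕ) (ι : M →ₗ[R] (Fin k → R)), Function.Injective ι := by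
  classical
  obtain ⟨n, x, c, hx, hc, hspan⟩ := exists_free_sub (R := R) M
  let cm : M →ₗ[R] Submodule.span R (Set.range x) :=
    LinearMap.codRestrict (Submodule.span R (Set.range x)) (c • LinearMap.id) (fun m => hspan m)
  refine ⟨n, (Finsupp.linearEquivFunOnFinite R R (Fin n)).toLinearMap ∘ₗ hx.repr ∘ₗ cm, ?_⟩
  rw [← LinearMap.ker_eq_bot, LinearMap.ker_eq_bot']
  intro m hm
  have h1 : hx.repr (cm m) = 0 := by
    apply (Finsupp.linearEquivFunOnFinite R R (Fin n)).injective
    rw [map_zero]; exact hm
  have h2 : cm m = 0 := LinearMap.ker_eq_bot'.mp hx.repr_ker _ h1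
  have h3 : c • m = 0 := congrArg Subtype.val h2
  exact (smul_eq_zero_iff_right hc).mp h3

/-- Flat base change (to a domain) of a finite torsion-free module is torsion-free. -/
theorem baseChange_torsionFree (R' : Type u) [CommRing R'] [IsDomain R'] [Algebra R R']
    [Module.Flat R R']
    (M : Type v) [AddCommGroup M] [Module R M] [Module.Finite R M] [Module.IsTorsionFree R M] :
    Module.IsTorsionFree R' (R' ⊗[R] M) := by
  obtain ⟨k, ι, hι⟩ := exists_embedding_free (R := R) M
  have hinj : Function.Injective (ι.baseChange R') :=
    Module.Flat.lTensor_preserves_injective_linearMap ι hι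
  exact Function.Injective.moduleIsTorsionFree (ι.baseChange R') hinj (fun r m => map_smul _ r m)

end Groth.Agent.Lib.Helper6.Reflexive
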