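import Mathlib
import Groth.Prelude.Def_CAlgX

/-!
# McCoy's theorem for matrices over a commutative ring (in terms of `CAlgX.minorIdeal`)
-/

set_option autoImplicit false
universe u

namespace Groth.Agent.Lib.Helper6.McCoy

open Matrix

theorem exists_last {P : ℕ → Prop} {m : ℕ} (h0 : P 0) (hm : ¬ P m) :
    ∃ r, r < m ∧ P r ∧ ¬ P (r + 1) := by
  by_contra hcon
  push Not at hcon
  have : ∀ r, r ≤ m → P r := by
    intro r
    induction r with
    | zero => intro _; exact h0
    | succ k ih => intro hk; exact hcon k (by omega) (ih (by omega))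
  exact hm (this m le_rfl)

theorem det_smul_eq_zero_of_mulVec_eq_zero {R : Type*} [CommRing R] {k : Type*} [Fintype k]
    [DecidableEq k] (N : Matrix k k R) (y : k → R) (h : N *ᵥ y = 0) : N.det • y = 0 := by
  have h1 : N.adjugate *ᵥ (N *ᵥ y) = N.det • y := by
    rw [Matrix.mulVec_mulVec, Matrix.adjugate_mul, Matrix.smul_mulVec, Matrix.one_mulVec]
  rw [← h1, h, Matrix.mulVec_zero]

theorem mccoy_aux {R : Type*} [CommRing R] {m n : ℕ} (M : Matrix (Fin n) (Fin m) R)
    (hinj : Function.Injective M.mulVecLin) (a : R)
    (ha : ∀ (f : Fin m → Fin n) (g : Fin m → Fin m), a * (M.submatrix f g).det = 0) : a = 0 := by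
  by_contra hne
  obtain ⟨r, hrm, ⟨f, g, hfg⟩, hnP⟩ := exists_last
    (P := fun r => ∃ (f : Fin r → Fin n) (g : Fin r → Fin m), a * (M.submatrix f g).det ≠ 0)
    (m := m) ⟨Fin.elim0, Fin.elim0, by simpa using hne⟩
    (by rintro ⟨f, g, h⟩; exact h (ha f g))
  have hz : ∀ (f' : Fin (r + 1) → Fin n) (g' : Fin (r + 1) → Fin m),
      a * (M.submatrix f' g').det = 0 :=
    fun f' g' => by_contra fun h => hnP ⟨f', g', h⟩
  have hginj : Function.Injective g := by
    intro k l hkl
    by_contra hkl'
    apply hfg
    rw [Matrix.det_zero_of_column_eq hkl' (fun i => by simp [hkl]), mul_zero]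
  obtain ⟨c, hc⟩ : ∃ c, c ∉ Set.range g := by
    by_contra hcon
    push Not at hcon
    have hsurj : Function.Surjective g := fun c => hcon c
    have := Fintype.card_le_of_surjective g hsurj
    simp only [Fintype.card_fin] at this
    omega
  set h : Fin (r + 1) → Fin m := Fin.cons c g with hh
  have hinjh : Function.Injective h := Fin.cons_injective_iff.mpr ⟨hc, hginj⟩
  let coef : Fin (r + 1) → R :=
    fun k => a * ((-1) ^ (k : ℕ) * (M.submatrix f (h ∘ k.succAbove)).det)
  let x : Fin m → R := ∑ k, coef k • (Pi.single (h k) (1 : R) : Fin m → R)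
  have hMx : M.mulVecLin x = 0 := by
    have hsum : M.mulVecLin x = ∑ k, coef k • M.col (h k) := by
      simp only [x, map_sum, map_smul, Matrix.mulVecLin_apply, Matrix.mulVec_single_one]
    rw [hsum]
    funext i
    simp only [Finset.sum_apply, Pi.smul_apply, Matrix.col_apply, smul_eq_mul, Pi.zero_apply]
    have hdet := hz (Fin.cons i f) h
    rw [Matrix.det_succ_row_zero, Finset.mul_sum] at hdet
    rw [← hdet]
    refine Finset.sum_congr rfl fun k _ => ?_
    have e1 : (M.submatrix (Fin.cons i f : Fin (r + 1) → Fin n) h).submatrix Fin.succ k.succAbove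
        = M.submatrix f (h ∘ k.succAbove) := by
      ext p q
      simp [Matrix.submatrix_apply]
    rw [e1]
    simp only [coef, Matrix.submatrix_apply, Fin.cons_zero]
    ring
  have hx0 : x = 0 := hinj (by rw [hMx, map_zero])
  apply hfg
  have hxc : x c = a * (M.submatrix f g).det := by
    simp only [x, Finset.sum_apply, Pi.smul_apply, smul_eq_mul]
    rw [Finset.sum_eq_single (0 : Fin (r + 1))]
    · have h0 : h 0 = c := by simp [hh]
      have h1 : h ∘ (0 : Fin (r + 1)).succAbove = g := by
        funext q; simp [hh]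
      simp only [coef, h0, Pi.single_eq_same, mul_one, Fin.val_zero, pow_zero, one_mul, h1]
    · intro k _ hk
      have hkc : h k ≠ c := fun e => hk (hinjh (by rw [e]; simp [hh]))
      simp [hkc.symm]
    · intro h'; exact absurd (Finset.mem_univ _) h'
  rw [← hxc, hx0, Pi.zero_apply]

theorem minorIdeal_eq_bot_of_lt {R : Type u} [CommRing R] {m n : ℕ}
    (M : Matrix (Fin n) (Fin m) R) {r : ℕ} (hr : m < r) :
    CAlgX.minorIdeal M r = ⊥ := by
  unfold CAlgX.minorIdeal
  rw [Ideal.span_eq_bot]
  rintro _ ⟨⟨f, g⟩, rfl⟩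
  obtain ⟨k, l, hkl, hg⟩ := Fintype.exists_ne_map_eq_of_card_lt g (by simpa using hr)
  exact Matrix.det_zero_of_column_eq hkl (fun i => by simp [hg])

theorem matrixRank_eq {R : Type u} [CommRing R] {m n : ℕ} (M : Matrix (Fin n) (Fin m) R)
    (hne : CAlgX.minorIdeal M m ≠ ⊥) : CAlgX.matrixRank M = m := by
  unfold CAlgX.matrixRank
  have hub : ∀ r ∈ {r : ℕ | CAlgX.minorIdeal M r ≠ ⊥}, r ≤ m := by
    intro r hr
    by_contra hlt
    exact hr (minorIdeal_eq_bot_of_lt M (by omega))
  exact le_antisymm (csSup_le ⟨m, hne⟩ hub) (le_csSup ⟨m, hub⟩ hne)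

/-- McCoy's theorem. -/
theorem mccoy {R : Type u} [CommRing R] [Nontrivial R] (m n : ℕ) (M : Matrix (Fin n) (Fin m) R) :
    Function.Injective (Matrix.mulVecLin M) ↔
      CAlgX.matrixRank M = m ∧ (CAlgX.detIdeal M).annihilator = ⊥ := by
  constructor
  · intro hinj
    have hann : (CAlgX.minorIdeal M m).annihilator = ⊥ := by
      rw [eq_bot_iff]
      intro a ha
      rw [Submodule.mem_annihilator] at ha
      refine (Submodule.mem_bot R).mpr (mccoy_aux M hinj a fun f g => ?_)
      have := ha _ (Ideal.subset_span ⟨(f, g), rfl⟩)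
      simpa [smul_eq_mul] using this
    have hne : CAlgX.minorIdeal M m ≠ ⊥ := by
      intro h0
      rw [h0, Submodule.annihilator_bot] at hann
      exact top_ne_bot hann
    have hrk := matrixRank_eq M hne
    refine ⟨hrk, ?_⟩
    unfold CAlgX.detIdeal
    rw [hrk]; exact hann
  · rintro ⟨hrk, hann⟩
    unfold CAlgX.detIdeal at hann
    rw [hrk] at hann
    rw [injective_iff_map_eq_zero]
    intro x hx
    rw [Matrix.mulVecLin_apply] at hx
    have key : ∀ (f : Fin m → Fin n) (g : Fin m → Fin m) (j : Fin m),
        x j * (M.submatrix f g).det = 0 := by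
      intro f g j
      by_cases hg : Function.Injective g
      · have hbij : Function.Bijective g := Finite.injective_iff_bijective.mp hg
        let σ := Equiv.ofBijective g hbij
        have h1 : (M.submatrix f g) *ᵥ (x ∘ g) = 0 := by
          funext i
          have := congrFun hx (f i)
          simp only [Matrix.mulVec, dotProduct, Matrix.submatrix_apply, Function.comp,
            Pi.zero_apply] at this ⊢
          rw [← this]
          exact Equiv.sum_comp σ (fun j => M (f i) j * x j)
        have h2 := det_smul_eq_zero_of_mulVec_eq_zero _ _ h1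
        obtain ⟨k, rfl⟩ := hbij.2 j
        have := congrFun h2 k
        simpa [mul_comm] using this
      · obtain ⟨k, l, hkl, hne⟩ : ∃ k l, g k = g l ∧ k ≠ l := by
          simpa [Function.Injective] using hg
        rw [Matrix.det_zero_of_column_eq hne (fun i => by simp [hkl]), mul_zero]
    funext j
    have : x j ∈ (CAlgX.minorIdeal M m).annihilator := by
      rw [Submodule.mem_annihilator]
      intro y hy
      unfold CAlgX.minorIdeal at hy
      induction hy using Submodule.span_induction with
      | mem y hy => obtain ⟨⟨f, g⟩, rfl⟩ := hy; exact key f g j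
      | zero => simp
      | add a b _ _ ha hb => rw [smul_add, ha, hb, add_zero]
      | smul c a _ ha => rw [smul_comm, ha, smul_zero]
    rw [hann] at this
    exact (Submodule.mem_bot R).mp this

/-- In a Noetherian ring an ideal has zero annihilator iff it contains a regular element. -/
theorem annihilator_eq_bot_iff_exists_regular {R : Type u} [CommRing R] [IsNoetherianRing R]
    (I : Ideal R) : I.annihilator = ⊥ ↔ ∃ a ∈ I, IsRegular a := by
  constructor
  · intro hann
    by_contra hno
    push Not at hno
    have hp' : ∀ p ∈ (associatedPrimes.finite R R).toFinset, p ≠ (⊥ : Ideal R) →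
        p ≠ (⊥ : Ideal R) → (id p : Ideal R).IsPrime := by
      intro p hp _ _
      rw [Set.Finite.mem_toFinset] at hp
      exact IsAssociatedPrime.isPrime hp
    obtain ⟨p, hp, hIp⟩ := (Ideal.subset_union_prime
      (s := (associatedPrimes.finite R R).toFinset) (f := id) ⊥ ⊥ hp' (I := I)).mp (by
      rw [Set.Finite.coe_toFinset]
      intro a ha
      have : a ∈ ((nonZeroDivisors R : Set R))ᶜ :=
        fun hreg => hno a ha (isRegular_iff_mem_nonZeroDivisors.mpr hreg)
      rw [← biUnion_associatedPrimes_eq_compl_nonZeroDivisors] at this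
      simpa using this)
    rw [Set.Finite.mem_toFinset] at hp
    obtain ⟨hprime, x, hx⟩ := isAssociatedPrime_iff.mp hp
    have hxann : x ∈ I.annihilator := by
      rw [Submodule.mem_annihilator]
      intro b hb
      have hbp : b ∈ p := hIp hb
      rw [hx, Submodule.mem_colon_singleton] at hbp
      have : b • x = 0 := (Submodule.mem_bot R).mp hbp
      rw [smul_eq_mul] at this ⊢
      rw [mul_comm]; exact this
    rw [hann] at hxann
    have hx0 : x = 0 := (Submodule.mem_bot R).mp hxann
    apply hprime.ne_top
    rw [Ideal.eq_top_iff_one, hx, Submodule.mem_colon_singleton, hx0, smul_zero]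
    exact Submodule.zero_mem _
  · rintro ⟨a, haI, hreg⟩
    rw [eq_bot_iff]
    intro b hb
    rw [Submodule.mem_annihilator] at hb
    have h0 : b * a = 0 * a := by
      rw [zero_mul]; exact hb a haI
    exact (Submodule.mem_bot R).mpr (hreg.right h0)

end Groth.Agent.Lib.Helper6.McCoy
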