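import Mathlib

/-!
# Lazard's theorem, concrete form (helper6)

`MSys R M ι P`: a directed system of `R`-modules `P i` with maps to `M` exhibiting `M` as the
(concrete) colimit.  `exists_msys`: a flat module is the concrete colimit of a directed system of
finite free modules `Fin (n i) → R`, indexed by a directed preorder in the same universe.
-/

set_option autoImplicit false
set_option linter.unusedSectionVars false
set_option linter.unusedVariables false

universe u

open CategoryTheory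

namespace Groth.Agent.Lib.helper6.Lazard

structure MSys (R : Type u) [CommRing R] (M : Type u) [AddCommGroup M] [Module R M] (ι : Type u)
    [Preorder ι] (P : ι → Type u) [∀ i, AddCommGroup (P i)] [∀ i, Module R (P i)] where
  t : ∀ i j : ι, i ≤ j → (P i →ₗ[R] P j)
  φ : ∀ i : ι, P i →ₗ[R] M
  hcomp : ∀ (i j : ι) (h : i ≤ j), (φ j) ∘ₗ (t i j h) = φ i
  hsurj : ∀ b : M, ∃ (i : ι) (x : P i), φ i x = b
  hzero : ∀ (i : ι) (x : P i), φ i x = 0 → ∃ (j : ι) (h : i ≤ j), t i j h x = 0
  hid : ∀ (i : ι) (h : i ≤ i), t i i h = LinearMap.id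
  htrans : ∀ (i j k : ι) (hij : i ≤ j) (hjk : j ≤ k),
    (t j k hjk) ∘ₗ (t i j hij) = t i k (hij.trans hjk)

section cat
variable (R : Type u) [CommRing R] (M : Type u) [AddCommGroup M] [Module R M]

/-- objects: finite free modules `R^n` with a map to `M` -/
structure LObj where
  n : ℕ
  x : (Fin n → R) →ₗ[R] M

variable {R M}

@[ext] structure LHom (X Y : LObj R M) where
  a : (Fin X.n → R) →ₗ[R] (Fin Y.n → R)
  w : Y.x ∘ₗ a = X.x

instance : Category (LObj R M) where
  Hom X Y := LHom X Y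
  id X := ⟨LinearMap.id, LinearMap.comp_id _⟩
  comp f g := ⟨g.a ∘ₗ f.a, by rw [← LinearMap.comp_assoc, g.w, f.w]⟩
  id_comp f := LHom.ext (LinearMap.ext fun _ => rfl)
  comp_id f := LHom.ext (LinearMap.ext fun _ => rfl)
  assoc f g h := LHom.ext (LinearMap.ext fun _ => rfl)

theorem comp_a {X Y Z : LObj R M} (f : X ⟶ Y) (g : Y ⟶ Z) :
    (LHom.a (f ≫ g)) = (LHom.a g) ∘ₗ (LHom.a f) := rfl

theorem id_a (X : LObj R M) : LHom.a (𝟙 X) = LinearMap.id := rfl

theorem hom_ext' {X Y : LObj R M} (f g : X ⟶ Y) (h : LHom.a f = LHom.a g) : f = g :=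
  LHom.ext h

instance [Module.Flat R M] : IsFiltered (LObj R M) where
  cocone_objs X Y := by
    obtain ⟨k, h₂, h₃, h⟩ :=
      Module.Flat.exists_factorization_of_finitePresentation (X.x.coprod Y.x)
    have h' : ∀ p, h₃ (h₂ p) = X.x p.1 + Y.x p.2 := fun p => by
      rw [← LinearMap.comp_apply, ← h, LinearMap.coprod_apply]
    let e := Finsupp.linearEquivFunOnFinite R R (Fin k)
    refine ⟨⟨k, h₃ ∘ₗ e.symm.toLinearMap⟩,
      ⟨e.toLinearMap ∘ₗ h₂ ∘ₗ LinearMap.inl R _ _, ?_⟩,
      ⟨e.toLinearMap ∘ₗ h₂ ∘ₗ LinearMap.inr R _ _, ?_⟩, trivial⟩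
    · refine LinearMap.ext fun v => ?_
      simp only [LinearMap.comp_apply, LinearEquiv.coe_coe, LinearEquiv.symm_apply_apply]
      rw [h']
      simp
    · refine LinearMap.ext fun v => ?_
      simp only [LinearMap.comp_apply, LinearEquiv.coe_coe, LinearEquiv.symm_apply_apply]
      rw [h']
      simp
  cocone_maps X Y f g := by
    have h0 : Y.x ∘ₗ (LHom.a f - LHom.a g) = 0 := by
      rw [LinearMap.comp_sub, LHom.w f, LHom.w g, sub_self]
    obtain ⟨k, c, z, hz, hc⟩ := Module.Flat.exists_factorization_of_comp_eq_zero_of_free h0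
    let e := Finsupp.linearEquivFunOnFinite R R (Fin k)
    have hc' : c ∘ₗ LHom.a f = c ∘ₗ LHom.a g := by
      rw [LinearMap.comp_sub] at hc
      exact sub_eq_zero.mp hc
    refine ⟨⟨k, z ∘ₗ e.symm.toLinearMap⟩, ⟨e.toLinearMap ∘ₗ c, ?_⟩, ?_⟩
    · refine LinearMap.ext fun v => ?_
      simp only [LinearMap.comp_apply, LinearEquiv.coe_coe, LinearEquiv.symm_apply_apply]
      rw [hz, LinearMap.comp_apply]
    · apply hom_ext'
      rw [comp_a, comp_a]
      show (e.toLinearMap ∘ₗ c) ∘ₗ LHom.a f = (e.toLinearMap ∘ₗ c) ∘ₗ LHom.a g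
      rw [LinearMap.comp_assoc, LinearMap.comp_assoc, hc']
  nonempty := ⟨⟨0, 0⟩⟩

/-- the object `R → M`, `r ↦ r • b` -/
noncomputable def pt (b : M) : LObj R M :=
  ⟨1, (LinearMap.toSpanSingleton R M b) ∘ₗ (LinearMap.proj (0 : Fin 1))⟩

theorem pt_x (b : M) (v : Fin 1 → R) : (pt (R := R) b).x v = v 0 • b := rfl

end cat

theorem exists_msys (R : Type u) [CommRing R] (M : Type u) [AddCommGroup M] [Module R M]
    [Module.Flat R M] :
    ∃ (ι : Type u) (_ : Preorder ι) (_ : IsDirected ι (fun a b => a ≤ b)) (_ : Nonempty ι)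
      (n : ι → ℕ), Nonempty (MSys R M ι (fun i => Fin (n i) → R)) := by
  obtain ⟨α, _, _, _, F, hF⟩ := IsFiltered.exists_directed (LObj R M)
  obtain ⟨h₁, h₂⟩ := (Functor.final_iff_of_isFiltered F).1 hF
  refine ⟨α, inferInstance, inferInstance, inferInstance, fun i => (F.obj i).n,
    ⟨{ t := fun i j h => LHom.a (F.map (homOfLE h))
       φ := fun i => (F.obj i).x
       hcomp := fun i j h => LHom.w (F.map (homOfLE h))
       hsurj := ?_
       hzero := ?_
       hid := ?_
       htrans := ?_ }⟩⟩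
  · intro b
    obtain ⟨i, ⟨s⟩⟩ := h₁ (pt b)
    refine ⟨i, LHom.a s (fun _ => 1), ?_⟩
    have h := LinearMap.congr_fun (LHom.w s) (fun _ => 1)
    rw [LinearMap.comp_apply] at h
    rw [h, pt_x, one_smul]
  · intro i v hv
    let d : LObj R M := ⟨1, 0⟩
    let s : d ⟶ F.obj i :=
      ⟨(LinearMap.toSpanSingleton R _ v) ∘ₗ (LinearMap.proj (0 : Fin 1)), by
        refine LinearMap.ext fun w => ?_
        simp only [LinearMap.comp_apply, LinearMap.proj_apply, LinearMap.toSpanSingleton_apply,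
          map_smul, hv, smul_zero]
        rfl⟩
    let s' : d ⟶ F.obj i := ⟨0, LinearMap.comp_zero _⟩
    obtain ⟨j, t, ht⟩ := h₂ s s'
    refine ⟨j, leOfHom t, ?_⟩
    have e1 : homOfLE (leOfHom t) = t := Subsingleton.elim _ _
    rw [e1]
    have h := congrArg (fun f => LHom.a f (fun _ => 1)) ht
    simp only [comp_a, LinearMap.comp_apply] at h
    have hs : LHom.a s (fun _ => 1) = v := by
      show (LinearMap.toSpanSingleton R _ v) ((fun _ => 1 : Fin 1 → R) 0) = v
      simp
    have hs' : LHom.a s' (fun _ => 1) = 0 := rfl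
    rw [hs, hs', map_zero] at h
    exact h
  · intro i h
    have e1 : homOfLE h = 𝟙 i := Subsingleton.elim _ _
    rw [e1, F.map_id]
    rfl
  · intro i j k hij hjk
    have e1 : homOfLE (hij.trans hjk) = homOfLE hij ≫ homOfLE hjk := Subsingleton.elim _ _
    rw [e1, F.map_comp]
    rfl

end Groth.Agent.Lib.helper6.Lazard
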