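import Mathlib
import Groth.Agent.Lib.Helper6.Lazard

/-!
# Tensor powers of modules commute with directed colimits (helper6)

Module version of `TSColim`: for an `MSys` (concrete directed colimit of modules), `tm_zero_exact`
(an element of `T^d(Bi i)` dying in `T^d(B)` dies in some `T^d(Bi j)`), `exists_tm_eq`,
`exists_invariant`.
-/

set_option autoImplicit false
set_option linter.unusedSectionVars false
set_option linter.unusedVariables false

universe u

open scoped TensorProduct

namespace Groth.Agent.Lib.helper6.TMColim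

open Groth.Agent.Lib.helper6.Lazard

section tm
variable {A : Type u} [CommRing A] (d : ℕ) {X Y Z : Type u} [AddCommGroup X] [Module A X]
  [AddCommGroup Y] [Module A Y] [AddCommGroup Z] [Module A Z]

/-- the `d`-th tensor power of a linear map -/
noncomputable def tm (f : X →ₗ[A] Y) : (⨂[A] _ : Fin d, X) →ₗ[A] (⨂[A] _ : Fin d, Y) :=
  PiTensorProduct.map (fun _ => f)

@[simp]
theorem tm_tprod (f : X →ₗ[A] Y) (g : Fin d → X) :
    tm d f (PiTensorProduct.tprod A g) = PiTensorProduct.tprod A (fun i => f (g i)) :=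
  PiTensorProduct.map_tprod _ _

theorem tm_id_apply (x : ⨂[A] _ : Fin d, X) : tm d (LinearMap.id : X →ₗ[A] X) x = x := by
  induction x using PiTensorProduct.induction_on with
  | smul_tprod r g => simp
  | add x y hx hy => simp [hx, hy]

theorem tm_tm_apply (f : X →ₗ[A] Y) (g : Y →ₗ[A] Z) (x : ⨂[A] _ : Fin d, X) :
    tm d g (tm d f x) = tm d (g ∘ₗ f) x := by
  induction x using PiTensorProduct.induction_on with
  | smul_tprod r g' => simp
  | add x y hx hy => simp [hx, hy]

theorem tm_reindex (f : X →ₗ[A] Y) (σ : Equiv.Perm (Fin d)) (t : ⨂[A] _ : Fin d, X) :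
    tm d f (PiTensorProduct.reindex A (fun _ : Fin d => X) σ t) =
      PiTensorProduct.reindex A (fun _ : Fin d => Y) σ (tm d f t) := by
  induction t using PiTensorProduct.induction_on with
  | smul_tprod r g => simp [PiTensorProduct.reindex_tprod]
  | add x y hx hy => simp [hx, hy]

end tm

section
variable {A : Type u} [CommRing A] {B : Type u} [AddCommGroup B] [Module A B]
    {ι : Type u} [Preorder ι] [IsDirected ι (fun i j => i ≤ j)] [Nonempty ι]
    {Bi : ι → Type u} [∀ i, AddCommGroup (Bi i)] [∀ i, Module A (Bi i)] (𝒮 : MSys A B ι Bi) (d : ℕ)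

theorem φ_t (i j : ι) (h : i ≤ j) (x : Bi i) : 𝒮.φ j (𝒮.t i j h x) = 𝒮.φ i x := by
  rw [← LinearMap.comp_apply, 𝒮.hcomp]

theorem t_t (i j k : ι) (hij : i ≤ j) (hjk : j ≤ k) (x : Bi i) :
    𝒮.t j k hjk (𝒮.t i j hij x) = 𝒮.t i k (hij.trans hjk) x := by
  rw [← LinearMap.comp_apply, 𝒮.htrans]

theorem exists_lift_family {κ : Type} [Fintype κ] (b : κ → B) :
    ∃ (i : ι) (x : κ → Bi i), ∀ k, 𝒮.φ i (x k) = b k := by
  classical
  choose i0 x0 hx0 using fun k => 𝒮.hsurj (b k)
  obtain ⟨i, hi⟩ := Finset.exists_le (Finset.univ.image i0)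
  have hle : ∀ k, i0 k ≤ i := fun k => hi _ (Finset.mem_image_of_mem _ (Finset.mem_univ k))
  refine ⟨i, fun k => 𝒮.t (i0 k) i (hle k) (x0 k), fun k => ?_⟩
  rw [φ_t, hx0]

theorem exists_eq_family {κ : Type} [Fintype κ] (i : ι) (x x' : κ → Bi i)
    (h : ∀ k, 𝒮.φ i (x k) = 𝒮.φ i (x' k)) :
    ∃ (j : ι) (hij : i ≤ j), ∀ k, 𝒮.t i j hij (x k) = 𝒮.t i j hij (x' k) := by
  classical
  have h0 : ∀ k, ∃ (j : ι) (hij : i ≤ j), 𝒮.t i j hij (x k - x' k) = 0 := fun k =>
    𝒮.hzero i _ (by rw [map_sub, h k, sub_self])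
  choose j0 hj0 hz using h0
  obtain ⟨j, hj⟩ := Finset.exists_le (insert i (Finset.univ.image j0))
  have hij : i ≤ j := hj _ (Finset.mem_insert_self _ _)
  have hle : ∀ k, j0 k ≤ j := fun k =>
    hj _ (Finset.mem_insert_of_mem (Finset.mem_image_of_mem _ (Finset.mem_univ k)))
  refine ⟨j, hij, fun k => ?_⟩
  have e : 𝒮.t i j hij (x k - x' k) = 0 := by
    rw [← t_t 𝒮 i (j0 k) j (hj0 k) (hle k), hz, map_zero]
  rw [map_sub, sub_eq_zero] at e
  exact e

theorem dirSys : DirectedSystem (fun i => ⨂[A] _ : Fin d, Bi i)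
    (fun i j (h : i ≤ j) => ⇑(tm d (𝒮.t i j h))) where
  map_self i x := by
    show tm d (𝒮.t i i le_rfl) x = x
    rw [𝒮.hid, tm_id_apply]
  map_map k j i hij hjk x := by
    show tm d (𝒮.t j k hjk) (tm d (𝒮.t i j hij) x) =
      tm d (𝒮.t i k (hij.trans hjk)) x
    rw [tm_tm_apply, 𝒮.htrans]

/-- exactness of `T^d` along the filtered colimit -/
theorem tm_zero_exact (i : ι) (y : ⨂[A] _ : Fin d, Bi i)
    (hy : tm d (𝒮.φ i) y = 0) :
    ∃ (j : ι) (h : i ≤ j), tm d (𝒮.t i j h) y = 0 := by
  classical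
  have := dirSys 𝒮 d
  obtain ⟨ff, hff⟩ : ∃ ff : ∀ i j, i ≤ j →
      (⨂[A] _ : Fin d, Bi i) →ₗ[A] (⨂[A] _ : Fin d, Bi j),
      ff = fun i j h => tm d (𝒮.t i j h) := ⟨_, rfl⟩
  have : DirectedSystem (fun i => ⨂[A] _ : Fin d, Bi i) (fun i j h => ⇑(ff i j h)) := by
    rw [hff]
    exact dirSys 𝒮 d
  have hffa : ∀ i j (h : i ≤ j) (x : ⨂[A] _ : Fin d, Bi i),
      ff i j h x = tm d (𝒮.t i j h) x := by
    intro i j h x
    rw [hff]
  -- chosen lifts
  choose I X hX using fun b : Fin d → B => exists_lift_family 𝒮 b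
  have K : ∀ (b : Fin d → B) (i : ι) (x : Fin d → Bi i), (∀ k, 𝒮.φ i (x k) = b k) →
      Module.DirectLimit.of A ι (fun i => ⨂[A] _ : Fin d, Bi i) ff i (PiTensorProduct.tprod A x) =
        Module.DirectLimit.of A ι (fun i => ⨂[A] _ : Fin d, Bi i) ff (I b)
          (PiTensorProduct.tprod A (X b)) := by
    intro b i x hx
    obtain ⟨j, hij, hIj⟩ := exists_ge_ge i (I b)
    have h1 : ∀ k, 𝒮.φ j (𝒮.t i j hij (x k)) = 𝒮.φ j (𝒮.t (I b) j hIj (X b k)) := by
      intro k
      rw [φ_t, φ_t, hx, hX]
    obtain ⟨j', hjj', h2⟩ := exists_eq_family 𝒮 j (fun k => 𝒮.t i j hij (x k))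
      (fun k => 𝒮.t (I b) j hIj (X b k)) h1
    have e1 : Module.DirectLimit.of A ι (fun i => ⨂[A] _ : Fin d, Bi i) ff i
        (PiTensorProduct.tprod A x) =
        Module.DirectLimit.of A ι (fun i => ⨂[A] _ : Fin d, Bi i) ff j'
          (ff i j' (hij.trans hjj') (PiTensorProduct.tprod A x)) :=
      (Module.DirectLimit.of_f).symm
    have e2 : Module.DirectLimit.of A ι (fun i => ⨂[A] _ : Fin d, Bi i) ff (I b)
        (PiTensorProduct.tprod A (X b)) =
        Module.DirectLimit.of A ι (fun i => ⨂[A] _ : Fin d, Bi i) ff j'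
          (ff (I b) j' (hIj.trans hjj') (PiTensorProduct.tprod A (X b))) :=
      (Module.DirectLimit.of_f).symm
    rw [e1, e2, hffa, hffa, tm_tprod, tm_tprod]
    have e3 : (fun k => 𝒮.t i j' (hij.trans hjj') (x k)) =
        fun k => 𝒮.t (I b) j' (hIj.trans hjj') (X b k) := by
      funext k
      rw [← t_t 𝒮 i j j' hij hjj', ← t_t 𝒮 (I b) j j' hIj hjj']
      exact h2 k
    rw [e3]
  -- the multilinear map
  let M : MultilinearMap A (fun _ : Fin d => B)
      (Module.DirectLimit (fun i => ⨂[A] _ : Fin d, Bi i) ff) :=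
    { toFun := fun b => Module.DirectLimit.of A ι (fun i => ⨂[A] _ : Fin d, Bi i) ff (I b)
        (PiTensorProduct.tprod A (X b))
      map_update_add' := by
        intro inst b k u v
        have hinst : inst = instDecidableEqFin d := Subsingleton.elim _ _
        subst hinst
        obtain ⟨i, x, hx⟩ := exists_lift_family 𝒮
          (fun o : Option (Option (Fin d)) => match o with
            | none => u
            | some none => v
            | some (some l) => b l)
        have hxu : 𝒮.φ i (x none) = u := hx none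
        have hxv : 𝒮.φ i (x (some none)) = v := hx (some none)
        have hxb : ∀ l, 𝒮.φ i (x (some (some l))) = b l := fun l => hx (some (some l))
        have g1 : ∀ l, 𝒮.φ i (Function.update (fun l => x (some (some l))) k
            (x none + x (some none)) l) = Function.update b k (u + v) l := by
          intro l
          by_cases hl : l = k
          · subst hl
            rw [Function.update_self, Function.update_self, map_add, hxu, hxv]
          · rw [Function.update_of_ne hl, Function.update_of_ne hl, hxb]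
        have g2 : ∀ l, 𝒮.φ i (Function.update (fun l => x (some (some l))) k
            (x none) l) = Function.update b k u l := by
          intro l
          by_cases hl : l = k
          · subst hl
            rw [Function.update_self, Function.update_self, hxu]
          · rw [Function.update_of_ne hl, Function.update_of_ne hl, hxb]
        have g3 : ∀ l, 𝒮.φ i (Function.update (fun l => x (some (some l))) k
            (x (some none)) l) = Function.update b k v l := by
          intro l
          by_cases hl : l = k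
          · subst hl
            rw [Function.update_self, Function.update_self, hxv]
          · rw [Function.update_of_ne hl, Function.update_of_ne hl, hxb]
        rw [← K _ i _ g1, ← K _ i _ g2, ← K _ i _ g3, MultilinearMap.map_update_add, map_add]
      map_update_smul' := by
        intro inst b k c u
        have hinst : inst = instDecidableEqFin d := Subsingleton.elim _ _
        subst hinst
        obtain ⟨i, x, hx⟩ := exists_lift_family 𝒮
          (fun o : Option (Fin d) => match o with
            | none => u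
            | some l => b l)
        have hxu : 𝒮.φ i (x none) = u := hx none
        have hxb : ∀ l, 𝒮.φ i (x (some l)) = b l := fun l => hx (some l)
        have g1 : ∀ l, 𝒮.φ i (Function.update (fun l => x (some l)) k
            (c • x none) l) = Function.update b k (c • u) l := by
          intro l
          by_cases hl : l = k
          · subst hl
            rw [Function.update_self, Function.update_self, map_smul, hxu]
          · rw [Function.update_of_ne hl, Function.update_of_ne hl, hxb]
        have g2 : ∀ l, 𝒮.φ i (Function.update (fun l => x (some l)) k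
            (x none) l) = Function.update b k u l := by
          intro l
          by_cases hl : l = k
          · subst hl
            rw [Function.update_self, Function.update_self, hxu]
          · rw [Function.update_of_ne hl, Function.update_of_ne hl, hxb]
        rw [← K _ i _ g1, ← K _ i _ g2, MultilinearMap.map_update_smul, map_smul] }
  have hM : ∀ (i : ι) (x : Fin d → Bi i), M (fun k => 𝒮.φ i (x k)) =
      Module.DirectLimit.of A ι (fun i => ⨂[A] _ : Fin d, Bi i) ff i
        (PiTensorProduct.tprod A x) := fun i x => (K _ i x (fun k => rfl)).symm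
  obtain ⟨Λ, hΛ⟩ : ∃ Λ : Module.DirectLimit (fun i => ⨂[A] _ : Fin d, Bi i) ff →ₗ[A]
      (⨂[A] _ : Fin d, B), ∀ i y, Λ (Module.DirectLimit.of A ι
        (fun i => ⨂[A] _ : Fin d, Bi i) ff i y) = tm d (𝒮.φ i) y := by
    refine ⟨Module.DirectLimit.lift A ι (fun i => ⨂[A] _ : Fin d, Bi i) ff
      (fun i => tm d (𝒮.φ i)) ?_, fun i y => ?_⟩
    · intro i j hij x
      show tm d (𝒮.φ j) (ff i j hij x) = tm d (𝒮.φ i) x
      rw [hffa, tm_tm_apply, 𝒮.hcomp]
    · rw [Module.DirectLimit.lift_of]
  have hΛ' : ∀ z, PiTensorProduct.lift M (Λ z) = z := by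
    intro z
    obtain ⟨i, y, rfl⟩ := Module.DirectLimit.exists_of z
    induction y using PiTensorProduct.induction_on with
    | smul_tprod r x =>
      rw [map_smul, map_smul, map_smul, hΛ, tm_tprod, PiTensorProduct.lift.tprod, hM]
    | add y1 y2 h1 h2 => rw [map_add, map_add, map_add, h1, h2]
  have h0 : Module.DirectLimit.of A ι (fun i => ⨂[A] _ : Fin d, Bi i) ff i y = 0 := by
    rw [← hΛ' (Module.DirectLimit.of A ι (fun i => ⨂[A] _ : Fin d, Bi i) ff i y), hΛ, hy,
      map_zero]
  obtain ⟨j, hij, hj⟩ := Module.DirectLimit.of.zero_exact h0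
  rw [hffa] at hj
  exact ⟨j, hij, hj⟩

theorem exists_tm_eq (z : ⨂[A] _ : Fin d, B) :
    ∃ (i : ι) (y : ⨂[A] _ : Fin d, Bi i), tm d (𝒮.φ i) y = z := by
  induction z using PiTensorProduct.induction_on with
  | smul_tprod r b =>
    obtain ⟨i, x, hx⟩ := exists_lift_family 𝒮 b
    refine ⟨i, r • PiTensorProduct.tprod A x, ?_⟩
    rw [map_smul, tm_tprod]
    have e : (fun k => 𝒮.φ i (x k)) = b := funext hx
    rw [e]
  | add z1 z2 h1 h2 =>
    obtain ⟨i1, y1, rfl⟩ := h1
    obtain ⟨i2, y2, rfl⟩ := h2
    obtain ⟨i, h1i, h2i⟩ := exists_ge_ge i1 i2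
    refine ⟨i, tm d (𝒮.t i1 i h1i) y1 + tm d (𝒮.t i2 i h2i) y2, ?_⟩
    rw [map_add, tm_tm_apply, tm_tm_apply, 𝒮.hcomp, 𝒮.hcomp]

theorem exists_invariant (i : ι) (y : ⨂[A] _ : Fin d, Bi i)
    (h : ∀ σ : Equiv.Perm (Fin d), PiTensorProduct.reindex A (fun _ : Fin d => B) σ
      (tm d (𝒮.φ i) y) = tm d (𝒮.φ i) y) :
    ∃ (j : ι) (hij : i ≤ j), ∀ σ : Equiv.Perm (Fin d),
      PiTensorProduct.reindex A (fun _ : Fin d => Bi j) σ (tm d (𝒮.t i j hij) y) =
        tm d (𝒮.t i j hij) y := by
  classical
  have h0 : ∀ σ : Equiv.Perm (Fin d), ∃ (j : ι) (hij : i ≤ j),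
      tm d (𝒮.t i j hij)
        (PiTensorProduct.reindex A (fun _ : Fin d => Bi i) σ y - y) = 0 := by
    intro σ
    apply tm_zero_exact
    rw [map_sub, tm_reindex, h σ, sub_self]
  choose j0 hj0 hz using h0
  obtain ⟨j, hj⟩ := Finset.exists_le (insert i (Finset.univ.image j0))
  have hij : i ≤ j := hj _ (Finset.mem_insert_self _ _)
  have hle : ∀ σ, j0 σ ≤ j := fun σ =>
    hj _ (Finset.mem_insert_of_mem (Finset.mem_image_of_mem _ (Finset.mem_univ σ)))
  refine ⟨j, hij, fun σ => ?_⟩
  have e : tm d (𝒮.t i j hij)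
      (PiTensorProduct.reindex A (fun _ : Fin d => Bi i) σ y - y) = 0 := by
    have e1 : 𝒮.t i j hij = (𝒮.t (j0 σ) j (hle σ)) ∘ₗ (𝒮.t i (j0 σ) (hj0 σ)) :=
      (𝒮.htrans _ _ _ _ _).symm
    rw [e1, ← tm_tm_apply, hz, map_zero]
  rw [map_sub, tm_reindex, sub_eq_zero] at e
  exact e

end

end Groth.Agent.Lib.helper6.TMColim
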