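import Mathlib
import Groth.Prelude.Def_SymTen

/-!
# Symmetric tensors of a free algebra: orbit sums, a retraction onto `TS^d` (helper6)
-/

set_option autoImplicit false
set_option linter.unusedSectionVars false
set_option linter.unusedVariables false

universe u

open scoped TensorProduct
open PiTensorProduct

namespace Groth.Agent.Lib.helper6.TSBasis

section comb
variable {I : Type u} {d : ℕ}

/-- the type (multiplicity function) of a `d`-tuple -/
noncomputable def typI (c : Fin d → I) : I →₀ ℕ := ∑ k, Finsupp.single (c k) 1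

theorem typI_apply [DecidableEq I] (c : Fin d → I) (i : I) :
    typI c i = (Finset.univ.filter (fun k => c k = i)).card := by
  unfold typI
  rw [Finsupp.finsetSum_apply]
  simp only [Finsupp.single_apply]
  rw [Finset.sum_boole]
  simp

theorem card_fiber [DecidableEq I] (c : Fin d → I) (i : I) :
    Fintype.card {k // c k = i} = typI c i := by
  rw [typI_apply, Fintype.card_subtype]

theorem typI_comp_perm (c : Fin d → I) (σ : Equiv.Perm (Fin d)) : typI (c ∘ σ) = typI c := by
  unfold typI
  exact Equiv.sum_comp σ (fun k => Finsupp.single (c k) 1)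

theorem degree_typI (c : Fin d → I) : (typI c).degree = d := by
  unfold typI
  rw [map_sum]
  simp [Finsupp.degree_single]

theorem apply_mem_support (c : Fin d → I) (k : Fin d) : c k ∈ (typI c).support := by
  classical
  rw [Finsupp.mem_support_iff, typI_apply]
  apply Finset.card_ne_zero.mpr
  exact ⟨k, by simp⟩

theorem exists_of_mem_support (c : Fin d → I) {i : I} (hi : i ∈ (typI c).support) :
    ∃ k, c k = i := by
  classical
  rw [Finsupp.mem_support_iff, typI_apply] at hi
  obtain ⟨k, hk⟩ := Finset.card_ne_zero.mp hi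
  exact ⟨k, (Finset.mem_filter.mp hk).2⟩

theorem exists_perm_of_typI_eq_aux [DecidableEq I] (c c' : Fin d → I) (h : typI c = typI c') :
    ∃ σ : Equiv.Perm (Fin d), c' ∘ σ = c := by
  have hcard : ∀ i, Fintype.card {k // c k = i} = Fintype.card {k // c' k = i} := by
    intro i
    rw [card_fiber, card_fiber, h]
  let ee : ∀ i, {k // c k = i} ≃ {k // c' k = i} := fun i => Fintype.equivOfCardEq (hcard i)
  refine ⟨(Equiv.sigmaFiberEquiv c).symm.trans
    ((Equiv.sigmaCongrRight ee).trans (Equiv.sigmaFiberEquiv c')), ?_⟩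
  funext k
  exact ((ee (c k)) ⟨k, rfl⟩).2

theorem exists_perm_of_typI_eq (c c' : Fin d → I) (h : typI c = typI c') :
    ∃ σ : Equiv.Perm (Fin d), c' ∘ σ = c := by
  classical
  exact exists_perm_of_typI_eq_aux c c' h

theorem exists_typI_eq : ∀ (d : ℕ) (m : I →₀ ℕ), m.degree = d →
    ∃ c : Fin d → I, typI c = m := by
  classical
  intro d
  induction d with
  | zero =>
    intro m hm
    refine ⟨Fin.elim0, ?_⟩
    rw [Finsupp.degree_eq_zero_iff] at hm
    subst hm
    simp [typI]
  | succ d ih =>
    intro m hm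
    have hne : m ≠ 0 := by
      intro h0
      rw [h0, map_zero] at hm
      exact Nat.succ_ne_zero d hm.symm
    obtain ⟨i, hi⟩ : ∃ i, m i ≠ 0 := by
      by_contra hcon
      push_neg at hcon
      exact hne (Finsupp.ext hcon)
    obtain ⟨m', hm'⟩ : ∃ m' : I →₀ ℕ, m = m' + Finsupp.single i 1 := by
      refine ⟨m - Finsupp.single i 1, Finsupp.ext fun j => ?_⟩
      rw [Finsupp.add_apply, Finsupp.tsub_apply, Finsupp.single_apply]
      split_ifs with hj
      · subst hj; omega
      · omega
    have hdeg : m'.degree = d := by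
      have h2 := hm
      rw [hm', map_add, Finsupp.degree_single] at h2
      omega
    obtain ⟨c', hc'⟩ := ih m' hdeg
    refine ⟨Fin.cons i c', ?_⟩
    unfold typI
    rw [Fin.sum_univ_succ]
    simp only [Fin.cons_zero, Fin.cons_succ]
    rw [hm', add_comm]
    congr 1

theorem prod_typI {S : Type*} [CommMonoid S] (s : I → S) (c : Fin d → I) :
    (typI c).prod (fun i k => s i ^ k) = ∏ k, s (c k) := by
  unfold typI
  rw [← Finsupp.prod_finsetSum_index (fun a => pow_zero _) (fun a b₁ b₂ => pow_add _ _ _)]
  refine Finset.prod_congr rfl fun k _ => ?_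
  rw [Finsupp.prod_single_index (h := fun i k => s i ^ k) (pow_zero _), pow_one]

variable (d)

open Classical in
/-- the tuples of a given type -/
noncomputable def cset (m : I →₀ ℕ) : Finset (Fin d → I) :=
  (Fintype.piFinset fun _ : Fin d => m.support).filter (fun c => typI c = m)

theorem mem_cset (m : I →₀ ℕ) (c : Fin d → I) : c ∈ cset d m ↔ typI c = m := by
  classical
  unfold cset
  rw [Finset.mem_filter, Fintype.mem_piFinset]
  constructor
  · exact fun h => h.2
  · intro h
    refine ⟨fun k => ?_, h⟩
    rw [← h]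
    exact apply_mem_support c k

/-- a chosen representative of a type -/
noncomputable def repm (m : I →₀ ℕ) (hm : ∃ c : Fin d → I, typI c = m) : Fin d → I := hm.choose

theorem repm_spec (m : I →₀ ℕ) (hm : ∃ c : Fin d → I, typI c = m) : typI (repm d m hm) = m :=
  hm.choose_spec

theorem repm_congr {m m' : I →₀ ℕ} (hm : ∃ c : Fin d → I, typI c = m)
    (hm' : ∃ c : Fin d → I, typI c = m') (h : m = m') : repm d m hm = repm d m' hm' := by
  subst h; rfl

variable {d}

/-- the chosen representative of the orbit of `c` -/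
noncomputable def repf (c : Fin d → I) : Fin d → I := repm d (typI c) ⟨c, rfl⟩

theorem typI_repf (c : Fin d → I) : typI (repf c) = typI c := repm_spec d _ _

theorem repf_congr {c c' : Fin d → I} (h : typI c = typI c') : repf c = repf c' :=
  repm_congr d _ _ h

theorem repf_iff (c c' : Fin d → I) : (c = repf c ∧ typI c' = typI c) ↔ c = repf c' := by
  constructor
  · rintro ⟨h1, h2⟩
    rw [repf_congr h2]
    exact h1
  · intro h
    have h3 : typI c = typI c' := by
      rw [h]
      exact typI_repf c'
    refine ⟨?_, h3.symm⟩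
    rw [repf_congr h3]
    exact h

end comb

section basis
variable {A : Type u} [CommRing A] {P : Type u} [CommRing P] [Algebra A P] {I : Type u}
  (e : Module.Basis I A P) (d : ℕ)

theorem prod_tmul {S : Type u} [CommSemiring S] [Algebra A S] {B : Type u} [CommRing B]
    [Algebra A B] {κ : Type*} (s : Finset κ) (f : κ → S) (g : κ → B) :
    ∏ j ∈ s, (f j ⊗ₜ[A] g j) = (∏ j ∈ s, f j) ⊗ₜ[A] (∏ j ∈ s, g j) := by
  classical
  induction s using Finset.induction_on with
  | empty => simp [Algebra.TensorProduct.one_def]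
  | insert j s hj ih =>
    rw [Finset.prod_insert hj, Finset.prod_insert hj, Finset.prod_insert hj, ih,
      Algebra.TensorProduct.tmul_mul_tmul]

theorem prod_single (a : Fin d → P) :
    ∏ j, PiTensorProduct.singleAlgHom (R := A) (A := fun _ : Fin d => P) j (a j) =
      tprod A a := by
  simp only [PiTensorProduct.singleAlgHom_apply, MonoidHom.mulSingle_apply]
  rw [← PiTensorProduct.tprod_prod]
  exact congrArg _ (Finset.univ_prod_mulSingle a)

/-- the basis of pure tensors of basis vectors -/
noncomputable def E : Module.Basis (Fin d → I) A (⨂[A] _ : Fin d, P) :=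
  Basis.piTensorProduct (fun _ : Fin d => e)

theorem E_apply (c : Fin d → I) : E e d c = tprod A (fun k => e (c k)) :=
  Basis.piTensorProduct_apply _ _

theorem perm_E (σ : Equiv.Perm (Fin d)) (c : Fin d → I) :
    SymTen.perm A P d σ (E e d c) = E e d (c ∘ σ.symm) := by
  rw [E_apply, E_apply, SymTen.perm_tprod]
  rfl

/-- the orbit sum of type `m` -/
noncomputable def osum (m : I →₀ ℕ) : ⨂[A] _ : Fin d, P := ∑ c ∈ cset d m, E e d c

theorem osum_mem_TS (m : I →₀ ℕ) : osum e d m ∈ SymTen.TS A P d := by
  rw [SymTen.mem_TS_iff]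
  intro σ
  rw [← SymTen.perm_apply]
  unfold osum
  rw [map_sum]
  refine Finset.sum_nbij' (fun c => c ∘ σ.symm) (fun c => c ∘ σ) ?_ ?_ ?_ ?_ ?_
  · intro c hc
    rw [mem_cset] at hc ⊢
    rw [typI_comp_perm c σ.symm, hc]
  · intro c hc
    rw [mem_cset] at hc ⊢
    rw [typI_comp_perm c σ, hc]
  · intro c _
    funext k
    simp
  · intro c _
    funext k
    simp
  · intro c _
    exact perm_E e d σ c

theorem repr_osum (m : I →₀ ℕ) (c' : Fin d → I) [Decidable (typI c' = m)] :
    (E e d).repr (osum e d m) c' = if typI c' = m then 1 else 0 := by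
  classical
  unfold osum
  rw [map_sum, Finsupp.finsetSum_apply]
  simp only [Module.Basis.repr_self, Finsupp.single_apply]
  rw [Finset.sum_ite_eq']
  by_cases h : typI c' = m
  · rw [if_pos h, if_pos ((mem_cset d m c').mpr h)]
  · rw [if_neg h, if_neg (fun h' => h ((mem_cset d m c').mp h'))]

open Classical in
/-- the linear map sending the chosen representative of each orbit to `v (type)` -/
noncomputable def gmap {X : Type*} [AddCommGroup X] [Module A X] (v : (I →₀ ℕ) → X) :
    (⨂[A] _ : Fin d, P) →ₗ[A] X :=
  (E e d).constr A (fun c => if c = repf c then v (typI c) else 0)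

theorem gmap_E_pos {X : Type*} [AddCommGroup X] [Module A X] (v : (I →₀ ℕ) → X)
    (c : Fin d → I) (h : c = repf c) : gmap e d v (E e d c) = v (typI c) := by
  unfold gmap
  rw [Module.Basis.constr_basis, if_pos h]

theorem gmap_E_neg {X : Type*} [AddCommGroup X] [Module A X] (v : (I →₀ ℕ) → X)
    (c : Fin d → I) (h : c ≠ repf c) : gmap e d v (E e d c) = 0 := by
  unfold gmap
  rw [Module.Basis.constr_basis, if_neg h]

theorem gmap_osum {X : Type*} [AddCommGroup X] [Module A X] (v : (I →₀ ℕ) → X)
    (c₁ : Fin d → I) : gmap e d v (osum e d (typI c₁)) = v (typI c₁) := by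
  classical
  unfold osum
  rw [map_sum]
  rw [Finset.sum_eq_single (repf c₁)]
  · rw [gmap_E_pos e d v (repf c₁) (repf_congr (typI_repf c₁)).symm, typI_repf]
  · intro c hc hne
    rw [mem_cset] at hc
    apply gmap_E_neg
    intro h
    apply hne
    rw [h, repf_congr hc]
  · intro h
    exfalso
    apply h
    rw [mem_cset]
    exact typI_repf c₁

/-- the retraction of the tensor power onto the symmetric tensors -/
noncomputable def rho : (⨂[A] _ : Fin d, P) →ₗ[A] (⨂[A] _ : Fin d, P) := gmap e d (osum e d)

theorem repr_rho (t : ⨂[A] _ : Fin d, P) (c' : Fin d → I) :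
    (E e d).repr (rho e d t) c' = (E e d).repr t (repf c') := by
  classical
  have key : (Finsupp.lapply c' : ((Fin d → I) →₀ A) →ₗ[A] A) ∘ₗ (E e d).repr.toLinearMap ∘ₗ
      rho e d = (Finsupp.lapply (repf c')) ∘ₗ (E e d).repr.toLinearMap := by
    refine (E e d).ext fun c => ?_
    show (E e d).repr (rho e d (E e d c)) c' = (E e d).repr (E e d c) (repf c')
    by_cases h1 : c = repf c
    · rw [rho, gmap_E_pos e d _ c h1, repr_osum, Module.Basis.repr_self, Finsupp.single_apply]
      by_cases h2 : typI c' = typI c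
      · rw [if_pos h2, if_pos ((repf_iff c c').mp ⟨h1, h2⟩)]
      · rw [if_neg h2, if_neg (fun h => h2 ((repf_iff c c').mpr h).2)]
    · rw [rho, gmap_E_neg e d _ c h1, map_zero, Finsupp.zero_apply, Module.Basis.repr_self,
        Finsupp.single_apply, if_neg (fun h => h1 ((repf_iff c c').mpr h).1)]
  exact LinearMap.congr_fun key t

theorem repr_perm (σ : Equiv.Perm (Fin d)) (t : ⨂[A] _ : Fin d, P) (c' : Fin d → I) :
    (E e d).repr (SymTen.perm A P d σ t) c' = (E e d).repr t (c' ∘ σ) := by
  classical
  have key : (Finsupp.lapply c' : ((Fin d → I) →₀ A) →ₗ[A] A) ∘ₗ (E e d).repr.toLinearMap ∘ₗ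
      (SymTen.perm A P d σ).toLinearMap =
        (Finsupp.lapply (c' ∘ σ)) ∘ₗ (E e d).repr.toLinearMap := by
    refine (E e d).ext fun c => ?_
    show (E e d).repr (SymTen.perm A P d σ (E e d c)) c' = (E e d).repr (E e d c) (c' ∘ σ)
    rw [perm_E, Module.Basis.repr_self, Module.Basis.repr_self, Finsupp.single_apply,
      Finsupp.single_apply]
    by_cases h : c ∘ σ.symm = c'
    · rw [if_pos h, if_pos]
      rw [← h]
      funext k
      simp
    · rw [if_neg h, if_neg]
      intro h'
      apply h
      rw [h']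
      funext k
      simp
  exact LinearMap.congr_fun key t

theorem repr_TS (t : ⨂[A] _ : Fin d, P) (ht : t ∈ SymTen.TS A P d) (c : Fin d → I)
    (σ : Equiv.Perm (Fin d)) : (E e d).repr t (c ∘ σ) = (E e d).repr t c := by
  rw [← repr_perm, SymTen.perm_apply, (SymTen.mem_TS_iff A P d t).mp ht σ]

theorem rho_TS (t : ⨂[A] _ : Fin d, P) (ht : t ∈ SymTen.TS A P d) : rho e d t = t := by
  apply (E e d).repr.injective
  ext c'
  rw [repr_rho]
  obtain ⟨σ, hσ⟩ := exists_perm_of_typI_eq (repf c') c' (typI_repf c')
  rw [← hσ, repr_TS e d t ht]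

theorem rho_mem (t : ⨂[A] _ : Fin d, P) : rho e d t ∈ SymTen.TS A P d := by
  classical
  have h : LinearMap.range (rho e d) ≤ Subalgebra.toSubmodule (SymTen.TS A P d) := by
    rw [rho, gmap, Module.Basis.constr_range, Submodule.span_le]
    rintro _ ⟨c, rfl⟩
    show (if c = repf c then osum e d (typI c) else 0) ∈ SymTen.TS A P d
    split_ifs
    · exact osum_mem_TS e d _
    · exact zero_mem _
  exact h ⟨t, rfl⟩

/-- `rho` with values in `TS` -/
noncomputable def rhoR : (⨂[A] _ : Fin d, P) →ₗ[A] SymTen.TS A P d where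
  toFun t := ⟨rho e d t, rho_mem e d t⟩
  map_add' x y := Subtype.ext (map_add (rho e d) x y)
  map_smul' a x := Subtype.ext (map_smul (rho e d) a x)

theorem rhoR_val (u : SymTen.TS A P d) : rhoR e d u.1 = u := Subtype.ext (rho_TS e d u.1 u.2)

include e in
theorem lTensor_val_injective (S : Type u) [CommSemiring S] [Algebra A S] :
    Function.Injective ((SymTen.TS A P d).val.toLinearMap.lTensor S) := by
  have h : (rhoR e d) ∘ₗ (SymTen.TS A P d).val.toLinearMap = LinearMap.id := by
    refine LinearMap.ext fun u => ?_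
    exact rhoR_val e d u
  intro y y' hy
  have h2 := congrArg ((rhoR e d).lTensor S) hy
  rw [← LinearMap.comp_apply, ← LinearMap.comp_apply, ← LinearMap.lTensor_comp, h,
    LinearMap.lTensor_id] at h2
  exact h2

/-- the orbit sum as an element of `TS` -/
noncomputable def oT (m : I →₀ ℕ) : SymTen.TS A P d := ⟨osum e d m, osum_mem_TS e d m⟩

theorem mem_span_oT (u : SymTen.TS A P d) :
    u ∈ Submodule.span A (Set.range fun c : Fin d → I => oT e d (typI c)) := by
  classical
  have hr : LinearMap.range (rhoR e d) ≤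
      Submodule.span A (Set.range fun c : Fin d → I => oT e d (typI c)) := by
    rw [LinearMap.range_eq_map, ← (E e d).span_eq, Submodule.map_span, Submodule.span_le]
    rintro _ ⟨_, ⟨c, rfl⟩, rfl⟩
    by_cases h : c = repf c
    · have h1 : rhoR e d (E e d c) = oT e d (typI c) := Subtype.ext (gmap_E_pos e d _ c h)
      rw [h1]
      exact Submodule.subset_span ⟨c, rfl⟩
    · have h1 : rhoR e d (E e d c) = 0 := Subtype.ext (gmap_E_neg e d _ c h)
      rw [h1]
      exact zero_mem _
  have h2 := hr ⟨u.1, rfl⟩
  rwa [rhoR_val] at h2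

end basis

end Groth.Agent.Lib.helper6.TSBasis
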