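import Mathlib
import Groth.Prelude.Def_SymTen
import Groth.Agent.Lib.Helper6.Lazard
import Groth.Agent.Lib.Helper6.TMColim
import Groth.Agent.Lib.Helper6.TSBasis

/-!
# Symmetric tensors of flat modules (helper6)

`tsM R M n`: the submodule of symmetric tensors in `T^n(M)`.  `flat_tsM`: it is flat when `M` is.
`exists_symm_lift`: symmetric tensors lift along surjections onto a flat module.
`exists_lift_invariant_family`: finitely many symmetric tensors of a colimit come from one stage.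
-/

set_option autoImplicit false
set_option linter.unusedSectionVars false
set_option linter.unusedVariables false

universe u

open scoped TensorProduct

namespace Groth.Agent.Lib.helper6.TSFlatMod

open Groth.Agent.Lib.helper6.Lazard Groth.Agent.Lib.helper6.TMColim
open Groth.Agent.Lib.helper6.TSBasis

/-- symmetric tensors of a module -/
abbrev tsM (R : Type u) [CommRing R] (M : Type u) [AddCommGroup M] [Module R M] (n : ℕ) :
    Submodule R (⨂[R] _ : Fin n, M) :=
  ⨅ σ : Equiv.Perm (Fin n),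
    LinearMap.eqLocus (PiTensorProduct.reindex R (fun _ : Fin n => M) σ).toLinearMap LinearMap.id

theorem mem_tsM {R : Type u} [CommRing R] {M : Type u} [AddCommGroup M] [Module R M] {n : ℕ}
    (t : ⨂[R] _ : Fin n, M) :
    t ∈ tsM R M n ↔ ∀ σ : Equiv.Perm (Fin n),
      PiTensorProduct.reindex R (fun _ : Fin n => M) σ t = t := by
  simp only [Submodule.mem_iInf, LinearMap.mem_eqLocus, LinearEquiv.coe_coe, LinearMap.id_coe,
    id_eq]

/-- a module is flat if every finite relation can be lifted to a flat module mapping to it -/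
theorem flat_of_local {R : Type u} [CommRing R] {M' : Type u} [AddCommGroup M'] [Module R M']
    (h : ∀ (l : ℕ) (f : Fin l → R) (x : Fin l → M'), ∑ i, f i • x i = 0 →
      ∃ (Q : Type u) (_ : AddCommGroup Q) (_ : Module R Q) (_ : Module.Flat R Q)
        (θ : Q →ₗ[R] M') (y : Fin l → Q), (∀ i, θ (y i) = x i) ∧ ∑ i, f i • y i = 0) :
    Module.Flat R M' := by
  apply Module.Flat.of_forall_isTrivialRelation
  intro l f x hfx
  obtain ⟨Q, _, _, _, θ, y, hy, hfy⟩ := h l f x hfx
  obtain ⟨k, a, z, hz, ha⟩ := Module.Flat.isTrivialRelation_of_sum_smul_eq_zero hfy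
  refine ⟨k, a, fun j => θ (z j), fun i => ?_, ha⟩
  rw [← hy i, hz i, map_sum]
  exact Finset.sum_congr rfl fun j _ => map_smul _ _ _

theorem flat_tsM_pi (R : Type u) [CommRing R] (m n : ℕ) :
    Module.Flat R ↥(tsM R (Fin m → R) n) := by
  classical
  let e : Module.Basis (ULift.{u} (Fin m)) R (Fin m → R) :=
    (Pi.basisFun R (Fin m)).reindex Equiv.ulift.symm
  haveI : Module.Free R (⨂[R] _ : Fin n, (Fin m → R)) := Module.Free.of_basis (E e n)
  have hmem : ∀ t, rho e n t ∈ tsM R (Fin m → R) n := fun t =>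
    (mem_tsM _).2 ((SymTen.mem_TS_iff R (Fin m → R) n _).1 (rho_mem e n t))
  refine Module.Flat.of_retract (M := ⨂[R] _ : Fin n, (Fin m → R))
    (tsM R (Fin m → R) n).subtype ((rho e n).codRestrict (tsM R (Fin m → R) n) hmem) ?_
  refine LinearMap.ext fun u => Subtype.ext ?_
  exact rho_TS e n u.1 ((SymTen.mem_TS_iff R (Fin m → R) n _).2 ((mem_tsM _).1 u.2))

section sys
variable {A : Type u} [CommRing A] {B : Type u} [AddCommGroup B] [Module A B]
    {ι : Type u} [Preorder ι] [IsDirected ι (fun i j => i ≤ j)] [Nonempty ι]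
    {Bi : ι → Type u} [∀ i, AddCommGroup (Bi i)] [∀ i, Module A (Bi i)] (𝒮 : MSys A B ι Bi) (d : ℕ)

theorem exists_lift_invariant_family {κ : Type} [Fintype κ] (u : κ → ⨂[A] _ : Fin d, B)
    (hu : ∀ k (σ : Equiv.Perm (Fin d)),
      PiTensorProduct.reindex A (fun _ : Fin d => B) σ (u k) = u k) :
    ∃ (i : ι) (y : κ → ⨂[A] _ : Fin d, Bi i), (∀ k, tm d (𝒮.φ i) (y k) = u k) ∧
      ∀ k (σ : Equiv.Perm (Fin d)),
        PiTensorProduct.reindex A (fun _ : Fin d => Bi i) σ (y k) = y k := by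
  classical
  choose i0 y0 hy0 using fun k => exists_tm_eq 𝒮 d (u k)
  have h1 : ∀ k, ∃ (j : ι) (hij : i0 k ≤ j), ∀ σ : Equiv.Perm (Fin d),
      PiTensorProduct.reindex A (fun _ : Fin d => Bi j) σ (tm d (𝒮.t (i0 k) j hij) (y0 k)) =
        tm d (𝒮.t (i0 k) j hij) (y0 k) := by
    intro k
    apply exists_invariant 𝒮 d (i0 k) (y0 k)
    intro σ
    rw [hy0 k, hu k σ]
  choose j0 hj0 hinv using h1
  obtain ⟨j, hj⟩ := Finset.exists_le (Finset.univ.image j0)
  have hle : ∀ k, j0 k ≤ j := fun k => hj _ (Finset.mem_image_of_mem _ (Finset.mem_univ k))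
  refine ⟨j, fun k => tm d (𝒮.t (j0 k) j (hle k)) (tm d (𝒮.t (i0 k) (j0 k) (hj0 k)) (y0 k)),
    fun k => ?_, fun k σ => ?_⟩
  · rw [tm_tm_apply, tm_tm_apply, LinearMap.comp_assoc, 𝒮.htrans, 𝒮.hcomp, hy0]
  · rw [← tm_reindex, hinv]

end sys

theorem flat_tsM (R : Type u) [CommRing R] (M : Type u) [AddCommGroup M] [Module R M]
    [Module.Flat R M] (n : ℕ) : Module.Flat R ↥(tsM R M n) := by
  classical
  obtain ⟨ι, _, _, _, nn, ⟨𝒮⟩⟩ := exists_msys R M
  apply flat_of_local
  intro l f x hfx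
  obtain ⟨i, y, hy, hyinv⟩ := exists_lift_invariant_family 𝒮 n (fun k => (x k).1)
    (fun k σ => (mem_tsM _).1 (x k).2 σ)
  have hz : tm n (𝒮.φ i) (∑ k, f k • y k) = 0 := by
    rw [map_sum]
    have : ∀ k, tm n (𝒮.φ i) (f k • y k) = ((f k • x k : ↥(tsM R M n)) : ⨂[R] _ : Fin n, M) := by
      intro k
      rw [map_smul, hy k]
      rfl
    rw [Finset.sum_congr rfl fun k _ => this k, ← Submodule.coe_sum, hfx]
    rfl
  obtain ⟨j, hij, hj⟩ := tm_zero_exact 𝒮 n i _ hz
  have hres : ∀ t ∈ tsM R (Fin (nn j) → R) n, tm n (𝒮.φ j) t ∈ tsM R M n := by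
    intro t ht
    rw [mem_tsM] at ht ⊢
    intro σ
    rw [← tm_reindex, ht σ]
  have hyj : ∀ k, tm n (𝒮.t i j hij) (y k) ∈ tsM R (Fin (nn j) → R) n := by
    intro k
    rw [mem_tsM]
    intro σ
    rw [← tm_reindex, hyinv k σ]
  refine ⟨↥(tsM R (Fin (nn j) → R) n), inferInstance, inferInstance, flat_tsM_pi R (nn j) n,
    (tm n (𝒮.φ j)).restrict hres, fun k => ⟨tm n (𝒮.t i j hij) (y k), hyj k⟩, fun k => ?_, ?_⟩
  · apply Subtype.ext
    show tm n (𝒮.φ j) (tm n (𝒮.t i j hij) (y k)) = (x k).1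
    rw [tm_tm_apply, 𝒮.hcomp, hy k]
  · apply Subtype.ext
    rw [Submodule.coe_sum]
    simp only [Submodule.coe_smul, Submodule.coe_zero]
    rw [map_sum] at hj
    rw [← hj]
    exact Finset.sum_congr rfl fun k _ => (map_smul _ _ _).symm

theorem exists_symm_lift (R : Type u) [CommRing R] (M N : Type u) [AddCommGroup M] [Module R M]
    [AddCommGroup N] [Module R N] [Module.Flat R N] (f : M →ₗ[R] N) (hf : Function.Surjective f)
    (n : ℕ) (t : ⨂[R] _ : Fin n, N)
    (ht : ∀ σ : Equiv.Perm (Fin n), PiTensorProduct.reindex R (fun _ : Fin n => N) σ t = t) :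
    ∃ s : ⨂[R] _ : Fin n, M,
      (∀ σ : Equiv.Perm (Fin n), PiTensorProduct.reindex R (fun _ : Fin n => M) σ s = s) ∧
        PiTensorProduct.map (fun _ : Fin n => f) s = t := by
  classical
  obtain ⟨ι, _, _, _, nn, ⟨𝒮⟩⟩ := exists_msys R N
  obtain ⟨i, y, hy, hyinv⟩ := exists_lift_invariant_family 𝒮 n (fun _ : Unit => t)
    (fun _ σ => ht σ)
  obtain ⟨g, hg⟩ := Module.projective_lifting_property f (𝒮.φ i) hf
  refine ⟨tm n g (y ()), fun σ => ?_, ?_⟩
  · rw [← tm_reindex, hyinv () σ]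
  · show tm n f (tm n g (y ())) = t
    rw [tm_tm_apply, hg, hy ()]

end Groth.Agent.Lib.helper6.TSFlatMod
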