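import Mathlib
import Groth.Agent.Lib.Helper13.MLfp

/-!
# Mittag-Leffler modules: factoring through finitely presented modules (helper6)

`exists_factor_fp`: given `f : P → M` with `P` finitely presented and `x ∈ ker (f ⊗ Q)`,
`f` factors through a finitely presented `P'` such that `x` already dies in `P' ⊗ Q`.
-/

set_option autoImplicit false
universe u

namespace Groth.Agent.Lib.helper6.MLDom

open TensorProduct

theorem exists_factor_fp (R : Type u) [CommRing R] {P M Q : Type u}
    [AddCommGroup P] [Module R P] [Module.FinitePresentation R P] [AddCommGroup M] [Module R M]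
    [AddCommGroup Q] [Module R Q] (f : P →ₗ[R] M) (x : P ⊗[R] Q) (hx : f.rTensor Q x = 0) :
    ∃ (P' : Type u) (_ : AddCommGroup P') (_ : Module R P') (_ : Module.FinitePresentation R P')
      (f' : P →ₗ[R] P') (h : P' →ₗ[R] M), f = h ∘ₗ f' ∧ f'.rTensor Q x = 0 := by
  classical
  -- Step 1: `x` as a finite sum
  obtain ⟨S, hS⟩ := TensorProduct.exists_finset x
  let p : ↥S → P := fun i => i.1.1
  let q : ↥S → Q := fun i => i.1.2
  have hxsum : x = ∑ i : ↥S, p i ⊗ₜ[R] q i := by
    rw [hS]
    exact (Finset.sum_coe_sort S (fun i => i.1 ⊗ₜ[R] i.2)).symm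
  -- Step 2: a finitely generated submodule where the relation already holds
  let M₀ : Submodule R M := Submodule.span R (Set.range (fun i : ↥S => f (p i)))
  have hM₀ : M₀.FG := Submodule.fg_span (Set.finite_range _)
  have hfp : ∀ i, f (p i) ∈ M₀ := fun i => Submodule.subset_span ⟨i, rfl⟩
  let t : M₀ ⊗[R] Q := ∑ i : ↥S, (⟨f (p i), hfp i⟩ : M₀) ⊗ₜ[R] q i
  have ht : LinearMap.rTensor Q M₀.subtype t = 0 := by
    rw [← hx, hxsum, map_sum, map_sum]
    apply Finset.sum_congr rfl
    intro i _
    rfl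
  obtain ⟨M₁, hM₀₁, hM₁, ht₁⟩ := TensorProduct.eq_zero_of_fg_of_subtype_eq_zero hM₀ ht
  obtain ⟨k, m', hm'⟩ := Submodule.fg_iff_exists_fin_generating_family.mp hM₁
  have hm'M₁ : ∀ l, m' l ∈ M₁ := by
    intro l
    rw [← hm']
    exact Submodule.subset_span ⟨l, rfl⟩
  -- Step 3: the equational criterion
  let m : ↥S ⊕ Fin k → M₁ :=
    Sum.elim (fun i => ⟨f (p i), hM₀₁ (hfp i)⟩) (fun l => ⟨m' l, hm'M₁ l⟩)
  let nn : ↥S ⊕ Fin k → Q := Sum.elim q (fun _ => 0)
  have hspan : Submodule.span R (Set.range m) = ⊤ := by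
    apply Submodule.map_injective_of_injective M₁.injective_subtype
    rw [Submodule.map_subtype_top, Submodule.map_span, ← Set.range_comp]
    apply le_antisymm
    · rw [Submodule.span_le]
      rintro _ ⟨i, rfl⟩
      exact (m i).2
    · intro z hz
      have hz' : z ∈ Submodule.span R (Set.range m') := by rw [hm']; exact hz
      refine Submodule.span_mono ?_ hz'
      rintro _ ⟨l, rfl⟩
      exact ⟨Sum.inr l, rfl⟩
  have hmn : ∑ i, m i ⊗ₜ[R] nn i = 0 := by
    rw [Fintype.sum_sum_type]
    simp only [m, nn, Sum.elim_inl, Sum.elim_inr, TensorProduct.tmul_zero, Finset.sum_const_zero,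
      add_zero]
    rw [← ht₁, map_sum]
    apply Finset.sum_congr rfl
    intro i _
    rfl
  obtain ⟨k', a, y, hay, ham⟩ := TensorProduct.vanishesTrivially_of_sum_tmul_eq_zero R hspan hmn
  -- Step 4: the finitely presented module
  let ρ : Fin k' → P × (Fin k → R) :=
    fun j => (∑ i : ↥S, a (Sum.inl i) j • p i, fun l => a (Sum.inr l) j)
  let W : Submodule R (P × (Fin k → R)) := Submodule.span R (Set.range ρ)
  have hW : W.FG := Submodule.fg_span (Set.finite_range _)
  let φ : (Fin k → R) →ₗ[R] M := Fintype.linearCombination R m'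
  let F : (P × (Fin k → R)) →ₗ[R] M := f.coprod φ
  have hFρ : ∀ j, F (ρ j) = 0 := by
    intro j
    have h1 := congrArg M₁.subtype (ham j)
    rw [map_sum, map_zero, Fintype.sum_sum_type] at h1
    rw [← h1]
    show f (∑ i, a (Sum.inl i) j • p i) + φ (fun l => a (Sum.inr l) j) = _
    rw [map_sum]
    congr 1
    · apply Finset.sum_congr rfl
      intro i _
      rw [map_smul, map_smul]
      try rfl
  have hWF : W ≤ LinearMap.ker F := by
    rw [Submodule.span_le]
    rintro _ ⟨j, rfl⟩
    exact hFρ j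
  have : Module.FinitePresentation R ((P × (Fin k → R)) ⧸ W) :=
    Module.finitePresentation_of_surjective W.mkQ (Submodule.mkQ_surjective W)
      (by rw [Submodule.ker_mkQ]; exact hW)
  refine ⟨(P × (Fin k → R)) ⧸ W, inferInstance, inferInstance, inferInstance,
    W.mkQ ∘ₗ LinearMap.inl R P (Fin k → R), W.liftQ F hWF, ?_, ?_⟩
  · apply LinearMap.ext
    intro z
    rw [LinearMap.comp_apply, LinearMap.comp_apply, Submodule.mkQ_apply, Submodule.liftQ_apply]
    show f z = f z + φ 0
    rw [map_zero, add_zero]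
  · let gg : ↥S ⊕ Fin k → P × (Fin k → R) :=
      Sum.elim (fun i => (p i, 0)) (fun l => (0, Pi.single l 1))
    have h1 : (W.mkQ ∘ₗ LinearMap.inl R P (Fin k → R)).rTensor Q x =
        ∑ i, W.mkQ (gg i) ⊗ₜ[R] nn i := by
      rw [Fintype.sum_sum_type, hxsum, map_sum]
      simp only [gg, nn, Sum.elim_inl, Sum.elim_inr, TensorProduct.tmul_zero,
        Finset.sum_const_zero, add_zero]
      apply Finset.sum_congr rfl
      intro i _
      rfl
    rw [h1]
    have h2 : ∀ i, W.mkQ (gg i) ⊗ₜ[R] nn i = ∑ j, (a i j • W.mkQ (gg i)) ⊗ₜ[R] y j := by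
      intro i
      rw [hay i, TensorProduct.tmul_sum]
      apply Finset.sum_congr rfl
      intro j _
      rw [TensorProduct.tmul_smul, TensorProduct.smul_tmul']
    rw [Finset.sum_congr rfl (fun i _ => h2 i), Finset.sum_comm]
    apply Finset.sum_eq_zero
    intro j _
    rw [← TensorProduct.sum_tmul]
    have h3 : ∑ i, a i j • W.mkQ (gg i) = W.mkQ (ρ j) := by
      have h4 : ∀ i, a i j • W.mkQ (gg i) = W.mkQ (a i j • gg i) := fun i => (map_smul _ _ _).symm
      rw [Finset.sum_congr rfl (fun i _ => h4 i), ← map_sum]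
      congr 1
      rw [Fintype.sum_sum_type]
      refine Prod.ext ?_ ?_
      · rw [Prod.fst_add, Prod.fst_sum, Prod.fst_sum]
        simp [gg, ρ]
      · rw [Prod.snd_add, Prod.snd_sum, Prod.snd_sum]
        funext l
        simp [gg, ρ, Finset.sum_apply, Pi.single_apply]
    rw [h3, Submodule.mkQ_apply, (Submodule.Quotient.mk_eq_zero W).mpr
      (Submodule.subset_span ⟨j, rfl⟩), TensorProduct.zero_tmul]

end Groth.Agent.Lib.helper6.MLDom
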