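import Mathlib
import Groth.Agent.Lib.Helper6.MLDomA

/-!
# Mittag-Leffler modules and domination (helper6)

* `exists_dominating`: for a Mittag-Leffler module `M`, every `f : P → M` with `P` finitely
  presented is mutually dominated by some `g : P → Q` with `Q` finitely presented.
* `ml_of_fin_dominated`: the converse criterion, tested on finite free modules only.
-/

set_option autoImplicit false
universe u

namespace Groth.Agent.Lib.helper6.MLDom

open TensorProduct

section

variable {R : Type u} [CommRing R] {P M : Type u} [AddCommGroup P] [Module R P]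
  [AddCommGroup M] [Module R M]

/-- Factorizations of `f` through a finitely presented module of standard form. -/
structure Fac (f : P →ₗ[R] M) : Type u where
  n : ℕ
  K : Submodule R (Fin n → R)
  hK : K.FG
  g : P →ₗ[R] ((Fin n → R) ⧸ K)
  h : ((Fin n → R) ⧸ K) →ₗ[R] M
  comm : f = h ∘ₗ g

instance Fac.fp {f : P →ₗ[R] M} (i : Fac f) :
    Module.FinitePresentation R ((Fin i.n → R) ⧸ i.K) :=
  Module.finitePresentation_of_surjective i.K.mkQ (Submodule.mkQ_surjective _)
    (by rw [Submodule.ker_mkQ]; exact i.hK)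

theorem ker_le_of_comp {Q' : Type u} [AddCommGroup Q'] [Module R Q'] {f : P →ₗ[R] M}
    {g : P →ₗ[R] Q'} {h : Q' →ₗ[R] M} (hc : f = h ∘ₗ g) (N : Type u) [AddCommGroup N]
    [Module R N] : LinearMap.ker (g.rTensor N) ≤ LinearMap.ker (f.rTensor N) := by
  intro x hx
  rw [LinearMap.mem_ker] at hx ⊢
  rw [hc, LinearMap.rTensor_comp, LinearMap.comp_apply, hx, map_zero]

end

theorem exists_dominating (R : Type u) [CommRing R] (M : Type u) [AddCommGroup M] [Module R M]
    (hML : CAlg.IsMittagLeffler R M) (P : Type u) [AddCommGroup P] [Module R P]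
    [Module.FinitePresentation R P] (f : P →ₗ[R] M) :
    ∃ (Q : Type u) (_ : AddCommGroup Q) (_ : Module R Q) (_ : Module.FinitePresentation R Q)
      (g : P →ₗ[R] Q), ∀ (N : Type u) [AddCommGroup N] [Module R N],
        LinearMap.ker (f.rTensor N) = LinearMap.ker (g.rTensor N) := by
  classical
  have key : ∃ i : Fac f, ∀ (N : Type u) [AddCommGroup N] [Module R N] (x : P ⊗[R] N),
      f.rTensor N x = 0 → i.g.rTensor N x = 0 := by
    by_contra H
    have H' : ∀ i : Fac f, ∃ (N : Type u) (_ : AddCommGroup N) (_ : Module R N)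
        (x : P ⊗[R] N), f.rTensor N x = 0 ∧ i.g.rTensor N x ≠ 0 := by
      intro i
      by_contra Hi
      apply H
      refine ⟨i, ?_⟩
      intro N _ _ x hx
      by_contra hx'
      exact Hi ⟨N, inferInstance, inferInstance, x, hx, hx'⟩
    choose N iN1 iN2 x hx1 hx2 using H'
    let _ : ∀ i, AddCommGroup (N i) := iN1
    let _ : ∀ i, Module R (N i) := iN2
    obtain ⟨X, hX⟩ :=
      (Groth.Agent.Lib.helper13.piRightHom_bijective_of_finitePresentation R P N).2 x
    have hfX : f.rTensor (∀ i, N i) X = 0 := by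
      apply hML (Fac f) N
      rw [Groth.Agent.Lib.helper28.piRightHom_rTensor f N X, map_zero]
      funext i
      rw [hX]
      exact hx1 i
    obtain ⟨P', _, _, _, f', h', hfac, hf'X⟩ := exists_factor_fp R f X hfX
    obtain ⟨n, K, e, hK⟩ := Module.FinitePresentation.exists_fin R P'
    let j : Fac f := ⟨n, K, hK, e.toLinearMap ∘ₗ f', h' ∘ₗ e.symm.toLinearMap, by
      rw [hfac]
      apply LinearMap.ext
      intro z
      simp⟩
    have hjX : j.g.rTensor (∀ i, N i) X = 0 := by
      show (e.toLinearMap ∘ₗ f').rTensor (∀ i, N i) X = 0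
      rw [LinearMap.rTensor_comp, LinearMap.comp_apply, hf'X, map_zero]
    have h3 := Groth.Agent.Lib.helper28.piRightHom_rTensor j.g N X
    rw [hjX, map_zero, hX] at h3
    exact hx2 j (congrFun h3 j).symm
  obtain ⟨i, hi⟩ := key
  refine ⟨(Fin i.n → R) ⧸ i.K, inferInstance, inferInstance, inferInstance, i.g, ?_⟩
  intro N _ _
  apply le_antisymm
  · intro x hx
    exact LinearMap.mem_ker.mpr (hi N x (LinearMap.mem_ker.mp hx))
  · exact ker_le_of_comp i.comm N

theorem rTensor_eq_zero_of_dominated {R : Type u} [CommRing R] {P M' Q' : Type u}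
    [AddCommGroup P] [Module R P] [AddCommGroup M'] [Module R M'] [AddCommGroup Q'] [Module R Q']
    (F : P →ₗ[R] M') (G : P →ₗ[R] Q') (hQ' : CAlg.IsMittagLeffler R Q')
    (hFG : ∀ (N : Type u) [AddCommGroup N] [Module R N],
      LinearMap.ker (F.rTensor N) = LinearMap.ker (G.rTensor N))
    {ι : Type u} (Q : ι → Type u) [∀ i, AddCommGroup (Q i)] [∀ i, Module R (Q i)]
    (ξ' : P ⊗[R] (∀ i, Q i))
    (h : TensorProduct.piRightHom R R M' Q (F.rTensor (∀ i, Q i) ξ') = 0) :
    F.rTensor (∀ i, Q i) ξ' = 0 := by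
  have h1 : ∀ α, F.rTensor (Q α) (TensorProduct.piRightHom R R P Q ξ' α) = 0 := by
    intro α
    have h2 := congrFun (Groth.Agent.Lib.helper28.piRightHom_rTensor F Q ξ') α
    rw [h] at h2
    exact h2.symm
  have h2 : ∀ α, G.rTensor (Q α) (TensorProduct.piRightHom R R P Q ξ' α) = 0 := by
    intro α
    have h3 : TensorProduct.piRightHom R R P Q ξ' α ∈ LinearMap.ker (F.rTensor (Q α)) :=
      LinearMap.mem_ker.mpr (h1 α)
    rw [hFG (Q α)] at h3
    exact LinearMap.mem_ker.mp h3
  have h3 : G.rTensor (∀ i, Q i) ξ' = 0 := by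
    apply hQ' ι Q
    rw [Groth.Agent.Lib.helper28.piRightHom_rTensor G Q ξ', map_zero]
    funext α
    exact h2 α
  have h4 : ξ' ∈ LinearMap.ker (G.rTensor (∀ i, Q i)) := LinearMap.mem_ker.mpr h3
  rw [← hFG] at h4
  exact LinearMap.mem_ker.mp h4

theorem exists_fin_lift {R : Type u} [CommRing R] {M X : Type u} [AddCommGroup M] [Module R M]
    [AddCommGroup X] [Module R X] (ξ : M ⊗[R] X) :
    ∃ (n : ℕ) (f : (Fin n → R) →ₗ[R] M) (ξ' : (Fin n → R) ⊗[R] X), f.rTensor X ξ' = ξ := by
  classical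
  obtain ⟨S, hS⟩ := TensorProduct.exists_finset ξ
  let e := S.equivFin
  refine ⟨S.card, Fintype.linearCombination R (fun i => (e.symm i).1.1),
    ∑ i : Fin S.card, (Pi.single i (1 : R)) ⊗ₜ[R] (e.symm i).1.2, ?_⟩
  rw [map_sum, hS, ← Finset.sum_coe_sort S,
    ← Equiv.sum_comp e.symm (fun s : ↥S => s.1.1 ⊗ₜ[R] s.1.2)]
  apply Finset.sum_congr rfl
  intro i _
  rw [LinearMap.rTensor_tmul, Fintype.linearCombination_apply_single, one_smul]

theorem ml_of_fin_dominated (R : Type u) [CommRing R] (M : Type u) [AddCommGroup M] [Module R M]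
    (H : ∀ (n : ℕ) (f : (Fin n → R) →ₗ[R] M),
      ∃ (Q : Type u) (_ : AddCommGroup Q) (_ : Module R Q) (_ : Module.FinitePresentation R Q)
        (g : (Fin n → R) →ₗ[R] Q), ∀ (N : Type u) [AddCommGroup N] [Module R N],
          LinearMap.ker (f.rTensor N) = LinearMap.ker (g.rTensor N)) :
    CAlg.IsMittagLeffler R M := by
  intro ι Q _ _
  rw [injective_iff_map_eq_zero]
  intro ξ hξ
  obtain ⟨n, f, ξ', rfl⟩ := exists_fin_lift ξ
  obtain ⟨Q', _, _, _, g, hg⟩ := H n f
  exact rTensor_eq_zero_of_dominated f g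
    (Groth.Agent.Lib.helper13.ml_of_finitePresentation R Q') hg Q ξ' hξ

end Groth.Agent.Lib.helper6.MLDom
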