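import Mathlib
import Groth.Agent.Lib.Helper6.MLDomB

/-!
# Tensor products of Mittag-Leffler modules (helper6)
-/

set_option autoImplicit false
universe u

namespace Groth.Agent.Lib.helper6.MLDom

open TensorProduct

section kernels

variable {R : Type u} [CommRing R]

theorem rTensor_equiv_injective {A B : Type u} [AddCommGroup A] [Module R A] [AddCommGroup B]
    [Module R B] (e : A ≃ₗ[R] B) (T : Type u) [AddCommGroup T] [Module R T] :
    Function.Injective (e.toLinearMap.rTensor T) := by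
  intro x y h
  have h1 := congrArg (e.symm.toLinearMap.rTensor T) h
  rw [← LinearMap.comp_apply, ← LinearMap.comp_apply, ← LinearMap.rTensor_comp] at h1
  have h2 : e.symm.toLinearMap ∘ₗ e.toLinearMap = LinearMap.id := by
    apply LinearMap.ext
    intro z
    simp
  rw [h2, LinearMap.rTensor_id] at h1
  exact h1

variable {P₁ P₂ Z₁ Z₂ N' : Type u} [AddCommGroup P₁] [Module R P₁] [AddCommGroup P₂] [Module R P₂]
  [AddCommGroup Z₁] [Module R Z₁] [AddCommGroup Z₂] [Module R Z₂] [AddCommGroup N'] [Module R N']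

theorem rTensor_map_eq_zero_iff {Z : Type u} [AddCommGroup Z] [Module R Z] (u : P₁ →ₗ[R] Z)
    (k : P₂ →ₗ[R] N') (T : Type u) [AddCommGroup T] [Module R T] (x : (P₁ ⊗[R] P₂) ⊗[R] T) :
    (TensorProduct.map u k).rTensor T x = 0 ↔
      u.rTensor (N' ⊗[R] T) ((TensorProduct.map k (LinearMap.id : T →ₗ[R] T)).lTensor P₁
        (TensorProduct.assoc R P₁ P₂ T x)) = 0 := by
  have h1 : u.rTensor (N' ⊗[R] T) ((TensorProduct.map k (LinearMap.id : T →ₗ[R] T)).lTensor P₁
      (TensorProduct.assoc R P₁ P₂ T x)) =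
      TensorProduct.assoc R Z N' T ((TensorProduct.map u k).rTensor T x) := by
    rw [← LinearMap.comp_apply, LinearMap.rTensor_comp_lTensor]
    exact TensorProduct.map_map_assoc u k LinearMap.id x
  rw [h1, LinearEquiv.map_eq_zero_iff]

theorem ker_rTensor_map_congr_left (f : P₁ →ₗ[R] Z₁) (g : P₁ →ₗ[R] Z₂) (k : P₂ →ₗ[R] N')
    (h : ∀ (X : Type u) [AddCommGroup X] [Module R X],
      LinearMap.ker (f.rTensor X) = LinearMap.ker (g.rTensor X))
    (T : Type u) [AddCommGroup T] [Module R T] :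
    LinearMap.ker ((TensorProduct.map f k).rTensor T) =
      LinearMap.ker ((TensorProduct.map g k).rTensor T) := by
  ext x
  rw [LinearMap.mem_ker, LinearMap.mem_ker, rTensor_map_eq_zero_iff f k T x,
    rTensor_map_eq_zero_iff g k T x, ← LinearMap.mem_ker, ← LinearMap.mem_ker, h (N' ⊗[R] T)]

theorem rTensor_map_swap {Z Z' : Type u} [AddCommGroup Z] [Module R Z] [AddCommGroup Z']
    [Module R Z'] (k : P₁ →ₗ[R] Z) (u : P₂ →ₗ[R] Z') (T : Type u) [AddCommGroup T] [Module R T]
    (x : (P₁ ⊗[R] P₂) ⊗[R] T) :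
    (TensorProduct.map k u).rTensor T x = 0 ↔
      (TensorProduct.map u k).rTensor T
        ((TensorProduct.comm R P₁ P₂).toLinearMap.rTensor T x) = 0 := by
  have h1 : (TensorProduct.map u k).rTensor T
      ((TensorProduct.comm R P₁ P₂).toLinearMap.rTensor T x) =
      (TensorProduct.comm R Z Z').toLinearMap.rTensor T ((TensorProduct.map k u).rTensor T x) := by
    rw [← LinearMap.comp_apply, ← LinearMap.comp_apply, ← LinearMap.rTensor_comp,
      ← LinearMap.rTensor_comp]
    congr 2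
    apply TensorProduct.ext'
    intro a b
    simp
  rw [h1]
  constructor
  · intro h
    rw [h, map_zero]
  · intro h
    apply rTensor_equiv_injective (TensorProduct.comm R Z Z') T
    rw [h, map_zero]

theorem ker_rTensor_map_congr_right {Z : Type u} [AddCommGroup Z] [Module R Z] (k : P₁ →ₗ[R] Z)
    (f : P₂ →ₗ[R] Z₁) (g : P₂ →ₗ[R] Z₂)
    (h : ∀ (X : Type u) [AddCommGroup X] [Module R X],
      LinearMap.ker (f.rTensor X) = LinearMap.ker (g.rTensor X))
    (T : Type u) [AddCommGroup T] [Module R T] :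
    LinearMap.ker ((TensorProduct.map k f).rTensor T) =
      LinearMap.ker ((TensorProduct.map k g).rTensor T) := by
  ext x
  rw [LinearMap.mem_ker, LinearMap.mem_ker, rTensor_map_swap k f T x, rTensor_map_swap k g T x,
    ← LinearMap.mem_ker, ← LinearMap.mem_ker, ker_rTensor_map_congr_left f g k h T]

end kernels

theorem fp_tensor (R : Type u) [CommRing R] (Q₁ Q₂ : Type u) [AddCommGroup Q₁] [Module R Q₁]
    [Module.FinitePresentation R Q₁] [AddCommGroup Q₂] [Module R Q₂]
    [Module.FinitePresentation R Q₂] : Module.FinitePresentation R (Q₁ ⊗[R] Q₂) := by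
  obtain ⟨n₁, m₁, π₁, ρ₁, hπ₁, hex₁⟩ := Module.FinitePresentation.exists_fin' R Q₁
  obtain ⟨n₂, m₂, π₂, ρ₂, hπ₂, hex₂⟩ := Module.FinitePresentation.exists_fin' R Q₂
  have : Module.FinitePresentation R ((Fin n₁ → R) ⊗[R] (Fin n₂ → R)) :=
    Module.finitePresentation_of_projective _ _
  apply Module.finitePresentation_of_surjective (TensorProduct.map π₁ π₂)
    (TensorProduct.map_surjective hπ₁ hπ₂)
  rw [TensorProduct.map_ker hex₁ hπ₁ hex₂ hπ₂]
  apply Submodule.FG.sup
  · rw [LinearMap.range_eq_map]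
    exact (Module.Finite.fg_top).map _
  · rw [LinearMap.range_eq_map]
    exact (Module.Finite.fg_top).map _

section lifting

variable {R : Type u} [CommRing R] {M N : Type u} [AddCommGroup M] [Module R M]
  [AddCommGroup N] [Module R N]

theorem exists_lift_tensor (t : M ⊗[R] N) :
    ∃ (P₁ : Type u) (_ : AddCommGroup P₁) (_ : Module R P₁) (_ : Module.FinitePresentation R P₁)
      (P₂ : Type u) (_ : AddCommGroup P₂) (_ : Module R P₂) (_ : Module.FinitePresentation R P₂)
      (f₁ : P₁ →ₗ[R] M) (f₂ : P₂ →ₗ[R] N) (t' : P₁ ⊗[R] P₂), TensorProduct.map f₁ f₂ t' = t := by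
  induction t using TensorProduct.induction_on with
  | zero =>
    exact ⟨R, inferInstance, inferInstance, inferInstance, R, inferInstance, inferInstance,
      inferInstance, 0, 0, 0, map_zero _⟩
  | tmul m n =>
    refine ⟨R, inferInstance, inferInstance, inferInstance, R, inferInstance, inferInstance,
      inferInstance, LinearMap.toSpanSingleton R M m, LinearMap.toSpanSingleton R N n,
      (1 : R) ⊗ₜ[R] (1 : R), ?_⟩
    rw [TensorProduct.map_tmul, LinearMap.toSpanSingleton_apply, LinearMap.toSpanSingleton_apply,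
      one_smul, one_smul]
  | add t₁ t₂ h₁ h₂ =>
    obtain ⟨P₁, _, _, _, P₂, _, _, _, f₁, f₂, t₁', rfl⟩ := h₁
    obtain ⟨P₁', _, _, _, P₂', _, _, _, f₁', f₂', t₂', rfl⟩ := h₂
    refine ⟨P₁ × P₁', inferInstance, inferInstance, inferInstance, P₂ × P₂', inferInstance,
      inferInstance, inferInstance, f₁.coprod f₁', f₂.coprod f₂',
      TensorProduct.map (LinearMap.inl R P₁ P₁') (LinearMap.inl R P₂ P₂') t₁' +
        TensorProduct.map (LinearMap.inr R P₁ P₁') (LinearMap.inr R P₂ P₂') t₂', ?_⟩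
    rw [map_add, TensorProduct.map_map, TensorProduct.map_map, LinearMap.coprod_inl,
      LinearMap.coprod_inl, LinearMap.coprod_inr, LinearMap.coprod_inr]

theorem exists_lift_tensor_rTensor (X : Type u) [AddCommGroup X] [Module R X]
    (ξ : (M ⊗[R] N) ⊗[R] X) :
    ∃ (P₁ : Type u) (_ : AddCommGroup P₁) (_ : Module R P₁) (_ : Module.FinitePresentation R P₁)
      (P₂ : Type u) (_ : AddCommGroup P₂) (_ : Module R P₂) (_ : Module.FinitePresentation R P₂)
      (f₁ : P₁ →ₗ[R] M) (f₂ : P₂ →ₗ[R] N) (ξ' : (P₁ ⊗[R] P₂) ⊗[R] X),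
      (TensorProduct.map f₁ f₂).rTensor X ξ' = ξ := by
  induction ξ using TensorProduct.induction_on with
  | zero =>
    exact ⟨R, inferInstance, inferInstance, inferInstance, R, inferInstance, inferInstance,
      inferInstance, 0, 0, 0, map_zero _⟩
  | tmul t x =>
    obtain ⟨P₁, _, _, _, P₂, _, _, _, f₁, f₂, t', rfl⟩ := exists_lift_tensor t
    exact ⟨P₁, inferInstance, inferInstance, inferInstance, P₂, inferInstance, inferInstance,
      inferInstance, f₁, f₂, t' ⊗ₜ[R] x, LinearMap.rTensor_tmul _ _ _ _⟩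
  | add ξ₁ ξ₂ h₁ h₂ =>
    obtain ⟨P₁, _, _, _, P₂, _, _, _, f₁, f₂, ξ₁', rfl⟩ := h₁
    obtain ⟨P₁', _, _, _, P₂', _, _, _, f₁', f₂', ξ₂', rfl⟩ := h₂
    refine ⟨P₁ × P₁', inferInstance, inferInstance, inferInstance, P₂ × P₂', inferInstance,
      inferInstance, inferInstance, f₁.coprod f₁', f₂.coprod f₂',
      (TensorProduct.map (LinearMap.inl R P₁ P₁') (LinearMap.inl R P₂ P₂')).rTensor X ξ₁' +
        (TensorProduct.map (LinearMap.inr R P₁ P₁') (LinearMap.inr R P₂ P₂')).rTensor X ξ₂', ?_⟩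
    rw [map_add, ← LinearMap.comp_apply, ← LinearMap.comp_apply, ← LinearMap.rTensor_comp,
      ← LinearMap.rTensor_comp, ← TensorProduct.map_comp, ← TensorProduct.map_comp,
      LinearMap.coprod_inl, LinearMap.coprod_inl, LinearMap.coprod_inr, LinearMap.coprod_inr]

end lifting

theorem ml_tensor (R : Type u) [CommRing R] (M N : Type u) [AddCommGroup M] [Module R M]
    [AddCommGroup N] [Module R N] (hM : CAlg.IsMittagLeffler R M)
    (hN : CAlg.IsMittagLeffler R N) : CAlg.IsMittagLeffler R (M ⊗[R] N) := by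
  intro ι Q _ _
  rw [injective_iff_map_eq_zero]
  intro ξ hξ
  obtain ⟨P₁, _, _, _, P₂, _, _, _, f₁, f₂, ξ', rfl⟩ := exists_lift_tensor_rTensor (∀ i, Q i) ξ
  obtain ⟨Q₁, _, _, _, g₁, hg₁⟩ := exists_dominating R M hM P₁ f₁
  obtain ⟨Q₂, _, _, _, g₂, hg₂⟩ := exists_dominating R N hN P₂ f₂
  have : Module.FinitePresentation R (Q₁ ⊗[R] Q₂) := fp_tensor R Q₁ Q₂
  refine rTensor_eq_zero_of_dominated (TensorProduct.map f₁ f₂) (TensorProduct.map g₁ g₂)
    (Groth.Agent.Lib.helper13.ml_of_finitePresentation R (Q₁ ⊗[R] Q₂)) ?_ Q ξ' hξ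
  intro T _ _
  rw [ker_rTensor_map_congr_left f₁ g₁ f₂ hg₁ T, ker_rTensor_map_congr_right g₁ f₂ g₂ hg₂ T]

end Groth.Agent.Lib.helper6.MLDom
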