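import Mathlib
import Groth.Agent.Lib.Helper6.MLDomB
import Groth.Agent.S6359

/-!
# Mittag-Leffler modules as direct limits of finitely presented modules (helper6)
-/

set_option autoImplicit false
universe u

namespace Groth.Agent.Lib.helper6.MLDom

open TensorProduct

theorem fp_coker {R : Type u} [CommRing R] {M N : Type u} [AddCommGroup M] [Module R M]
    [AddCommGroup N] [Module R N] [Module.Finite R M] [Module.FinitePresentation R N]
    (f : M →ₗ[R] N) : Module.FinitePresentation R (N ⧸ LinearMap.range f) :=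
  Module.finitePresentation_of_surjective (LinearMap.range f).mkQ (Submodule.mkQ_surjective _)
    (by rw [Submodule.ker_mkQ, LinearMap.range_eq_map]; exact Module.Finite.fg_top.map f)

section DL

variable {R : Type u} [CommRing R] {ι : Type u} [Preorder ι] [IsDirected ι (· ≤ ·)] [Nonempty ι]
  [DecidableEq ι] (G : ι → Type u) [∀ i, AddCommGroup (G i)] [∀ i, Module R (G i)]
  (f : ∀ i j, i ≤ j → G i →ₗ[R] G j) [DirectedSystem G fun i j h => f i j h]

theorem exists_rTensor_eq_zero (N : Type u) [AddCommGroup N] [Module R N] (i : ι)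
    (y : G i ⊗[R] N) (h : (Module.DirectLimit.of R ι G f i).rTensor N y = 0) :
    ∃ (k : ι) (hik : i ≤ k), (f i k hik).rTensor N y = 0 := by
  have h1 := TensorProduct.directLimitLeft_rTensor_of f N y
  rw [h, map_zero] at h1
  exact Module.DirectLimit.of.zero_exact h1.symm

theorem exists_rTensor_of_eq (N : Type u) [AddCommGroup N] [Module R N]
    (ξ : Module.DirectLimit G f ⊗[R] N) :
    ∃ (i : ι) (ξ' : G i ⊗[R] N), (Module.DirectLimit.of R ι G f i).rTensor N ξ' = ξ := by
  obtain ⟨i, ξ', h⟩ := Module.DirectLimit.exists_of (TensorProduct.directLimitLeft f N ξ)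
  refine ⟨i, ξ', ?_⟩
  apply (TensorProduct.directLimitLeft f N).injective
  rw [TensorProduct.directLimitLeft_rTensor_of f N ξ']
  exact h

theorem of_comp_f (i j : ι) (hij : i ≤ j) :
    Module.DirectLimit.of R ι G f j ∘ₗ f i j hij = Module.DirectLimit.of R ι G f i := by
  apply LinearMap.ext
  intro x
  exact Module.DirectLimit.of_f

theorem exists_ker_of_rTensor_le [∀ i, Module.FinitePresentation R (G i)]
    (hML : CAlg.IsMittagLeffler R (Module.DirectLimit G f)) (i : ι) :
    ∃ (j : ι) (hij : i ≤ j), ∀ (N : Type u) [AddCommGroup N] [Module R N],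
      LinearMap.ker ((Module.DirectLimit.of R ι G f i).rTensor N) ≤
        LinearMap.ker ((f i j hij).rTensor N) := by
  classical
  by_contra H
  have H' : ∀ j : {j : ι // i ≤ j}, ∃ (N : Type u) (_ : AddCommGroup N) (_ : Module R N)
      (x : G i ⊗[R] N), (Module.DirectLimit.of R ι G f i).rTensor N x = 0 ∧
        (f i j.1 j.2).rTensor N x ≠ 0 := by
    intro j
    by_contra Hj
    apply H
    refine ⟨j.1, j.2, ?_⟩
    intro N _ _ x hx
    by_contra hx'
    exact Hj ⟨N, inferInstance, inferInstance, x, LinearMap.mem_ker.mp hx, hx'⟩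
  choose N iN1 iN2 x hx1 hx2 using H'
  let _ : ∀ j, AddCommGroup (N j) := iN1
  let _ : ∀ j, Module R (N j) := iN2
  obtain ⟨X, hX⟩ :=
    (Groth.Agent.Lib.helper13.piRightHom_bijective_of_finitePresentation R (G i) N).2 x
  have hfX : (Module.DirectLimit.of R ι G f i).rTensor (∀ j, N j) X = 0 := by
    apply hML {j : ι // i ≤ j} N
    rw [Groth.Agent.Lib.helper28.piRightHom_rTensor (Module.DirectLimit.of R ι G f i) N X,
      map_zero]
    funext j
    rw [hX]
    exact hx1 j
  obtain ⟨k, hik, hk⟩ := exists_rTensor_eq_zero G f (∀ j, N j) i X hfX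
  have h3 := Groth.Agent.Lib.helper28.piRightHom_rTensor (f i k hik) N X
  rw [hk, map_zero, hX] at h3
  exact hx2 ⟨k, hik⟩ (congrFun h3 ⟨k, hik⟩).symm

theorem ml_directLimit_imp [∀ i, Module.FinitePresentation R (G i)]
    (hML : CAlg.IsMittagLeffler R (Module.DirectLimit G f)) (i : ι) :
    ∃ (j : ι) (hij : i ≤ j), ∀ (k : ι) (hik : i ≤ k),
      ∃ h : G k →ₗ[R] G j, f i j hij = h ∘ₗ f i k hik := by
  obtain ⟨j, hij, hj⟩ := exists_ker_of_rTensor_le G f hML i
  refine ⟨j, hij, fun k hik => ?_⟩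
  have := fp_coker (f i k hik)
  apply (Groth.Agent.S6359.result R (f i k hik) (f i j hij)).mp
  intro Q _ _ x hx
  apply hj Q
  rw [LinearMap.mem_ker] at hx ⊢
  rw [← of_comp_f G f i k hik, LinearMap.rTensor_comp, LinearMap.comp_apply, hx, map_zero]

theorem ker_eq_of_factors (i j : ι) (hij : i ≤ j)
    (hj : ∀ (k : ι) (hik : i ≤ k), ∃ h : G k →ₗ[R] G j, f i j hij = h ∘ₗ f i k hik)
    (N : Type u) [AddCommGroup N] [Module R N] :
    LinearMap.ker ((Module.DirectLimit.of R ι G f i).rTensor N) =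
      LinearMap.ker ((f i j hij).rTensor N) := by
  apply le_antisymm
  · intro x hx
    obtain ⟨k, hik, hk⟩ := exists_rTensor_eq_zero G f N i x (LinearMap.mem_ker.mp hx)
    obtain ⟨h, hh⟩ := hj k hik
    rw [LinearMap.mem_ker, hh, LinearMap.rTensor_comp, LinearMap.comp_apply, hk, map_zero]
  · exact ker_le_of_comp (of_comp_f G f i j hij).symm N

theorem ml_directLimit_of [∀ i, Module.FinitePresentation R (G i)]
    (H : ∀ i, ∃ (j : ι) (hij : i ≤ j), ∀ (k : ι) (hik : i ≤ k),
      ∃ h : G k →ₗ[R] G j, f i j hij = h ∘ₗ f i k hik) :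
    CAlg.IsMittagLeffler R (Module.DirectLimit G f) := by
  intro ι' Q _ _
  rw [injective_iff_map_eq_zero]
  intro ξ hξ
  obtain ⟨i, ξ', rfl⟩ := exists_rTensor_of_eq G f (∀ a, Q a) ξ
  obtain ⟨j, hij, hj⟩ := H i
  exact rTensor_eq_zero_of_dominated (Module.DirectLimit.of R ι G f i) (f i j hij)
    (Groth.Agent.Lib.helper13.ml_of_finitePresentation R (G j))
    (fun N _ _ => ker_eq_of_factors G f i j hij hj N) Q ξ' hξ

end DL

end Groth.Agent.Lib.helper6.MLDom
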