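import Mathlib
import Groth.Agent.Lib.Helper6.MLDomE
import Groth.Agent.Lib.Helper6.MLDomC
import Groth.Agent.Lib.Helper6.FPLim

/-!
# Faithfully flat descent of the Mittag-Leffler property (helper6)
-/

set_option autoImplicit false
universe u

namespace Groth.Agent.Lib.helper6.MLDom

open TensorProduct

section transport

variable {R : Type u} [CommRing R]

theorem piRightHom_injective_of_equiv {M M' : Type u} [AddCommGroup M] [Module R M]
    [AddCommGroup M'] [Module R M'] (e : M' ≃ₗ[R] M) {κ : Type u} (Q : κ → Type u)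
    [∀ i, AddCommGroup (Q i)] [∀ i, Module R (Q i)]
    (h : Function.Injective (TensorProduct.piRightHom R R M Q)) :
    Function.Injective (TensorProduct.piRightHom R R M' Q) := by
  rw [injective_iff_map_eq_zero] at h ⊢
  intro x hx
  have h1 := Groth.Agent.Lib.helper28.piRightHom_rTensor e.toLinearMap Q x
  rw [hx] at h1
  have h2 : e.toLinearMap.rTensor (∀ i, Q i) x = 0 := by
    apply h
    rw [h1]
    funext i
    rw [Pi.zero_apply, map_zero, Pi.zero_apply]
  exact rTensor_equiv_injective e (∀ i, Q i) (by rw [h2, map_zero])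

end transport

section baseChange

variable (R : Type u) [CommRing R] (S : Type u) [CommRing S] [Algebra R S]
  (M : Type u) [AddCommGroup M] [Module R M]

/-- The additive bijection `M ⊗[R] N ≃ (S ⊗[R] M) ⊗[S] N` for an `S`-module `N`. -/
noncomputable def θ (N : Type u) [AddCommGroup N] [Module R N] [Module S N] [IsScalarTower R S N] :
    M ⊗[R] N ≃+ (S ⊗[R] M) ⊗[S] N :=
  (TensorProduct.comm R M N).toAddEquiv.trans
    ((TensorProduct.AlgebraTensorModule.cancelBaseChange R S S N M).symm.toAddEquiv.trans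
      (TensorProduct.comm S N (S ⊗[R] M)).toAddEquiv)

theorem θ_tmul (N : Type u) [AddCommGroup N] [Module R N] [Module S N] [IsScalarTower R S N]
    (m : M) (q : N) : θ R S M N (m ⊗ₜ[R] q) = ((1 : S) ⊗ₜ[R] m) ⊗ₜ[S] q := rfl

theorem piRightHom_injective_of_ml_baseChange
    (h : CAlg.IsMittagLeffler S (S ⊗[R] M)) {κ : Type u} (Q : κ → Type u)
    [∀ i, AddCommGroup (Q i)] [∀ i, Module R (Q i)] [∀ i, Module S (Q i)]
    [∀ i, IsScalarTower R S (Q i)] :
    Function.Injective (TensorProduct.piRightHom R R M Q) := by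
  have sq : ∀ (x : M ⊗[R] (∀ i, Q i)) (α : κ),
      TensorProduct.piRightHom S S (S ⊗[R] M) Q (θ R S M (∀ i, Q i) x) α =
        θ R S M (Q α) (TensorProduct.piRightHom R R M Q x α) := by
    intro x α
    induction x using TensorProduct.induction_on with
    | zero => simp only [map_zero, Pi.zero_apply]
    | tmul m q =>
      rw [θ_tmul, TensorProduct.piRightHom_tmul, TensorProduct.piRightHom_tmul, θ_tmul]
    | add a b ha hb => simp only [map_add, Pi.add_apply, ha, hb]
  rw [injective_iff_map_eq_zero]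
  intro x hx
  have h1 : θ R S M (∀ i, Q i) x = 0 := by
    apply h κ Q
    rw [map_zero]
    funext α
    rw [sq x α, hx, Pi.zero_apply, map_zero, Pi.zero_apply]
  exact (θ R S M (∀ i, Q i)).injective (by rw [h1, map_zero])

variable [Module.FaithfullyFlat R S]

theorem lTensor_mk_one_injective (G N : Type u) [AddCommGroup G] [Module R G] [AddCommGroup N]
    [Module R N] : Function.Injective ((TensorProduct.mk R S N 1).lTensor G) := by
  have h1 : (TensorProduct.leftComm R G S N).toLinearMap ∘ₗ ((TensorProduct.mk R S N 1).lTensor G) =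
      TensorProduct.mk R S (G ⊗[R] N) 1 := by
    apply TensorProduct.ext'
    intro g n
    simp
  have h2 : Function.Injective ((TensorProduct.leftComm R G S N).toLinearMap ∘ₗ
      ((TensorProduct.mk R S N 1).lTensor G)) := by
    rw [h1]
    exact Module.FaithfullyFlat.tensorProduct_mk_injective (A := R) (B := S) (G ⊗[R] N)
  rw [LinearMap.coe_comp] at h2
  exact Function.Injective.of_comp h2

theorem ker_rTensor_le_of_baseChange {G G' G'' : Type u} [AddCommGroup G] [Module R G]
    [AddCommGroup G'] [Module R G'] [AddCommGroup G''] [Module R G''] (φ : G →ₗ[R] G')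
    (ψ : G →ₗ[R] G'') (N : Type u) [AddCommGroup N] [Module R N]
    (h : LinearMap.ker (φ.rTensor (S ⊗[R] N)) ≤ LinearMap.ker (ψ.rTensor (S ⊗[R] N))) :
    LinearMap.ker (φ.rTensor N) ≤ LinearMap.ker (ψ.rTensor N) := by
  intro x hx
  rw [LinearMap.mem_ker] at hx ⊢
  have h1 : φ.rTensor (S ⊗[R] N) ((TensorProduct.mk R S N 1).lTensor G x) = 0 := by
    rw [← LinearMap.comp_apply, LinearMap.rTensor_comp_lTensor, ← LinearMap.lTensor_comp_rTensor,
      LinearMap.comp_apply, hx, map_zero]
  have h2 : ψ.rTensor (S ⊗[R] N) ((TensorProduct.mk R S N 1).lTensor G x) = 0 :=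
    LinearMap.mem_ker.mp (h (LinearMap.mem_ker.mpr h1))
  rw [← LinearMap.comp_apply, LinearMap.rTensor_comp_lTensor, ← LinearMap.lTensor_comp_rTensor,
    LinearMap.comp_apply] at h2
  exact lTensor_mk_one_injective R S G'' N (by rw [h2, map_zero])

end baseChange

section DL

variable {R : Type u} [CommRing R] (S : Type u) [CommRing S] [Algebra R S]
  {ι : Type u} [Preorder ι] [IsDirected ι (· ≤ ·)] [Nonempty ι]
  [DecidableEq ι] (G : ι → Type u) [∀ i, AddCommGroup (G i)] [∀ i, Module R (G i)]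
  (f : ∀ i j, i ≤ j → G i →ₗ[R] G j) [DirectedSystem G fun i j h => f i j h]

theorem exists_ker_of_rTensor_le_tower [∀ i, Module.FinitePresentation R (G i)]
    (hMLS : ∀ (κ : Type u) (Q : κ → Type u) [∀ i, AddCommGroup (Q i)] [∀ i, Module R (Q i)]
      [∀ i, Module S (Q i)] [∀ i, IsScalarTower R S (Q i)],
      Function.Injective (TensorProduct.piRightHom R R (Module.DirectLimit G f) Q)) (i : ι) :
    ∃ (j : ι) (hij : i ≤ j), ∀ (N : Type u) [AddCommGroup N] [Module R N] [Module S N]
      [IsScalarTower R S N],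
      LinearMap.ker ((Module.DirectLimit.of R ι G f i).rTensor N) ≤
        LinearMap.ker ((f i j hij).rTensor N) := by
  classical
  by_contra H
  have H' : ∀ j : {j : ι // i ≤ j}, ∃ (N : Type u) (_ : AddCommGroup N) (_ : Module R N)
      (_ : Module S N) (_ : IsScalarTower R S N)
      (x : G i ⊗[R] N), (Module.DirectLimit.of R ι G f i).rTensor N x = 0 ∧
        (f i j.1 j.2).rTensor N x ≠ 0 := by
    intro j
    by_contra Hj
    apply H
    refine ⟨j.1, j.2, ?_⟩
    intro N _ _ _ _ x hx
    by_contra hx'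
    exact Hj ⟨N, inferInstance, inferInstance, inferInstance, inferInstance, x,
      LinearMap.mem_ker.mp hx, hx'⟩
  choose N iN1 iN2 iN3 iN4 x hx1 hx2 using H'
  let _ : ∀ j, AddCommGroup (N j) := iN1
  let _ : ∀ j, Module R (N j) := iN2
  let _ : ∀ j, Module S (N j) := iN3
  have _ : ∀ j, IsScalarTower R S (N j) := iN4
  obtain ⟨X, hX⟩ :=
    (Groth.Agent.Lib.helper13.piRightHom_bijective_of_finitePresentation R (G i) N).2 x
  have hfX : (Module.DirectLimit.of R ι G f i).rTensor (∀ j, N j) X = 0 := by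
    apply hMLS {j : ι // i ≤ j} N
    rw [Groth.Agent.Lib.helper28.piRightHom_rTensor (Module.DirectLimit.of R ι G f i) N X,
      map_zero]
    funext j
    rw [hX]
    exact hx1 j
  obtain ⟨k, hik, hk⟩ := exists_rTensor_eq_zero G f (∀ j, N j) i X hfX
  have h3 := Groth.Agent.Lib.helper28.piRightHom_rTensor (f i k hik) N X
  rw [hk, map_zero, hX] at h3
  exact hx2 ⟨k, hik⟩ (congrFun h3 ⟨k, hik⟩).symm

end DL

theorem ml_descent (R : Type u) [CommRing R] (S : Type u) [CommRing S] [Algebra R S]
    [Module.FaithfullyFlat R S] (M : Type u) [AddCommGroup M] [Module R M]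
    (h : CAlg.IsMittagLeffler S (TensorProduct R S M)) : CAlg.IsMittagLeffler R M := by
  classical
  let e₀ : R ≃ₗ[R] R := LinearEquiv.refl R R
  let e := Groth.Agent.Lib.helper6.FPLim.equiv M e₀
  have h2 : ∀ (κ : Type u) (Q : κ → Type u) [∀ i, AddCommGroup (Q i)] [∀ i, Module R (Q i)]
      [∀ i, Module S (Q i)] [∀ i, IsScalarTower R S (Q i)],
      Function.Injective (TensorProduct.piRightHom R R
        (Module.DirectLimit (Groth.Agent.Lib.helper6.FPLim.G M e₀) (Groth.Agent.Lib.helper6.FPLim.tr M e₀)) Q) := by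
    intro κ Q _ _ _ _
    exact piRightHom_injective_of_equiv e Q (piRightHom_injective_of_ml_baseChange R S M h Q)
  have h4 : ∀ i : Groth.Agent.Lib.helper6.FPLim.Idx M e₀, ∃ (j : Groth.Agent.Lib.helper6.FPLim.Idx M e₀) (hij : i ≤ j),
      ∀ (N : Type u) [AddCommGroup N] [Module R N],
        LinearMap.ker ((Module.DirectLimit.of R _ (Groth.Agent.Lib.helper6.FPLim.G M e₀) (Groth.Agent.Lib.helper6.FPLim.tr M e₀) i).rTensor N) =
          LinearMap.ker ((Groth.Agent.Lib.helper6.FPLim.tr M e₀ i j hij).rTensor N) := by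
    intro i
    obtain ⟨j, hij, hj⟩ := exists_ker_of_rTensor_le_tower S (Groth.Agent.Lib.helper6.FPLim.G M e₀) (Groth.Agent.Lib.helper6.FPLim.tr M e₀) h2 i
    refine ⟨j, hij, ?_⟩
    intro N _ _
    apply le_antisymm
    · exact ker_rTensor_le_of_baseChange R S _ _ N (hj (S ⊗[R] N))
    · exact ker_le_of_comp (of_comp_f (Groth.Agent.Lib.helper6.FPLim.G M e₀) (Groth.Agent.Lib.helper6.FPLim.tr M e₀) i j hij).symm N
  have h5 : CAlg.IsMittagLeffler R (Module.DirectLimit (Groth.Agent.Lib.helper6.FPLim.G M e₀) (Groth.Agent.Lib.helper6.FPLim.tr M e₀)) := by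
    intro κ Q _ _
    rw [injective_iff_map_eq_zero]
    intro ξ hξ
    obtain ⟨i, ξ', rfl⟩ := exists_rTensor_of_eq (Groth.Agent.Lib.helper6.FPLim.G M e₀) (Groth.Agent.Lib.helper6.FPLim.tr M e₀) (∀ a, Q a) ξ
    obtain ⟨j, hij, hj⟩ := h4 i
    exact rTensor_eq_zero_of_dominated _ (Groth.Agent.Lib.helper6.FPLim.tr M e₀ i j hij)
      (Groth.Agent.Lib.helper13.ml_of_finitePresentation R (Groth.Agent.Lib.helper6.FPLim.G M e₀ j)) hj Q ξ' hξ
  intro κ Q _ _
  exact piRightHom_injective_of_equiv e.symm Q (h5 κ Q)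

end Groth.Agent.Lib.helper6.MLDom
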