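import Mathlib
import Groth.Agent.Lib.Helper6.MLDomE

/-!
# Countably generated Mittag-Leffler modules (helper6)

`exists_fp_factor`: for a countably generated Mittag-Leffler module `M` and `f : P → M` with `P`
finite there is an endomorphism of `M` factoring through a finitely presented module and fixing
the image of `f`.
-/

set_option autoImplicit false
universe u

namespace Groth.Agent.Lib.helper6.MLDom

open TensorProduct

theorem exists_fac_dominating (R : Type u) [CommRing R] (M : Type u) [AddCommGroup M] [Module R M]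
    (hML : CAlg.IsMittagLeffler R M) (P : Type u) [AddCommGroup P] [Module R P]
    [Module.FinitePresentation R P] (f : P →ₗ[R] M) :
    ∃ i : Fac f, ∀ (N : Type u) [AddCommGroup N] [Module R N] (x : P ⊗[R] N),
      f.rTensor N x = 0 → i.g.rTensor N x = 0 := by
  classical
  by_contra H
  have H' : ∀ i : Fac f, ∃ (N : Type u) (_ : AddCommGroup N) (_ : Module R N)
      (x : P ⊗[R] N), f.rTensor N x = 0 ∧ i.g.rTensor N x ≠ 0 := by
    intro i
    by_contra Hi
    apply H
    refine ⟨i, ?_⟩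
    intro N _ _ x hx
    by_contra hx'
    exact Hi ⟨N, inferInstance, inferInstance, x, hx, hx'⟩
  choose N iN1 iN2 x hx1 hx2 using H'
  let _ : ∀ i, AddCommGroup (N i) := iN1
  let _ : ∀ i, Module R (N i) := iN2
  obtain ⟨X, hX⟩ :=
    (Groth.Agent.Lib.helper13.piRightHom_bijective_of_finitePresentation R P N).2 x
  have hfX : f.rTensor (∀ i, N i) X = 0 := by
    apply hML (Fac f) N
    rw [Groth.Agent.Lib.helper28.piRightHom_rTensor f N X, map_zero]
    funext i
    rw [hX]
    exact hx1 i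
  obtain ⟨P', _, _, _, f', h', hfac, hf'X⟩ := exists_factor_fp R f X hfX
  obtain ⟨n, K, e, hK⟩ := Module.FinitePresentation.exists_fin R P'
  let j : Fac f := ⟨n, K, hK, e.toLinearMap ∘ₗ f', h' ∘ₗ e.symm.toLinearMap, by
    rw [hfac]
    apply LinearMap.ext
    intro z
    simp⟩
  have hjX : j.g.rTensor (∀ i, N i) X = 0 := by
    show (e.toLinearMap ∘ₗ f').rTensor (∀ i, N i) X = 0
    rw [LinearMap.rTensor_comp, LinearMap.comp_apply, hf'X, map_zero]
  have h3 := Groth.Agent.Lib.helper28.piRightHom_rTensor j.g N X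
  rw [hjX, map_zero, hX] at h3
  exact hx2 j (congrFun h3 j).symm

/-- A finitely presented module with a map to `M`. -/
structure St (R : Type u) [CommRing R] (M : Type u) [AddCommGroup M] [Module R M] :
    Type (u + 1) where
  P : Type u
  [i1 : AddCommGroup P]
  [i2 : Module R P]
  [i3 : Module.FinitePresentation R P]
  u : P →ₗ[R] M

attribute [instance] St.i1 St.i2 St.i3

theorem exists_step (R : Type u) [CommRing R] (M : Type u) [AddCommGroup M] [Module R M]
    (hML : CAlg.IsMittagLeffler R M) (s : St R M) (x : M) :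
    ∃ (s' : St R M) (t : s.P →ₗ[R] s'.P), s'.u ∘ₗ t = s.u ∧ x ∈ LinearMap.range s'.u ∧
      (∀ z, s.u z = 0 → t z = 0) ∧
      ∀ (N : Type u) [AddCommGroup N] [Module R N],
        LinearMap.ker (s.u.rTensor N) ≤ LinearMap.ker (t.rTensor N) := by
  obtain ⟨i, hi⟩ := exists_fac_dominating R M hML s.P s.u
  let Q := (Fin i.n → R) ⧸ i.K
  let s' : St R M := ⟨Q × R, i.h.coprod (LinearMap.toSpanSingleton R M x)⟩
  let t : s.P →ₗ[R] Q × R := LinearMap.inl R Q R ∘ₗ i.g
  have hdom : ∀ (N : Type u) [AddCommGroup N] [Module R N],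
      LinearMap.ker (s.u.rTensor N) ≤ LinearMap.ker (t.rTensor N) := by
    intro N _ _ y hy
    rw [LinearMap.mem_ker] at hy ⊢
    show (LinearMap.inl R Q R ∘ₗ i.g).rTensor N y = 0
    rw [LinearMap.rTensor_comp, LinearMap.comp_apply, hi N y hy, map_zero]
  refine ⟨s', t, ?_, ?_, ?_, hdom⟩
  · show (i.h.coprod (LinearMap.toSpanSingleton R M x)) ∘ₗ (LinearMap.inl R Q R ∘ₗ i.g) = s.u
    rw [← LinearMap.comp_assoc, LinearMap.coprod_inl, ← i.comm]
  · refine ⟨((0 : Q), (1 : R)), ?_⟩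
    show (i.h.coprod (LinearMap.toSpanSingleton R M x)) (0, 1) = x
    rw [LinearMap.coprod_apply, map_zero, zero_add, LinearMap.toSpanSingleton_apply, one_smul]
  · intro z hz
    have h1 : (z ⊗ₜ[R] (1 : R)) ∈ LinearMap.ker (s.u.rTensor R) := by
      rw [LinearMap.mem_ker, LinearMap.rTensor_tmul, hz, TensorProduct.zero_tmul]
    have h2 := hdom R h1
    rw [LinearMap.mem_ker, LinearMap.rTensor_tmul] at h2
    have h3 := congrArg (TensorProduct.rid R _) h2
    rw [TensorProduct.rid_tmul, one_smul, map_zero] at h3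
    exact h3

theorem exists_fp_factor (R : Type u) [CommRing R] (M : Type u) [AddCommGroup M] [Module R M]
    (hML : CAlg.IsMittagLeffler R M) (hc : CAlg.IsCountablyGenerated R M)
    {P : Type u} [AddCommGroup P] [Module R P] [Module.Finite R P] (f : P →ₗ[R] M) :
    ∃ (Q : Type u) (_ : AddCommGroup Q) (_ : Module R Q) (_ : Module.FinitePresentation R Q)
      (b : M →ₗ[R] Q) (c : Q →ₗ[R] M), (c ∘ₗ b) ∘ₗ f = f := by
  classical
  obtain ⟨S, hS1, hS2⟩ := hc
  obtain ⟨x, hx⟩ := (hS1.union (Set.countable_singleton (0 : M))).exists_eq_range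
    ⟨0, Or.inr rfl⟩
  have hxspan : Submodule.span R (Set.range x) = ⊤ := by
    rw [← hx, eq_top_iff, ← hS2]
    exact Submodule.span_mono Set.subset_union_left
  obtain ⟨n, π, hπ⟩ := Module.Finite.exists_fin' R P
  choose step tr h1 h2 h3 h4 using (fun (s : St R M) (x : M) => exists_step R M hML s x)
  let s₀ : St R M := ⟨Fin n → R, f ∘ₗ π⟩
  let sq : ℕ → St R M := fun k =>
    Nat.rec (motive := fun _ => St R M) s₀ (fun k prev => step prev (x k)) k
  let t : ∀ k, (sq k).P →ₗ[R] (sq (k + 1)).P := fun k => tr (sq k) (x k)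
  have ht : ∀ k, (sq (k + 1)).u ∘ₗ t k = (sq k).u := fun k => h1 (sq k) (x k)
  have hx' : ∀ k, x k ∈ LinearMap.range (sq (k + 1)).u := fun k => h2 (sq k) (x k)
  have hker : ∀ k z, (sq k).u z = 0 → t k z = 0 := fun k => h3 (sq k) (x k)
  have hdom : ∀ k (N : Type u) [AddCommGroup N] [Module R N],
      LinearMap.ker ((sq k).u.rTensor N) ≤ LinearMap.ker ((t k).rTensor N) :=
    fun k => h4 (sq k) (x k)
  have hg : ∀ k, ∃ g : (sq (k + 1 + 1)).P →ₗ[R] (sq (k + 1)).P,
      t k = g ∘ₗ (t (k + 1) ∘ₗ t k) := by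
    intro k
    have := fp_coker (t (k + 1) ∘ₗ t k)
    apply (Groth.Agent.S6359.result R (t (k + 1) ∘ₗ t k) (t k)).mp
    intro Q _ _ y hy
    apply hdom k Q
    have hc : (sq k).u = (sq (k + 1 + 1)).u ∘ₗ (t (k + 1) ∘ₗ t k) := by
      rw [← LinearMap.comp_assoc, ht (k + 1), ht k]
    exact ker_le_of_comp hc Q hy
  choose g hg using hg
  let ψ : ∀ k, (sq (k + 1)).P →ₗ[R] (sq 1).P := fun k =>
    Nat.rec (motive := fun k => (sq (k + 1)).P →ₗ[R] (sq 1).P) LinearMap.id
      (fun k prev => prev ∘ₗ g k) k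
  have hψS : ∀ k, ψ (k + 1) = ψ k ∘ₗ g k := fun k => rfl
  let b : ∀ k, (sq k).P →ₗ[R] (sq 1).P := fun k => ψ k ∘ₗ t k
  have hb : ∀ k, b (k + 1) ∘ₗ t k = b k := by
    intro k
    show (ψ (k + 1) ∘ₗ t (k + 1)) ∘ₗ t k = ψ k ∘ₗ t k
    rw [hψS, LinearMap.comp_assoc, LinearMap.comp_assoc, ← hg k]
  have hb0 : b 0 = t 0 := by
    show LinearMap.id ∘ₗ t 0 = t 0
    exact LinearMap.id_comp _
  have hbker : ∀ k z, (sq k).u z = 0 → b k z = 0 := by
    intro k z hz
    show ψ k (t k z) = 0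
    rw [hker k z hz, map_zero]
  have hbker' : ∀ k, LinearMap.ker (sq k).u ≤ LinearMap.ker (b k) :=
    fun k z hz => LinearMap.mem_ker.mpr (hbker k z (LinearMap.mem_ker.mp hz))
  let β : ∀ k, ↥(LinearMap.range (sq k).u) →ₗ[R] (sq 1).P := fun k =>
    ((LinearMap.ker (sq k).u).liftQ (b k) (hbker' k)) ∘ₗ
      ((sq k).u.quotKerEquivRange.symm.toLinearMap)
  have hβ : ∀ k (y : ↥(LinearMap.range (sq k).u)) (z : (sq k).P),
      (sq k).u z = y.1 → β k y = b k z := by
    intro k y z h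
    have hy : y = ⟨(sq k).u z, ⟨z, rfl⟩⟩ := Subtype.ext h.symm
    rw [hy]
    show ((LinearMap.ker (sq k).u).liftQ (b k) (hbker' k))
      ((sq k).u.quotKerEquivRange.symm ⟨(sq k).u z, ⟨z, rfl⟩⟩) = b k z
    rw [LinearMap.quotKerEquivRange_symm_apply_image]
    exact Submodule.liftQ_apply _ _ _
  let pm : ℕ → (M →ₗ.[R] (sq 1).P) := fun k => ⟨LinearMap.range (sq k).u, β k⟩
  have hrange : ∀ k, LinearMap.range (sq k).u ≤ LinearMap.range (sq (k + 1)).u := by
    intro k
    rw [← ht k]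
    exact LinearMap.range_comp_le_range _ _
  have hpm : ∀ k, pm k ≤ pm (k + 1) := by
    intro k
    refine ⟨hrange k, ?_⟩
    intro y y' hyy'
    have hy := y.2
    change y.1 ∈ LinearMap.range (sq k).u at hy
    obtain ⟨z, hz⟩ := hy
    have hy' := y'.2
    change y'.1 ∈ LinearMap.range (sq (k + 1)).u at hy'
    obtain ⟨z', hz'⟩ := hy'
    show β k y = β (k + 1) y'
    rw [hβ k y z hz, hβ (k + 1) y' z' hz', ← hb k, LinearMap.comp_apply]
    have h5 : (sq (k + 1)).u (t k z - z') = 0 := by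
      rw [map_sub, ← LinearMap.comp_apply, ht k, hz, hz', hyy', sub_self]
    have h6 := hbker (k + 1) _ h5
    rw [map_sub, sub_eq_zero] at h6
    exact h6
  have hmono : Monotone pm := monotone_nat_of_le_succ hpm
  have hdir : DirectedOn (· ≤ ·) (Set.range pm) := directedOn_range.mpr hmono.directed_le
  let bigb := LinearPMap.sSup (Set.range pm) hdir
  have hmonoRange : Monotone (fun k => LinearMap.range (sq k).u) :=
    monotone_nat_of_le_succ hrange
  have hall : ∀ m : M, ∃ k, m ∈ LinearMap.range (sq k).u := by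
    have hsup : (⨆ k, LinearMap.range (sq k).u) = ⊤ := by
      rw [eq_top_iff, ← hxspan, Submodule.span_le]
      rintro _ ⟨k, rfl⟩
      exact (le_iSup (fun k => LinearMap.range (sq k).u) (k + 1)) (hx' k)
    intro m
    have hm : m ∈ ⨆ k, LinearMap.range (sq k).u := by rw [hsup]; trivial
    exact (Submodule.mem_iSup_of_directed _ hmonoRange.directed_le).mp hm
  have hdomtop : ∀ m : M, m ∈ bigb.domain := by
    intro m
    obtain ⟨k, hk⟩ := hall m
    exact (LinearPMap.le_sSup hdir ⟨k, rfl⟩).1 hk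
  let bb : M →ₗ[R] (sq 1).P :=
    bigb.toFun ∘ₗ (LinearMap.codRestrict bigb.domain LinearMap.id hdomtop)
  have hbb : ∀ z : (sq 0).P, bb ((sq 0).u z) = t 0 z := by
    intro z
    have h7 := LinearPMap.sSup_apply hdir (⟨0, rfl⟩ : pm 0 ∈ Set.range pm)
      ⟨(sq 0).u z, ⟨z, rfl⟩⟩
    have h8 : pm 0 ⟨(sq 0).u z, ⟨z, rfl⟩⟩ = b 0 z := hβ 0 _ z rfl
    rw [← hb0, ← h8, ← h7]
    rfl
  refine ⟨(sq 1).P, inferInstance, inferInstance, inferInstance, bb, (sq 1).u, ?_⟩
  apply LinearMap.ext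
  intro p
  obtain ⟨v, rfl⟩ := hπ p
  show (sq 1).u (bb (f (π v))) = f (π v)
  have h9 : f (π v) = (sq 0).u v := rfl
  rw [h9, hbb v, ← LinearMap.comp_apply]
  exact congrArg (fun φ => φ v) (ht 0)

end Groth.Agent.Lib.helper6.MLDom
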