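import Mathlib
import Groth.Agent.Lib.Helper6.MLDomF

/-!
# Flat Mittag-Leffler modules and projectivity (helper6)

* `projective_of_flat_ml_countable`: a countably generated flat Mittag-Leffler module is
  projective.
* `ml_of_projective`: projective modules are Mittag-Leffler.
-/

set_option autoImplicit false
universe u

namespace Groth.Agent.Lib.helper6.MLDom

open TensorProduct

/-- Gluing compatible maps along an exhausting sequence. -/
theorem exists_glue {R : Type u} [CommRing R] {M T : Type u} [AddCommGroup M] [Module R M]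
    [AddCommGroup T] [Module R T] (F : ℕ → Type u) [∀ k, AddCommGroup (F k)]
    [∀ k, Module R (F k)] (u : ∀ k, F k →ₗ[R] M) (t : ∀ k, F k →ₗ[R] F (k + 1))
    (ht : ∀ k, u (k + 1) ∘ₗ t k = u k) (hall : ∀ m : M, ∃ k, m ∈ LinearMap.range (u k))
    (b : ∀ k, F k →ₗ[R] T) (hb : ∀ k, b (k + 1) ∘ₗ t k = b k)
    (hbker : ∀ k z, u k z = 0 → b k z = 0) :
    ∃ B : M →ₗ[R] T, ∀ k z, B (u k z) = b k z := by
  classical
  have hbker' : ∀ k, LinearMap.ker (u k) ≤ LinearMap.ker (b k) :=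
    fun k z hz => LinearMap.mem_ker.mpr (hbker k z (LinearMap.mem_ker.mp hz))
  let β : ∀ k, ↥(LinearMap.range (u k)) →ₗ[R] T := fun k =>
    ((LinearMap.ker (u k)).liftQ (b k) (hbker' k)) ∘ₗ
      ((u k).quotKerEquivRange.symm.toLinearMap)
  have hβ : ∀ k (y : ↥(LinearMap.range (u k))) (z : F k), u k z = y.1 → β k y = b k z := by
    intro k y z h
    have hy : y = ⟨u k z, ⟨z, rfl⟩⟩ := Subtype.ext h.symm
    rw [hy]
    show ((LinearMap.ker (u k)).liftQ (b k) (hbker' k))
      ((u k).quotKerEquivRange.symm ⟨u k z, ⟨z, rfl⟩⟩) = b k z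
    rw [LinearMap.quotKerEquivRange_symm_apply_image]
    exact Submodule.liftQ_apply _ _ _
  let pm : ℕ → (M →ₗ.[R] T) := fun k => ⟨LinearMap.range (u k), β k⟩
  have hrange : ∀ k, LinearMap.range (u k) ≤ LinearMap.range (u (k + 1)) := by
    intro k
    rw [← ht k]
    exact LinearMap.range_comp_le_range _ _
  have hpm : ∀ k, pm k ≤ pm (k + 1) := by
    intro k
    refine ⟨hrange k, ?_⟩
    intro y y' hyy'
    have hy := y.2
    change y.1 ∈ LinearMap.range (u k) at hy
    obtain ⟨z, hz⟩ := hy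
    have hy' := y'.2
    change y'.1 ∈ LinearMap.range (u (k + 1)) at hy'
    obtain ⟨z', hz'⟩ := hy'
    show β k y = β (k + 1) y'
    rw [hβ k y z hz, hβ (k + 1) y' z' hz', ← hb k, LinearMap.comp_apply]
    have h5 : u (k + 1) (t k z - z') = 0 := by
      rw [map_sub, ← LinearMap.comp_apply, ht k, hz, hz', hyy', sub_self]
    have h6 := hbker (k + 1) _ h5
    rw [map_sub, sub_eq_zero] at h6
    exact h6
  have hmono : Monotone pm := monotone_nat_of_le_succ hpm
  have hdir : DirectedOn (· ≤ ·) (Set.range pm) := directedOn_range.mpr hmono.directed_le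
  let bigb := LinearPMap.sSup (Set.range pm) hdir
  have hdomtop : ∀ m : M, m ∈ bigb.domain := by
    intro m
    obtain ⟨k, hk⟩ := hall m
    exact (LinearPMap.le_sSup hdir ⟨k, rfl⟩).1 hk
  refine ⟨bigb.toFun ∘ₗ (LinearMap.codRestrict bigb.domain LinearMap.id hdomtop), ?_⟩
  intro k z
  have h7 := LinearPMap.sSup_apply hdir (⟨k, rfl⟩ : pm k ∈ Set.range pm) ⟨u k z, ⟨z, rfl⟩⟩
  have h8 : pm k ⟨u k z, ⟨z, rfl⟩⟩ = b k z := hβ k _ z rfl
  rw [← h8, ← h7]
  rfl

theorem exists_step_free (R : Type u) [CommRing R] (M : Type u) [AddCommGroup M] [Module R M]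
    [Module.Flat R M] (hML : CAlg.IsMittagLeffler R M) (n : ℕ) (u : (Fin n → R) →ₗ[R] M) (x : M) :
    ∃ (n' : ℕ) (u' : (Fin n' → R) →ₗ[R] M) (t : (Fin n → R) →ₗ[R] (Fin n' → R)),
      u' ∘ₗ t = u ∧ x ∈ LinearMap.range u' ∧ (∀ z, u z = 0 → t z = 0) ∧
      ∀ (N : Type u) [AddCommGroup N] [Module R N],
        LinearMap.ker (u.rTensor N) ≤ LinearMap.ker (t.rTensor N) := by
  obtain ⟨s', t₁, h1, h2, h3, h4⟩ := exists_step R M hML ⟨Fin n → R, u⟩ x
  obtain ⟨k, h₂, h₃, hfac⟩ := Module.Flat.exists_factorization_of_finitePresentation s'.u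
  let ε : (Fin k →₀ R) ≃ₗ[R] (Fin k → R) := Finsupp.linearEquivFunOnFinite R R (Fin k)
  have hε : ε.symm.toLinearMap ∘ₗ ε.toLinearMap = LinearMap.id := by
    apply LinearMap.ext
    intro z
    simp
  refine ⟨k, h₃ ∘ₗ ε.symm.toLinearMap, ε.toLinearMap ∘ₗ h₂ ∘ₗ t₁, ?_, ?_, ?_, ?_⟩
  · apply LinearMap.ext
    intro z
    show h₃ (ε.symm (ε (h₂ (t₁ z)))) = u z
    rw [LinearEquiv.symm_apply_apply, ← LinearMap.comp_apply, ← hfac]
    exact LinearMap.congr_fun h1 z
  · obtain ⟨y, hy⟩ := h2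
    refine ⟨ε (h₂ y), ?_⟩
    rw [LinearMap.comp_apply]
    show h₃ (ε.symm (ε (h₂ y))) = x
    rw [LinearEquiv.symm_apply_apply, ← LinearMap.comp_apply, ← hfac]
    exact hy
  · intro z hz
    have h5 : t₁ z = 0 := h3 z hz
    rw [LinearMap.comp_apply, LinearMap.comp_apply, h5, map_zero, map_zero]
  · intro N _ _ y hy
    have h5 := h4 N hy
    rw [LinearMap.mem_ker] at h5 ⊢
    rw [← LinearMap.comp_assoc, LinearMap.rTensor_comp, LinearMap.comp_apply, h5, map_zero]

theorem projective_of_flat_ml_countable (R : Type u) [CommRing R] (M : Type u) [AddCommGroup M]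
    [Module R M] [Module.Flat R M] (hML : CAlg.IsMittagLeffler R M)
    (hc : CAlg.IsCountablyGenerated R M) : Module.Projective R M := by
  classical
  apply Module.Projective.of_lifting_property''
  intro p hp
  obtain ⟨S, hS1, hS2⟩ := hc
  obtain ⟨x, hx⟩ := (hS1.union (Set.countable_singleton (0 : M))).exists_eq_range
    ⟨0, Or.inr rfl⟩
  have hxspan : Submodule.span R (Set.range x) = ⊤ := by
    rw [← hx, eq_top_iff, ← hS2]
    exact Submodule.span_mono Set.subset_union_left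
  choose n' u' tr h1 h2 h3 h4 using
    (fun (s : Σ n : ℕ, (Fin n → R) →ₗ[R] M) (x : M) => exists_step_free R M hML s.1 s.2 x)
  let s₀ : Σ n : ℕ, (Fin n → R) →ₗ[R] M := ⟨0, 0⟩
  let sq : ℕ → Σ n : ℕ, (Fin n → R) →ₗ[R] M := fun k =>
    Nat.rec (motive := fun _ => Σ n : ℕ, (Fin n → R) →ₗ[R] M) s₀
      (fun k prev => ⟨n' prev (x k), u' prev (x k)⟩) k
  let F : ℕ → Type u := fun k => Fin (sq k).1 → R
  let u : ∀ k, F k →ₗ[R] M := fun k => (sq k).2
  let t : ∀ k, F k →ₗ[R] F (k + 1) := fun k => tr (sq k) (x k)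
  have ht : ∀ k, u (k + 1) ∘ₗ t k = u k := fun k => h1 (sq k) (x k)
  have hx' : ∀ k, x k ∈ LinearMap.range (u (k + 1)) := fun k => h2 (sq k) (x k)
  have hker : ∀ k z, u k z = 0 → t k z = 0 := fun k => h3 (sq k) (x k)
  have hdom : ∀ k (N : Type u) [AddCommGroup N] [Module R N],
      LinearMap.ker ((u k).rTensor N) ≤ LinearMap.ker ((t k).rTensor N) :=
    fun k => h4 (sq k) (x k)
  have hg : ∀ k, ∃ g : F (k + 1 + 1) →ₗ[R] F (k + 1), t k = g ∘ₗ (t (k + 1) ∘ₗ t k) := by
    intro k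
    have := fp_coker (t (k + 1) ∘ₗ t k)
    apply (Groth.Agent.S6359.result R (t (k + 1) ∘ₗ t k) (t k)).mp
    intro Q _ _ y hy
    apply hdom k Q
    have hc : u k = u (k + 1 + 1) ∘ₗ (t (k + 1) ∘ₗ t k) := by
      rw [← LinearMap.comp_assoc, ht (k + 1), ht k]
    exact ker_le_of_comp hc Q hy
  choose g hg using hg
  have hw : ∀ k, ∃ w : F k →ₗ[R] (M →₀ R), p ∘ₗ w = u k :=
    fun k => Module.projective_lifting_property p (u k) hp
  choose w hw using hw
  let Ψ : ∀ k, F (k + 1) →ₗ[R] (M →₀ R) := fun k =>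
    Nat.rec (motive := fun k => F (k + 1) →ₗ[R] (M →₀ R)) (w 1)
      (fun k prev => w (k + 1 + 1) + (prev - w (k + 1 + 1) ∘ₗ t (k + 1)) ∘ₗ g k) k
  have hΨS : ∀ k, Ψ (k + 1) = w (k + 1 + 1) + (Ψ k - w (k + 1 + 1) ∘ₗ t (k + 1)) ∘ₗ g k :=
    fun k => rfl
  have hΨp : ∀ k, p ∘ₗ Ψ k = u (k + 1) := by
    intro k
    induction k with
    | zero => exact hw 1
    | succ k ih =>
      rw [hΨS, LinearMap.comp_add, hw, ← LinearMap.comp_assoc, LinearMap.comp_sub, ih,
        ← LinearMap.comp_assoc, hw, ht (k + 1), sub_self, LinearMap.zero_comp, add_zero]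
  let v : ∀ k, F k →ₗ[R] (M →₀ R) := fun k => Ψ k ∘ₗ t k
  have hv : ∀ k, v (k + 1) ∘ₗ t k = v k := by
    intro k
    show (Ψ (k + 1) ∘ₗ t (k + 1)) ∘ₗ t k = Ψ k ∘ₗ t k
    have e1 : (Ψ k - w (k + 1 + 1) ∘ₗ t (k + 1)) ∘ₗ g k ∘ₗ (t (k + 1) ∘ₗ t k) =
        (Ψ k - w (k + 1 + 1) ∘ₗ t (k + 1)) ∘ₗ t k := by
      rw [← hg k]
    rw [hΨS, LinearMap.comp_assoc, LinearMap.add_comp, LinearMap.comp_assoc _ (g k), e1,
      LinearMap.sub_comp, LinearMap.comp_assoc]
    abel
  have hvp : ∀ k, p ∘ₗ v k = u k := by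
    intro k
    show p ∘ₗ (Ψ k ∘ₗ t k) = u k
    rw [← LinearMap.comp_assoc, hΨp, ht]
  have hvker : ∀ k z, u k z = 0 → v k z = 0 := by
    intro k z hz
    show Ψ k (t k z) = 0
    rw [hker k z hz, map_zero]
  have hrange : ∀ k, LinearMap.range (u k) ≤ LinearMap.range (u (k + 1)) := by
    intro k
    rw [← ht k]
    exact LinearMap.range_comp_le_range _ _
  have hmonoRange : Monotone (fun k => LinearMap.range (u k)) := monotone_nat_of_le_succ hrange
  have hall : ∀ m : M, ∃ k, m ∈ LinearMap.range (u k) := by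
    have hsup : (⨆ k, LinearMap.range (u k)) = ⊤ := by
      rw [eq_top_iff, ← hxspan, Submodule.span_le]
      rintro _ ⟨k, rfl⟩
      exact (le_iSup (fun k => LinearMap.range (u k)) (k + 1)) (hx' k)
    intro m
    have hm : m ∈ ⨆ k, LinearMap.range (u k) := by rw [hsup]; trivial
    exact (Submodule.mem_iSup_of_directed _ hmonoRange.directed_le).mp hm
  obtain ⟨V, hV⟩ := exists_glue F u t ht hall v hv hvker
  refine ⟨V, ?_⟩
  apply LinearMap.ext
  intro m
  obtain ⟨k, z, rfl⟩ := hall m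
  rw [LinearMap.comp_apply, hV k z, ← LinearMap.comp_apply, hvp k]
  rfl

theorem ml_of_retract {R : Type u} [CommRing R] {N M : Type u} [AddCommGroup N] [Module R N]
    [AddCommGroup M] [Module R M] (i : N →ₗ[R] M) (r : M →ₗ[R] N) (h : r ∘ₗ i = LinearMap.id)
    (hM : CAlg.IsMittagLeffler R M) : CAlg.IsMittagLeffler R N := by
  intro κ Q _ _
  rw [injective_iff_map_eq_zero]
  intro x hx
  have h1 := Groth.Agent.Lib.helper28.piRightHom_rTensor i Q x
  rw [hx] at h1
  have h2 : i.rTensor (∀ a, Q a) x = 0 := by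
    apply hM κ Q
    rw [h1, map_zero]
    funext a
    rw [Pi.zero_apply, map_zero, Pi.zero_apply]
  have h3 : (r ∘ₗ i).rTensor (∀ a, Q a) x = 0 := by
    rw [LinearMap.rTensor_comp, LinearMap.comp_apply, h2, map_zero]
  rw [h, LinearMap.rTensor_id, LinearMap.id_apply] at h3
  exact h3

theorem ml_finsupp (R : Type u) [CommRing R] (ι : Type u) : CAlg.IsMittagLeffler R (ι →₀ R) := by
  classical
  intro κ Q _ _
  have key : ∀ (x : (ι →₀ R) ⊗[R] (∀ a, Q a)) (i : ι) (a : κ),
      (TensorProduct.finsuppScalarLeft R (∀ a, Q a) ι x) i a =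
        (TensorProduct.finsuppScalarLeft R (Q a) ι
          (TensorProduct.piRightHom R R (ι →₀ R) Q x a)) i := by
    intro x i a
    induction x using TensorProduct.induction_on with
    | zero => simp only [map_zero, Finsupp.coe_zero, Pi.zero_apply]
    | tmul p q =>
      rw [TensorProduct.finsuppScalarLeft_apply_tmul_apply, TensorProduct.piRightHom_tmul,
        TensorProduct.finsuppScalarLeft_apply_tmul_apply, Pi.smul_apply]
    | add y z hy hz => simp only [map_add, Finsupp.coe_add, Pi.add_apply, hy, hz]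
  rw [injective_iff_map_eq_zero]
  intro x hx
  apply (TensorProduct.finsuppScalarLeft R (∀ a, Q a) ι).injective
  rw [map_zero]
  apply Finsupp.ext
  intro i
  funext a
  have h0 : (TensorProduct.finsuppScalarLeft R (∀ a, Q a) ι x) i a = 0 := by
    rw [key x i a, hx, Pi.zero_apply, map_zero, Finsupp.coe_zero, Pi.zero_apply]
  exact h0.trans rfl

theorem ml_of_projective (R : Type u) [CommRing R] (M : Type u) [AddCommGroup M] [Module R M]
    [Module.Projective R M] : CAlg.IsMittagLeffler R M := by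
  obtain ⟨s, hs⟩ := Module.projective_def'.mp (inferInstance : Module.Projective R M)
  exact ml_of_retract s (Finsupp.linearCombination R id) hs (ml_finsupp R M)

end Groth.Agent.Lib.helper6.MLDom
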