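import Mathlib
import Groth.Agent.Lib.Helper6.MLDescent
import Groth.Agent.Lib.Helper6.MLProj
import Groth.Agent.Lib.Helper8.Kaplansky

/-!
# Faithfully flat descent of projectivity (helper6)

Following Raynaud–Gruson / Stacks 05A9, with Zorn's lemma in place of transfinite recursion.
-/

set_option autoImplicit false
universe u

namespace Groth.Agent.Lib.helper6.ProjDescent

open TensorProduct Groth.Agent.Lib.helper8.Kap

section adapted

variable (R S : Type u) [CommRing R] [CommRing S] [Algebra R S]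
  (M : Type u) [AddCommGroup M] [Module R M]

/-- Stacks 05A8: enlarging a countably generated submodule to an adapted one. -/
theorem exists_adapted {I : Type u} (Q : I → Submodule S (S ⊗[R] M)) (htop : iSup Q = ⊤)
    (hQc : ∀ i, ∃ t : Set (S ⊗[R] M), t.Countable ∧ Submodule.span S t = Q i)
    (N : Submodule R M) (hN : ∃ s : Set M, s.Countable ∧ Submodule.span R s = N) :
    ∃ (N' : Submodule R M) (I' : Set I), N ≤ N' ∧
      (∃ s : Set M, s.Countable ∧ Submodule.span R s = N') ∧
      Submodule.span S ((TensorProduct.mk R S M 1) '' (N' : Set M)) = ⨆ i ∈ I', Q i := by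
  classical
  have hF : ∀ w : S ⊗[R] M, ∃ F : Finset I, w ∈ ⨆ i ∈ F, Q i := by
    intro w
    have hw : w ∈ ⨆ i, Q i := by rw [htop]; trivial
    exact Submodule.mem_iSup_iff_exists_finset.mp hw
  choose F hF using hF
  have hG : ∀ w : S ⊗[R] M, ∃ G : Finset M,
      w ∈ Submodule.span S ((TensorProduct.mk R S M 1) '' (G : Set M)) := by
    intro w
    obtain ⟨T, hT⟩ := TensorProduct.exists_finset w
    refine ⟨T.image Prod.snd, ?_⟩
    rw [hT]
    apply Submodule.sum_mem
    intro p hp
    have h1 : p.1 ⊗ₜ[R] p.2 = p.1 • (TensorProduct.mk R S M 1 p.2) := by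
      rw [TensorProduct.mk_apply, TensorProduct.smul_tmul', smul_eq_mul, mul_one]
    rw [h1]
    apply Submodule.smul_mem
    apply Submodule.subset_span
    refine ⟨p.2, ?_, rfl⟩
    rw [Finset.coe_image]
    exact ⟨p, hp, rfl⟩
  choose G hG using hG
  choose T hTc hTspan using hQc
  let Jof : Set M → Set I := fun X => ⋃ x ∈ X, (F (TensorProduct.mk R S M 1 x) : Set I)
  let Xof : Set I → Set M := fun J => ⋃ i ∈ J, ⋃ t ∈ T i, (G t : Set M)
  have hJofc : ∀ X : Set M, X.Countable → (Jof X).Countable := fun X hX =>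
    hX.biUnion fun x _ => Finset.countable_toSet _
  have hXofc : ∀ J : Set I, J.Countable → (Xof J).Countable := fun J hJ =>
    hJ.biUnion fun i _ => (hTc i).biUnion fun t _ => Finset.countable_toSet _
  obtain ⟨X₀, hX₀c, hX₀span⟩ := hN
  let X : ℕ → Set M := fun n => Nat.rec X₀ (fun _ prev => prev ∪ Xof (Jof prev)) n
  have hXS : ∀ n, X (n + 1) = X n ∪ Xof (Jof (X n)) := fun n => rfl
  have hXc : ∀ n, (X n).Countable := by
    intro n
    induction n with
    | zero => exact hX₀c
    | succ n ih =>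
      rw [hXS]
      exact ih.union (hXofc _ (hJofc _ ih))
  let XX : Set M := ⋃ n, X n
  have hXXc : XX.Countable := Set.countable_iUnion hXc
  refine ⟨Submodule.span R XX, Jof XX, ?_, ⟨XX, hXXc, rfl⟩, ?_⟩
  · rw [← hX₀span]
    exact Submodule.span_mono (Set.subset_iUnion X 0)
  · have h1 : Submodule.span S ((TensorProduct.mk R S M 1) '' (Submodule.span R XX : Set M)) =
        Submodule.span S ((TensorProduct.mk R S M 1) '' XX) := by
      rw [← Submodule.map_coe, Submodule.map_span, Submodule.span_span_of_tower]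
    rw [h1]
    apply le_antisymm
    · rw [Submodule.span_le]
      rintro _ ⟨x, hx, rfl⟩
      have h2 : (⨆ i ∈ F (TensorProduct.mk R S M 1 x), Q i) ≤ ⨆ i ∈ Jof XX, Q i := by
        apply biSup_mono
        intro i hi
        exact Set.mem_biUnion hx hi
      exact h2 (hF _)
    · apply iSup₂_le
      intro i hi
      obtain ⟨x, hx, hix⟩ := Set.mem_iUnion₂.mp hi
      obtain ⟨n, hn⟩ := Set.mem_iUnion.mp hx
      rw [← hTspan i, Submodule.span_le]
      intro t ht
      have h3 : (G t : Set M) ⊆ XX := by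
        intro y hy
        apply Set.mem_iUnion.mpr
        refine ⟨n + 1, ?_⟩
        rw [hXS]
        refine Or.inr ?_
        exact Set.mem_biUnion (Set.mem_biUnion hn hix) (Set.mem_biUnion ht hy)
      exact Submodule.span_mono (Set.image_mono h3) (hG t)

theorem baseChange_eq_span_image (p : Submodule R M) :
    p.baseChange S = Submodule.span S ((TensorProduct.mk R S M 1) '' (p : Set M)) := by
  rw [Submodule.baseChange_eq_span, Submodule.map_coe]

theorem span_iSup_restrict {W : Type u} [AddCommGroup W] [Module R W] [Module S W]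
    [IsScalarTower R S W] {κ : Sort*} (q : κ → Submodule R W) :
    Submodule.span S ((⨆ k, q k : Submodule R W) : Set W) =
      ⨆ k, Submodule.span S (q k : Set W) := by
  apply le_antisymm
  · rw [Submodule.span_le]
    have h : (⨆ k, q k) ≤ (⨆ k, Submodule.span S (q k : Set W)).restrictScalars R := by
      apply iSup_le
      intro k x hx
      exact (le_iSup (fun k => Submodule.span S (q k : Set W)) k) (Submodule.subset_span hx)
    exact h
  · apply iSup_le
    intro k
    apply Submodule.span_mono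
    exact (le_iSup q k : q k ≤ ⨆ k, q k)

theorem baseChange_iSup {κ : Sort*} (p : κ → Submodule R M) :
    (⨆ k, p k).baseChange S = ⨆ k, (p k).baseChange S := by
  simp_rw [Submodule.baseChange_eq_span]
  rw [Submodule.map_iSup]
  exact span_iSup_restrict R S _

theorem baseChange_sup (p q : Submodule R M) :
    (p ⊔ q).baseChange S = p.baseChange S ⊔ q.baseChange S := by
  simp_rw [Submodule.baseChange_eq_span]
  rw [Submodule.map_sup]
  apply le_antisymm
  · rw [Submodule.span_le]
    have h : (p.map (TensorProduct.mk R S M 1) ⊔ q.map (TensorProduct.mk R S M 1)) ≤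
        (Submodule.span S (p.map (TensorProduct.mk R S M 1) : Set (S ⊗[R] M)) ⊔
          Submodule.span S (q.map (TensorProduct.mk R S M 1) : Set (S ⊗[R] M))).restrictScalars R := by
      apply sup_le
      · intro x hx
        exact Submodule.mem_sup_left (Submodule.subset_span hx)
      · intro x hx
        exact Submodule.mem_sup_right (Submodule.subset_span hx)
    exact h
  · apply sup_le
    · apply Submodule.span_mono
      exact (le_sup_left : p.map (TensorProduct.mk R S M 1) ≤ _)
    · apply Submodule.span_mono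
      exact (le_sup_right : q.map (TensorProduct.mk R S M 1) ≤ _)

theorem baseChange_sSup (𝓛 : Set (Submodule R M)) :
    (sSup 𝓛).baseChange S = ⨆ L : 𝓛, (L : Submodule R M).baseChange S := by
  rw [sSup_eq_iSup', baseChange_iSup]

end adapted

theorem projective_of_ker_eq {S : Type u} [CommRing S] {B C P : Type u} [AddCommGroup B]
    [Module S B] [AddCommGroup C] [Module S C] [AddCommGroup P] [Module S P]
    (g : B →ₗ[S] C) (ψ : B →ₗ[S] P) (hg : Function.Surjective g) (hψ : Function.Surjective ψ)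
    (hker : LinearMap.ker ψ = LinearMap.ker g) [Module.Projective S P] :
    Module.Projective S C :=
  Module.Projective.of_equiv ((g.quotKerEquivOfSurjective hg).symm ≪≫ₗ
    (Submodule.quotEquivOfEq _ _ hker.symm) ≪≫ₗ ψ.quotKerEquivOfSurjective hψ).symm

section split

variable (R S : Type u) [CommRing R] [CommRing S] [Algebra R S] [Module.FaithfullyFlat R S]
  (M : Type u) [AddCommGroup M] [Module R M] [Module.Projective S (S ⊗[R] M)]

theorem exists_split {I : Type u} (Q : I → Submodule S (S ⊗[R] M)) (hind : iSupIndep Q)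
    (htop : ⨆ i, Q i = ⊤) (M' M'' N' : Submodule R M) (hsup : M'' = M' ⊔ N') (hN' : CG N')
    (J K : Set I) (hJK : Disjoint J K) (h1 : M'.baseChange S = MI Q J)
    (h2 : M''.baseChange S = MI Q (J ∪ K)) :
    ∃ C : Submodule R M, CG C ∧ Disjoint M' C ∧ M' ⊔ C = M'' := by
  have hle : M' ≤ M'' := hsup ▸ le_sup_left
  have hle' : N' ≤ M'' := hsup ▸ le_sup_right
  let inc : ↥M' →ₗ[R] ↥M'' := Submodule.inclusion hle
  let q : ↥M'' →ₗ[R] (↥M'' ⧸ LinearMap.range inc) := (LinearMap.range inc).mkQ
  have hq : Function.Surjective q := Submodule.mkQ_surjective _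
  have hex : Function.Exact inc q := LinearMap.exact_map_mkQ_range inc
  have hqz : ∀ y : ↥M'', q y = 0 ↔ (y : M) ∈ M' := by
    intro y
    rw [hex y]
    constructor
    · rintro ⟨a, rfl⟩
      exact a.2
    · intro hy
      exact ⟨⟨y, hy⟩, rfl⟩
  -- base change
  let j : S ⊗[R] ↥M'' →ₗ[S] S ⊗[R] M := M''.subtype.baseChange S
  let f : S ⊗[R] ↥M' →ₗ[S] S ⊗[R] ↥M'' := inc.baseChange S
  let g : S ⊗[R] ↥M'' →ₗ[S] S ⊗[R] (↥M'' ⧸ LinearMap.range inc) := q.baseChange S
  have hj : Function.Injective j := by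
    have h := Module.Flat.lTensor_preserves_injective_linearMap (M := S) M''.subtype
      M''.injective_subtype
    rwa [← LinearMap.baseChange_eq_ltensor (A := S)] at h
  have hg : Function.Surjective g := by
    have h := LinearMap.lTensor_surjective S hq
    rwa [← LinearMap.baseChange_eq_ltensor (A := S)] at h
  have hfg : Function.Exact f g := by
    have h := lTensor_exact S hex hq
    rwa [← LinearMap.baseChange_eq_ltensor (A := S), ← LinearMap.baseChange_eq_ltensor (A := S)]
      at h
  have hjf : j ∘ₗ f = M'.subtype.baseChange S := by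
    rw [← LinearMap.baseChange_comp, Submodule.subtype_comp_inclusion]
  have hrjf : LinearMap.range (j ∘ₗ f) = MI Q J := by
    rw [hjf]
    exact h1
  have hrj : LinearMap.range j = MI Q (J ∪ K) := h2
  -- projection onto `MI Q K`
  have hK : IsCompl (MI Q K) (MI Q Kᶜ) := isCompl_MI Q hind htop K
  let pr : S ⊗[R] M →ₗ[S] ↥(MI Q K) := Submodule.projectionOnto (MI Q K) (MI Q Kᶜ) hK
  let ψ : S ⊗[R] ↥M'' →ₗ[S] ↥(MI Q K) := pr ∘ₗ j
  have hψsurj : Function.Surjective ψ := by
    intro z
    have hz : (z : S ⊗[R] M) ∈ LinearMap.range j := by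
      rw [hrj]
      exact MI_mono Q Set.subset_union_right z.2
    obtain ⟨y, hy⟩ := hz
    refine ⟨y, ?_⟩
    show pr (j y) = z
    rw [hy]
    exact Submodule.projectionOnto_apply_left hK z
  have hJK' : MI Q J ≤ MI Q Kᶜ :=
    MI_mono Q (fun i hi hiK => Set.disjoint_left.mp hJK hi hiK)
  have hker : LinearMap.ker ψ = LinearMap.ker g := by
    ext y
    rw [LinearMap.mem_ker, LinearMap.mem_ker]
    have e1 : ψ y = 0 ↔ j y ∈ MI Q Kᶜ := Submodule.projectionOnto_apply_eq_zero_iff hK
    have e2 : g y = 0 ↔ j y ∈ MI Q J := by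
      rw [hfg y]
      constructor
      · rintro ⟨a, rfl⟩
        rw [← hrjf]
        exact ⟨a, rfl⟩
      · intro hy
        rw [← hrjf] at hy
        obtain ⟨a, ha⟩ := hy
        exact ⟨a, hj ha⟩
    rw [e1, e2]
    constructor
    · intro hy
      have hy2 : j y ∈ MI Q J ⊔ MI Q K := by
        rw [← MI_union, ← hrj]
        exact ⟨y, rfl⟩
      obtain ⟨a, ha, b, hb, hab⟩ := Submodule.mem_sup.mp hy2
      have hb2 : b ∈ MI Q Kᶜ := by
        have : b = j y - a := by rw [← hab]; abel
        rw [this]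
        exact sub_mem hy (hJK' ha)
      have hb0 : b = 0 := by
        have hd := hK.disjoint
        rw [Submodule.disjoint_def] at hd
        exact hd b hb hb2
      rw [← hab, hb0, add_zero]
      exact ha
    · intro hy
      exact hJK' hy
  have hprojK : Module.Projective S ↥(MI Q K) :=
    Module.Projective.of_split (MI Q K).subtype pr (Submodule.projectionOnto_comp_subtype hK)
  have hprojT : Module.Projective S (S ⊗[R] (↥M'' ⧸ LinearMap.range inc)) :=
    projective_of_ker_eq (P := ↥(MI Q K)) g ψ hg hψsurj hker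
  have hflatT : Module.Flat R (↥M'' ⧸ LinearMap.range inc) :=
    Module.Flat.of_flat_tensorProduct R _ S
  have hmlT : CAlg.IsMittagLeffler R (↥M'' ⧸ LinearMap.range inc) :=
    Groth.Agent.Lib.helper6.MLDom.ml_descent R S _
      (Groth.Agent.Lib.helper6.MLDom.ml_of_projective S _)
  -- `T` is countably generated
  let φ : ↥N' →ₗ[R] (↥M'' ⧸ LinearMap.range inc) := q ∘ₗ Submodule.inclusion hle'
  have hφ : Function.Surjective φ := by
    intro t
    obtain ⟨y, rfl⟩ := hq t
    have hy : (y : M) ∈ M' ⊔ N' := hsup ▸ y.2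
    obtain ⟨a, ha, b, hb, hab⟩ := Submodule.mem_sup.mp hy
    refine ⟨⟨b, hb⟩, ?_⟩
    show q (Submodule.inclusion hle' ⟨b, hb⟩) = q y
    rw [← sub_eq_zero, ← map_sub, hqz]
    have : ((Submodule.inclusion hle' ⟨b, hb⟩ - y : ↥M'') : M) = -a := by
      rw [Submodule.coe_sub, Submodule.coe_inclusion, ← hab]
      simp
    rw [this]
    exact neg_mem ha
  have hcgT : CAlg.IsCountablyGenerated R (↥M'' ⧸ LinearMap.range inc) := by
    obtain ⟨s, hs, hspan⟩ := isCountablyGenerated_of_cg N' hN'
    refine ⟨φ '' s, hs.image _, ?_⟩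
    rw [← Submodule.map_span, hspan, Submodule.map_top, LinearMap.range_eq_top.mpr hφ]
  have hprojR : Module.Projective R (↥M'' ⧸ LinearMap.range inc) :=
    Groth.Agent.Lib.helper6.MLDom.projective_of_flat_ml_countable R _ hmlT hcgT
  obtain ⟨σ, hσ⟩ := Module.projective_lifting_property q LinearMap.id hq
  have hσ' : ∀ t, q (σ t) = t := fun t => LinearMap.congr_fun hσ t
  refine ⟨(LinearMap.range σ).map M''.subtype, ?_, ?_, ?_⟩
  · have h3 : CG (⊤ : Submodule R (↥M'' ⧸ LinearMap.range inc)) := hcgT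
    have h4 := (h3.map σ).map M''.subtype
    rwa [Submodule.map_top] at h4
  · rw [Submodule.disjoint_def]
    rintro c hc1 ⟨y, ⟨t, rfl⟩, rfl⟩
    have h5 : q (σ t) = 0 := (hqz _).mpr hc1
    rw [hσ'] at h5
    rw [h5, map_zero, map_zero]
  · apply le_antisymm
    · refine sup_le hle ?_
      rintro _ ⟨y, _, rfl⟩
      exact y.2
    · intro y hy
      have h6 : q (⟨y, hy⟩ - σ (q ⟨y, hy⟩)) = 0 := by
        rw [map_sub, hσ', sub_self]
      have h7 := (hqz _).mp h6
      have h8 : y = ((⟨y, hy⟩ - σ (q ⟨y, hy⟩) : ↥M'') : M) + ((σ (q ⟨y, hy⟩) : ↥M'') : M) := by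
        rw [Submodule.coe_sub]
        simp
      rw [h8]
      exact Submodule.add_mem_sup h7 ⟨σ (q ⟨y, hy⟩), ⟨_, rfl⟩, rfl⟩

end split

section zorn

variable (R S : Type u) [CommRing R] [CommRing S] [Algebra R S] [Module.FaithfullyFlat R S]
  (M : Type u) [AddCommGroup M] [Module R M] [Module.Projective S (S ⊗[R] M)]

/-- The admissible pairs for Zorn's lemma. -/
def Adm {I : Type u} (Q : I → Submodule S (S ⊗[R] M)) : Set (Set I × Set (Submodule R M)) :=
  {p | (∀ L ∈ p.2, CG L) ∧ sSupIndep p.2 ∧ (sSup p.2).baseChange S = MI Q p.1}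

theorem exists_decomp {I : Type u} (Q : I → Submodule S (S ⊗[R] M)) (hind : iSupIndep Q)
    (htop : ⨆ i, Q i = ⊤) (hQc : ∀ i, CG (Q i)) :
    ∃ 𝓛 : Set (Submodule R M), (∀ L ∈ 𝓛, CG L) ∧ sSupIndep 𝓛 ∧ sSup 𝓛 = ⊤ := by
  obtain ⟨m, hm⟩ := zorn_le₀ (Adm R S M Q) (by
    intro c hcS hchain
    rcases c.eq_empty_or_nonempty with rfl | hne
    · refine ⟨(∅, ∅), ⟨?_, ?_, ?_⟩, by simp⟩
      · simp
      · exact sSupIndep_empty
      · simp [MI]
    · have : Nonempty c := hne.to_subtype
      refine ⟨(⋃ p : c, p.1.1, ⋃ p : c, p.1.2), ⟨?_, ?_, ?_⟩, ?_⟩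
      · intro L hL
        obtain ⟨p, hp⟩ := Set.mem_iUnion.mp hL
        exact (hcS p.2).1 L hp
      · refine sSupIndep_iUnion_of_directed ?_ fun p => (hcS p.2).2.1
        intro p q
        rcases hchain.total p.2 q.2 with h | h
        · exact ⟨q, h.2, le_rfl⟩
        · exact ⟨p, le_rfl, h.2⟩
      · change (sSup (⋃ p : c, p.1.2)).baseChange S = MI Q (⋃ p : c, p.1.1)
        rw [sSup_iUnion, baseChange_iSup, MI_iUnion]
        exact iSup_congr fun p => (hcS p.2).2.2
      · intro z hz
        exact ⟨Set.subset_iUnion (fun p : c => p.1.1) ⟨z, hz⟩,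
          Set.subset_iUnion (fun p : c => p.1.2) ⟨z, hz⟩⟩)
  obtain ⟨⟨hm1, hm2, hm3⟩, hmax⟩ := hm
  refine ⟨m.2, hm1, hm2, ?_⟩
  by_contra hne
  obtain ⟨x, hx⟩ : ∃ x : M, x ∉ sSup m.2 := by
    by_contra hall
    push Not at hall
    exact hne (eq_top_iff.mpr fun x _ => hall x)
  obtain ⟨N', J', hNN', hN'cg, hN'eq⟩ := exists_adapted R S M Q htop hQc (Submodule.span R {x})
    ⟨{x}, Set.countable_singleton x, rfl⟩
  have hN'bc : N'.baseChange S = MI Q J' := by
    rw [baseChange_eq_span_image]
    exact hN'eq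
  have hxN' : x ∈ N' := hNN' (Submodule.mem_span_singleton_self x)
  have h2 : (sSup m.2 ⊔ N').baseChange S = MI Q (m.1 ∪ (J' \ m.1)) := by
    rw [baseChange_sup, hm3, hN'bc, ← MI_union, Set.union_sdiff_self]
  obtain ⟨C, hCcg, hCdisj, hCsup⟩ := exists_split R S M Q hind htop (sSup m.2) (sSup m.2 ⊔ N') N'
    rfl hN'cg m.1 (J' \ m.1) Set.disjoint_sdiff_right hm3 h2
  have hadm : (m.1 ∪ (J' \ m.1), insert C m.2) ∈ Adm R S M Q := by
    refine ⟨?_, ?_, ?_⟩
    · rintro L (rfl | hL)
      · exact hCcg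
      · exact hm1 L hL
    · exact sSupIndep_insert hm2 hCdisj.symm
    · change (sSup (insert C m.2)).baseChange S = _
      rw [sSup_insert, sup_comm, hCsup]
      exact h2
  have hle : m ≤ (m.1 ∪ (J' \ m.1), insert C m.2) :=
    ⟨Set.subset_union_left, Set.subset_insert _ _⟩
  have hge := hmax hadm hle
  have hCm : C ∈ m.2 := hge.2 (Set.mem_insert _ _)
  have hCle : C ≤ sSup m.2 := le_sSup hCm
  have hxM' : x ∈ sSup m.2 ⊔ N' := Submodule.mem_sup_right hxN'
  rw [← hCsup, sup_eq_left.mpr hCle] at hxM'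
  exact hx hxM'

end zorn

theorem projective_descent (R : Type u) [CommRing R] (S : Type u) [CommRing S]
    [Algebra R S] [Module.FaithfullyFlat R S] (M : Type u) [AddCommGroup M] [Module R M]
    [Module.Projective S (TensorProduct R S M)]
    (hdecomp : ∃ (I : Type u) (Q : I → Submodule S (S ⊗[R] M)), iSupIndep Q ∧ (⨆ i, Q i = ⊤) ∧
      ∀ i, CAlg.IsCountablyGenerated S (Q i))
    (hproj : ∀ (κ : Type u) (N : κ → Submodule R M), iSupIndep N → (⨆ k, N k = ⊤) →
      (∀ k, CAlg.IsCountablyGenerated R (N k)) → Module.Flat R M → CAlg.IsMittagLeffler R M →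
      Module.Projective R M) :
    Module.Projective R M := by
  obtain ⟨I, Q, hind, htop, hQc⟩ := hdecomp
  obtain ⟨𝓛, h1, h2, h3⟩ := exists_decomp R S M Q hind htop
    (fun i => cg_of_isCountablyGenerated _ (hQc i))
  have hflat : Module.Flat R M := Module.Flat.of_flat_tensorProduct R M S
  have hml : CAlg.IsMittagLeffler R M :=
    Groth.Agent.Lib.helper6.MLDom.ml_descent R S M
      (Groth.Agent.Lib.helper6.MLDom.ml_of_projective S _)
  refine hproj 𝓛 (fun k => (k : Submodule R M)) ((sSupIndep_iff 𝓛).mp h2) ?_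
    (fun k => isCountablyGenerated_of_cg _ (h1 k.1 k.2)) hflat hml
  rw [← sSup_eq_iSup', h3]

end Groth.Agent.Lib.helper6.ProjDescent
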