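import Mathlib

/-!
# Highest-root toolkit for simple Lie algebras with a `LieAlgebra.Basis` (helper6)

Root space facts packaged pointwise (weights as functions `H → K`), root strings through simple
roots, Cartan-matrix sign facts, a height element `h0`, the highest-weight theorem for the adjoint
representation (all weights lie below a weight vector killed by every `e i`), uniqueness of the
highest root, and an induction principle along the `e i`.
-/

set_option autoImplicit false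
universe u v w
open LieAlgebra LieModule

namespace Groth.Agent.Lib.Helper6.AdjVar

variable {ι : Type u} {K : Type v} {L : Type w} [Fintype ι] [Field K] [CharZero K]
    [IsAlgClosed K] [LieRing L] [LieAlgebra K L] [FiniteDimensional K L] [LieAlgebra.IsSimple K L]
    {H : LieSubalgebra K L} [H.IsCartanSubalgebra] (b : LieAlgebra.Basis ι H)

omit [Fintype ι] [CharZero K] [IsAlgClosed K] [FiniteDimensional K L] [LieAlgebra.IsSimple K L] in
lemma rs_congr {χ χ' : H → K} (h : ∀ y, χ y = χ' y) : rootSpace H χ = rootSpace H χ' := by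
  rw [funext h]

omit [Fintype ι] [CharZero K] [IsAlgClosed K] [FiniteDimensional K L] [LieAlgebra.IsSimple K L] in
lemma mem_rs_of_eig {χ : H → K} {x : L} (hx : ∀ h : H, ⁅(h : L), x⁆ = χ h • x) :
    x ∈ rootSpace H χ :=
  weightSpace_le_genWeightSpace L χ ((mem_weightSpace χ x).mpr hx)

lemma lie_smul_of_mem_rs {χ : H → K} {x : L} (hx : x ∈ rootSpace H χ) (h : H) :
    ⁅(h : L), x⁆ = χ h • x :=
  IsKilling.lie_eq_smul_of_mem_rootSpace hx h

omit [Fintype ι] [CharZero K] [IsAlgClosed K] [FiniteDimensional K L] [LieAlgebra.IsSimple K L] in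
lemma lie_mem_rs {χ₁ χ₂ χ₃ : H → K} (h : ∀ y, χ₃ y = χ₁ y + χ₂ y) {x y : L}
    (hx : x ∈ rootSpace H χ₁) (hy : y ∈ rootSpace H χ₂) : ⁅x, y⁆ ∈ rootSpace H χ₃ := by
  have := lie_mem_genWeightSpace_of_mem_genWeightSpace hx hy
  rwa [show χ₃ = χ₁ + χ₂ from funext h]

lemma e_mem_rs (i : ι) : b.e i ∈ rootSpace H (b.baseSupp i) :=
  (mem_genWeightSpace _ _ _).mpr fun ⟨z, hz⟩ ↦ ⟨1, by simp⟩

lemma f_mem_rs (i : ι) : b.f i ∈ rootSpace H (fun h => - b.baseSupp i h) :=
  (mem_genWeightSpace _ _ _).mpr fun ⟨z, hz⟩ ↦ ⟨1, by simp [← eq_neg_iff_add_eq_zero]⟩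

omit [Fintype ι] [CharZero K] [IsAlgClosed K] [FiniteDimensional K L] [LieAlgebra.IsSimple K L] in
lemma rs_ne_bot_of_mem {χ : H → K} {x : L} (hx : x ∈ rootSpace H χ) (hx0 : x ≠ 0) :
    rootSpace H χ ≠ ⊥ := by
  intro h
  rw [h] at hx
  exact hx0 ((LieSubmodule.mem_bot x).mp hx)

omit [Fintype ι] [CharZero K] [IsAlgClosed K] [FiniteDimensional K L] [LieAlgebra.IsSimple K L] in
lemma exists_ne_zero_of_rs_ne_bot {χ : H → K} (h : rootSpace H χ ≠ ⊥) :
    ∃ x : L, x ∈ rootSpace H χ ∧ x ≠ 0 := by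
  by_contra hc
  apply h
  rw [LieSubmodule.eq_bot_iff]
  intro m hm
  by_contra hm0
  exact hc ⟨m, hm, hm0⟩

omit [Fintype ι] [CharZero K] [IsAlgClosed K] [FiniteDimensional K L] [LieAlgebra.IsSimple K L] in
lemma eq_zero_of_rs_eq_bot {χ : H → K} (h : rootSpace H χ = ⊥) {x : L} (hx : x ∈ rootSpace H χ) :
    x = 0 := by
  rw [h] at hx
  exact (LieSubmodule.mem_bot x).mp hx

/-- Nonzero root spaces are lines. -/
lemma rs_one_dim {χ : H → K} (hχ : ∃ h, χ h ≠ 0) {x y : L} (hx : x ∈ rootSpace H χ)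
    (hx0 : x ≠ 0) (hy : y ∈ rootSpace H χ) : ∃ c : K, y = c • x := by
  let α : Weight K H L := ⟨χ, rs_ne_bot_of_mem hx hx0⟩
  have hα : α.IsNonZero := by
    intro h0
    obtain ⟨h, hh⟩ := hχ
    exact hh (congrFun h0 h)
  have h1 : Module.finrank K (rootSpace H χ) = 1 := IsKilling.finrank_rootSpace_eq_one α hα
  obtain ⟨c, hc⟩ := (finrank_eq_one_iff_of_nonzero' (⟨x, hx⟩ : rootSpace H χ)
    (by simpa using hx0)).mp h1 ⟨y, hy⟩
  exact ⟨c, by simpa using (congrArg Subtype.val hc).symm⟩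

lemma rs_le_of_mem {χ : H → K} (hχ : ∃ h, χ h ≠ 0) {x : L} (hx : x ∈ rootSpace H χ)
    (hx0 : x ≠ 0) {W : Submodule K L} (hxW : x ∈ W) :
    (rootSpace H χ : Submodule K L) ≤ W := by
  intro y hy
  obtain ⟨c, rfl⟩ := rs_one_dim hχ hx hx0 hy
  exact W.smul_mem c hxW

lemma finrank_rs {χ : H → K} (hχ : ∃ h, χ h ≠ 0) (hne : rootSpace H χ ≠ ⊥) :
    Module.finrank K (rootSpace H χ : Submodule K L) = 1 := by
  let α : Weight K H L := ⟨χ, hne⟩
  have hα : α.IsNonZero := by
    intro h0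
    obtain ⟨h, hh⟩ := hχ
    exact hh (congrFun h0 h)
  exact IsKilling.finrank_rootSpace_eq_one α hα

/-- A "height" element of the Cartan subalgebra: every simple root takes the value one on it. -/
lemma exists_h0 : ∃ h0 : H, ∀ i, b.baseSupp i h0 = 1 := by
  classical
  let M : Matrix ι ι K := b.A.map (Int.cast : ℤ → K)
  have hdet : M.det ≠ 0 := by
    have h1 : b.A.det ≠ 0 := b.nondegen.det_ne_zero
    have h2 : M.det = ((b.A.det : ℤ) : K) := by
      have := RingHom.map_det (Int.castRingHom K) b.A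
      simpa [M, RingHom.mapMatrix_apply] using this.symm
    rw [h2]
    exact_mod_cast h1
  let c : ι → K := M⁻¹.mulVec (fun _ => 1)
  have hc : M.mulVec c = fun _ => 1 := by
    simp only [c, Matrix.mulVec_mulVec]
    rw [Matrix.mul_nonsing_inv _ (Ne.isUnit hdet), Matrix.one_mulVec]
  refine ⟨∑ k, c k • b.h' k, fun i => ?_⟩
  have := congrFun hc i
  simp only [Matrix.mulVec, dotProduct, M, Matrix.map_apply] at this
  rw [map_sum]
  simp only [map_smul, b.baseSupp_apply_h', smul_eq_mul]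
  rw [← this]
  exact Finset.sum_congr rfl fun k _ => mul_comm _ _

lemma A_eq_cartan (i j : ι) :
    b.A i j = b.base.cartanMatrix (b.baseSupportEquiv i) (b.baseSupportEquiv j) := by
  rw [b.cartanMatrix_base_eq]
  simp

lemma A_nonpos {i j : ι} (hij : i ≠ j) : b.A i j ≤ 0 := by
  rw [A_eq_cartan]
  exact b.base.cartanMatrix_le_zero_of_ne _ _ (fun h => hij (b.baseSupportEquiv.injective h))

lemma A_zero_symm (i j : ι) : b.A i j = 0 ↔ b.A j i = 0 := by
  rw [A_eq_cartan, A_eq_cartan]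
  exact b.base.cartanMatrix_apply_eq_zero_iff_symm

lemma A_diag (i : ι) : b.A i i = 2 := by
  rw [A_eq_cartan]
  exact b.base.cartanMatrix_apply_same _

/-- Root string through a weight `β` in the direction of the simple root `α_i`. -/
theorem string (i : ι) (β : H → K) (hβ : rootSpace H β ≠ ⊥) :
    ∃ p q : ℕ, β (b.h' i) = (p : K) - (q : K) ∧
      ∀ (n : ℤ) (γ : H → K), (∀ h, γ h = β h + (n : K) * b.baseSupp i h) →
        (rootSpace H γ ≠ ⊥ ↔ n ≤ q ∧ -n ≤ p) := by
  let α : Weight K H L := ((b.baseSupportEquiv i : H.root) : Weight K H L)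
  let β' : Weight K H L := ⟨β, hβ⟩
  have hα : α.IsNonZero := LieSubalgebra.isNonZero_coe_root _
  have hαc : ∀ h, α h = b.baseSupp i h := fun h => rfl
  refine ⟨chainBotCoeff α β', chainTopCoeff α β', ?_, ?_⟩
  · have h1 := IsKilling.apply_coroot_eq_cast α β'
    have h2 : IsKilling.coroot α = b.h' i := b.coroot_eq_h' i
    rw [h2] at h1
    have h3 : β' (b.h' i) = β (b.h' i) := rfl
    rw [← h3, h1]
    push_cast
    ring
  · intro n γ hγ
    have h1 := IsKilling.rootSpace_zsmul_add_ne_bot_iff α β' hα n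
    have e : γ = n • (α : H → K) + (β' : H → K) := by
      funext h
      rw [hγ h]
      show β h + (n : K) * b.baseSupp i h = n • (α h) + β h
      rw [zsmul_eq_mul, hαc]
      ring
    rw [e]
    exact h1

end Groth.Agent.Lib.Helper6.AdjVar
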