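import Groth.Agent.Lib.Helper6.AdjVar1

/-!
# Highest weight theorem for the adjoint representation (helper6)
-/

set_option autoImplicit false
set_option linter.unusedSectionVars false
universe u v w
open LieAlgebra LieModule

namespace Groth.Agent.Lib.Helper6.AdjVar

variable {ι : Type u} {K : Type v} {L : Type w} [Fintype ι] [Field K] [CharZero K]
    [IsAlgClosed K] [LieRing L] [LieAlgebra K L] [FiniteDimensional K L] [LieAlgebra.IsSimple K L]
    {H : LieSubalgebra K L} [H.IsCartanSubalgebra] (b : LieAlgebra.Basis ι H)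

/-- Words in the `f i` applied to `x`. -/
def fword (x : L) : List ι → L
  | [] => x
  | i :: l => ⁅b.f i, fword x l⁆

theorem fword_mem {χ : H → K} {x : L} (hx : x ∈ rootSpace H χ) (l : List ι) :
    ∃ n : ι → ℕ, fword b x l ∈
      rootSpace H (fun h => χ h - ∑ i, (n i : K) * b.baseSupp i h) := by
  classical
  induction l with
  | nil =>
    refine ⟨fun _ => 0, ?_⟩
    have : (fun h => χ h - ∑ i : ι, ((0 : ℕ) : K) * b.baseSupp i h) = χ := by
      funext h; simp
    rw [this]; exact hx
  | cons i l ih =>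
    obtain ⟨n, hn⟩ := ih
    refine ⟨fun k => n k + if k = i then 1 else 0, ?_⟩
    show ⁅b.f i, fword b x l⁆ ∈ _
    refine lie_mem_rs (fun h => ?_) (f_mem_rs b i) hn
    show χ h - ∑ k, ((n k + if k = i then 1 else 0 : ℕ) : K) * b.baseSupp k h
      = - b.baseSupp i h + (χ h - ∑ k, (n k : K) * b.baseSupp k h)
    have hs : ∑ k, ((n k + if k = i then 1 else 0 : ℕ) : K) * b.baseSupp k h
        = ∑ k, (n k : K) * b.baseSupp k h + b.baseSupp i h := by
      simp [add_mul, Finset.sum_add_distrib]
    rw [hs]; ring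

theorem hw_span_eq_top {χ : H → K} {x : L} (hx : x ∈ rootSpace H χ) (hx0 : x ≠ 0)
    (hex : ∀ i, ⁅b.e i, x⁆ = 0) : Submodule.span K (Set.range (fword b x)) = ⊤ := by
  obtain ⟨N, hN⟩ : ∃ N : Submodule K L, N = Submodule.span K (Set.range (fword b x)) := ⟨_, rfl⟩
  rw [← hN]
  have hgen : ∀ l, fword b x l ∈ N := fun l => hN ▸ Submodule.subset_span ⟨l, rfl⟩
  have hf : ∀ k, ∀ y ∈ N, ⁅b.f k, y⁆ ∈ N := by
    intro k y hy
    rw [hN] at hy
    induction hy using Submodule.span_induction with
    | mem u hu => obtain ⟨l, rfl⟩ := hu; exact hgen (k :: l)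
    | zero => rw [lie_zero]; exact N.zero_mem
    | add u v _ _ hu hv => rw [lie_add]; exact N.add_mem hu hv
    | smul t u _ hu => rw [lie_smul]; exact N.smul_mem t hu
  have hh : ∀ h : H, ∀ y ∈ N, ⁅(h : L), y⁆ ∈ N := by
    intro h y hy
    rw [hN] at hy
    induction hy using Submodule.span_induction with
    | mem u hu =>
      obtain ⟨l, rfl⟩ := hu
      obtain ⟨n, hn⟩ := fword_mem b hx l
      rw [lie_smul_of_mem_rs hn h]
      exact N.smul_mem _ (hgen l)
    | zero => rw [lie_zero]; exact N.zero_mem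
    | add u v _ _ hu hv => rw [lie_add]; exact N.add_mem hu hv
    | smul t u _ hu => rw [lie_smul]; exact N.smul_mem t hu
  have he_gen : ∀ l i, ⁅b.e i, fword b x l⁆ ∈ N := by
    intro l
    induction l with
    | nil => intro i; show ⁅b.e i, x⁆ ∈ N; rw [hex i]; exact N.zero_mem
    | cons k l ih =>
      intro i
      show ⁅b.e i, ⁅b.f k, fword b x l⁆⁆ ∈ N
      rw [leibniz_lie]
      refine N.add_mem ?_ (hf k _ (ih i))
      by_cases hik : i = k
      · subst hik
        rw [(b.sl2 i).lie_e_f]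
        exact hh (b.h' i) _ (hgen l)
      · rw [b.lie_e_f_ne i k hik, zero_lie]
        exact N.zero_mem
  have he : ∀ i, ∀ y ∈ N, ⁅b.e i, y⁆ ∈ N := by
    intro i y hy
    rw [hN] at hy
    induction hy using Submodule.span_induction with
    | mem u hu => obtain ⟨l, rfl⟩ := hu; exact he_gen l i
    | zero => rw [lie_zero]; exact N.zero_mem
    | add u v _ _ hu hv => rw [lie_add]; exact N.add_mem hu hv
    | smul t u _ hu => rw [lie_smul]; exact N.smul_mem t hu
  have hall : ∀ z : L, ∀ y ∈ N, ⁅z, y⁆ ∈ N := by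
    intro z
    have hz : z ∈ LieSubalgebra.lieSpan K L (Set.range b.e ∪ Set.range b.f) := by
      rw [b.span_ef]; exact LieSubalgebra.mem_top z
    induction hz using LieSubalgebra.lieSpan_induction with
    | mem u hu =>
      rcases hu with ⟨i, rfl⟩ | ⟨i, rfl⟩
      · exact he i
      · exact hf i
    | zero => intro y _; rw [zero_lie]; exact N.zero_mem
    | add u v _ _ hu hv => intro y hy; rw [add_lie]; exact N.add_mem (hu y hy) (hv y hy)
    | smul t u _ hu => intro y hy; rw [smul_lie]; exact N.smul_mem t (hu y hy)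
    | lie u v _ _ hu hv =>
      intro y hy; rw [lie_lie]; exact N.sub_mem (hu _ (hv y hy)) (hv _ (hu y hy))
  let I : LieIdeal K L := { N with lie_mem := fun {z y} hy => hall z y hy }
  rcases LieAlgebra.IsSimple.eq_bot_or_eq_top I with h | h
  · exfalso
    have hxI : x ∈ I := hgen []
    rw [h] at hxI
    exact hx0 ((LieSubmodule.mem_bot x).mp hxI)
  · rw [eq_top_iff]
    intro y _
    have : y ∈ I := by rw [h]; exact LieSubmodule.mem_top y
    exact this

/-- **Highest weight theorem** for the adjoint representation of a simple Lie algebra: if a nonzero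
weight vector `x` of weight `χ` is killed by every `e i`, then every weight of `L` is of the form
`χ - ∑ n_i α_i` with natural coefficients. -/
theorem hw_weights {χ : H → K} {x : L} (hx : x ∈ rootSpace H χ) (hx0 : x ≠ 0)
    (hex : ∀ i, ⁅b.e i, x⁆ = 0) {χ' : H → K} (hχ' : rootSpace H χ' ≠ ⊥) :
    ∃ n : ι → ℕ, ∀ h : H, χ' h = χ h - ∑ i, (n i : K) * b.baseSupp i h := by
  have htop := hw_span_eq_top b hx hx0 hex
  let s : Set (H → K) :=
    {ψ | ∃ n : ι → ℕ, ψ = fun h => χ h - ∑ i, (n i : K) * b.baseSupp i h}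
  have hs : ⨆ ψ ∈ s, rootSpace H ψ = ⊤ := by
    rw [eq_top_iff]
    intro y _
    have hy : y ∈ Submodule.span K (Set.range (fword b x)) := by rw [htop]; exact Submodule.mem_top
    have hle : Submodule.span K (Set.range (fword b x)) ≤
        ((⨆ ψ ∈ s, rootSpace H ψ : LieSubmodule K H L) : Submodule K L) := by
      rw [Submodule.span_le]
      rintro _ ⟨l, rfl⟩
      obtain ⟨n, hn⟩ := fword_mem b hx l
      exact LieSubmodule.mem_iSup_of_mem _ (LieSubmodule.mem_iSup_of_mem ⟨n, rfl⟩ hn)
    exact hle hy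
  obtain ⟨n, hn⟩ := (iSupIndep_genWeightSpace K H L).mem_of_biSup_eq_top hs hχ'
  exact ⟨n, fun h => congrFun hn h⟩

/-- A submodule stable under the Cartan subalgebra which is not contained in the sum of the root
spaces of a set `S` of weights contains a nonzero weight vector of weight outside `S`. -/
theorem exists_wt_vec_not_in (W : Submodule K L) (hH : ∀ h : H, ∀ w ∈ W, ⁅(h : L), w⁆ ∈ W)
    (S : Set (H → K))
    (hW : ¬ W ≤ ((⨆ χ ∈ S, rootSpace H χ : LieSubmodule K H L) : Submodule K L)) :
    ∃ χ : H → K, χ ∉ S ∧ ∃ y ∈ W, y ≠ 0 ∧ y ∈ rootSpace H χ := by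
  by_contra hc
  push Not at hc
  apply hW
  let N : LieSubmodule K H L := { W with lie_mem := fun {h y} hy => hH h y hy }
  have h1 := LieModule.eq_iSup_inf_genWeightSpace K H L N
  have h2 : N ≤ ⨆ χ ∈ S, rootSpace H χ := by
    calc N = ⨆ χ : Weight K H L, N ⊓ genWeightSpace L χ := h1
      _ ≤ _ := iSup_le fun χ => by
        by_cases hχ : (χ : H → K) ∈ S
        · exact inf_le_right.trans (le_iSup₂_of_le (χ : H → K) hχ le_rfl)
        · intro y hy
          rw [LieSubmodule.mem_inf] at hy
          by_cases hy0 : y = 0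
          · rw [hy0]; exact zero_mem _
          · exact absurd hy.2 (hc χ hχ y hy.1 hy0)
  exact fun y hy => h2 hy

lemma rs_disjoint {χ₁ χ₂ : H → K} (h : χ₁ ≠ χ₂) :
    Disjoint (rootSpace H χ₁ : Submodule K L) (rootSpace H χ₂ : Submodule K L) := by
  rw [LieSubmodule.disjoint_toSubmodule]
  exact disjoint_genWeightSpace K H L h

lemma rs_disjoint_sup {χ₁ χ₂ χ₃ : H → K} (h13 : χ₁ ≠ χ₃) (h23 : χ₂ ≠ χ₃) :
    Disjoint ((rootSpace H χ₁ : Submodule K L) ⊔ (rootSpace H χ₂ : Submodule K L))
      (rootSpace H χ₃ : Submodule K L) := by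
  have hind : iSupIndep (fun χ : H → K => (rootSpace H χ : Submodule K L)) :=
    LieSubmodule.iSupIndep_toSubmodule.mpr (iSupIndep_genWeightSpace K H L)
  refine ((hind χ₃).mono_right ?_).symm
  exact sup_le (le_iSup₂_of_le χ₁ h13 le_rfl) (le_iSup₂_of_le χ₂ h23 le_rfl)

lemma finrank_sup_of_disjoint {A B : Submodule K L} (h : Disjoint A B) :
    Module.finrank K (A ⊔ B : Submodule K L) = Module.finrank K A + Module.finrank K B := by
  have := Submodule.finrank_sup_add_finrank_inf_eq A B
  rw [h.eq_bot, finrank_bot, add_zero] at this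
  exact this

end Groth.Agent.Lib.Helper6.AdjVar
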