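import Groth.Agent.Lib.Helper6.AdjVar2

/-!
# The highest root of a simple Lie algebra (helper6)

`ρ` is a root with `ρ + α_i` not a root for every simple root `α_i`.  Uniqueness of such a root,
induction along the `e i`, root strings at the top, and the Borel-stable subspaces of small
dimension under the hypotheses of the AdjVar statements (`ρ(h_i) ≠ 0 ↔ i = j`, `ρ(h_j) = 1`).
-/

set_option autoImplicit false
set_option linter.unusedSectionVars false
universe u v w
open LieAlgebra LieModule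

namespace Groth.Agent.Lib.Helper6.AdjVar

variable {ι : Type u} {K : Type v} {L : Type w} [Fintype ι] [Field K] [CharZero K]
    [IsAlgClosed K] [LieRing L] [LieAlgebra K L] [FiniteDimensional K L] [LieAlgebra.IsSimple K L]
    {H : LieSubalgebra K L} [H.IsCartanSubalgebra] (b : LieAlgebra.Basis ι H)
    (ρ : Module.Dual K H)

lemma e_top_zero (htop : ∀ i, rootSpace H (ρ + b.baseSupp i) = ⊥) {x : L}
    (hx : x ∈ rootSpace H ρ) (i : ι) : ⁅b.e i, x⁆ = 0 := by
  have h1 : ⁅b.e i, x⁆ ∈ rootSpace H (ρ + b.baseSupp i) :=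
    lie_mem_rs (fun h => by rw [Pi.add_apply, add_comm]) (e_mem_rs b i) hx
  exact eq_zero_of_rs_eq_bot (htop i) h1

/-- Uniqueness of the highest root: a nonzero weight vector killed by all `e i` has weight `ρ`. -/
theorem hw_unique (hρ : rootSpace H ρ ≠ ⊥) (htop : ∀ i, rootSpace H (ρ + b.baseSupp i) = ⊥)
    {χ : H → K} {x : L} (hx : x ∈ rootSpace H χ) (hx0 : x ≠ 0)
    (hex : ∀ i, ⁅b.e i, x⁆ = 0) : ∀ h, χ h = ρ h := by
  obtain ⟨x0, hx0m, hx0n⟩ := exists_ne_zero_of_rs_ne_bot hρ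
  have hex0 := e_top_zero b ρ htop hx0m
  obtain ⟨n, hn⟩ := hw_weights b hx hx0 hex hρ
  obtain ⟨m, hm⟩ := hw_weights b hx0m hx0n hex0 (rs_ne_bot_of_mem hx hx0)
  obtain ⟨h0, hh0⟩ := exists_h0 b
  have e1 := hn h0
  have e2 := hm h0
  simp only [hh0, mul_one] at e1 e2
  have h3 : ((∑ i, n i + ∑ i, m i : ℕ) : K) = 0 := by
    push_cast
    linear_combination e1 + e2
  have h0' : ∑ i, n i + ∑ i, m i = 0 := by exact_mod_cast h3
  have hm0 : ∀ i, m i = 0 := fun i =>
    (Finset.sum_eq_zero_iff.mp (Nat.eq_zero_of_add_eq_zero_left h0')) i (Finset.mem_univ i)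
  intro h
  rw [hm h]
  simp [hm0]

/-- Induction along the raising operators `e i`: to prove `P χ y` for all nonzero weight vectors
`y` (of weight `χ`) it suffices to prove it assuming it for all nonzero `⁅e i, y⁆`. -/
theorem wt_induction (hρ : rootSpace H ρ ≠ ⊥) (htop : ∀ i, rootSpace H (ρ + b.baseSupp i) = ⊥)
    (P : (H → K) → L → Prop)
    (hP : ∀ (χ : H → K) (y : L), y ≠ 0 → y ∈ rootSpace H χ →
      (∀ i, ⁅b.e i, y⁆ ≠ 0 → P (fun h => χ h + b.baseSupp i h) ⁅b.e i, y⁆) → P χ y) :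
    ∀ (χ : H → K) (y : L), y ≠ 0 → y ∈ rootSpace H χ → P χ y := by
  obtain ⟨h0, hh0⟩ := exists_h0 b
  obtain ⟨x0, hx0m, hx0n⟩ := exists_ne_zero_of_rs_ne_bot hρ
  have hex0 := e_top_zero b ρ htop hx0m
  have key : ∀ d : ℕ, ∀ (χ : H → K) (y : L), y ≠ 0 → y ∈ rootSpace H χ →
      (d : K) = ρ h0 - χ h0 → P χ y := by
    intro d
    induction d using Nat.strong_induction_on with
    | _ d ih =>
      intro χ y hy hym hd
      apply hP χ y hy hym
      intro i hi
      have hmem : ⁅b.e i, y⁆ ∈ rootSpace H (fun h => χ h + b.baseSupp i h) :=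
        lie_mem_rs (fun h => add_comm _ _) (e_mem_rs b i) hym
      obtain ⟨n, hn⟩ := hw_weights b hx0m hx0n hex0 (rs_ne_bot_of_mem hmem hi)
      have e1 := hn h0
      simp only [hh0, mul_one] at e1
      have hd' : ((∑ k, n k + 1 : ℕ) : K) = (d : K) := by
        push_cast
        linear_combination e1 - hd
      have hd'' : ∑ k, n k + 1 = d := by exact_mod_cast hd'
      refine ih (∑ k, n k) (by omega) _ _ hi hmem ?_
      show ((∑ k, n k : ℕ) : K) = ρ h0 - (χ h0 + b.baseSupp i h0)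
      push_cast
      linear_combination e1 + hh0 i
  intro χ y hy hym
  obtain ⟨n, hn⟩ := hw_weights b hx0m hx0n hex0 (rs_ne_bot_of_mem hym hy)
  refine key (∑ k, n k) χ y hy hym ?_
  have := hn h0
  simp only [hh0, mul_one] at this
  push_cast
  linear_combination this

/-- Root string at a weight `β` with `β + α_i` not a weight. -/
theorem string_top (i : ι) (β : H → K) (hβ : rootSpace H β ≠ ⊥)
    (hup : rootSpace H (fun h => β h + b.baseSupp i h) = ⊥) :
    ∃ p : ℕ, β (b.h' i) = (p : K) ∧ ∀ (k : ℕ) (δ : H → K),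
      (∀ h, δ h = β h - (k : K) * b.baseSupp i h) → (rootSpace H δ ≠ ⊥ ↔ k ≤ p) := by
  obtain ⟨p, q, hpq, hstr⟩ := string b i β hβ
  have hq : q = 0 := by
    by_contra hq0
    have := (hstr 1 (fun h => β h + b.baseSupp i h) (fun h => by simp)).mpr
      ⟨by omega, by omega⟩
    exact this hup
  subst hq
  refine ⟨p, by simpa using hpq, fun k δ hδ => ?_⟩
  have := hstr (-(k : ℤ)) δ (fun h => by rw [hδ h]; push_cast; ring)
  rw [this]
  push_cast
  constructor
  · rintro ⟨_, h2⟩; omega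
  · intro h; constructor <;> omega

section Hyp

variable (hρ : rootSpace H ρ ≠ ⊥) (htop : ∀ i, rootSpace H (ρ + b.baseSupp i) = ⊥)
    (j : ι) (hN : ∀ i, ρ (b.h' i) ≠ 0 ↔ i = j) (hj : ρ (b.h' j) = 1)

include hρ htop hN in
theorem no_sub_of_ne {i : ι} (hi : i ≠ j) : rootSpace H (ρ - b.baseSupp i) = ⊥ := by
  obtain ⟨p, hp, hstr⟩ := string_top b i ρ hρ (by
    rw [← htop i]; exact rs_congr fun h => rfl)
  have hρi : ρ (b.h' i) = 0 := by
    by_contra h; exact hi ((hN i).mp h)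
  have hp0 : p = 0 := by
    rw [hρi] at hp; exact_mod_cast hp.symm
  by_contra hne
  have := (hstr 1 (ρ - b.baseSupp i) (fun h => by simp)).mp hne
  omega

include hρ htop hj in
theorem sub_j_ne_bot : rootSpace H (ρ - b.baseSupp j) ≠ ⊥ := by
  obtain ⟨p, hp, hstr⟩ := string_top b j ρ hρ (by
    rw [← htop j]; exact rs_congr fun h => rfl)
  have hp1 : p = 1 := by
    rw [hj] at hp; exact_mod_cast hp.symm
  exact (hstr 1 (ρ - b.baseSupp j) (fun h => by simp)).mpr (by omega)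

include hρ htop hj in
theorem sub_two_j_eq_bot :
    rootSpace H (fun h => ρ h - b.baseSupp j h - b.baseSupp j h) = ⊥ := by
  obtain ⟨p, hp, hstr⟩ := string_top b j ρ hρ (by
    rw [← htop j]; exact rs_congr fun h => rfl)
  have hp1 : p = 1 := by
    rw [hj] at hp; exact_mod_cast hp.symm
  by_contra hne
  have := (hstr 2 _ (fun h => by push_cast; ring)).mp hne
  omega

include htop hj in
theorem no_sub_add {i : ι} (hi : i ≠ j) :
    rootSpace H (fun h => ρ h - b.baseSupp j h + b.baseSupp i h) = ⊥ := by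
  by_contra hne
  obtain ⟨p, hp, -⟩ := string_top b j _ hne (by
    rw [← htop i]; exact rs_congr fun h => by simp only [Pi.add_apply]; ring)
  have h1 : (ρ (b.h' j) - b.baseSupp j (b.h' j) + b.baseSupp i (b.h' j) : K) = p := hp
  rw [hj, b.baseSupp_apply_h', b.baseSupp_apply_h', A_diag] at h1
  push_cast at h1
  have hA := A_nonpos b hi
  have h2 : ((b.A i j - 1 : ℤ) : K) = ((p : ℤ) : K) := by
    push_cast; linear_combination h1
  have := Int.cast_injective h2
  omega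

include hρ htop hN hj in
theorem A_ne_zero_of_third {a : ι} (ha : a ≠ j)
    (h3 : rootSpace H (fun h => ρ h - b.baseSupp j h - b.baseSupp a h) ≠ ⊥) : b.A a j ≠ 0 := by
  have hpen := sub_j_ne_bot b ρ hρ htop j hj
  obtain ⟨p, hp, hstr⟩ := string_top b a (ρ - b.baseSupp j) hpen (by
    rw [← no_sub_add b ρ htop j hj ha]; exact rs_congr fun h => by simp)
  have h1 := (hstr 1 _ (fun h => by simp)).mp h3
  have hρa : ρ (b.h' a) = 0 := by
    by_contra h; exact ha ((hN a).mp h)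
  rw [Pi.sub_apply, hρa, b.baseSupp_apply_h'] at hp
  intro hA
  have hA' := (A_zero_symm b a j).mp hA
  rw [hA'] at hp
  have : (p : K) = 0 := by rw [← hp]; simp
  have : p = 0 := by exact_mod_cast this
  omega

include hj in
lemma rho_ne : ∃ h, ρ h ≠ 0 := ⟨b.h' j, by rw [hj]; exact one_ne_zero⟩

include hj in
lemma pen_ne : ∃ h, ((ρ : H → K) - (b.baseSupp j : H → K)) h ≠ 0 := by
  refine ⟨b.h' j, ?_⟩
  rw [Pi.sub_apply, hj, b.baseSupp_apply_h', A_diag]
  norm_num

include hρ htop hN in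
lemma third_ne {a : ι} (ha : a ≠ j) :
    ∃ h, (fun h => ρ h - b.baseSupp j h - b.baseSupp a h) h ≠ 0 := by
  by_contra hc
  push Not at hc
  have h1 : b.e j ∈ rootSpace H (ρ - b.baseSupp a) := by
    rw [← rs_congr (χ := b.baseSupp j) (χ' := ((ρ : H → K) - (b.baseSupp a : H → K)))
      (fun h => by rw [Pi.sub_apply]; linear_combination -(hc h))]
    exact e_mem_rs b j
  exact (b.sl2 j).e_ne_zero (eq_zero_of_rs_eq_bot (no_sub_of_ne b ρ hρ htop j hN ha) h1)

include hρ htop hj in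
lemma rho_ne_pen : (ρ : H → K) ≠ (ρ : H → K) - (b.baseSupp j : H → K) := by
  intro h
  have := congrFun h (b.h' j)
  rw [Pi.sub_apply, b.baseSupp_apply_h', A_diag] at this
  have h2 : ((2 : ℤ) : K) = 0 := by linear_combination this
  norm_num at h2

include hρ htop in
/-- A nonzero subspace stable under `H` and all `e i` contains the highest root space. -/
theorem top_le (hρ0 : ∃ h, ρ h ≠ 0) (W : Submodule K L)
    (hH : ∀ h : H, ∀ w ∈ W, ⁅(h : L), w⁆ ∈ W) (he : ∀ i, ∀ w ∈ W, ⁅b.e i, w⁆ ∈ W)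
    (hW0 : W ≠ ⊥) : (rootSpace H ρ : Submodule K L) ≤ W := by
  obtain ⟨χ, -, y, hyW, hy0, hym⟩ := exists_wt_vec_not_in W hH ∅ (by
    intro hle; apply hW0; rw [eq_bot_iff]; refine hle.trans ?_; simp)
  have key := wt_induction b ρ hρ htop
    (fun χ y => y ∈ W → ∃ v ∈ W, v ≠ 0 ∧ v ∈ rootSpace H ρ) ?_ χ y hy0 hym hyW
  · obtain ⟨v, hvW, hv0, hvm⟩ := key
    exact rs_le_of_mem hρ0 hvm hv0 hvW
  · intro χ y hy0 hym ih hyW
    by_cases hall : ∀ i, ⁅b.e i, y⁆ = 0
    · have := hw_unique b ρ hρ htop hym hy0 hall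
      exact ⟨y, hyW, hy0, by rwa [rs_congr this] at hym⟩
    · push Not at hall
      obtain ⟨i, hi⟩ := hall
      exact ih i hi (he i y hyW)

include hρ htop hN hj in
/-- A subspace stable under `H` and all `e i` and not contained in the highest root space contains
the root space of `ρ - α_j`. -/
theorem pen_le (W : Submodule K L)
    (hH : ∀ h : H, ∀ w ∈ W, ⁅(h : L), w⁆ ∈ W) (he : ∀ i, ∀ w ∈ W, ⁅b.e i, w⁆ ∈ W)
    (hW : ¬ W ≤ (rootSpace H ρ : Submodule K L)) :
    (rootSpace H (ρ - b.baseSupp j) : Submodule K L) ≤ W := by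
  obtain ⟨χ, hχS, y, hyW, hy0, hym⟩ := exists_wt_vec_not_in W hH {(ρ : H → K)} (by
    rwa [iSup_singleton])
  have hχρ : ¬ ∀ h, χ h = ρ h := fun h => hχS (funext h)
  have key := wt_induction b ρ hρ htop
    (fun χ y => y ∈ W → (¬ ∀ h, χ h = ρ h) →
      ∃ v ∈ W, v ≠ 0 ∧ v ∈ rootSpace H (ρ - b.baseSupp j)) ?_ χ y hy0 hym hyW hχρ
  · obtain ⟨v, hvW, hv0, hvm⟩ := key
    exact rs_le_of_mem (pen_ne b ρ j hj) hvm hv0 hvW
  · intro χ y hy0 hym ih hyW hχ
    have hex : ¬ ∀ i, ⁅b.e i, y⁆ = 0 := fun hall => hχ (hw_unique b ρ hρ htop hym hy0 hall)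
    push Not at hex
    obtain ⟨i, hi⟩ := hex
    by_cases htopw : ∀ h, χ h + b.baseSupp i h = ρ h
    · have hyi : y ∈ rootSpace H (ρ - b.baseSupp i) := by
        rwa [rs_congr (χ' := ((ρ : H → K) - (b.baseSupp i : H → K)))
          (fun h => by rw [Pi.sub_apply, ← htopw h]; ring)] at hym
      have hij : i = j := by
        by_contra hij
        exact hy0 (eq_zero_of_rs_eq_bot (no_sub_of_ne b ρ hρ htop j hN hij) hyi)
      subst hij
      exact ⟨y, hyW, hy0, hyi⟩
    · exact ih i hi (he i y hyW) htopw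

include hρ htop hN hj in
/-- A subspace stable under `H` and all `e i` and not contained in `L_ρ + L_{ρ-α_j}` contains a
weight vector of weight `ρ - α_j - α_a` not killed by `e a`. -/
theorem third_vec (W : Submodule K L)
    (hH : ∀ h : H, ∀ w ∈ W, ⁅(h : L), w⁆ ∈ W) (he : ∀ i, ∀ w ∈ W, ⁅b.e i, w⁆ ∈ W)
    (hW : ¬ W ≤ (rootSpace H ρ : Submodule K L) ⊔
      (rootSpace H (ρ - b.baseSupp j) : Submodule K L)) :
    ∃ a : ι, ∃ v ∈ W, v ∈ rootSpace H (fun h => ρ h - b.baseSupp j h - b.baseSupp a h) ∧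
      ⁅b.e a, v⁆ ≠ 0 := by
  obtain ⟨χ, hχS, y, hyW, hy0, hym⟩ := exists_wt_vec_not_in W hH
    {(ρ : H → K), ((ρ : H → K) - (b.baseSupp j : H → K))} (by
    rwa [iSup_pair, LieSubmodule.sup_toSubmodule])
  simp only [Set.mem_insert_iff, Set.mem_singleton_iff, not_or] at hχS
  have hχ1 : ¬ ∀ h, χ h = ρ h := fun h => hχS.1 (funext h)
  have hχ2 : ¬ ∀ h, χ h = ρ h - b.baseSupp j h := fun h => hχS.2 (funext h)
  refine wt_induction b ρ hρ htop
    (fun χ y => y ∈ W → (¬ ∀ h, χ h = ρ h) → (¬ ∀ h, χ h = ρ h - b.baseSupp j h) →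
      ∃ a : ι, ∃ v ∈ W, v ∈ rootSpace H (fun h => ρ h - b.baseSupp j h - b.baseSupp a h) ∧
        ⁅b.e a, v⁆ ≠ 0) ?_ χ y hy0 hym hyW hχ1 hχ2
  intro χ y hy0 hym ih hyW h1 h2
  have hex : ¬ ∀ i, ⁅b.e i, y⁆ = 0 := fun hall => h1 (hw_unique b ρ hρ htop hym hy0 hall)
  push Not at hex
  obtain ⟨i, hi⟩ := hex
  have h1' : ¬ ∀ h, χ h + b.baseSupp i h = ρ h := by
    intro htopw
    have hyi : y ∈ rootSpace H (ρ - b.baseSupp i) := by
      rwa [rs_congr (χ' := ((ρ : H → K) - (b.baseSupp i : H → K)))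
        (fun h => by rw [Pi.sub_apply, ← htopw h]; ring)] at hym
    have hij : i = j := by
      by_contra hij
      exact hy0 (eq_zero_of_rs_eq_bot (no_sub_of_ne b ρ hρ htop j hN hij) hyi)
    subst hij
    exact h2 fun h => by rw [← htopw h]; ring
  by_cases hpen : ∀ h, χ h + b.baseSupp i h = ρ h - b.baseSupp j h
  · refine ⟨i, y, hyW, ?_, hi⟩
    rwa [rs_congr (χ' := fun h => ρ h - b.baseSupp j h - b.baseSupp i h)
      (fun h => by rw [← hpen h]; ring)] at hym
  · exact ih i hi (he i y hyW) h1' hpen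

end Hyp

end Groth.Agent.Lib.Helper6.AdjVar
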