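import Groth.Agent.Lib.Helper6.AdjVar3

/-!
# Borel-stable subspaces of dimension two and three at the highest root (helper6)
-/

set_option autoImplicit false
set_option linter.unusedSectionVars false
universe u v w
open LieAlgebra LieModule

namespace Groth.Agent.Lib.Helper6.AdjVar

variable {ι : Type u} {K : Type v} {L : Type w} [Fintype ι] [Field K] [CharZero K]
    [IsAlgClosed K] [LieRing L] [LieAlgebra K L] [FiniteDimensional K L] [LieAlgebra.IsSimple K L]
    {H : LieSubalgebra K L} [H.IsCartanSubalgebra] (b : LieAlgebra.Basis ι H)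
    (ρ : Module.Dual K H)

lemma e_mem_borel (i : ι) : b.e i ∈ (b.borelUpper : Submodule K L) :=
  show b.e i ∈ LieSubalgebra.lieSpan K L (Set.range b.e) from
    LieSubalgebra.subset_lieSpan (Set.mem_range_self i)

/-- Stability under `H + 𝔫` gives stability under `H` and under each `e i`. -/
lemma stab_H {W : Submodule K L}
    (hst : ∀ x ∈ H.toSubmodule ⊔ (b.borelUpper : Submodule K L), ∀ w ∈ W, ⁅x, w⁆ ∈ W) :
    ∀ h : H, ∀ w ∈ W, ⁅(h : L), w⁆ ∈ W :=
  fun h w hw => hst (h : L) (Submodule.mem_sup_left h.2) w hw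

lemma stab_e {W : Submodule K L}
    (hst : ∀ x ∈ H.toSubmodule ⊔ (b.borelUpper : Submodule K L), ∀ w ∈ W, ⁅x, w⁆ ∈ W) :
    ∀ i, ∀ w ∈ W, ⁅b.e i, w⁆ ∈ W :=
  fun i w hw => hst (b.e i) (Submodule.mem_sup_right (e_mem_borel b i)) w hw

section Hyp

variable (hρ : rootSpace H ρ ≠ ⊥) (htop : ∀ i, rootSpace H (ρ + b.baseSupp i) = ⊥)
    (j : ι) (hN : ∀ i, ρ (b.h' i) ≠ 0 ↔ i = j) (hj : ρ (b.h' j) = 1)

include hρ htop hj in
theorem finrank_U : Module.finrank K ((rootSpace H ρ : Submodule K L) ⊔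
    (rootSpace H (ρ - b.baseSupp j) : Submodule K L) : Submodule K L) = 2 := by
  rw [finrank_sup_of_disjoint (rs_disjoint (rho_ne_pen b ρ hρ htop j hj)),
    finrank_rs (rho_ne b ρ j hj) hρ,
    finrank_rs (pen_ne b ρ j hj) (sub_j_ne_bot b ρ hρ htop j hj)]

include hρ htop hN hj in
theorem finrank_U3 {a : ι} (ha : a ≠ j)
    (h3 : rootSpace H (ρ - b.baseSupp j - b.baseSupp a) ≠ ⊥) :
    Module.finrank K (((rootSpace H ρ : Submodule K L) ⊔
      (rootSpace H (ρ - b.baseSupp j) : Submodule K L)) ⊔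
      (rootSpace H (ρ - b.baseSupp j - b.baseSupp a) : Submodule K L) : Submodule K L) = 3 := by
  have h13 : (ρ : H → K) ≠ (ρ : H → K) - (b.baseSupp j : H → K) - (b.baseSupp a : H → K) := by
    intro h
    obtain ⟨h0, hh0⟩ := exists_h0 b
    have := congrFun h h0
    simp only [Pi.sub_apply, hh0] at this
    have h2 : (2 : K) = 0 := by linear_combination this
    norm_num at h2
  have h23 : (ρ : H → K) - (b.baseSupp j : H → K) ≠
      (ρ : H → K) - (b.baseSupp j : H → K) - (b.baseSupp a : H → K) := by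
    intro h
    have := congrFun h (b.h' a)
    simp only [Pi.sub_apply, b.baseSupp_apply_h', A_diag] at this
    have h2 : ((2 : ℤ) : K) = 0 := by linear_combination this
    norm_num at h2
  have hne3 : ∃ h, ((ρ : H → K) - (b.baseSupp j : H → K) - (b.baseSupp a : H → K)) h ≠ 0 := by
    obtain ⟨h, hh⟩ := third_ne b ρ hρ htop j hN ha
    exact ⟨h, hh⟩
  rw [finrank_sup_of_disjoint (rs_disjoint_sup h13 h23), finrank_U b ρ hρ htop j hj,
    finrank_rs hne3 h3]

include hρ htop hN hj in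
theorem U_stable : ∀ x ∈ H.toSubmodule ⊔ (b.borelUpper : Submodule K L),
    ∀ w ∈ (rootSpace H ρ : Submodule K L) ⊔ (rootSpace H (ρ - b.baseSupp j) : Submodule K L),
      ⁅x, w⁆ ∈ (rootSpace H ρ : Submodule K L) ⊔
        (rootSpace H (ρ - b.baseSupp j) : Submodule K L) := by
  obtain ⟨U, hU⟩ : ∃ U : Submodule K L, U = (rootSpace H ρ : Submodule K L) ⊔
    (rootSpace H (ρ - b.baseSupp j) : Submodule K L) := ⟨_, rfl⟩
  rw [← hU]
  have hH : ∀ h : H, ∀ w ∈ U, ⁅(h : L), w⁆ ∈ U := by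
    intro h w hw
    rw [hU] at hw ⊢
    obtain ⟨w0, hw0, w1, hw1, rfl⟩ := Submodule.mem_sup.mp hw
    rw [lie_add, lie_smul_of_mem_rs hw0 h, lie_smul_of_mem_rs hw1 h]
    exact add_mem (Submodule.mem_sup_left (Submodule.smul_mem _ _ hw0))
      (Submodule.mem_sup_right (Submodule.smul_mem _ _ hw1))
  have he : ∀ i, ∀ w ∈ U, ⁅b.e i, w⁆ ∈ U := by
    intro i w hw
    rw [hU] at hw ⊢
    obtain ⟨w0, hw0, w1, hw1, rfl⟩ := Submodule.mem_sup.mp hw
    rw [lie_add, e_top_zero b ρ htop hw0 i, zero_add]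
    by_cases hij : i = j
    · subst hij
      apply Submodule.mem_sup_left
      exact lie_mem_rs (fun h => by simp only [Pi.sub_apply]; ring) (e_mem_rs b i) hw1
    · have h0 : ⁅b.e i, w1⁆ = 0 :=
        eq_zero_of_rs_eq_bot (no_sub_add b ρ htop j hj hij)
          (lie_mem_rs (fun h => by simp only [Pi.sub_apply]; ring) (e_mem_rs b i) hw1)
      rw [h0]
      exact zero_mem _
  have hn : ∀ z ∈ LieSubalgebra.lieSpan K L (Set.range b.e), ∀ w ∈ U, ⁅z, w⁆ ∈ U := by
    intro z hz
    induction hz using LieSubalgebra.lieSpan_induction with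
    | mem u hu => obtain ⟨i, rfl⟩ := hu; exact he i
    | zero => intro y _; rw [zero_lie]; exact U.zero_mem
    | add u v _ _ hu hv => intro y hy; rw [add_lie]; exact U.add_mem (hu y hy) (hv y hy)
    | smul t u _ hu => intro y hy; rw [smul_lie]; exact U.smul_mem t (hu y hy)
    | lie u v _ _ hu hv =>
      intro y hy; rw [lie_lie]; exact U.sub_mem (hu _ (hv y hy)) (hv _ (hu y hy))
  intro x hx w hw
  obtain ⟨h, hh, n, hn', rfl⟩ := Submodule.mem_sup.mp hx
  rw [add_lie]
  exact U.add_mem (hH ⟨h, hh⟩ w hw) (hn n hn' w hw)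

include hρ htop hj in
theorem e_j_pen_ne_zero {x1 : L} (hx1 : x1 ∈ rootSpace H (ρ - b.baseSupp j)) (h0 : x1 ≠ 0) :
    ⁅b.e j, x1⁆ ≠ 0 := by
  intro hz
  have hall : ∀ i, ⁅b.e i, x1⁆ = 0 := by
    intro i
    by_cases hij : i = j
    · subst hij; exact hz
    · exact eq_zero_of_rs_eq_bot (no_sub_add b ρ htop j hj hij)
        (lie_mem_rs (fun h => by simp only [Pi.sub_apply]; ring) (e_mem_rs b i) hx1)
  have := hw_unique b ρ hρ htop hx1 h0 hall
  exact rho_ne_pen b ρ hρ htop j hj (funext fun h => (this h).symm)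

include hρ htop hN hj in
/-- Structure of a three-dimensional subspace stable under `H` and the `e i`. -/
theorem three_dim_structure (W : Submodule K L) (hW3 : Module.finrank K W = 3)
    (hH : ∀ h : H, ∀ w ∈ W, ⁅(h : L), w⁆ ∈ W) (he : ∀ i, ∀ w ∈ W, ⁅b.e i, w⁆ ∈ W) :
    ∃ a : ι, a ≠ j ∧ b.A a j ≠ 0 ∧
      W = ((rootSpace H ρ : Submodule K L) ⊔ (rootSpace H (ρ - b.baseSupp j) : Submodule K L)) ⊔
        (rootSpace H (ρ - b.baseSupp j - b.baseSupp a) : Submodule K L) ∧
      ∃ x2 ∈ W, x2 ∈ rootSpace H (ρ - b.baseSupp j - b.baseSupp a) ∧ ⁅b.e a, x2⁆ ≠ 0 := by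
  have hW0 : W ≠ ⊥ := by
    intro h; rw [h, finrank_bot] at hW3; omega
  have h1 := top_le b ρ hρ htop (rho_ne b ρ j hj) W hH he hW0
  have hnot1 : ¬ W ≤ (rootSpace H ρ : Submodule K L) := by
    intro hle
    have := Submodule.finrank_mono hle
    rw [hW3, finrank_rs (rho_ne b ρ j hj) hρ] at this
    omega
  have h2 := pen_le b ρ hρ htop j hN hj W hH he hnot1
  have hnot2 : ¬ W ≤ (rootSpace H ρ : Submodule K L) ⊔
      (rootSpace H (ρ - b.baseSupp j) : Submodule K L) := by
    intro hle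
    have := Submodule.finrank_mono hle
    rw [hW3, finrank_U b ρ hρ htop j hj] at this
    omega
  obtain ⟨a, v, hvW, hvm, hva⟩ := third_vec b ρ hρ htop j hN hj W hH he hnot2
  have hv0 : v ≠ 0 := fun h => hva (by rw [h, lie_zero])
  have haj : a ≠ j := by
    rintro rfl
    exact hv0 (eq_zero_of_rs_eq_bot (sub_two_j_eq_bot b ρ hρ htop a hj) hvm)
  have hA := A_ne_zero_of_third b ρ hρ htop j hN hj haj (rs_ne_bot_of_mem hvm hv0)
  have hvm' : v ∈ rootSpace H (ρ - b.baseSupp j - b.baseSupp a) := hvm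
  have hne3 : ∃ h, ((ρ : H → K) - (b.baseSupp j : H → K) - (b.baseSupp a : H → K)) h ≠ 0 := by
    obtain ⟨h, hh⟩ := third_ne b ρ hρ htop j hN haj
    exact ⟨h, hh⟩
  have h3 : (rootSpace H (ρ - b.baseSupp j - b.baseSupp a) : Submodule K L) ≤ W :=
    rs_le_of_mem hne3 hvm' hv0 hvW
  refine ⟨a, haj, hA, ?_, v, hvW, hvm', hva⟩
  symm
  apply Submodule.eq_of_le_of_finrank_eq (sup_le (sup_le h1 h2) h3)
  rw [hW3, finrank_U3 b ρ hρ htop j hN hj haj (rs_ne_bot_of_mem hvm' hv0)]

end Hyp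

section Quad

variable {V : Type*} [AddCommGroup V] [Module K V] (q : QuadraticForm K V)

omit [IsAlgClosed K] in
/-- Pure quadratic-form algebra: semi-invariance under two "raising operators"
`X1 ↦ X0` and `X2 ↦ X1` kills all coefficients except that of `X2²`. -/
theorem quad_aux (X0 X1 X2 : V) (Nj Na : V → V)
    (hj0 : Nj X0 = 0) (hj1 : Nj X1 = X0) (hj2 : Nj X2 = 0) (hj02 : Nj (X0 + X2) = 0)
    (hj01 : Nj (X0 + X1) = X0) (hj12 : Nj (X1 + X2) = X0)
    (ha1 : Na X1 = 0) (ha2 : Na X2 = X1) (ha12 : Na (X1 + X2) = X1)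
    (cj : K) (hcj : ∀ w, QuadraticMap.polar q (Nj w) w = cj * q w)
    (ca : K) (hca : ∀ w, QuadraticMap.polar q (Na w) w = ca * q w) :
    q X0 = 0 ∧ q X1 = 0 ∧ QuadraticMap.polar q X0 X1 = 0 ∧ QuadraticMap.polar q X0 X2 = 0 ∧
      QuadraticMap.polar q X1 X2 = 0 := by
  have T1 := hcj X0
  rw [hj0, QuadraticMap.polar_zero_left] at T1
  have T2 := hcj X2
  rw [hj2, QuadraticMap.polar_zero_left] at T2
  have T3 := hcj X1
  rw [hj1] at T3
  have T4 := hcj (X0 + X2)
  rw [hj02, QuadraticMap.polar_zero_left, QuadraticMap.map_add q] at T4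
  have T5 := hcj (X0 + X1)
  rw [hj01, QuadraticMap.polar_add_right, QuadraticMap.polar_self, QuadraticMap.map_add q,
    two_smul] at T5
  have T6 := hcj (X1 + X2)
  rw [hj12, QuadraticMap.polar_add_right, QuadraticMap.map_add q] at T6
  have S1 := hca X1
  rw [ha1, QuadraticMap.polar_zero_left] at S1
  have S2 := hca X2
  rw [ha2] at S2
  have S3 := hca (X1 + X2)
  rw [ha12, QuadraticMap.polar_add_right, QuadraticMap.polar_self, QuadraticMap.map_add q,
    two_smul] at S3
  have two_ne : (2 : K) ≠ 0 := two_ne_zero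
  have hA : q X0 = 0 ∧ QuadraticMap.polar q X0 X1 = 0 ∧ QuadraticMap.polar q X0 X2 = 0 := by
    by_cases hc : cj = 0
    · rw [hc, zero_mul] at T3 T5 T6
      have h01 : QuadraticMap.polar q X0 X1 = 0 := T3
      have h00 : q X0 = 0 := by
        have : (2 : K) * q X0 = 0 := by linear_combination T5 - h01
        exact (mul_eq_zero.mp this).resolve_left two_ne
      refine ⟨h00, h01, ?_⟩
      linear_combination T6 - h01
    · have h00 : q X0 = 0 := (mul_eq_zero.mp T1.symm).resolve_left hc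
      have h22 : q X2 = 0 := (mul_eq_zero.mp T2.symm).resolve_left hc
      have h02 : QuadraticMap.polar q X0 X2 = 0 := by
        have := (mul_eq_zero.mp T4.symm).resolve_left hc
        linear_combination this - h00 - h22
      have h01 : QuadraticMap.polar q X0 X1 = 0 := by
        have : cj * QuadraticMap.polar q X0 X1 = 0 := by
          linear_combination (2 - cj) * h00 + T3 - T5
        exact (mul_eq_zero.mp this).resolve_left hc
      exact ⟨h00, h01, h02⟩
  have hB : q X1 = 0 ∧ QuadraticMap.polar q X1 X2 = 0 := by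
    by_cases hc : ca = 0
    · rw [hc, zero_mul] at S2 S3
      have h12 : QuadraticMap.polar q X1 X2 = 0 := S2
      have h11 : q X1 = 0 := by
        have : (2 : K) * q X1 = 0 := by linear_combination S3 - h12
        exact (mul_eq_zero.mp this).resolve_left two_ne
      exact ⟨h11, h12⟩
    · have h11 : q X1 = 0 := (mul_eq_zero.mp S1.symm).resolve_left hc
      have h12 : QuadraticMap.polar q X1 X2 = 0 := by
        have : ca * QuadraticMap.polar q X1 X2 = 0 := by
          linear_combination (2 - ca) * h11 + S2 - S3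
        exact (mul_eq_zero.mp this).resolve_left hc
      exact ⟨h11, h12⟩
  exact ⟨hA.1, hB.1, hA.2.1, hA.2.2, hB.2⟩

omit [IsAlgClosed K] [CharZero K] in
theorem quad_final (X0 X1 X2 : V) (h00 : q X0 = 0) (h11 : q X1 = 0)
    (h01 : QuadraticMap.polar q X0 X1 = 0) (h02 : QuadraticMap.polar q X0 X2 = 0)
    (h12 : QuadraticMap.polar q X1 X2 = 0) (c0 c1 c2 : K) :
    q (c0 • X0 + c1 • X1 + c2 • X2) = c2 * c2 * q X2 ∧
      QuadraticMap.polar q X2 (c0 • X0 + c1 • X1 + c2 • X2) = 2 * c2 * q X2 := by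
  have h20 : QuadraticMap.polar q X2 X0 = 0 := by rw [QuadraticMap.polar_comm]; exact h02
  have h21 : QuadraticMap.polar q X2 X1 = 0 := by rw [QuadraticMap.polar_comm]; exact h12
  constructor
  · simp only [QuadraticMap.map_add q, QuadraticMap.map_smul, QuadraticMap.polar_add_left,
      QuadraticMap.polar_smul_left, QuadraticMap.polar_smul_right, h00, h11, h01, h02, h12,
      smul_eq_mul, mul_zero, add_zero, zero_add]
  · simp only [QuadraticMap.polar_add_right, QuadraticMap.polar_smul_right, h20, h21,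
      QuadraticMap.polar_self, smul_eq_mul, mul_zero, add_zero, zero_add, two_smul]
    ring

end Quad

end Groth.Agent.Lib.Helper6.AdjVar
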