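import Groth.Agent.Lib.Helper6.AdjVar4

/-!
# The five-dimensional subalgebra attached to the highest root (helper6)

An abstract "bracket table" for five vectors `Hr, E, F, x, y` (an `sl₂`-triple together with its
two-dimensional standard module), the resulting five-dimensional Lie subalgebra, its radical, and
the realisation of this table inside a simple Lie algebra from the highest root `ρ` and the
penultimate root `ρ - α_j`.
-/

set_option autoImplicit false
set_option linter.unusedSectionVars false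
universe u v w
open LieAlgebra LieModule

namespace Groth.Agent.Lib.Helper6.AdjVar

section Five

/-- Bracket table of `sl₂ ⋉ K²` on five nonzero vectors. -/
structure FiveTable (K : Type v) {L : Type w} [Field K] [LieRing L] [LieAlgebra K L]
    (Hr E F x y : L) : Prop where
  E0 : E ≠ 0
  F0 : F ≠ 0
  H0 : Hr ≠ 0
  x0 : x ≠ 0
  y0 : y ≠ 0
  HE : ⁅Hr, E⁆ = (2 : K) • E
  HF : ⁅Hr, F⁆ = (-2 : K) • F
  Hx : ⁅Hr, x⁆ = x
  Hy : ⁅Hr, y⁆ = -y
  EF : ⁅E, F⁆ = Hr
  Ex : ⁅E, x⁆ = 0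
  Ey : ⁅E, y⁆ = x
  Fx : ⁅F, x⁆ = y
  Fy : ⁅F, y⁆ = 0
  xy : ⁅x, y⁆ = 0

variable {K : Type v} {L : Type w} [Field K] [LieRing L] [LieAlgebra K L] {Hr E F x y : L}

namespace FiveTable

variable (t : FiveTable K Hr E F x y)
include t

lemma EH : ⁅E, Hr⁆ = (-2 : K) • E := by rw [← lie_skew, t.HE, neg_smul]
lemma FH : ⁅F, Hr⁆ = (2 : K) • F := by rw [← lie_skew, t.HF, neg_smul, neg_neg]
lemma xH : ⁅x, Hr⁆ = -x := by rw [← lie_skew, t.Hx]
lemma yH : ⁅y, Hr⁆ = y := by rw [← lie_skew, t.Hy, neg_neg]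
lemma FE : ⁅F, E⁆ = -Hr := by rw [← lie_skew, t.EF]
lemma xE : ⁅x, E⁆ = 0 := by rw [← lie_skew, t.Ex, neg_zero]
lemma yE : ⁅y, E⁆ = -x := by rw [← lie_skew, t.Ey]
lemma xF : ⁅x, F⁆ = -y := by rw [← lie_skew, t.Fx]
lemma yF : ⁅y, F⁆ = 0 := by rw [← lie_skew, t.Fy, neg_zero]
lemma yx : ⁅y, x⁆ = 0 := by rw [← lie_skew, t.xy, neg_zero]

end FiveTable

theorem five_mem {z : L} : z ∈ Submodule.span K (Set.range ![E, F, Hr, x, y]) ↔
    ∃ a b c d e : K, z = a • E + b • F + c • Hr + d • x + e • y := by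
  rw [Submodule.mem_span_range_iff_exists_fun]
  constructor
  · rintro ⟨c, rfl⟩
    refine ⟨c 0, c 1, c 2, c 3, c 4, ?_⟩
    rw [Fin.sum_univ_five]
    rfl
  · rintro ⟨a, b, c, d, e, rfl⟩
    refine ⟨![a, b, c, d, e], ?_⟩
    rw [Fin.sum_univ_five]
    rfl

theorem five_closed (t : FiveTable K Hr E F x y) (u : L)
    (hu : u ∈ Submodule.span K (Set.range ![E, F, Hr, x, y])) (w : L)
    (hw : w ∈ Submodule.span K (Set.range ![E, F, Hr, x, y])) :
    ⁅u, w⁆ ∈ Submodule.span K (Set.range ![E, F, Hr, x, y]) := by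
  have gE : E ∈ Submodule.span K (Set.range ![E, F, Hr, x, y]) := Submodule.subset_span ⟨0, rfl⟩
  have gF : F ∈ Submodule.span K (Set.range ![E, F, Hr, x, y]) := Submodule.subset_span ⟨1, rfl⟩
  have gH : Hr ∈ Submodule.span K (Set.range ![E, F, Hr, x, y]) := Submodule.subset_span ⟨2, rfl⟩
  have gx : x ∈ Submodule.span K (Set.range ![E, F, Hr, x, y]) := Submodule.subset_span ⟨3, rfl⟩
  have gy : y ∈ Submodule.span K (Set.range ![E, F, Hr, x, y]) := Submodule.subset_span ⟨4, rfl⟩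
  obtain ⟨a, b, c, d, e, rfl⟩ := five_mem.mp hu
  obtain ⟨a', b', c', d', e', rfl⟩ := five_mem.mp hw
  simp only [add_lie, lie_add, smul_lie, lie_smul, lie_self, t.HE, t.HF, t.Hx, t.Hy, t.EF, t.Ex,
    t.Ey, t.Fx, t.Fy, t.xy, t.EH, t.FH, t.xH, t.yH, t.FE, t.xE, t.yE, t.xF, t.yF, t.yx]
  repeat' (first | assumption | exact zero_mem _ | apply Submodule.add_mem |
    apply Submodule.smul_mem | apply Submodule.neg_mem)

theorem five_ideal (t : FiveTable K Hr E F x y) (u : L)
    (hu : u ∈ Submodule.span K (Set.range ![E, F, Hr, x, y])) (w : L)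
    (hw : w ∈ Submodule.span K ({x, y} : Set L)) :
    ⁅u, w⁆ ∈ Submodule.span K ({x, y} : Set L) := by
  have gx : x ∈ Submodule.span K ({x, y} : Set L) := Submodule.subset_span (by simp)
  have gy : y ∈ Submodule.span K ({x, y} : Set L) := Submodule.subset_span (by simp)
  obtain ⟨a, b, c, d, e, rfl⟩ := five_mem.mp hu
  obtain ⟨d', e', rfl⟩ := Submodule.mem_span_pair.mp hw
  simp only [add_lie, lie_add, smul_lie, lie_smul, lie_self, t.Hx, t.Hy, t.Ex, t.Ey, t.Fx, t.Fy,
    t.xy, t.yx]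
  repeat' (first | assumption | exact zero_mem _ | apply Submodule.add_mem |
    apply Submodule.smul_mem | apply Submodule.neg_mem)

theorem five_EE (t : FiveTable K Hr E F x y) (a b c d e : K) :
    ⁅E, ⁅E, a • E + b • F + c • Hr + d • x + e • y⁆⁆ = (-2 * b) • E := by
  simp only [lie_add, lie_smul, lie_self, t.EF, t.EH, t.Ex, t.Ey, smul_zero, add_zero,
    zero_add]
  module

theorem five_F (t : FiveTable K Hr E F x y) (a b c d e : K) :
    ⁅F, a • E + b • F + c • Hr + d • x + e • y⁆ =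
      (0 : K) • E + (2 * c) • F + (-a) • Hr + (0 : K) • x + d • y := by
  simp only [lie_add, lie_smul, lie_self, t.FE, t.FH, t.Fx, t.Fy, smul_zero, add_zero]
  module

variable [CharZero K]

theorem five_li (t : FiveTable K Hr E F x y) : LinearIndependent K ![E, F, Hr, x, y] := by
  have hμ : Function.Injective (![2, -2, 0, 1, -1] : Fin 5 → K) := by
    intro a c hac
    fin_cases a <;> fin_cases c <;>
      first
      | rfl
      | (exfalso; simp at hac; try (norm_num at hac))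
  refine Module.End.eigenvectors_linearIndependent' (LieModule.toEnd K L L Hr) _ hμ _ ?_
  intro i
  rw [Module.End.hasEigenvector_iff, Module.End.mem_eigenspace_iff]
  fin_cases i
  · exact ⟨t.HE, t.E0⟩
  · exact ⟨t.HF, t.F0⟩
  · refine ⟨?_, t.H0⟩
    show ⁅Hr, Hr⁆ = (0 : K) • Hr
    rw [lie_self, zero_smul]
  · refine ⟨?_, t.x0⟩
    show ⁅Hr, x⁆ = (1 : K) • x
    rw [one_smul, t.Hx]
  · refine ⟨?_, t.y0⟩
    show ⁅Hr, y⁆ = (-1 : K) • y
    rw [neg_one_smul, t.Hy]

theorem five_li_xy (t : FiveTable K Hr E F x y) : LinearIndependent K ![x, y] := by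
  rw [LinearIndependent.pair_iff]
  intro s r hsr
  have h1 : ⁅Hr, s • x + r • y⁆ = 0 := by rw [hsr, lie_zero]
  rw [lie_add, lie_smul, lie_smul, t.Hx, t.Hy] at h1
  have h2 : (2 * s) • x = 0 := by
    have : (2 * s) • x = (s • x + r • y) + (s • x + r • -y) := by module
    rw [this, hsr, h1, add_zero]
  have hs : s = 0 := by
    rcases smul_eq_zero.mp h2 with h | h
    · exact (mul_eq_zero.mp h).resolve_left (by norm_num)
    · exact absurd h t.x0
  subst hs
  rw [zero_smul, zero_add] at hsr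
  rcases smul_eq_zero.mp hsr with h | h
  · exact ⟨rfl, h⟩
  · exact absurd h t.y0

theorem five_main [FiniteDimensional K L] (t : FiveTable K Hr E F x y) (A : LieSubalgebra K L)
    (hA : A.toSubmodule = Submodule.span K (Set.range ![E, F, Hr, x, y])) :
    Module.finrank K A = 5 ∧ Module.finrank K (LieAlgebra.radical K A) = 2 ∧
      (LieAlgebra.radical K A).toSubmodule.map (A.incl : A →ₗ⁅K⁆ L).toLinearMap =
        Submodule.span K ({x, y} : Set L) := by
  classical
  have hmem : ∀ z : L, z ∈ A ↔ z ∈ Submodule.span K (Set.range ![E, F, Hr, x, y]) := by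
    intro z
    rw [← hA]
    exact Iff.rfl
  have hEA : E ∈ A := (hmem E).mpr (Submodule.subset_span ⟨0, rfl⟩)
  have hFA : F ∈ A := (hmem F).mpr (Submodule.subset_span ⟨1, rfl⟩)
  have hHA : Hr ∈ A := (hmem Hr).mpr (Submodule.subset_span ⟨2, rfl⟩)
  have hxA : x ∈ A := (hmem x).mpr (Submodule.subset_span ⟨3, rfl⟩)
  have hyA : y ∈ A := (hmem y).mpr (Submodule.subset_span ⟨4, rfl⟩)
  have h5 : Module.finrank K A = 5 := by
    show Module.finrank K (A.toSubmodule) = 5
    rw [hA, finrank_span_eq_card (five_li t)]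
    simp
  have hSA : ∀ u ∈ Submodule.span K ({x, y} : Set L), u ∈ A := by
    intro u hu
    obtain ⟨d, e, rfl⟩ := Submodule.mem_span_pair.mp hu
    exact add_mem (A.smul_mem d hxA) (A.smul_mem e hyA)
  let I : LieIdeal K A :=
    { toSubmodule := (Submodule.span K ({x, y} : Set L)).comap (A.incl : A →ₗ⁅K⁆ L).toLinearMap
      lie_mem := fun {a m} hm => five_ideal t (a : L) ((hmem a).mp a.2) (m : L) hm }
  have hImem : ∀ m : A, m ∈ I ↔ (m : L) ∈ Submodule.span K ({x, y} : Set L) := fun m => Iff.rfl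
  have hIsolv : LieAlgebra.IsSolvable I := by
    refine LieAlgebra.IsSolvable.mk (R := K) (k := 1) ?_
    rw [LieIdeal.derivedSeries_eq_bot_iff, LieAlgebra.derivedSeriesOfIdeal_succ,
      LieAlgebra.derivedSeriesOfIdeal_zero, LieSubmodule.lie_eq_bot_iff]
    intro u hu m hm
    obtain ⟨d1, e1, h1⟩ := Submodule.mem_span_pair.mp ((hImem u).mp hu)
    obtain ⟨d2, e2, h2⟩ := Submodule.mem_span_pair.mp ((hImem m).mp hm)
    have : ⁅(u : L), (m : L)⁆ = 0 := by
      rw [← h1, ← h2]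
      simp only [add_lie, lie_add, smul_lie, lie_smul, lie_self, t.xy, t.yx, smul_zero, add_zero]
    exact Subtype.ext this
  have hIle : I ≤ LieAlgebra.radical K A := le_sSup hIsolv
  let eA : A := ⟨E, hEA⟩
  let fA : A := ⟨F, hFA⟩
  let hrA : A := ⟨Hr, hHA⟩
  have b1 : ⁅eA, fA⁆ = hrA := Subtype.ext t.EF
  have b2 : ⁅hrA, eA⁆ = (2 : K) • eA := Subtype.ext t.HE
  have b3 : ⁅hrA, fA⁆ = (-2 : K) • fA := Subtype.ext t.HF
  have hnotE : eA ∉ LieAlgebra.radical K A := by
    intro hE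
    have aux : ∀ J : LieIdeal K A, eA ∈ J → fA ∈ J ∧ hrA ∈ J := by
      intro J hJ
      have h1 : hrA ∈ J := by
        have h0 : ⁅fA, eA⁆ ∈ J := J.lie_mem hJ
        rw [← lie_skew, b1] at h0
        exact neg_mem_iff.mp h0
      have h2 : ⁅fA, hrA⁆ ∈ J := J.lie_mem h1
      rw [← lie_skew, b3] at h2
      have h3 : (-2 : K) • fA ∈ J := neg_mem_iff.mp h2
      have h4 := SMulMemClass.smul_mem ((-2 : K)⁻¹) h3
      rw [smul_smul, inv_mul_cancel₀ (by norm_num), one_smul] at h4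
      exact ⟨h4, h1⟩
    have key : ∀ k, eA ∈ LieAlgebra.derivedSeriesOfIdeal K A k (LieAlgebra.radical K A) := by
      intro k
      induction k with
      | zero =>
        rw [LieAlgebra.derivedSeriesOfIdeal_zero]
        exact hE
      | succ k ih =>
        obtain ⟨-, ih'⟩ := aux _ ih
        rw [LieAlgebra.derivedSeriesOfIdeal_succ]
        have h1 : ⁅hrA, eA⁆ ∈ ⁅LieAlgebra.derivedSeriesOfIdeal K A k (LieAlgebra.radical K A),
            LieAlgebra.derivedSeriesOfIdeal K A k (LieAlgebra.radical K A)⁆ :=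
          LieSubmodule.lie_mem_lie ih' ih
        rw [b2] at h1
        have h2 := SMulMemClass.smul_mem ((2 : K)⁻¹) h1
        rw [smul_smul, inv_mul_cancel₀ (by norm_num), one_smul] at h2
        exact h2
    obtain ⟨k, hk⟩ := LieAlgebra.IsSolvable.solvable K (LieAlgebra.radical K A)
    rw [LieIdeal.derivedSeries_eq_bot_iff] at hk
    have h0 := key k
    rw [hk] at h0
    have h00 : eA = 0 := (LieSubmodule.mem_bot eA).mp h0
    exact t.E0 (congrArg Subtype.val h00)
  have hRI : LieAlgebra.radical K A ≤ I := by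
    intro z hz
    rw [hImem]
    have hid : ∀ (a : L) (ha : a ∈ A) (w : A), w ∈ LieAlgebra.radical K A →
        ∃ w' : A, w' ∈ LieAlgebra.radical K A ∧ (w' : L) = ⁅a, (w : L)⁆ := by
      intro a ha w hw
      exact ⟨⁅(⟨a, ha⟩ : A), w⁆, (LieAlgebra.radical K A).lie_mem hw, rfl⟩
    have hsc : ∀ r : K, ∀ w : A, w ∈ LieAlgebra.radical K A → (w : L) = r • E → r = 0 := by
      intro r w hw hwE
      by_contra hr
      apply hnotE
      have h1 := SMulMemClass.smul_mem (r⁻¹) hw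
      have h2 : r⁻¹ • w = eA := by
        apply Subtype.ext
        show r⁻¹ • (w : L) = E
        rw [hwE, smul_smul, inv_mul_cancel₀ hr, one_smul]
      rwa [h2] at h1
    have hb : ∀ w : A, w ∈ LieAlgebra.radical K A → ∀ a b c d e : K,
        (w : L) = a • E + b • F + c • Hr + d • x + e • y → b = 0 := by
      intro w hw a b c d e hwe
      obtain ⟨w1, hw1, e1⟩ := hid E hEA w hw
      obtain ⟨w2, hw2, e2⟩ := hid E hEA w1 hw1
      have h1 : (w2 : L) = (-2 * b) • E := by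
        rw [e2, e1, hwe]
        exact five_EE t a b c d e
      have h2 := hsc _ w2 hw2 h1
      exact (mul_eq_zero.mp h2).resolve_left (by norm_num)
    obtain ⟨a, b, c, d, e, hze⟩ := five_mem.mp ((hmem z).mp z.2)
    have hb0 := hb z hz a b c d e hze
    obtain ⟨z1, hz1, e1⟩ := hid F hFA z hz
    have hz1e : (z1 : L) = (0 : K) • E + (2 * c) • F + (-a) • Hr + (0 : K) • x + d • y := by
      rw [e1, hze]
      exact five_F t a b c d e
    have hc0 := hb z1 hz1 _ _ _ _ _ hz1e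
    obtain ⟨z2, hz2, e2⟩ := hid F hFA z1 hz1
    have hz2e : (z2 : L) = (0 : K) • E + (2 * (-a)) • F + (-(0 : K)) • Hr + (0 : K) • x +
        (0 : K) • y := by
      rw [e2, hz1e]
      exact five_F t _ _ _ _ _
    have ha0 := hb z2 hz2 _ _ _ _ _ hz2e
    have hc : c = 0 := (mul_eq_zero.mp hc0).resolve_left (by norm_num)
    have ha : a = 0 := neg_eq_zero.mp ((mul_eq_zero.mp ha0).resolve_left (by norm_num))
    rw [hze, ha, hb0, hc]
    simp only [zero_smul, zero_add]
    exact Submodule.add_mem _ (Submodule.smul_mem _ d (Submodule.subset_span (by simp)))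
      (Submodule.smul_mem _ e (Submodule.subset_span (by simp)))
  have hReq : LieAlgebra.radical K A = I := le_antisymm hRI hIle
  have hmap : (LieAlgebra.radical K A).toSubmodule.map (A.incl : A →ₗ⁅K⁆ L).toLinearMap =
      Submodule.span K ({x, y} : Set L) := by
    rw [hReq]
    apply le_antisymm
    · intro u hu
      obtain ⟨m, hm, rfl⟩ := Submodule.mem_map.mp hu
      exact hm
    · intro u hu
      exact Submodule.mem_map.mpr ⟨⟨u, hSA u hu⟩, hu, rfl⟩
  refine ⟨h5, ?_, hmap⟩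
  have hinj : Function.Injective (A.incl : A →ₗ⁅K⁆ L).toLinearMap := fun p q h => Subtype.ext h
  have e1 := (Submodule.equivMapOfInjective _ hinj
    (LieAlgebra.radical K A).toSubmodule).finrank_eq
  show Module.finrank K (LieAlgebra.radical K A).toSubmodule = 2
  rw [e1, hmap]
  have h2 := finrank_span_eq_card (five_li_xy t)
  rw [Matrix.range_cons_cons_empty] at h2
  simpa using h2

end Five

section Root

variable {ι : Type u} {K : Type v} {L : Type w} [Fintype ι] [Field K] [CharZero K]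
    [IsAlgClosed K] [LieRing L] [LieAlgebra K L] [FiniteDimensional K L] [LieAlgebra.IsSimple K L]
    {H : LieSubalgebra K L} [H.IsCartanSubalgebra] (b : LieAlgebra.Basis ι H)
    (ρ : Module.Dual K H)

/-- Root string through a weight `β` in the direction of an arbitrary nonzero root `χ`. -/
theorem string_gen (χ : H → K) (hχ : rootSpace H χ ≠ ⊥) (hχ0 : ∃ h, χ h ≠ 0)
    (β : H → K) (hβ : rootSpace H β ≠ ⊥) :
    ∃ p q : ℕ, β (IsKilling.coroot (⟨χ, hχ⟩ : Weight K H L)) = (p : K) - (q : K) ∧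
      ∀ (n : ℤ) (γ : H → K), (∀ h, γ h = β h + (n : K) * χ h) →
        (rootSpace H γ ≠ ⊥ ↔ n ≤ q ∧ -n ≤ p) := by
  let α : Weight K H L := ⟨χ, hχ⟩
  let β' : Weight K H L := ⟨β, hβ⟩
  have hα : α.IsNonZero := by
    intro h0
    obtain ⟨h, hh⟩ := hχ0
    exact hh (congrFun h0 h)
  refine ⟨chainBotCoeff α β', chainTopCoeff α β', ?_, ?_⟩
  · have h1 := IsKilling.apply_coroot_eq_cast α β'
    show β' (IsKilling.coroot α) = _
    rw [h1]
    push_cast
    ring
  · intro n γ hγ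
    have h1 := IsKilling.rootSpace_zsmul_add_ne_bot_iff α β' hα n
    have e : γ = n • (α : H → K) + (β' : H → K) := by
      funext h
      rw [hγ h]
      show β h + (n : K) * χ h = n • (χ h) + β h
      rw [zsmul_eq_mul]
      ring
    rw [e]
    exact h1

/-- The negative of a root is a root. -/
lemma rs_neg_ne_bot {χ : H → K} (h : rootSpace H χ ≠ ⊥) :
    rootSpace H (fun y => - χ y) ≠ ⊥ := by
  let α : Weight K H L := ⟨χ, h⟩
  exact (-α).genWeightSpace_ne_bot

lemma rs_eq_bot_of_neg {χ : H → K} (h : rootSpace H (fun y => - χ y) = ⊥) :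
    rootSpace H χ = ⊥ := by
  by_contra hne
  exact rs_neg_ne_bot hne h

section Hyp

variable (hρ : rootSpace H ρ ≠ ⊥) (htop : ∀ i, rootSpace H (ρ + b.baseSupp i) = ⊥)
    (j : ι) (hj : ρ (b.h' j) = 1)

include hρ htop hj in
theorem two_rho_sub_eq_bot :
    rootSpace H (fun h => ρ h + ρ h - b.baseSupp j h) = ⊥ := by
  by_contra hne
  obtain ⟨x0, hx0m, hx0n⟩ := exists_ne_zero_of_rs_ne_bot hρ
  have hex0 := e_top_zero b ρ htop hx0m
  obtain ⟨n, hn⟩ := hw_weights b hx0m hx0n hex0 hne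
  obtain ⟨k, hk⟩ := hw_weights b hx0m hx0n hex0 (rs_neg_ne_bot hρ)
  obtain ⟨h0, hh0⟩ := exists_h0 b
  have e1 := hn h0
  have e2 := hk h0
  simp only [hh0, mul_one] at e1 e2
  have h3 : ((2 * ∑ i, n i + ∑ i, k i : ℕ) : K) = ((2 : ℕ) : K) := by
    push_cast
    linear_combination 2 * e1 + e2
  have h4 : 2 * ∑ i, n i + ∑ i, k i = 2 := by exact_mod_cast h3
  rcases Nat.eq_zero_or_pos (∑ i, n i) with hz | hp
  · have hn0 : ∀ i, n i = 0 := fun i => Finset.sum_eq_zero_iff.mp hz i (Finset.mem_univ i)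
    have h5 := hn (b.h' j)
    rw [hj, b.baseSupp_apply_h', A_diag] at h5
    norm_num [hn0] at h5
  · have hk0' : ∑ i, k i = 0 := by omega
    have hk0 : ∀ i, k i = 0 := fun i => Finset.sum_eq_zero_iff.mp hk0' i (Finset.mem_univ i)
    have h5 := hk (b.h' j)
    rw [hj] at h5
    norm_num [hk0] at h5

include htop in
theorem neg_rho_sub_eq_bot :
    rootSpace H (fun h => - ρ h - b.baseSupp j h) = ⊥ := by
  by_contra hne
  apply rs_neg_ne_bot hne
  rw [← htop j]
  exact rs_congr fun h => by simp only [Pi.add_apply]; ring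

lemma neg_j_ne_bot : rootSpace H (fun h => - b.baseSupp j h) ≠ ⊥ :=
  rs_ne_bot_of_mem (f_mem_rs b j) (b.sl2 j).f_ne_zero

include htop hj in
theorem alpha_coroot :
    b.baseSupp j (IsKilling.coroot (⟨ρ, hρ⟩ : Weight K H L)) = 1 := by
  have hρ0 := rho_ne b ρ j hj
  obtain ⟨p, q, hpq, hstr⟩ := string_gen (ρ : H → K) hρ hρ0 (fun h => - b.baseSupp j h)
    (neg_j_ne_bot b j)
  have h1 : ¬ ((-1 : ℤ) ≤ q ∧ -(-1 : ℤ) ≤ p) := fun h =>
    (hstr (-1) (fun h => - ρ h - b.baseSupp j h) (fun h => by beta_reduce; push_cast; ring)).mpr h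
      (neg_rho_sub_eq_bot b ρ htop j)
  have h2 : ((1 : ℤ) ≤ q ∧ -(1 : ℤ) ≤ p) :=
    (hstr 1 (ρ - b.baseSupp j) (fun h => by
      simp only [Pi.sub_apply]; push_cast; ring)).mp (sub_j_ne_bot b ρ hρ htop j hj)
  have h3 : ¬ ((2 : ℤ) ≤ q ∧ -(2 : ℤ) ≤ p) := fun h =>
    (hstr 2 (fun h => ρ h + ρ h - b.baseSupp j h) (fun h => by
      beta_reduce; push_cast; ring)).mpr h (two_rho_sub_eq_bot b ρ hρ htop j hj)
  have hp : p = 0 := by omega
  have hq : q = 1 := by omega
  rw [hp, hq] at hpq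
  have h4 : - b.baseSupp j (IsKilling.coroot (⟨ρ, hρ⟩ : Weight K H L)) =
      ((0 : ℕ) : K) - ((1 : ℕ) : K) := hpq
  push_cast at h4
  linear_combination -h4

include hρ htop hj in
/-- The five vectors `H_ρ, E_ρ, E_{-ρ}, E_{ρ-α_j}, E_{-α_j}` with their bracket table. -/
theorem five_exists :
    ∃ (Hr : H) (E F x y : L), FiveTable K (Hr : L) E F x y ∧
      E ∈ rootSpace H ρ ∧ F ∈ rootSpace H (fun h => - ρ h) ∧
      x ∈ rootSpace H (ρ - b.baseSupp j) ∧ y ∈ rootSpace H (fun h => - b.baseSupp j h) := by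
  have hρ0 : ∃ h, ρ h ≠ 0 := rho_ne b ρ j hj
  let ρw : Weight K H L := ⟨ρ, hρ⟩
  have hnz : ρw.IsNonZero := by
    intro h0
    obtain ⟨h, hh⟩ := hρ0
    exact hh (congrFun h0 h)
  obtain ⟨hh, E, F, ht, hE, hF⟩ := IsKilling.exists_isSl2Triple_of_weight_isNonZero hnz
  have hhc : hh = ((IsKilling.coroot ρw : H) : L) := ht.h_eq_coroot hnz hE hF
  have hE' : E ∈ rootSpace H ρ := hE
  have hF' : F ∈ rootSpace H (fun h => - ρ h) := hF
  obtain ⟨x, hx, hx0⟩ := exists_ne_zero_of_rs_ne_bot (sub_j_ne_bot b ρ hρ htop j hj)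
  have hρH : ρ (IsKilling.coroot ρw) = 2 := IsKilling.root_apply_coroot hnz
  have hαH : b.baseSupp j (IsKilling.coroot ρw) = 1 := alpha_coroot b ρ hρ htop j hj
  subst hhc
  obtain ⟨Hr, hHr⟩ : ∃ Hr : H, Hr = IsKilling.coroot ρw := ⟨_, rfl⟩
  rw [← hHr] at ht hρH hαH
  have hx_eig : ⁅(Hr : L), x⁆ = x := by
    have h1 := lie_smul_of_mem_rs hx Hr
    rw [h1, Pi.sub_apply, hρH, hαH]
    norm_num
  obtain ⟨y, hy⟩ : ∃ y, y = ⁅F, x⁆ := ⟨_, rfl⟩
  have hym : y ∈ rootSpace H (fun h => - b.baseSupp j h) := by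
    rw [hy]
    exact lie_mem_rs (fun h => by simp only [Pi.sub_apply]; ring) hF' hx
  have hEx : ⁅E, x⁆ = 0 :=
    eq_zero_of_rs_eq_bot (two_rho_sub_eq_bot b ρ hρ htop j hj)
      (lie_mem_rs (fun h => by simp only [Pi.sub_apply]; ring) hE' hx)
  have hEy : ⁅E, y⁆ = x := by
    rw [hy, leibniz_lie, ht.lie_e_f, hEx, lie_zero, add_zero, hx_eig]
  have hy0 : y ≠ 0 := by
    intro h0
    rw [h0, lie_zero] at hEy
    exact hx0 hEy.symm
  have hy_eig : ⁅(Hr : L), y⁆ = -y := by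
    have h1 := lie_smul_of_mem_rs hym Hr
    rw [h1]
    show (-(b.baseSupp j Hr)) • y = -y
    rw [hαH, neg_smul, one_smul]
  have hFy : ⁅F, y⁆ = 0 :=
    eq_zero_of_rs_eq_bot (neg_rho_sub_eq_bot b ρ htop j)
      (lie_mem_rs (fun h => by beta_reduce; ring) hF' hym)
  have hxy : ⁅x, y⁆ = 0 :=
    eq_zero_of_rs_eq_bot (sub_two_j_eq_bot b ρ hρ htop j hj)
      (lie_mem_rs (fun h => by simp only [Pi.sub_apply]; ring) hx hym)
  refine ⟨Hr, E, F, x, y,
    { E0 := ht.e_ne_zero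
      F0 := ht.f_ne_zero
      H0 := ht.h_ne_zero
      x0 := hx0
      y0 := hy0
      HE := ht.lie_h_e_smul K
      HF := by rw [ht.lie_lie_smul_f K, neg_smul]
      Hx := hx_eig
      Hy := hy_eig
      EF := ht.lie_e_f
      Ex := hEx
      Ey := hEy
      Fx := hy.symm
      Fy := hFy
      xy := hxy }, hE', hF', hx, hym⟩

end Hyp

end Root

end Groth.Agent.Lib.Helper6.AdjVar
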