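import Mathlib
import Groth.Prelude.Def_PolLaw2

/-!
# Generation of a universal divided power algebra by the values of its law

If `γ : B → C` is a universal multiplicative law of degree `d` (`PolLaw.IsGammaD γ`) and `C₀ ⊆ C` is a
subalgebra through which all members of `γ` over polynomial rings factor, then `C₀ = ⊤`
(`eq_top_of_hasLifts`).  The proof descends `γ` to a law with values in `C₀` (Roby's extension
argument from polynomial rings to arbitrary test algebras).
-/

set_option autoImplicit false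
universe u

namespace Groth.Agent.Lib.helper6.GammaGen

open scoped TensorProduct
open MvPolynomial

section basics
variable {A : Type u} [CommRing A]

theorem lT_rT {S S' : Type u} [CommSemiring S] [Algebra A S] [CommSemiring S'] [Algebra A S']
    (θ : S →ₐ[A] S') {N N' : Type u} [AddCommGroup N] [Module A N] [AddCommGroup N'] [Module A N']
    (g : N →ₗ[A] N') (z : S ⊗[A] N) :
    g.lTensor S' (θ.toLinearMap.rTensor N z) = θ.toLinearMap.rTensor N' (g.lTensor S z) := by
  rw [← LinearMap.comp_apply, ← LinearMap.comp_apply, LinearMap.lTensor_comp_rTensor,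
    LinearMap.rTensor_comp_lTensor]

theorem rT_comp {S S' S'' : Type u} [CommSemiring S] [Algebra A S] [CommSemiring S'] [Algebra A S']
    [CommSemiring S''] [Algebra A S''] (θ : S →ₐ[A] S') (θ' : S' →ₐ[A] S'')
    {N : Type u} [AddCommGroup N] [Module A N] (z : S ⊗[A] N) :
    θ'.toLinearMap.rTensor N (θ.toLinearMap.rTensor N z) = (θ'.comp θ).toLinearMap.rTensor N z := by
  rw [AlgHom.comp_toLinearMap, LinearMap.rTensor_comp, LinearMap.comp_apply]

theorem rT_smul {S S' : Type u} [CommSemiring S] [Algebra A S] [CommSemiring S'] [Algebra A S']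
    (θ : S →ₐ[A] S') {N : Type u} [AddCommGroup N] [Module A N] (p : S) (z : S ⊗[A] N) :
    θ.toLinearMap.rTensor N (p • z) = θ p • θ.toLinearMap.rTensor N z := by
  induction z using TensorProduct.induction_on with
  | zero => simp
  | tmul q n =>
    rw [TensorProduct.smul_tmul', LinearMap.rTensor_tmul, LinearMap.rTensor_tmul,
      TensorProduct.smul_tmul', AlgHom.toLinearMap_apply, AlgHom.toLinearMap_apply, smul_eq_mul,
      smul_eq_mul, map_mul]
  | add x y hx hy => rw [smul_add, map_add, map_add, smul_add, hx, hy]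

theorem lT_smul {S : Type u} [CommSemiring S] [Algebra A S]
    {N N' : Type u} [AddCommGroup N] [Module A N] [AddCommGroup N'] [Module A N']
    (g : N →ₗ[A] N') (p : S) (z : S ⊗[A] N) :
    g.lTensor S (p • z) = p • g.lTensor S z := by
  induction z using TensorProduct.induction_on with
  | zero => simp
  | tmul q n =>
    rw [TensorProduct.smul_tmul', LinearMap.lTensor_tmul, LinearMap.lTensor_tmul,
      TensorProduct.smul_tmul']
  | add x y hx hy => rw [smul_add, map_add, map_add, smul_add, hx, hy]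

/-- evaluation of the polynomial ring on the elements of `S` -/
noncomputable def evS (S : Type u) [CommSemiring S] [Algebra A S] : MvPolynomial S A →ₐ[A] S :=
  MvPolynomial.aeval (fun s => s)

theorem evS_X (S : Type u) [CommSemiring S] [Algebra A S] (s : S) :
    evS (A := A) S (X s) = s := by
  unfold evS
  rw [MvPolynomial.aeval_X]

theorem evS_surj (S : Type u) [CommSemiring S] [Algebra A S] :
    Function.Surjective (evS (A := A) S) := fun s => ⟨X s, evS_X S s⟩

end basics

section main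
variable {A : Type u} [CommRing A] {B : Type u} [CommRing B] [Algebra A B]
  {C : Type u} [CommRing C] [Algebra A C] {d : ℕ}

/-- all members of `γ` over polynomial rings factor through `C₀` -/
def HasLifts (γ : PolLaw.MulLaw A B C d) (C₀ : Subalgebra A C) : Prop :=
  ∀ (σ : Type u) (x : MvPolynomial σ A ⊗[A] B),
    γ.law.toFun' (MvPolynomial σ A) x ∈
      LinearMap.range (C₀.val.toLinearMap.lTensor (MvPolynomial σ A))

variable {γ : PolLaw.MulLaw A B C d} {C₀ : Subalgebra A C}

theorem inj_poly (C₀ : Subalgebra A C) (σ : Type u) :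
    Function.Injective ((C₀.val.toLinearMap).lTensor (MvPolynomial σ A)) :=
  Module.Flat.lTensor_preserves_injective_linearMap _ Subtype.val_injective

theorem exists_lift (S : Type u) [CommSemiring S] [Algebra A S] (x : S ⊗[A] B) :
    ∃ x' : MvPolynomial S A ⊗[A] B, (evS S).toLinearMap.rTensor B x' = x :=
  LinearMap.rTensor_surjective B (evS_surj S) x

variable (h : HasLifts γ C₀)

/-- the lift of `γ_P(x)` to `P ⊗ C₀` -/
noncomputable def yy (σ : Type u) (x : MvPolynomial σ A ⊗[A] B) : MvPolynomial σ A ⊗[A] C₀ :=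
  Classical.choose (LinearMap.mem_range.mp (h σ x))

theorem yy_spec (σ : Type u) (x : MvPolynomial σ A ⊗[A] B) :
    C₀.val.toLinearMap.lTensor (MvPolynomial σ A) (yy h σ x) =
      γ.law.toFun' (MvPolynomial σ A) x :=
  Classical.choose_spec (LinearMap.mem_range.mp (h σ x))

theorem yy_nat {σ τ : Type u} (θ : MvPolynomial σ A →ₐ[A] MvPolynomial τ A)
    (x : MvPolynomial σ A ⊗[A] B) :
    θ.toLinearMap.rTensor C₀ (yy h σ x) = yy h τ (θ.toLinearMap.rTensor B x) := by
  apply inj_poly C₀ τ
  rw [lT_rT, yy_spec, yy_spec, PolynomialLaw.isCompat_apply']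

theorem yy_add_ker {τ : Type u} {S : Type u} [CommSemiring S] [Algebra A S]
    (Θ : MvPolynomial τ A →ₐ[A] S) (k : MvPolynomial τ A) (hk : Θ k = 0) (b : B)
    (w : MvPolynomial τ A ⊗[A] B) :
    Θ.toLinearMap.rTensor C₀ (yy h τ (w + k ⊗ₜ[A] b)) =
      Θ.toLinearMap.rTensor C₀ (yy h τ w) := by
  classical
  obtain ⟨inc, hincdef⟩ : ∃ inc : MvPolynomial τ A →ₐ[A] MvPolynomial (Option τ) A,
      inc = MvPolynomial.rename some := ⟨_, rfl⟩
  obtain ⟨th, hthdef⟩ : ∃ th : MvPolynomial τ A →
      (MvPolynomial (Option τ) A →ₐ[A] MvPolynomial τ A),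
      ∀ c, th c = MvPolynomial.aeval (fun o : Option τ => o.elim c X) := ⟨_, fun _ => rfl⟩
  have hinc : ∀ c, (th c).comp inc = AlgHom.id A _ := by
    intro c
    apply MvPolynomial.algHom_ext
    intro t
    rw [AlgHom.comp_apply, hincdef, hthdef, MvPolynomial.rename_X, MvPolynomial.aeval_X]
    rfl
  have hnone : ∀ c, th c (X none) = c := by
    intro c
    rw [hthdef, MvPolynomial.aeval_X]
    rfl
  obtain ⟨W, hW⟩ : ∃ W : MvPolynomial (Option τ) A ⊗[A] B,
      W = inc.toLinearMap.rTensor B w + (X none) ⊗ₜ[A] b := ⟨_, rfl⟩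
  have hW' : ∀ c, (th c).toLinearMap.rTensor B W = w + c ⊗ₜ[A] b := by
    intro c
    rw [hW, map_add, rT_comp, hinc, LinearMap.rTensor_tmul, AlgHom.toLinearMap_apply, hnone]
    congr 1
    rw [show (AlgHom.id A (MvPolynomial τ A)).toLinearMap = LinearMap.id from rfl,
      LinearMap.rTensor_id, LinearMap.id_apply]
  have e1 : w + k ⊗ₜ[A] b = (th k).toLinearMap.rTensor B W := (hW' k).symm
  have e0 : w = (th 0).toLinearMap.rTensor B W := by
    rw [hW' 0, TensorProduct.zero_tmul, add_zero]
  have hΘ : Θ.comp (th k) = Θ.comp (th 0) := by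
    apply MvPolynomial.algHom_ext
    intro o
    rw [AlgHom.comp_apply, AlgHom.comp_apply, hthdef, hthdef, MvPolynomial.aeval_X,
      MvPolynomial.aeval_X]
    cases o with
    | none =>
      show Θ k = Θ 0
      rw [hk, map_zero]
    | some t => rfl
  have hL : yy h τ (w + k ⊗ₜ[A] b) = (th k).toLinearMap.rTensor C₀ (yy h _ W) := by
    rw [yy_nat, ← e1]
  have hR : yy h τ w = (th 0).toLinearMap.rTensor C₀ (yy h _ W) := by
    rw [yy_nat, ← e0]
  rw [hL, hR, rT_comp, rT_comp, hΘ]

set_option maxHeartbeats 400000 in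
theorem yy_congr {τ : Type u} {S : Type u} [CommSemiring S] [Algebra A S]
    (Θ : MvPolynomial τ A →ₐ[A] S) (hΘ : Function.Surjective Θ)
    (w₁ w₂ : MvPolynomial τ A ⊗[A] B)
    (hw : Θ.toLinearMap.rTensor B w₁ = Θ.toLinearMap.rTensor B w₂) :
    Θ.toLinearMap.rTensor C₀ (yy h τ w₁) = Θ.toLinearMap.rTensor C₀ (yy h τ w₂) := by
  letI : AddCommGroup S := Module.addCommMonoidToAddCommGroup A
  have hΘ' : Function.Surjective Θ.toLinearMap := hΘ
  have hex := rTensor_exact B (f := (LinearMap.ker Θ.toLinearMap).subtype) (g := Θ.toLinearMap)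
    (LinearMap.exact_subtype_ker_map _) hΘ'
  have hδ : Θ.toLinearMap.rTensor B (w₂ - w₁) = 0 := by rw [map_sub, hw, sub_self]
  obtain ⟨δ', hδ'⟩ := (hex _).mp hδ
  have key : ∀ (δ' : (LinearMap.ker Θ.toLinearMap) ⊗[A] B) (w : MvPolynomial τ A ⊗[A] B),
      Θ.toLinearMap.rTensor C₀
        (yy h τ (w + (LinearMap.ker Θ.toLinearMap).subtype.rTensor B δ')) =
        Θ.toLinearMap.rTensor C₀ (yy h τ w) := by
    intro δ'
    induction δ' using TensorProduct.induction_on with
    | zero =>
      intro w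
      rw [map_zero, add_zero]
    | tmul k b =>
      intro w
      rw [LinearMap.rTensor_tmul]
      exact yy_add_ker h Θ k.1 k.2 b w
    | add x y hx hy =>
      intro w
      rw [map_add, ← add_assoc, hy, hx]
  have h3 := key δ' w₁
  rw [hδ', add_sub_cancel] at h3
  exact h3.symm

/-- the chosen lift of `x` to the polynomial ring on `S` -/
noncomputable def liftx (S : Type u) [CommSemiring S] [Algebra A S] (x : S ⊗[A] B) :
    MvPolynomial S A ⊗[A] B := Classical.choose (exists_lift S x)

theorem liftx_spec (S : Type u) [CommSemiring S] [Algebra A S] (x : S ⊗[A] B) :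
    (evS S).toLinearMap.rTensor B (liftx S x) = x := Classical.choose_spec (exists_lift S x)

/-- the members of the descended law -/
noncomputable def g0 (S : Type u) [CommSemiring S] [Algebra A S] (x : S ⊗[A] B) : S ⊗[A] C₀ :=
  (evS S).toLinearMap.rTensor C₀ (yy h S (liftx S x))

theorem g0_eq {σ : Type u} (S : Type u) [CommSemiring S] [Algebra A S]
    (θ : MvPolynomial σ A →ₐ[A] S) (w : MvPolynomial σ A ⊗[A] B) :
    g0 h S (θ.toLinearMap.rTensor B w) = θ.toLinearMap.rTensor C₀ (yy h σ w) := by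
  classical
  unfold g0
  obtain ⟨x', hx'def⟩ : ∃ x', x' = liftx S (θ.toLinearMap.rTensor B w) := ⟨_, rfl⟩
  have hx' : (evS S).toLinearMap.rTensor B x' = θ.toLinearMap.rTensor B w := by
    rw [hx'def]
    exact liftx_spec S _
  rw [← hx'def]
  obtain ⟨j₁, hj₁⟩ : ∃ j₁ : MvPolynomial S A →ₐ[A] MvPolynomial (S ⊕ σ) A,
      j₁ = MvPolynomial.rename Sum.inl := ⟨_, rfl⟩
  obtain ⟨j₂, hj₂⟩ : ∃ j₂ : MvPolynomial σ A →ₐ[A] MvPolynomial (S ⊕ σ) A,
      j₂ = MvPolynomial.rename Sum.inr := ⟨_, rfl⟩
  obtain ⟨Θ, hΘdef⟩ : ∃ Θ : MvPolynomial (S ⊕ σ) A →ₐ[A] S,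
      Θ = MvPolynomial.aeval (Sum.elim (fun s => s) (fun i => θ (X i))) := ⟨_, rfl⟩
  have h1 : Θ.comp j₁ = evS S := by
    apply MvPolynomial.algHom_ext
    intro s
    rw [AlgHom.comp_apply, hj₁, hΘdef, MvPolynomial.rename_X, MvPolynomial.aeval_X, evS_X]
    rfl
  have h2 : Θ.comp j₂ = θ := by
    apply MvPolynomial.algHom_ext
    intro i
    rw [AlgHom.comp_apply, hj₂, hΘdef, MvPolynomial.rename_X, MvPolynomial.aeval_X]
    rfl
  have hsurj : Function.Surjective Θ := fun s => ⟨X (Sum.inl s), by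
    rw [hΘdef, MvPolynomial.aeval_X]
    rfl⟩
  have hw : Θ.toLinearMap.rTensor B (j₁.toLinearMap.rTensor B x') =
      Θ.toLinearMap.rTensor B (j₂.toLinearMap.rTensor B w) := by
    rw [rT_comp, rT_comp, h1, h2, hx']
  have h3 := yy_congr h Θ hsurj _ _ hw
  rw [← yy_nat, ← yy_nat, rT_comp, rT_comp, h1, h2] at h3
  exact h3

theorem g0_compat {S S' : Type u} [CommSemiring S] [Algebra A S] [CommSemiring S'] [Algebra A S']
    (φ : S →ₐ[A] S') (x : S ⊗[A] B) :
    φ.toLinearMap.rTensor C₀ (g0 h S x) = g0 h S' (φ.toLinearMap.rTensor B x) := by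
  obtain ⟨x', rfl⟩ := exists_lift S x
  rw [g0_eq, rT_comp, rT_comp, g0_eq]

theorem g0_val (S : Type u) [CommSemiring S] [Algebra A S] (x : S ⊗[A] B) :
    C₀.val.toLinearMap.lTensor S (g0 h S x) = γ.law.toFun' S x := by
  obtain ⟨x', rfl⟩ := exists_lift S x
  rw [g0_eq, lT_rT, yy_spec, PolynomialLaw.isCompat_apply']

theorem g0_mul (S : Type u) [CommSemiring S] [Algebra A S] (x x' : S ⊗[A] B) :
    g0 h S (x * x') = g0 h S x * g0 h S x' := by
  obtain ⟨z, rfl⟩ := exists_lift S x
  obtain ⟨z', rfl⟩ := exists_lift S x'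
  have hm : (evS S).toLinearMap.rTensor B z * (evS S).toLinearMap.rTensor B z' =
      (evS S).toLinearMap.rTensor B (z * z') := by
    rw [PolLaw.rTensor_algHom_apply, PolLaw.rTensor_algHom_apply, PolLaw.rTensor_algHom_apply,
      map_mul]
  rw [hm, g0_eq, g0_eq, g0_eq]
  have hy : yy h S (z * z') = yy h S z * yy h S z' := by
    apply inj_poly C₀ S
    rw [yy_spec, PolLaw.lTensor_algHom_apply, map_mul, ← PolLaw.lTensor_algHom_apply,
      ← PolLaw.lTensor_algHom_apply, yy_spec, yy_spec]
    exact (γ.mult _).2 z z'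
  rw [hy, PolLaw.rTensor_algHom_apply, PolLaw.rTensor_algHom_apply, PolLaw.rTensor_algHom_apply,
    map_mul]

theorem g0_one (S : Type u) [CommSemiring S] [Algebra A S] : g0 h S (1 : S ⊗[A] B) = 1 := by
  have h1 : (1 : S ⊗[A] B) = (evS S).toLinearMap.rTensor B 1 := by
    rw [PolLaw.rTensor_algHom_apply, map_one]
  rw [h1, g0_eq]
  have hy : yy h S (1 : MvPolynomial S A ⊗[A] B) = 1 := by
    apply inj_poly C₀ S
    rw [yy_spec, PolLaw.lTensor_algHom_apply, map_one]
    exact (γ.mult _).1
  rw [hy, PolLaw.rTensor_algHom_apply, map_one]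

theorem g0_homog (S : Type u) [CommSemiring S] [Algebra A S] (s : S) (x : S ⊗[A] B) :
    g0 h S (s • x) = s ^ d • g0 h S x := by
  obtain ⟨z, rfl⟩ := exists_lift S x
  have hs : s • (evS S).toLinearMap.rTensor B z =
      (evS S).toLinearMap.rTensor B ((X s : MvPolynomial S A) • z) := by
    rw [rT_smul, evS_X]
  rw [hs, g0_eq, g0_eq]
  have hy : yy h S ((X s : MvPolynomial S A) • z) = (X s : MvPolynomial S A) ^ d • yy h S z := by
    apply inj_poly C₀ S
    rw [yy_spec, lT_smul, yy_spec]
    exact γ.homog _ _ _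
  rw [hy, rT_smul, map_pow, evS_X]

/-- the descended law -/
noncomputable def gam0 : PolLaw.MulLaw A B C₀ d where
  law :=
    { toFun' := fun S _ _ x => g0 h S x
      isCompat' := fun φ => funext fun x => g0_compat h φ x }
  homog := fun S _ _ s x => g0_homog h S s x
  mult := fun S _ _ => ⟨g0_one h S, g0_mul h S⟩

theorem eq_top_of_hasLifts (hγ : PolLaw.IsGammaD γ) (h : HasLifts γ C₀) : C₀ = ⊤ := by
  obtain ⟨f, hf, -⟩ := hγ C₀ (gam0 h)
  obtain ⟨g, -, huniq⟩ := hγ C γ
  have h1 : AlgHom.id A C = g := by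
    apply huniq
    apply PolynomialLaw.ext
    funext S _ _ x
    show (AlgHom.id A C).toLinearMap.lTensor S (γ.law.toFun' S x) = γ.law.toFun' S x
    rw [show (AlgHom.id A C).toLinearMap = LinearMap.id from rfl, LinearMap.lTensor_id,
      LinearMap.id_apply]
  have h2 : C₀.val.comp f = g := by
    apply huniq
    apply PolynomialLaw.ext
    funext S _ _ x
    show (C₀.val.comp f).toLinearMap.lTensor S (γ.law.toFun' S x) = γ.law.toFun' S x
    have hfx : f.toLinearMap.lTensor S (γ.law.toFun' S x) = g0 h S x :=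
      congrArg (fun L : B →ₚₗ[A] C₀ => L.toFun' S x) hf
    rw [AlgHom.comp_toLinearMap, LinearMap.lTensor_comp, LinearMap.comp_apply, hfx, g0_val]
  rw [eq_top_iff]
  intro c _
  have h3 : c = C₀.val (f c) := by
    rw [← AlgHom.comp_apply, h2, ← h1]
    rfl
  rw [h3]
  exact (f c).2

end main

end Groth.Agent.Lib.helper6.GammaGen
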