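import Mathlib
import Groth.Agent.Lib.Helper6.GammaGen

/-!
# The coefficient subalgebra of a multiplicative law

For a multiplicative law `γ : B → C` the `A`-span of all coefficients `(λ ⊗ id)(γ_S x)`
is a subalgebra `Ccan γ` of `C`; all members of `γ` over polynomial rings factor through it
(`hasLifts_Ccan`), so it is everything when `γ` is universal.  If `B` is a finite `A`-module
then `Ccan γ` is a finitely generated `A`-module (`Ccan_fg`).
-/

set_option autoImplicit false
universe u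

namespace Groth.Agent.Lib.helper6.GammaGen

open scoped TensorProduct
open MvPolynomial

section coef
variable {A : Type u} [CommRing A] {B : Type u} [CommRing B] [Algebra A B]
  {C : Type u} [CommRing C] [Algebra A C] {d : ℕ}

/-- coefficient extraction along a functional -/
noncomputable def coefv (S : Type u) [CommSemiring S] [Algebra A S] (lam : S →ₗ[A] A) :
    S ⊗[A] C →ₗ[A] C :=
  (TensorProduct.lid A C).toLinearMap ∘ₗ lam.rTensor C

theorem coefv_tmul (S : Type u) [CommSemiring S] [Algebra A S] (lam : S →ₗ[A] A) (s : S) (c : C) :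
    coefv S lam (s ⊗ₜ[A] c) = lam s • c := by
  unfold coefv
  rw [LinearMap.comp_apply, LinearMap.rTensor_tmul]
  exact TensorProduct.lid_tmul _ _

theorem coefv_mul {S S' : Type u} [CommSemiring S] [Algebra A S] [CommSemiring S'] [Algebra A S']
    (lam : S →ₗ[A] A) (lam' : S' →ₗ[A] A) (z : S ⊗[A] C) (z' : S' ⊗[A] C) :
    coefv (S ⊗[A] S') ((LinearMap.mul' A A) ∘ₗ (TensorProduct.map lam lam'))
      ((Algebra.TensorProduct.includeLeft : S →ₐ[A] S ⊗[A] S').toLinearMap.rTensor C z *
       (Algebra.TensorProduct.includeRight : S' →ₐ[A] S ⊗[A] S').toLinearMap.rTensor C z') =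
    coefv S lam z * coefv S' lam' z' := by
  induction z using TensorProduct.induction_on with
  | zero => simp
  | tmul s c =>
    induction z' using TensorProduct.induction_on with
    | zero => simp
    | tmul s' c' =>
      rw [LinearMap.rTensor_tmul, LinearMap.rTensor_tmul, Algebra.TensorProduct.tmul_mul_tmul,
        coefv_tmul, coefv_tmul, coefv_tmul, smul_mul_smul_comm]
      congr 1
      simp [Algebra.TensorProduct.tmul_mul_tmul]
    | add x y hx hy => rw [map_add, mul_add, map_add, hx, hy, map_add, mul_add]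
  | add x y hx hy => rw [map_add, add_mul, map_add, hx, hy, map_add, add_mul]

/-- the set of coefficients of a law -/
def coefSet (γ : PolLaw.MulLaw A B C d) : Set C :=
  {c | ∃ (S : Type u) (_ : CommSemiring S) (_ : Algebra A S) (lam : S →ₗ[A] A) (x : S ⊗[A] B),
    c = coefv S lam (γ.law.toFun' S x)}

theorem one_mem_coefSet (γ : PolLaw.MulLaw A B C d) : (1 : C) ∈ coefSet γ := by
  refine ⟨A, inferInstance, inferInstance, LinearMap.id, 1, ?_⟩
  rw [(γ.mult A).1, Algebra.TensorProduct.one_def, coefv_tmul, LinearMap.id_apply, one_smul]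

theorem mul_mem_coefSet (γ : PolLaw.MulLaw A B C d) {g g' : C} (hg : g ∈ coefSet γ)
    (hg' : g' ∈ coefSet γ) : g * g' ∈ coefSet γ := by
  obtain ⟨S, _, _, lam, x, rfl⟩ := hg
  obtain ⟨S', _, _, lam', x', rfl⟩ := hg'
  refine ⟨S ⊗[A] S', inferInstance, inferInstance,
    (LinearMap.mul' A A) ∘ₗ (TensorProduct.map lam lam'),
    (Algebra.TensorProduct.includeLeft : S →ₐ[A] S ⊗[A] S').toLinearMap.rTensor B x *
      (Algebra.TensorProduct.includeRight : S' →ₐ[A] S ⊗[A] S').toLinearMap.rTensor B x', ?_⟩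
  rw [(γ.mult _).2, ← PolynomialLaw.isCompat_apply', ← PolynomialLaw.isCompat_apply', coefv_mul]

/-- the coefficient subalgebra -/
noncomputable def Ccan (γ : PolLaw.MulLaw A B C d) : Subalgebra A C :=
  (Submodule.span A (coefSet γ)).toSubalgebra (Submodule.subset_span (one_mem_coefSet γ))
    (fun x y hx hy => by
      have h1 : x * y ∈ Submodule.span A (coefSet γ) * Submodule.span A (coefSet γ) :=
        Submodule.mul_mem_mul hx hy
      rw [Submodule.span_mul_span] at h1
      refine Submodule.span_mono ?_ h1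
      rintro _ ⟨g, hg, g', hg', rfl⟩
      exact mul_mem_coefSet γ hg hg')

theorem mem_Ccan (γ : PolLaw.MulLaw A B C d) (c : C) :
    c ∈ Ccan γ ↔ c ∈ Submodule.span A (coefSet γ) := Iff.rfl

theorem decomp (σ : Type u) (z : MvPolynomial σ A ⊗[A] C) :
    ∃ F : Finset (σ →₀ ℕ), z = ∑ m ∈ F, (monomial m (1 : A)) ⊗ₜ[A]
      coefv (C := C) (MvPolynomial σ A) (MvPolynomial.lcoeff A m) z := by
  classical
  have h1 : ∀ (z : MvPolynomial σ A ⊗[A] C) (m : σ →₀ ℕ),
      coeff m (MvPolynomial.algebraTensorAlgEquiv A C (TensorProduct.comm A _ _ z)) =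
        coefv (MvPolynomial σ A) (MvPolynomial.lcoeff A m) z := by
    intro z m
    induction z using TensorProduct.induction_on with
    | zero => simp
    | tmul p c =>
      rw [TensorProduct.comm_tmul, MvPolynomial.algebraTensorAlgEquiv_tmul, coefv_tmul,
        MvPolynomial.coeff_smul, MvPolynomial.coeff_map, smul_eq_mul, MvPolynomial.lcoeff_apply,
        Algebra.smul_def, mul_comm]
    | add x y hx hy => rw [map_add, map_add, MvPolynomial.coeff_add, hx, hy, map_add]
  obtain ⟨q, hq⟩ : ∃ q : MvPolynomial σ C,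
      q = MvPolynomial.algebraTensorAlgEquiv A C (TensorProduct.comm A _ _ z) := ⟨_, rfl⟩
  refine ⟨q.support, ?_⟩
  have h2 : TensorProduct.comm A _ _ z =
      ∑ m ∈ q.support, coeff m q ⊗ₜ[A] (monomial m (1 : A)) := by
    have h0 : (MvPolynomial.algebraTensorAlgEquiv A C).symm q = TensorProduct.comm A _ _ z := by
      rw [hq, AlgEquiv.symm_apply_apply]
    rw [← h0]
    conv_lhs => rw [← MvPolynomial.support_sum_monomial_coeff q]
    rw [map_sum]
    refine Finset.sum_congr rfl fun m _ => ?_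
    rw [MvPolynomial.algebraTensorAlgEquiv_symm_monomial]
  have h3 := congrArg (TensorProduct.comm A (MvPolynomial σ A) C).symm h2
  rw [LinearEquiv.symm_apply_apply, map_sum] at h3
  conv_lhs => rw [h3]
  refine Finset.sum_congr rfl fun m _ => ?_
  rw [TensorProduct.comm_symm_tmul, hq, h1]

theorem hasLifts_Ccan (γ : PolLaw.MulLaw A B C d) : HasLifts γ (Ccan γ) := by
  intro σ x
  obtain ⟨F, hF⟩ := decomp σ (γ.law.toFun' (MvPolynomial σ A) x)
  have hmem : ∀ m : σ →₀ ℕ, coefv (C := C) (MvPolynomial σ A) (MvPolynomial.lcoeff A m)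
      (γ.law.toFun' (MvPolynomial σ A) x) ∈ Ccan γ := fun m =>
    Submodule.subset_span ⟨_, inferInstance, inferInstance, _, x, rfl⟩
  rw [LinearMap.mem_range]
  refine ⟨∑ m ∈ F, (monomial m (1 : A)) ⊗ₜ[A] (⟨_, hmem m⟩ : Ccan γ), ?_⟩
  rw [map_sum]
  conv_rhs => rw [hF]
  refine Finset.sum_congr rfl fun m _ => ?_
  rw [LinearMap.lTensor_tmul]
  rfl

theorem Ccan_eq_top (γ : PolLaw.MulLaw A B C d) (hγ : PolLaw.IsGammaD γ) : Ccan γ = ⊤ :=
  eq_top_of_hasLifts hγ (hasLifts_Ccan γ)

theorem exists_repr_span {κ : Type u} [Fintype κ] (s : κ → B)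
    (hs : Submodule.span A (Set.range s) = ⊤) (S : Type u) [CommSemiring S] [Algebra A S]
    (x : S ⊗[A] B) : ∃ t : κ → S, x = ∑ k, t k ⊗ₜ[A] s k := by
  induction x using TensorProduct.induction_on with
  | zero => exact ⟨0, by simp⟩
  | tmul r b =>
    have hb : b ∈ Submodule.span A (Set.range s) := by
      rw [hs]
      trivial
    obtain ⟨a, rfl⟩ := (Submodule.mem_span_range_iff_exists_fun A).mp hb
    refine ⟨fun k => a k • r, ?_⟩
    rw [TensorProduct.tmul_sum]
    refine Finset.sum_congr rfl fun k _ => ?_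
    rw [TensorProduct.tmul_smul, TensorProduct.smul_tmul']
  | add x y hx hy =>
    obtain ⟨t, ht⟩ := hx
    obtain ⟨t', ht'⟩ := hy
    refine ⟨t + t', ?_⟩
    rw [ht, ht', ← Finset.sum_add_distrib]
    refine Finset.sum_congr rfl fun k _ => ?_
    rw [Pi.add_apply, TensorProduct.add_tmul]

theorem Ccan_fg (γ : PolLaw.MulLaw A B C d) {κ : Type u} [Fintype κ] (s : κ → B)
    (hs : Submodule.span A (Set.range s) = ⊤) :
    (Subalgebra.toSubmodule (Ccan γ)).FG := by
  classical
  obtain ⟨Xg, hXg⟩ : ∃ Xg : MvPolynomial κ A ⊗[A] B, Xg = ∑ k, (X k) ⊗ₜ[A] s k := ⟨_, rfl⟩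
  obtain ⟨z, hz⟩ : ∃ z, z = γ.law.toFun' (MvPolynomial κ A) Xg := ⟨_, rfl⟩
  obtain ⟨F, hF⟩ := decomp κ z
  obtain ⟨c, hc⟩ : ∃ c : (κ →₀ ℕ) → C,
      ∀ m, c m = coefv (MvPolynomial κ A) (MvPolynomial.lcoeff A m) z := ⟨_, fun _ => rfl⟩
  have hF' : z = ∑ m ∈ F, (monomial m (1 : A)) ⊗ₜ[A] c m := by
    conv_lhs => rw [hF]
    exact Finset.sum_congr rfl fun m _ => by rw [hc]
  refine ⟨F.image c, le_antisymm ?_ ?_⟩
  · rw [Submodule.span_le]
    intro g hg
    obtain ⟨m, -, rfl⟩ := Finset.mem_image.mp (Finset.mem_coe.mp hg)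
    rw [hc, hz]
    exact Submodule.subset_span ⟨_, inferInstance, inferInstance, _, Xg, rfl⟩
  · show Submodule.span A (coefSet γ) ≤ _
    rw [Submodule.span_le]
    rintro _ ⟨S, _, _, lam, x, rfl⟩
    obtain ⟨t, rfl⟩ := exists_repr_span s hs S x
    obtain ⟨ev, hev⟩ : ∃ ev : MvPolynomial κ A →ₐ[A] S, ∀ k, ev (X k) = t k :=
      ⟨MvPolynomial.aeval t, fun k => MvPolynomial.aeval_X t k⟩
    have hx : ev.toLinearMap.rTensor B Xg = ∑ k, t k ⊗ₜ[A] s k := by
      rw [hXg, map_sum]
      refine Finset.sum_congr rfl fun k _ => ?_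
      rw [LinearMap.rTensor_tmul, AlgHom.toLinearMap_apply, hev]
    rw [← hx, ← PolynomialLaw.isCompat_apply', ← hz, hF', map_sum, map_sum]
    refine Submodule.sum_mem _ fun m _ => ?_
    rw [LinearMap.rTensor_tmul, coefv_tmul]
    exact Submodule.smul_mem _ _ (Submodule.subset_span
      (Finset.mem_coe.mpr (Finset.mem_image_of_mem c ‹_›)))

end coef

end Groth.Agent.Lib.helper6.GammaGen
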