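import Mathlib
import Groth.Prelude.Def_PolLaw2

/-!
# Full polarization of a homogeneous polynomial law

For a polynomial law `F : M → N` over `A`, the coefficient of `t_1 ⋯ t_d` in
`F (t_1 ⊗ b_1 + ⋯ + t_d ⊗ b_d)` is an `A`-multilinear function of `(b_1, …, b_d)` (`polM`), hence
a linear map `psi F d : T^d M → N`.  If `F` is homogeneous of degree `d`, then for `b : Fin n → M`
and an exponent vector `m`, the sum of `pol F d (b ∘ c)` over all `c : Fin d → Fin n` of type `m`
is `d!` times the `m`-th coefficient of `F (∑ X_j ⊗ b_j)` (`euler`).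
-/

set_option autoImplicit false
universe u

namespace Groth.Agent.Lib.helper6.GammaPol

open scoped TensorProduct
open MvPolynomial

section base
variable {A : Type u} [CommRing A] {M N : Type u} [AddCommGroup M] [Module A M]
  [AddCommGroup N] [Module A N]

/-- coefficient extraction along a functional -/
noncomputable def cv (S : Type u) [CommSemiring S] [Algebra A S] (lam : S →ₗ[A] A) :
    S ⊗[A] N →ₗ[A] N :=
  (TensorProduct.lid A N).toLinearMap ∘ₗ lam.rTensor N

theorem cv_tmul (S : Type u) [CommSemiring S] [Algebra A S] (lam : S →ₗ[A] A) (s : S) (c : N) :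
    cv S lam (s ⊗ₜ[A] c) = lam s • c := by
  unfold cv
  rw [LinearMap.comp_apply, LinearMap.rTensor_tmul]
  exact TensorProduct.lid_tmul _ _

theorem cv_lTensor {N' : Type u} [AddCommGroup N'] [Module A N'] (S : Type u) [CommSemiring S]
    [Algebra A S] (lam : S →ₗ[A] A) (g : N →ₗ[A] N') (z : S ⊗[A] N) :
    cv S lam (g.lTensor S z) = g (cv S lam z) := by
  induction z using TensorProduct.induction_on with
  | zero => simp
  | tmul s c => rw [LinearMap.lTensor_tmul, cv_tmul, cv_tmul, map_smul]
  | add x y hx hy => simp only [map_add, hx, hy]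

theorem decomp0 {σ : Type} (z : MvPolynomial σ A ⊗[A] N) :
    ∃ F : Finset (σ →₀ ℕ),
      (∀ m, m ∉ F → cv (N := N) (MvPolynomial σ A) (MvPolynomial.lcoeff A m) z = 0) ∧
      z = ∑ m ∈ F, (monomial m (1 : A)) ⊗ₜ[A]
        cv (N := N) (MvPolynomial σ A) (MvPolynomial.lcoeff A m) z := by
  classical
  induction z using TensorProduct.induction_on with
  | zero => exact ⟨∅, fun m _ => by simp, by simp⟩
  | tmul p c =>
    refine ⟨p.support, fun m hm => ?_, ?_⟩
    · rw [cv_tmul, MvPolynomial.lcoeff_apply, MvPolynomial.notMem_support_iff.mp hm, zero_smul]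
    · conv_lhs => rw [← MvPolynomial.support_sum_monomial_coeff p]
      rw [TensorProduct.sum_tmul]
      refine Finset.sum_congr rfl fun m _ => ?_
      rw [cv_tmul, MvPolynomial.lcoeff_apply, ← TensorProduct.smul_tmul,
        MvPolynomial.smul_monomial, smul_eq_mul, mul_one]
  | add x y hx hy =>
    obtain ⟨Fx, hx0, hxs⟩ := hx
    obtain ⟨Fy, hy0, hys⟩ := hy
    refine ⟨Fx ∪ Fy, fun m hm => ?_, ?_⟩
    · rw [Finset.mem_union, not_or] at hm
      rw [map_add, hx0 m hm.1, hy0 m hm.2, add_zero]
    · have h1 : x = ∑ m ∈ Fx ∪ Fy, (monomial m (1 : A)) ⊗ₜ[A]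
          cv (N := N) (MvPolynomial σ A) (MvPolynomial.lcoeff A m) x := by
        conv_lhs => rw [hxs]
        refine Finset.sum_subset Finset.subset_union_left fun m _ hm => ?_
        rw [hx0 m hm, TensorProduct.tmul_zero]
      have h2 : y = ∑ m ∈ Fx ∪ Fy, (monomial m (1 : A)) ⊗ₜ[A]
          cv (N := N) (MvPolynomial σ A) (MvPolynomial.lcoeff A m) y := by
        conv_lhs => rw [hys]
        refine Finset.sum_subset Finset.subset_union_right fun m _ hm => ?_
        rw [hy0 m hm, TensorProduct.tmul_zero]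
      conv_lhs => rw [h1, h2]
      rw [← Finset.sum_add_distrib]
      refine Finset.sum_congr rfl fun m _ => ?_
      rw [map_add, TensorProduct.tmul_add]

/-- the generic element `∑ X_k ⊗ b_k` -/
noncomputable def gen {ι : Type} [Fintype ι] (b : ι → M) : MvPolynomial ι A ⊗[A] M :=
  ∑ k, (X k : MvPolynomial ι A) ⊗ₜ[A] b k

/-- the coefficients of the generic expansion of a law -/
noncomputable def cf (F : M →ₚₗ[A] N) {ι : Type} [Fintype ι] (b : ι → M) (m : ι →₀ ℕ) : N :=
  cv (MvPolynomial ι A) (MvPolynomial.lcoeff A m) (F.toFun' (MvPolynomial ι A) (gen b))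

theorem kp (F : M →ₚₗ[A] N) {ι : Type} [Fintype ι] (b : ι → M) :
    ∃ Fb : Finset (ι →₀ ℕ), (∀ m, m ∉ Fb → cf F b m = 0) ∧
      ∀ (S : Type u) [CommSemiring S] [Algebra A S] (s : ι → S),
        F.toFun' S (∑ k, s k ⊗ₜ[A] b k) = ∑ m ∈ Fb, (∏ k, s k ^ m k) ⊗ₜ[A] cf F b m := by
  classical
  obtain ⟨Fb, h0, hs⟩ := decomp0 (F.toFun' (MvPolynomial ι A) (gen b))
  refine ⟨Fb, h0, ?_⟩
  intro S _ _ s
  have hx : (MvPolynomial.aeval s : MvPolynomial ι A →ₐ[A] S).toLinearMap.rTensor M (gen b) =
      ∑ k, s k ⊗ₜ[A] b k := by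
    unfold gen
    rw [map_sum]
    refine Finset.sum_congr rfl fun k _ => ?_
    rw [LinearMap.rTensor_tmul, AlgHom.toLinearMap_apply, MvPolynomial.aeval_X]
  rw [← hx, ← PolynomialLaw.isCompat_apply']
  conv_lhs => rw [hs]
  rw [map_sum]
  refine Finset.sum_congr rfl fun m _ => ?_
  rw [LinearMap.rTensor_tmul, AlgHom.toLinearMap_apply, MvPolynomial.aeval_monomial, map_one,
    one_mul, Finsupp.prod_fintype _ _ (fun i => pow_zero _)]
  rfl

theorem sum_pick {X : Type*} [DecidableEq X] (Fb : Finset X) (c : X → N)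
    (h0 : ∀ m, m ∉ Fb → c m = 0) (m₀ : X) (a : A) :
    ∑ m ∈ Fb, (if m = m₀ then a else 0) • c m = a • c m₀ := by
  rw [Finset.sum_eq_single m₀]
  · rw [if_pos rfl]
  · intro m _ hm
    rw [if_neg hm, zero_smul]
  · intro hm
    rw [h0 m₀ hm, smul_zero]

theorem exists_repr_fin (S : Type u) [CommSemiring S] [Algebra A S] (x : S ⊗[A] M) :
    ∃ (n : ℕ) (s : Fin n → S) (b : Fin n → M), x = ∑ j, s j ⊗ₜ[A] b j := by
  induction x using TensorProduct.induction_on with
  | zero => exact ⟨0, Fin.elim0, Fin.elim0, by simp⟩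
  | tmul s b => exact ⟨1, fun _ => s, fun _ => b, by simp⟩
  | add x y hx hy =>
    obtain ⟨n, s, b, rfl⟩ := hx
    obtain ⟨n', s', b', rfl⟩ := hy
    refine ⟨n + n', Fin.append s s', Fin.append b b', ?_⟩
    rw [Fin.sum_univ_add]
    simp [Fin.append_left, Fin.append_right]

end base

section comb

/-- the exponent vector `(1, …, 1)` -/
noncomputable def one' (d : ℕ) : Fin d →₀ ℕ := ∑ k : Fin d, Finsupp.single k 1

theorem one'_apply (d : ℕ) (k : Fin d) : one' d k = 1 := by
  unfold one'
  rw [Finsupp.finsetSum_apply, Finset.sum_eq_single k]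
  · exact Finsupp.single_eq_same
  · intro j _ hj
    rw [Finsupp.single_apply, if_neg hj]
  · intro h
    exact absurd (Finset.mem_univ k) h

/-- the type (multiplicity vector) of a function -/
noncomputable def typ {d n : ℕ} (c : Fin d → Fin n) : Fin n →₀ ℕ := ∑ i, Finsupp.single (c i) 1

theorem typ_perm {d : ℕ} (σ : Equiv.Perm (Fin d)) : typ (σ : Fin d → Fin d) = one' d := by
  unfold typ one'
  exact Equiv.sum_comp σ (fun k => Finsupp.single k 1)

theorem bij_of_typ {d : ℕ} (c : Fin d → Fin d) (h : typ c = one' d) : Function.Bijective c := by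
  have hs : Function.Surjective c := by
    intro k
    by_contra hk
    push_neg at hk
    have h1 := DFunLike.congr_fun h k
    rw [one'_apply] at h1
    unfold typ at h1
    rw [Finsupp.finsetSum_apply, Finset.sum_eq_zero] at h1
    · exact zero_ne_one h1
    · intro i _
      rw [Finsupp.single_apply, if_neg (hk i)]
  exact ⟨Finite.injective_iff_surjective.mpr hs, hs⟩

theorem sum_typ_one {d : ℕ} {X : Type*} [AddCommMonoid X] (f : (Fin d → Fin d) → X) :
    ∑ c : Fin d → Fin d, (if typ c = one' d then f c else 0) =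
      ∑ σ : Equiv.Perm (Fin d), f σ := by
  classical
  rw [← Finset.sum_filter]
  symm
  refine Finset.sum_bij (fun σ _ => (σ : Fin d → Fin d)) ?_ ?_ ?_ ?_
  · intro σ _
    rw [Finset.mem_filter]
    exact ⟨Finset.mem_univ _, typ_perm σ⟩
  · intro σ _ σ' _ h
    exact DFunLike.coe_injective h
  · intro c hc
    rw [Finset.mem_filter] at hc
    exact ⟨Equiv.ofBijective c (bij_of_typ c hc.2), Finset.mem_univ _, rfl⟩
  · intro σ _
    rfl

theorem prod_monomial {R : Type*} [CommSemiring R] {σ κ : Type*} (s : Finset κ)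
    (e : κ → σ →₀ ℕ) (a : κ → R) :
    ∏ p ∈ s, monomial (e p) (a p) = monomial (∑ p ∈ s, e p) (∏ p ∈ s, a p) := by
  classical
  induction s using Finset.induction_on with
  | empty => simp
  | insert p s hp ih =>
    rw [Finset.prod_insert hp, Finset.sum_insert hp, Finset.prod_insert hp, ih, monomial_mul]

theorem prod_monomial_pow {R : Type*} [CommSemiring R] {σ κ : Type*} [Fintype κ]
    (e : κ → σ →₀ ℕ) (a : κ → R) (Mx : κ → ℕ) :
    ∏ p, (monomial (e p) (a p)) ^ Mx p = monomial (∑ p, Mx p • e p) (∏ p, a p ^ Mx p) := by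
  simp_rw [MvPolynomial.monomial_pow]
  exact prod_monomial _ _ _

theorem coeff_one_sum_pow (R : Type*) [CommSemiring R] (d : ℕ) :
    coeff (one' d) ((∑ i : Fin d, (X i : MvPolynomial (Fin d) R)) ^ d) = (d.factorial : R) := by
  classical
  have h1 : (∑ i : Fin d, (X i : MvPolynomial (Fin d) R)) ^ d =
      ∑ c : Fin d → Fin d, monomial (typ c) (1 : R) := by
    have h0 : (∑ i : Fin d, (X i : MvPolynomial (Fin d) R)) ^ d =
        ∏ _k : Fin d, ∑ i : Fin d, (X i : MvPolynomial (Fin d) R) := by
      rw [Finset.prod_const, Finset.card_univ, Fintype.card_fin]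
    rw [h0, Finset.prod_univ_sum, Fintype.piFinset_univ]
    refine Finset.sum_congr rfl fun c _ => ?_
    unfold typ
    rw [MvPolynomial.monomial_sum_one]
    rfl
  rw [h1, MvPolynomial.coeff_sum]
  simp_rw [MvPolynomial.coeff_monomial]
  refine (sum_typ_one (fun _ => (1 : R))).trans ?_
  rw [Finset.sum_const, Finset.card_univ, Fintype.card_perm, Fintype.card_fin, nsmul_eq_mul,
    mul_one]

end comb


section pol
variable {A : Type u} [CommRing A] {M N : Type u} [AddCommGroup M] [Module A M]
  [AddCommGroup N] [Module A N]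

/-- the full polarization of a law: the coefficient of `t_1 ⋯ t_d` in `F (∑ t_i ⊗ b_i)` -/
noncomputable def pol (F : M →ₚₗ[A] N) (d : ℕ) (b : Fin d → M) : N := cf F b (one' d)

/-- exponent vectors of the merging substitution -/
noncomputable def eOpt {d : ℕ} (i : Fin d) : Option (Fin d) → (Fin d →₀ ℕ) :=
  fun o => o.elim (Finsupp.single i 1) (fun k => Finsupp.single k 1)

/-- coefficients of the merging substitution -/
noncomputable def aOpt {d : ℕ} (i : Fin d) (α β : A) : Option (Fin d) → A :=
  fun o => o.elim β (fun k => if k = i then α else 1)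

/-- the extended family -/
def bOpt {d : ℕ} (b : Fin d → M) (i : Fin d) (x y : M) : Option (Fin d) → M :=
  fun o => o.elim y (Function.update b i x)

theorem gen_slot {d : ℕ} (b : Fin d → M) (i : Fin d) (x y : M) (α β : A) :
    gen (A := A) (Function.update b i (α • x + β • y)) =
      ∑ o : Option (Fin d), (monomial (eOpt i o) (aOpt i α β o) : MvPolynomial (Fin d) A) ⊗ₜ[A]
        bOpt b i x y o := by
  classical
  have hm : ∀ (k : Fin d) (a : A),
      (monomial (Finsupp.single k 1) a : MvPolynomial (Fin d) A) = a • X k := by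
    intro k a
    show _ = a • monomial (Finsupp.single k 1) (1 : A)
    rw [MvPolynomial.smul_monomial, smul_eq_mul, mul_one]
  unfold gen
  rw [Fintype.sum_option]
  show _ = (monomial (Finsupp.single i 1) β : MvPolynomial (Fin d) A) ⊗ₜ[A] y +
      ∑ k : Fin d, (monomial (Finsupp.single k 1) (if k = i then α else 1) :
        MvPolynomial (Fin d) A) ⊗ₜ[A] Function.update b i x k
  rw [← Finset.add_sum_erase Finset.univ (fun k => (X k : MvPolynomial (Fin d) A) ⊗ₜ[A]
      Function.update b i (α • x + β • y) k) (Finset.mem_univ i),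
    ← Finset.add_sum_erase Finset.univ (fun k => (monomial (Finsupp.single k 1)
      (if k = i then α else 1) : MvPolynomial (Fin d) A) ⊗ₜ[A] Function.update b i x k)
      (Finset.mem_univ i)]
  beta_reduce
  rw [Function.update_self, Function.update_self, if_pos rfl, ← add_assoc]
  congr 1
  · rw [TensorProduct.tmul_add, add_comm, hm, hm, TensorProduct.smul_tmul,
      TensorProduct.smul_tmul]
  · refine Finset.sum_congr rfl fun k hk => ?_
    have hki : k ≠ i := Finset.ne_of_mem_erase hk
    rw [Function.update_of_ne hki, Function.update_of_ne hki, if_neg hki, hm, one_smul]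

theorem slot (F : M →ₚₗ[A] N) {d : ℕ} (b : Fin d → M) (i : Fin d) (x y : M)
    (Fb : Finset (Option (Fin d) →₀ ℕ))
    (hkp : ∀ (S : Type u) [CommSemiring S] [Algebra A S] (s : Option (Fin d) → S),
        F.toFun' S (∑ k, s k ⊗ₜ[A] bOpt b i x y k) =
          ∑ m ∈ Fb, (∏ k, s k ^ m k) ⊗ₜ[A] cf F (bOpt b i x y) m)
    (α β : A) :
    pol F d (Function.update b i (α • x + β • y)) =
      ∑ m ∈ Fb, (if ∑ o, m o • eOpt i o = one' d then β ^ m none * α ^ m (some i) else 0) •
        cf F (bOpt b i x y) m := by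
  classical
  show cv _ (MvPolynomial.lcoeff A (one' d))
    (F.toFun' _ (gen (A := A) (Function.update b i (α • x + β • y)))) = _
  rw [gen_slot, hkp, map_sum]
  refine Finset.sum_congr rfl fun m _ => ?_
  rw [cv_tmul, MvPolynomial.lcoeff_apply, prod_monomial_pow, MvPolynomial.coeff_monomial]
  have hprod : ∏ o : Option (Fin d), aOpt i α β o ^ m o = β ^ m none * α ^ m (some i) := by
    rw [Fintype.prod_option]
    congr 1
    show ∏ k : Fin d, (if k = i then α else 1) ^ m (some k) = _
    rw [Finset.prod_eq_single i]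
    · rw [if_pos rfl]
    · intro k _ hk
      rw [if_neg hk, one_pow]
    · intro h
      exact absurd (Finset.mem_univ i) h
  rw [hprod]

theorem lin_slot (F : M →ₚₗ[A] N) {d : ℕ} (b : Fin d → M) (i : Fin d) (x y : M) (a₁ a₂ : A) :
    pol F d (Function.update b i (a₁ • x + a₂ • y)) =
      a₁ • pol F d (Function.update b i x) + a₂ • pol F d (Function.update b i y) := by
  classical
  obtain ⟨Fb, h0, hkp⟩ := kp F (bOpt b i x y)
  have hx := slot F b i x y Fb hkp 1 0
  rw [one_smul, zero_smul, add_zero] at hx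
  have hy := slot F b i x y Fb hkp 0 1
  rw [zero_smul, one_smul, zero_add] at hy
  rw [slot F b i x y Fb hkp a₁ a₂, hx, hy, Finset.smul_sum, Finset.smul_sum,
    ← Finset.sum_add_distrib]
  refine Finset.sum_congr rfl fun m _ => ?_
  rw [smul_smul, smul_smul, ← add_smul]
  congr 1
  split_ifs with hE
  · have hpq : m none + m (some i) = 1 := by
      have h := DFunLike.congr_fun hE i
      rw [Finsupp.finsetSum_apply, one'_apply, Fintype.sum_option] at h
      have h2 : ∑ k : Fin d, (m (some k) • eOpt i (some k)) i = m (some i) := by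
        rw [Finset.sum_eq_single i]
        · show m (some i) • (Finsupp.single i 1 : Fin d →₀ ℕ) i = _
          rw [Finsupp.single_eq_same, smul_eq_mul, mul_one]
        · intro k _ hk
          show m (some k) • (Finsupp.single k 1 : Fin d →₀ ℕ) i = 0
          rw [Finsupp.single_apply, if_neg hk, smul_zero]
        · intro h
          exact absurd (Finset.mem_univ i) h
      rw [h2] at h
      have h3 : (m none • eOpt i none) i = m none := by
        show m none • (Finsupp.single i 1 : Fin d →₀ ℕ) i = _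
        rw [Finsupp.single_eq_same, smul_eq_mul, mul_one]
      rw [h3] at h
      exact h
    rcases (by omega : (m none = 0 ∧ m (some i) = 1) ∨ (m none = 1 ∧ m (some i) = 0)) with
      ⟨h1, h2⟩ | ⟨h1, h2⟩
    · rw [h1, h2]
      simp
    · rw [h1, h2]
      simp
  · simp

/-- the full polarization as a multilinear map -/
noncomputable def polM (F : M →ₚₗ[A] N) (d : ℕ) : MultilinearMap A (fun _ : Fin d => M) N where
  toFun := pol F d
  map_update_add' := by
    intro inst b i x y
    obtain rfl : inst = instDecidableEqFin d := Subsingleton.elim _ _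
    have h := lin_slot F b i x y 1 1
    simpa only [one_smul] using h
  map_update_smul' := by
    intro inst b i a x
    obtain rfl : inst = instDecidableEqFin d := Subsingleton.elim _ _
    have h := lin_slot F b i x x a 0
    simpa only [zero_smul, add_zero] using h

/-- the linear map `T^d M → N` induced by the full polarization -/
noncomputable def psi (F : M →ₚₗ[A] N) (d : ℕ) : (⨂[A] _ : Fin d, M) →ₗ[A] N :=
  PiTensorProduct.lift (polM F d)

theorem psi_tprod (F : M →ₚₗ[A] N) (d : ℕ) (b : Fin d → M) :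
    psi F d (PiTensorProduct.tprod A b) = pol F d b :=
  PiTensorProduct.lift.tprod _

end pol


section euler

theorem e4 {A : Type*} [CommSemiring A] {d n : ℕ} (m : Fin n →₀ ℕ) (Mx : Fin d × Fin n →₀ ℕ)
    (hrow : ∑ p : Fin d × Fin n, Finsupp.single p.1 (Mx p) = one' d) :
    ∑ c : Fin d → Fin n, (if typ c = m then
        ∏ p : Fin d × Fin n, (if p.2 = c p.1 then (1 : A) else 0) ^ Mx p else 0) =
      if ∑ p : Fin d × Fin n, Finsupp.single p.2 (Mx p) = m then 1 else 0 := by
  classical
  have hr : ∀ i : Fin d, ∑ j : Fin n, Mx (i, j) = 1 := by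
    intro i
    have h := DFunLike.congr_fun hrow i
    rw [Finsupp.finsetSum_apply, one'_apply, Fintype.sum_prod_type] at h
    rw [Finset.sum_eq_single i] at h
    · rw [← h]
      refine Finset.sum_congr rfl fun j _ => ?_
      exact Finsupp.single_eq_same.symm
    · intro k _ hk
      refine Finset.sum_eq_zero fun j _ => ?_
      show (Finsupp.single k (Mx (k, j)) : Fin d →₀ ℕ) i = 0
      rw [Finsupp.single_apply, if_neg hk]
    · intro h'
      exact absurd (Finset.mem_univ i) h'
  have hex : ∀ i : Fin d, ∃ j : Fin n, Mx (i, j) = 1 ∧ ∀ j', j' ≠ j → Mx (i, j') = 0 := by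
    intro i
    have h1 : ∃ j, Mx (i, j) ≠ 0 := by
      by_contra hcon
      push_neg at hcon
      have h := hr i
      rw [Finset.sum_eq_zero (fun j _ => hcon j)] at h
      exact zero_ne_one h
    obtain ⟨j, hj⟩ := h1
    have h2 := hr i
    rw [← Finset.add_sum_erase Finset.univ (fun j => Mx (i, j)) (Finset.mem_univ j)] at h2
    beta_reduce at h2
    have h3 : Mx (i, j) = 1 ∧ ∑ x ∈ Finset.univ.erase j, Mx (i, x) = 0 := by
      constructor <;> omega
    refine ⟨j, h3.1, fun j' hj' => ?_⟩
    exact (Finset.sum_eq_zero_iff.mp h3.2) j' (Finset.mem_erase.mpr ⟨hj', Finset.mem_univ _⟩)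
  choose c₀ hc1 hc0 using hex
  have hprod : ∀ c : Fin d → Fin n,
      ∏ p : Fin d × Fin n, (if p.2 = c p.1 then (1 : A) else 0) ^ Mx p =
        if c = c₀ then 1 else 0 := by
    intro c
    by_cases hc : c = c₀
    · rw [if_pos hc]
      refine Finset.prod_eq_one fun p _ => ?_
      by_cases hp : p.2 = c p.1
      · rw [if_pos hp, one_pow]
      · have h : Mx p = 0 := hc0 p.1 p.2 (by rw [← hc]; exact hp)
        rw [h, pow_zero]
    · rw [if_neg hc]
      obtain ⟨i, hi⟩ : ∃ i, c i ≠ c₀ i := by
        by_contra hcon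
        push_neg at hcon
        exact hc (funext hcon)
      refine Finset.prod_eq_zero (Finset.mem_univ (i, c₀ i)) ?_
      show (if c₀ i = c i then (1 : A) else 0) ^ Mx (i, c₀ i) = 0
      rw [if_neg (Ne.symm hi), hc1 i, pow_one]
  have hcol : ∑ p : Fin d × Fin n, Finsupp.single p.2 (Mx p) = typ c₀ := by
    rw [Fintype.sum_prod_type]
    unfold typ
    refine Finset.sum_congr rfl fun i _ => ?_
    rw [Finset.sum_eq_single (c₀ i)]
    · show Finsupp.single (c₀ i) (Mx (i, c₀ i)) = _
      rw [hc1 i]
    · intro j _ hj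
      show Finsupp.single j (Mx (i, j)) = 0
      rw [hc0 i j hj, Finsupp.single_zero]
    · intro h'
      exact absurd (Finset.mem_univ _) h'
  simp_rw [hprod]
  rw [hcol, Finset.sum_eq_single c₀]
  · simp
  · intro c _ hc
    rw [if_neg hc]
    simp
  · intro h'
    exact absurd (Finset.mem_univ _) h'

variable {A : Type u} [CommRing A] {M N : Type u} [AddCommGroup M] [Module A M]
  [AddCommGroup N] [Module A N]

/-- **Euler's identity** for the full polarization of a homogeneous law. -/
theorem euler (F : M →ₚₗ[A] N) {d : ℕ} (hF : PolLaw.IsHomog F d) {n : ℕ} (b : Fin n → M)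
    (m : Fin n →₀ ℕ) :
    ∑ c : Fin d → Fin n, (if typ c = m then pol F d (fun i => b (c i)) else 0) =
      d.factorial • cf F b m := by
  classical
  obtain ⟨Fb, h0, hkp⟩ := kp F b
  obtain ⟨F', h0', hkp'⟩ := kp F (fun p : Fin d × Fin n => b p.2)
  have hE3 : ∀ c : Fin d → Fin n, pol F d (fun i => b (c i)) =
      ∑ Mx ∈ F', (if ∑ p : Fin d × Fin n, Finsupp.single p.1 (Mx p) = one' d then
        ∏ p : Fin d × Fin n, (if p.2 = c p.1 then (1 : A) else 0) ^ Mx p else 0) •
        cf F (fun p : Fin d × Fin n => b p.2) Mx := by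
    intro c
    have hgen : gen (A := A) (fun i => b (c i)) =
        ∑ p : Fin d × Fin n, (monomial (Finsupp.single p.1 1)
          (if p.2 = c p.1 then (1 : A) else 0) : MvPolynomial (Fin d) A) ⊗ₜ[A] b p.2 := by
      unfold gen
      rw [Fintype.sum_prod_type]
      refine Finset.sum_congr rfl fun i _ => ?_
      rw [Finset.sum_eq_single (c i)]
      · dsimp only
        rw [if_pos rfl]
        rfl
      · intro j _ hj
        dsimp only
        rw [if_neg hj, map_zero, TensorProduct.zero_tmul]
      · intro h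
        exact absurd (Finset.mem_univ _) h
    show cv _ (MvPolynomial.lcoeff A (one' d))
      (F.toFun' _ (gen (A := A) (fun i => b (c i)))) = _
    rw [hgen, hkp', map_sum]
    refine Finset.sum_congr rfl fun Mx _ => ?_
    rw [cv_tmul, MvPolynomial.lcoeff_apply, prod_monomial_pow, MvPolynomial.coeff_monomial]
    simp_rw [Finsupp.smul_single_one]
  obtain ⟨lam, hlam⟩ : ∃ lam : MvPolynomial (Fin d) (MvPolynomial (Fin n) A) →ₗ[A] A,
      ∀ q, lam q = coeff m (coeff (one' d) q) :=
    ⟨(MvPolynomial.lcoeff A m) ∘ₗ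
      ((MvPolynomial.lcoeff (MvPolynomial (Fin n) A) (one' d)).restrictScalars A), fun q => rfl⟩
  have hE1 : cv (N := N) (MvPolynomial (Fin d) (MvPolynomial (Fin n) A)) lam
      (F.toFun' (MvPolynomial (Fin d) (MvPolynomial (Fin n) A))
        (∑ p : Fin d × Fin n, (monomial (Finsupp.single p.1 1)
          (X p.2 : MvPolynomial (Fin n) A) :
          MvPolynomial (Fin d) (MvPolynomial (Fin n) A)) ⊗ₜ[A] b p.2)) =
      ∑ Mx ∈ F', (if ∑ p : Fin d × Fin n, Finsupp.single p.1 (Mx p) = one' d then
        (if ∑ p : Fin d × Fin n, Finsupp.single p.2 (Mx p) = m then (1 : A) else 0) else 0) •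
        cf F (fun p : Fin d × Fin n => b p.2) Mx := by
    rw [hkp', map_sum]
    refine Finset.sum_congr rfl fun Mx _ => ?_
    rw [cv_tmul, hlam, prod_monomial_pow, MvPolynomial.coeff_monomial]
    simp_rw [Finsupp.smul_single_one]
    congr 1
    by_cases hrow : ∑ p : Fin d × Fin n, Finsupp.single p.1 (Mx p) = one' d
    · rw [if_pos hrow, if_pos hrow]
      have hp : ∏ p : Fin d × Fin n, (X p.2 : MvPolynomial (Fin n) A) ^ Mx p =
          monomial (∑ p : Fin d × Fin n, Finsupp.single p.2 (Mx p)) (1 : A) := by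
        have h := prod_monomial_pow (R := A) (fun p : Fin d × Fin n => Finsupp.single p.2 1)
          (fun _ => (1 : A)) (fun p => Mx p)
        simp_rw [one_pow, Finset.prod_const_one, Finsupp.smul_single_one] at h
        exact h
      rw [hp, MvPolynomial.coeff_monomial]
    · rw [if_neg hrow, if_neg hrow, MvPolynomial.coeff_zero]
  have hsum : ∑ p : Fin d × Fin n, (monomial (Finsupp.single p.1 1)
        (X p.2 : MvPolynomial (Fin n) A) :
        MvPolynomial (Fin d) (MvPolynomial (Fin n) A)) ⊗ₜ[A] b p.2 =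
      (∑ i : Fin d, (X i : MvPolynomial (Fin d) (MvPolynomial (Fin n) A))) •
        ∑ j : Fin n, (C (X j : MvPolynomial (Fin n) A) :
          MvPolynomial (Fin d) (MvPolynomial (Fin n) A)) ⊗ₜ[A] b j := by
    rw [Fintype.sum_prod_type, Finset.sum_smul]
    refine Finset.sum_congr rfl fun i _ => ?_
    rw [Finset.smul_sum]
    refine Finset.sum_congr rfl fun j _ => ?_
    rw [TensorProduct.smul_tmul', smul_eq_mul, mul_comm, MvPolynomial.C_mul_X_eq_monomial]
  have hE2 : cv (N := N) (MvPolynomial (Fin d) (MvPolynomial (Fin n) A)) lam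
      (F.toFun' (MvPolynomial (Fin d) (MvPolynomial (Fin n) A))
        (∑ p : Fin d × Fin n, (monomial (Finsupp.single p.1 1)
          (X p.2 : MvPolynomial (Fin n) A) :
          MvPolynomial (Fin d) (MvPolynomial (Fin n) A)) ⊗ₜ[A] b p.2)) =
      (d.factorial : A) • cf F b m := by
    rw [hsum, hF, hkp, Finset.smul_sum, map_sum]
    have hterm : ∀ m' ∈ Fb, cv (N := N) (MvPolynomial (Fin d) (MvPolynomial (Fin n) A)) lam
        ((∑ i : Fin d, (X i : MvPolynomial (Fin d) (MvPolynomial (Fin n) A))) ^ d •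
          ((∏ j : Fin n, (C (X j : MvPolynomial (Fin n) A) :
            MvPolynomial (Fin d) (MvPolynomial (Fin n) A)) ^ m' j) ⊗ₜ[A] cf F b m')) =
        (if m' = m then (d.factorial : A) else 0) • cf F b m' := by
      intro m' _
      rw [TensorProduct.smul_tmul', cv_tmul, hlam, smul_eq_mul]
      congr 1
      have h1 : ∏ j : Fin n, (C (X j : MvPolynomial (Fin n) A) :
          MvPolynomial (Fin d) (MvPolynomial (Fin n) A)) ^ m' j = C (monomial m' (1 : A)) := by
        rw [MvPolynomial.monic_monomial_eq, Finsupp.prod_fintype _ _ (fun i => pow_zero _),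
          map_prod]
        simp_rw [map_pow]
      have hc : ((d.factorial : ℕ) : MvPolynomial (Fin n) A) = C ((d.factorial : ℕ) : A) :=
        (map_natCast (C : A →+* MvPolynomial (Fin n) A) _).symm
      rw [h1, mul_comm, MvPolynomial.coeff_C_mul, coeff_one_sum_pow, hc, mul_comm,
        MvPolynomial.coeff_C_mul, MvPolynomial.coeff_monomial]
      split_ifs <;> simp
    rw [Finset.sum_congr rfl hterm, sum_pick Fb _ h0]
  have hfin : ∑ c : Fin d → Fin n, (if typ c = m then pol F d (fun i => b (c i)) else 0) =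
      ∑ Mx ∈ F', (if ∑ p : Fin d × Fin n, Finsupp.single p.1 (Mx p) = one' d then
        (if ∑ p : Fin d × Fin n, Finsupp.single p.2 (Mx p) = m then (1 : A) else 0) else 0) •
        cf F (fun p : Fin d × Fin n => b p.2) Mx := by
    have h1 : ∀ c : Fin d → Fin n,
        (if typ c = m then pol F d (fun i => b (c i)) else 0) =
        ∑ Mx ∈ F', (if typ c = m then
          (if ∑ p : Fin d × Fin n, Finsupp.single p.1 (Mx p) = one' d then
          ∏ p : Fin d × Fin n, (if p.2 = c p.1 then (1 : A) else 0) ^ Mx p else 0) else 0) •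
          cf F (fun p : Fin d × Fin n => b p.2) Mx := by
      intro c
      by_cases h : typ c = m
      · rw [if_pos h, hE3 c]
        refine Finset.sum_congr rfl fun Mx _ => ?_
        rw [if_pos h]
      · rw [if_neg h]
        symm
        refine Finset.sum_eq_zero fun Mx _ => ?_
        rw [if_neg h, zero_smul]
    rw [Finset.sum_congr rfl (fun c _ => h1 c), Finset.sum_comm]
    refine Finset.sum_congr rfl fun Mx _ => ?_
    rw [← Finset.sum_smul]
    congr 1
    by_cases hrow : ∑ p : Fin d × Fin n, Finsupp.single p.1 (Mx p) = one' d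
    · simp_rw [if_pos hrow]
      exact e4 m Mx hrow
    · simp_rw [if_neg hrow]
      simp
  rw [hfin, ← hE1, hE2, Nat.cast_smul_eq_nsmul]

end euler

end Groth.Agent.Lib.helper6.GammaPol
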