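import Mathlib
import Groth.Prelude.Def_PolLaw
import Groth.Agent.Lib.Helper6.GammaPol

/-!
# Coefficients of a polynomial law along a (possibly infinite) family (helper6)

For a law `F : M →ₚₗ[A] N` and a family `e : I → M`, the coefficient `CF F e m` of the monomial
`s ^ m` (`m : I →₀ ℕ`) in `F (∑ j ∈ J, s j ⊗ e j)`; independence of the finite set `J ⊇ m.support`,
vanishing outside degree `d` for homogeneous laws, and the expansion `evalD`.
-/

set_option autoImplicit false
set_option linter.unusedSectionVars false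
set_option linter.unusedVariables false

universe u

open scoped TensorProduct
open MvPolynomial

namespace Groth.Agent.Lib.helper6.TSCoef

open Groth.Agent.Lib.helper6.GammaPol

section coef
variable {A : Type u} [CommRing A] {M N : Type u} [AddCommGroup M] [Module A M]
  [AddCommGroup N] [Module A N]

theorem decompU {σ : Type u} (z : MvPolynomial σ A ⊗[A] N) :
    ∃ F : Finset (σ →₀ ℕ),
      (∀ m, m ∉ F → cv (N := N) (MvPolynomial σ A) (MvPolynomial.lcoeff A m) z = 0) ∧
      z = ∑ m ∈ F, (monomial m (1 : A)) ⊗ₜ[A]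
        cv (N := N) (MvPolynomial σ A) (MvPolynomial.lcoeff A m) z := by
  classical
  induction z using TensorProduct.induction_on with
  | zero => exact ⟨∅, fun m _ => by simp, by simp⟩
  | tmul p c =>
    refine ⟨p.support, fun m hm => ?_, ?_⟩
    · rw [cv_tmul, MvPolynomial.lcoeff_apply, MvPolynomial.notMem_support_iff.mp hm, zero_smul]
    · conv_lhs => rw [← MvPolynomial.support_sum_monomial_coeff p]
      rw [TensorProduct.sum_tmul]
      refine Finset.sum_congr rfl fun m _ => ?_
      rw [cv_tmul, MvPolynomial.lcoeff_apply, ← TensorProduct.smul_tmul,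
        MvPolynomial.smul_monomial, smul_eq_mul, mul_one]
  | add x y hx hy =>
    obtain ⟨Fx, hx0, hxs⟩ := hx
    obtain ⟨Fy, hy0, hys⟩ := hy
    refine ⟨Fx ∪ Fy, fun m hm => ?_, ?_⟩
    · rw [Finset.mem_union, not_or] at hm
      rw [map_add, hx0 m hm.1, hy0 m hm.2, add_zero]
    · have h1 : x = ∑ m ∈ Fx ∪ Fy, (monomial m (1 : A)) ⊗ₜ[A]
          cv (N := N) (MvPolynomial σ A) (MvPolynomial.lcoeff A m) x := by
        conv_lhs => rw [hxs]
        refine Finset.sum_subset Finset.subset_union_left fun m _ hm => ?_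
        rw [hx0 m hm, TensorProduct.tmul_zero]
      have h2 : y = ∑ m ∈ Fx ∪ Fy, (monomial m (1 : A)) ⊗ₜ[A]
          cv (N := N) (MvPolynomial σ A) (MvPolynomial.lcoeff A m) y := by
        conv_lhs => rw [hys]
        refine Finset.sum_subset Finset.subset_union_right fun m _ hm => ?_
        rw [hy0 m hm, TensorProduct.tmul_zero]
      conv_lhs => rw [h1, h2]
      rw [← Finset.sum_add_distrib]
      refine Finset.sum_congr rfl fun m _ => ?_
      rw [map_add, TensorProduct.tmul_add]

variable {I : Type u}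

/-- the generic element `∑_{j ∈ J} X_j ⊗ e_j` -/
noncomputable def genJ (e : I → M) (J : Finset I) : MvPolynomial I A ⊗[A] M :=
  ∑ j ∈ J, (X j : MvPolynomial I A) ⊗ₜ[A] e j

/-- coefficient of `X^m` in `F (genJ e J)` -/
noncomputable def cfJ (F : M →ₚₗ[A] N) (e : I → M) (J : Finset I) (m : I →₀ ℕ) : N :=
  cv (MvPolynomial I A) (MvPolynomial.lcoeff A m) (F.toFun' (MvPolynomial I A) (genJ e J))

theorem evalJ (F : M →ₚₗ[A] N) (e : I → M) (J : Finset I) :
    ∃ Fb : Finset (I →₀ ℕ), (∀ m, m ∉ Fb → cfJ F e J m = 0) ∧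
      ∀ (S : Type u) [CommSemiring S] [Algebra A S] (s : I → S),
        F.toFun' S (∑ j ∈ J, s j ⊗ₜ[A] e j) =
          ∑ m ∈ Fb, (m.prod fun i k => s i ^ k) ⊗ₜ[A] cfJ F e J m := by
  classical
  obtain ⟨Fb, h0, hs⟩ := decompU (F.toFun' (MvPolynomial I A) (genJ e J))
  refine ⟨Fb, h0, ?_⟩
  intro S _ _ s
  have hx : (MvPolynomial.aeval s : MvPolynomial I A →ₐ[A] S).toLinearMap.rTensor M (genJ e J) =
      ∑ j ∈ J, s j ⊗ₜ[A] e j := by
    unfold genJ
    rw [map_sum]
    refine Finset.sum_congr rfl fun k _ => ?_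
    rw [LinearMap.rTensor_tmul, AlgHom.toLinearMap_apply, MvPolynomial.aeval_X]
  rw [← hx, ← PolynomialLaw.isCompat_apply']
  conv_lhs => rw [hs]
  rw [map_sum]
  refine Finset.sum_congr rfl fun m _ => ?_
  rw [LinearMap.rTensor_tmul, AlgHom.toLinearMap_apply, MvPolynomial.aeval_monomial, map_one,
    one_mul]
  rfl

theorem prod_ite_X (J : Finset I) (m : I →₀ ℕ) [DecidablePred (· ∈ J)]
    [Decidable (m.support ⊆ J)] :
    (m.prod fun i k => (if i ∈ J then (X i : MvPolynomial I A) else 0) ^ k) =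
      if m.support ⊆ J then monomial m (1 : A) else 0 := by
  classical
  split_ifs with h
  · rw [MvPolynomial.monic_monomial_eq]
    refine Finsupp.prod_congr fun i hi => ?_
    rw [if_pos (h hi)]
  · rw [Finset.not_subset] at h
    obtain ⟨i, hi, hiJ⟩ := h
    rw [Finsupp.prod]
    refine Finset.prod_eq_zero hi ?_
    rw [if_neg hiJ, zero_pow (Finsupp.mem_support_iff.mp hi)]

theorem cf_restrict (F : M →ₚₗ[A] N) (e : I → M) {J J' : Finset I} (hJ : J ⊆ J')
    (m : I →₀ ℕ) [DecidablePred (· ∈ J)] [Decidable (m.support ⊆ J)] :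
    cfJ F e J m = if m.support ⊆ J then cfJ F e J' m else 0 := by
  classical
  obtain ⟨Fb, h0, hs⟩ := evalJ F e J'
  have hgen : ∑ j ∈ J', (if j ∈ J then (X j : MvPolynomial I A) else 0) ⊗ₜ[A] e j =
      genJ e J := by
    unfold genJ
    rw [← Finset.sum_subset hJ]
    · refine Finset.sum_congr rfl fun j hj => ?_
      rw [if_pos hj]
    · intro j _ hj
      rw [if_neg hj, TensorProduct.zero_tmul]
  have h1 := hs (MvPolynomial I A) (fun i => if i ∈ J then X i else 0)
  rw [hgen] at h1
  show cv (MvPolynomial I A) (MvPolynomial.lcoeff A m)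
    (F.toFun' (MvPolynomial I A) (genJ e J)) = _
  rw [h1, map_sum]
  have hterm : ∀ m' ∈ Fb, cv (N := N) (MvPolynomial I A) (MvPolynomial.lcoeff A m)
      ((m'.prod fun i k => (if i ∈ J then (X i : MvPolynomial I A) else 0) ^ k) ⊗ₜ[A]
        cfJ F e J' m') = if m' = m ∧ m.support ⊆ J then cfJ F e J' m else 0 := by
    intro m' _
    rw [prod_ite_X, cv_tmul, MvPolynomial.lcoeff_apply]
    by_cases h2 : m'.support ⊆ J
    · rw [if_pos h2, MvPolynomial.coeff_monomial]
      by_cases h3 : m' = m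
      · subst h3
        rw [if_pos rfl, if_pos ⟨rfl, h2⟩, one_smul]
      · rw [if_neg h3, if_neg (fun h => h3 h.1), zero_smul]
    · rw [if_neg h2, MvPolynomial.coeff_zero, zero_smul]
      rw [if_neg]
      rintro ⟨rfl, h4⟩
      exact h2 h4
  rw [Finset.sum_congr rfl hterm]
  by_cases hm : m.support ⊆ J
  · rw [if_pos hm]
    by_cases hmF : m ∈ Fb
    · rw [Finset.sum_eq_single m]
      · rw [if_pos ⟨rfl, hm⟩]
      · intro m' _ hm'
        rw [if_neg (fun h => hm' h.1)]
      · intro h; exact absurd hmF h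
    · rw [h0 m hmF]
      refine Finset.sum_eq_zero fun m' _ => ?_
      split_ifs <;> rfl
  · rw [if_neg hm]
    refine Finset.sum_eq_zero fun m' _ => ?_
    rw [if_neg (fun h => hm h.2)]

/-- the coefficient of `s^m`, independent of the finite index set -/
noncomputable def CF (F : M →ₚₗ[A] N) (e : I → M) (m : I →₀ ℕ) : N := cfJ F e m.support m

theorem cfJ_eq_CF (F : M →ₚₗ[A] N) (e : I → M) {J : Finset I} {m : I →₀ ℕ}
    (hm : m.support ⊆ J) : cfJ F e J m = CF F e m := by
  classical
  unfold CF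
  rw [cf_restrict F e hm m, if_pos (Finset.Subset.refl _)]

theorem cfJ_of_not_subset (F : M →ₚₗ[A] N) (e : I → M) {J : Finset I} {m : I →₀ ℕ}
    (hm : ¬ m.support ⊆ J) : cfJ F e J m = 0 := by
  classical
  rw [cf_restrict F e (Finset.Subset.refl J) m, if_neg hm]

theorem prod_C_mul_X (m : I →₀ ℕ) :
    (m.prod fun i k => ((Polynomial.C (X i : MvPolynomial I A)) * Polynomial.X) ^ k) =
      Polynomial.monomial m.degree (monomial m (1 : A)) := by
  classical
  have h1 : (m.prod fun i k => ((Polynomial.C (X i : MvPolynomial I A)) * Polynomial.X) ^ k) =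
      (m.prod fun i k => (Polynomial.C (X i : MvPolynomial I A)) ^ k) *
        (m.prod fun i k => (Polynomial.X : Polynomial (MvPolynomial I A)) ^ k) := by
    rw [← Finsupp.prod_mul]
    refine Finsupp.prod_congr fun i _ => ?_
    rw [mul_pow]
  rw [h1]
  have h2 : (m.prod fun i k => (Polynomial.C (X i : MvPolynomial I A)) ^ k) =
      Polynomial.C (monomial m (1 : A)) := by
    rw [MvPolynomial.monic_monomial_eq, map_finsuppProd]
    refine Finsupp.prod_congr fun i _ => ?_
    rw [map_pow]
  have h3 : (m.prod fun i k => (Polynomial.X : Polynomial (MvPolynomial I A)) ^ k) =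
      Polynomial.X ^ m.degree := by
    rw [Finsupp.prod, Finset.prod_pow_eq_pow_sum, Finsupp.degree_apply]
  rw [h2, h3, Polynomial.C_mul_X_pow_eq_monomial]

theorem prod_C (m : I →₀ ℕ) :
    (m.prod fun i k => (Polynomial.C (X i : MvPolynomial I A)) ^ k) =
      Polynomial.C (monomial m (1 : A)) := by
  rw [MvPolynomial.monic_monomial_eq, map_finsuppProd]
  refine Finsupp.prod_congr fun i _ => ?_
  rw [map_pow]

theorem cfJ_homog (F : M →ₚₗ[A] N) {d : ℕ} (hF : PolLaw.IsHomog F d) (e : I → M)
    (J : Finset I) (m : I →₀ ℕ) (hm : m.degree ≠ d) : cfJ F e J m = 0 := by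
  classical
  obtain ⟨Fb, h0, hs⟩ := evalJ F e J
  by_cases hmF : m ∈ Fb
  swap
  · exact h0 m hmF
  have E1 := hs (Polynomial (MvPolynomial I A))
    (fun i => Polynomial.C (X i : MvPolynomial I A) * Polynomial.X)
  have E2 := hs (Polynomial (MvPolynomial I A)) (fun i => Polynomial.C (X i : MvPolynomial I A))
  have hsm : ∑ j ∈ J, (Polynomial.C (X j : MvPolynomial I A) * Polynomial.X) ⊗ₜ[A] e j =
      (Polynomial.X : Polynomial (MvPolynomial I A)) •
        ∑ j ∈ J, (Polynomial.C (X j : MvPolynomial I A)) ⊗ₜ[A] e j := by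
    rw [Finset.smul_sum]
    refine Finset.sum_congr rfl fun j _ => ?_
    rw [TensorProduct.smul_tmul', smul_eq_mul, mul_comm]
  rw [hsm, hF, E2] at E1
  simp only [prod_C_mul_X, prod_C] at E1
  rw [Finset.smul_sum] at E1
  -- the functional
  let lam : Polynomial (MvPolynomial I A) →ₗ[A] A :=
    (MvPolynomial.lcoeff A m) ∘ₗ ((Polynomial.lcoeff (MvPolynomial I A) m.degree).restrictScalars A)
  have hlam : ∀ (k : ℕ) (q : MvPolynomial I A),
      lam (Polynomial.monomial k q) = if k = m.degree then coeff m q else 0 := by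
    intro k q
    show coeff m ((Polynomial.monomial k q).coeff m.degree) = _
    rw [Polynomial.coeff_monomial]
    split_ifs <;> simp
  have E3 := congrArg (cv (N := N) (Polynomial (MvPolynomial I A)) lam) E1
  rw [map_sum, map_sum] at E3
  have hL : ∑ m' ∈ Fb, cv (N := N) (Polynomial (MvPolynomial I A)) lam
      ((Polynomial.X : Polynomial (MvPolynomial I A)) ^ d •
        ((Polynomial.C (monomial m' (1 : A))) ⊗ₜ[A] cfJ F e J m')) = 0 := by
    refine Finset.sum_eq_zero fun m' _ => ?_
    rw [TensorProduct.smul_tmul', smul_eq_mul, mul_comm, Polynomial.C_mul_X_pow_eq_monomial,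
      cv_tmul, hlam, if_neg (fun h => hm h.symm), zero_smul]
  have hR : ∑ m' ∈ Fb, cv (N := N) (Polynomial (MvPolynomial I A)) lam
      ((Polynomial.monomial m'.degree (monomial m' (1 : A))) ⊗ₜ[A] cfJ F e J m') =
        cfJ F e J m := by
    rw [Finset.sum_eq_single m]
    · rw [cv_tmul, hlam, if_pos rfl, MvPolynomial.coeff_monomial, if_pos rfl, one_smul]
    · intro m' _ hm'
      rw [cv_tmul, hlam]
      split_ifs
      · rw [MvPolynomial.coeff_monomial, if_neg hm', zero_smul]
      · rw [zero_smul]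
    · intro h; exact absurd hmF h
  rw [hL, hR] at E3
  exact E3.symm

theorem evalD (F : M →ₚₗ[A] N) {d : ℕ} (hF : PolLaw.IsHomog F d) (e : I → M) (J : Finset I)
    [DecidableEq I] (S : Type u) [CommSemiring S] [Algebra A S] (s : I → S) :
    F.toFun' S (∑ j ∈ J, s j ⊗ₜ[A] e j) =
      ∑ m ∈ Finset.finsuppAntidiag J d, (m.prod fun i k => s i ^ k) ⊗ₜ[A] CF F e m := by
  classical
  obtain ⟨Fb, h0, hs⟩ := evalJ F e J
  rw [hs S s]
  have hzero : ∀ m, m ∉ Finset.finsuppAntidiag J d → cfJ F e J m = 0 := by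
    intro m hm
    by_cases hsub : m.support ⊆ J
    · apply cfJ_homog F hF
      intro hdeg
      apply hm
      rw [Finset.mem_finsuppAntidiag]
      refine ⟨?_, hsub⟩
      rw [← hdeg, Finsupp.degree_apply]
      symm
      refine Finset.sum_subset hsub fun i _ hi => ?_
      exact Finsupp.notMem_support_iff.mp hi
    · exact cfJ_of_not_subset F e hsub
  calc ∑ m ∈ Fb, (m.prod fun i k => s i ^ k) ⊗ₜ[A] cfJ F e J m
      = ∑ m ∈ Fb ∪ Finset.finsuppAntidiag J d, (m.prod fun i k => s i ^ k) ⊗ₜ[A] cfJ F e J m := by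
        refine Finset.sum_subset Finset.subset_union_left fun m _ hm => ?_
        rw [h0 m hm, TensorProduct.tmul_zero]
    _ = ∑ m ∈ Finset.finsuppAntidiag J d, (m.prod fun i k => s i ^ k) ⊗ₜ[A] cfJ F e J m := by
        symm
        refine Finset.sum_subset Finset.subset_union_right fun m _ hm => ?_
        rw [hzero m hm, TensorProduct.tmul_zero]
    _ = _ := by
        refine Finset.sum_congr rfl fun m hm => ?_
        rw [cfJ_eq_CF F e (Finset.mem_finsuppAntidiag.mp hm).2]

end coef

end Groth.Agent.Lib.helper6.TSCoef
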