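import Mathlib
import Groth.Prelude.Def_PolLaw
import Groth.Prelude.Def_PolLaw2
import Groth.Prelude.Def_SymTen
import Groth.Agent.Lib.Helper6.GammaPol
import Groth.Agent.Lib.Helper6.GammaGen
import Groth.Agent.Lib.Helper6.GammaCoef
import Groth.Agent.Lib.Helper6.TSCoef
import Groth.Agent.Lib.Helper6.TSBasis

/-!
# `TS^d_A(P)` is the degree-`d` divided power algebra of an algebra `P` that is free as a module
(helper6).  Main results: `fAlg`, `fAlg_of_val`, `exists_val`, `TSBasis.lTensor_val_injective`.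
-/

set_option autoImplicit false
set_option linter.unusedSectionVars false
set_option linter.unusedVariables false

universe u

open scoped TensorProduct
open PiTensorProduct MvPolynomial

namespace Groth.Agent.Lib.helper6.TSUniv

open Groth.Agent.Lib.helper6.GammaPol Groth.Agent.Lib.helper6.GammaGen
open Groth.Agent.Lib.helper6.TSCoef Groth.Agent.Lib.helper6.TSBasis

section univ
variable {A : Type u} [CommRing A] {P : Type u} [CommRing P] [Algebra A P] {I : Type u}
  (e : Module.Basis I A P) (d : ℕ) {C' : Type u} [CommRing C'] [Algebra A C']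

/-- the candidate linear map `TS^d(P) → C'` attached to a law -/
noncomputable def fLin (F : P →ₚₗ[A] C') : SymTen.TS A P d →ₗ[A] C' :=
  (gmap e d (CF F ⇑e)) ∘ₗ (SymTen.TS A P d).val.toLinearMap

theorem fLin_oT (F : P →ₚₗ[A] C') (m : I →₀ ℕ) (hm : m.degree = d) :
    fLin e d F (oT e d m) = CF F ⇑e m := by
  obtain ⟨c₁, rfl⟩ := exists_typI_eq d m hm
  exact gmap_osum e d _ c₁

include e in
theorem exists_repr (S : Type u) [CommSemiring S] [Algebra A S] (x : S ⊗[A] P) :
    ∃ (J : Finset I) (s : I → S), x = ∑ j ∈ J, s j ⊗ₜ[A] e j := by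
  classical
  induction x using TensorProduct.induction_on with
  | zero => exact ⟨∅, fun _ => 0, by simp⟩
  | tmul a p =>
    refine ⟨(e.repr p).support, fun j => (e.repr p j) • a, ?_⟩
    conv_lhs => rw [← e.linearCombination_repr p, Finsupp.linearCombination_apply, Finsupp.sum,
      TensorProduct.tmul_sum]
    refine Finset.sum_congr rfl fun j _ => ?_
    rw [TensorProduct.tmul_smul, TensorProduct.smul_tmul']
  | add x y hx hy =>
    obtain ⟨J, s, rfl⟩ := hx
    obtain ⟨J', s', rfl⟩ := hy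
    refine ⟨J ∪ J', fun j => (if j ∈ J then s j else 0) + (if j ∈ J' then s' j else 0), ?_⟩
    simp only [TensorProduct.add_tmul, Finset.sum_add_distrib]
    congr 1
    · refine (Finset.sum_congr rfl fun j hj => ?_).trans
        (Finset.sum_subset Finset.subset_union_left fun j _ hj => ?_)
      · rw [if_pos hj]
      · rw [if_neg hj, TensorProduct.zero_tmul]
    · refine (Finset.sum_congr rfl fun j hj => ?_).trans
        (Finset.sum_subset Finset.subset_union_right fun j _ hj => ?_)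
      · rw [if_pos hj]
      · rw [if_neg hj, TensorProduct.zero_tmul]

/-- the lift of `tpow (∑ s_j ⊗ e_j)` to `S ⊗ TS` -/
noncomputable def yJ [DecidableEq I] (S : Type u) [CommSemiring S] [Algebra A S] (J : Finset I)
    (s : I → S) : S ⊗[A] SymTen.TS A P d :=
  ∑ m ∈ Finset.finsuppAntidiag J d, (m.prod fun i k => s i ^ k) ⊗ₜ[A] oT e d m

theorem degree_of_mem [DecidableEq I] {J : Finset I} {m : I →₀ ℕ}
    (hm : m ∈ Finset.finsuppAntidiag J d) : m.degree = d := by
  obtain ⟨h1, h2⟩ := Finset.mem_finsuppAntidiag.mp hm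
  rw [Finsupp.degree_apply, ← h1]
  exact Finset.sum_subset h2 fun i _ hi => Finsupp.notMem_support_iff.mp hi

theorem val_yJ [DecidableEq I] (S : Type u) [CommSemiring S] [Algebra A S] (J : Finset I)
    (s : I → S) :
    (SymTen.TS A P d).val.toLinearMap.lTensor S (yJ e d S J s) =
      (SymTen.tpowLaw A P d).law.toFun' S (∑ j ∈ J, s j ⊗ₜ[A] e j) := by
  classical
  have hR : (SymTen.tpowLaw A P d).law.toFun' S (∑ j ∈ J, s j ⊗ₜ[A] e j) =
      ∑ c ∈ Fintype.piFinset (fun _ : Fin d => J),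
        (∏ k, s (c k)) ⊗ₜ[A] tprod A (fun k => e (c k)) := by
    unfold SymTen.tpowLaw
    rw [PolLaw.MulLaw.prodMap_toFun']
    simp only [map_sum, Algebra.TensorProduct.map_tmul, AlgHom.coe_id, id_eq]
    rw [Finset.prod_univ_sum]
    refine Finset.sum_congr rfl fun c _ => ?_
    rw [TSBasis.prod_tmul, TSBasis.prod_single]
  rw [hR]
  unfold yJ
  rw [map_sum]
  simp only [LinearMap.lTensor_tmul]
  have hmaps : ∀ c ∈ Fintype.piFinset (fun _ : Fin d => J),
      typI c ∈ Finset.finsuppAntidiag J d := by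
    intro c hc
    rw [Fintype.mem_piFinset] at hc
    have hsub : (typI c).support ⊆ J := by
      intro i hi
      obtain ⟨k, rfl⟩ := exists_of_mem_support c hi
      exact hc k
    rw [Finset.mem_finsuppAntidiag]
    refine ⟨?_, hsub⟩
    have hdeg := degree_typI c
    rw [Finsupp.degree_apply] at hdeg
    exact (Finset.sum_subset hsub fun i _ hi => Finsupp.notMem_support_iff.mp hi).symm.trans hdeg
  rw [← Finset.sum_fiberwise_of_maps_to hmaps]
  refine Finset.sum_congr rfl fun m hm => ?_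
  show (m.prod fun i k => s i ^ k) ⊗ₜ[A] osum e d m = _
  unfold osum
  rw [TensorProduct.tmul_sum]
  refine Finset.sum_congr ?_ fun c hc => ?_
  · ext c
    rw [mem_cset, Finset.mem_filter, Fintype.mem_piFinset]
    constructor
    · intro h
      refine ⟨fun k => ?_, h⟩
      exact (Finset.mem_finsuppAntidiag.mp hm).2 (h ▸ apply_mem_support c k)
    · exact fun h => h.2
  · rw [Finset.mem_filter] at hc
    rw [← hc.2, prod_typI, E_apply]

theorem f_yJ [DecidableEq I] (F : P →ₚₗ[A] C') (hF : PolLaw.IsHomog F d) (S : Type u)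
    [CommSemiring S] [Algebra A S] (J : Finset I) (s : I → S) :
    (fLin e d F).lTensor S (yJ e d S J s) = F.toFun' S (∑ j ∈ J, s j ⊗ₜ[A] e j) := by
  rw [evalD F hF ⇑e J S s]
  unfold yJ
  rw [map_sum]
  refine Finset.sum_congr rfl fun m hm => ?_
  rw [LinearMap.lTensor_tmul, fLin_oT e d F m (degree_of_mem d hm)]

theorem exists_lift (F : P →ₚₗ[A] C') (hF : PolLaw.IsHomog F d) (S : Type u)
    [CommSemiring S] [Algebra A S] (x : S ⊗[A] P) :
    ∃ y : S ⊗[A] SymTen.TS A P d,
      (SymTen.TS A P d).val.toLinearMap.lTensor S y =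
        (SymTen.tpowLaw A P d).law.toFun' S x ∧
      (fLin e d F).lTensor S y = F.toFun' S x := by
  classical
  obtain ⟨J, s, rfl⟩ := exists_repr e S x
  exact ⟨yJ e d S J s, val_yJ e d S J s, f_yJ e d F hF S J s⟩

include e in
theorem exists_val (S : Type u) [CommSemiring S] [Algebra A S] (x : S ⊗[A] P) :
    ∃ y : S ⊗[A] SymTen.TS A P d,
      (SymTen.TS A P d).val.toLinearMap.lTensor S y =
        (SymTen.tpowLaw A P d).law.toFun' S x := by
  classical
  obtain ⟨J, s, rfl⟩ := exists_repr e S x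
  exact ⟨yJ e d S J s, val_yJ e d S J s⟩

theorem fLin_of_val (F : P →ₚₗ[A] C') (hF : PolLaw.IsHomog F d) (S : Type u)
    [CommSemiring S] [Algebra A S] (x : S ⊗[A] P) (y : S ⊗[A] SymTen.TS A P d)
    (hy : (SymTen.TS A P d).val.toLinearMap.lTensor S y =
      (SymTen.tpowLaw A P d).law.toFun' S x) :
    (fLin e d F).lTensor S y = F.toFun' S x := by
  obtain ⟨y', h1, h2⟩ := exists_lift e d F hF S x
  have h3 : y = y' := lTensor_val_injective e d S (hy.trans h1.symm)
  rw [h3, h2]

theorem lTensor_val_mul (S : Type u) [CommSemiring S] [Algebra A S]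
    (y y' : S ⊗[A] SymTen.TS A P d) :
    (SymTen.TS A P d).val.toLinearMap.lTensor S (y * y') =
      (SymTen.TS A P d).val.toLinearMap.lTensor S y *
        (SymTen.TS A P d).val.toLinearMap.lTensor S y' := by
  rw [PolLaw.lTensor_algHom_apply, PolLaw.lTensor_algHom_apply, PolLaw.lTensor_algHom_apply,
    map_mul]

theorem fLin_one (F : PolLaw.MulLaw A P C' d) : fLin e d F.law 1 = 1 := by
  have h1 : (SymTen.TS A P d).val.toLinearMap.lTensor A (1 : A ⊗[A] SymTen.TS A P d) =
      (SymTen.tpowLaw A P d).law.toFun' A 1 := by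
    rw [PolLaw.lTensor_algHom_apply, map_one, ((SymTen.tpowLaw A P d).mult A).1]
  have h2 := fLin_of_val e d F.law F.homog A 1 1 h1
  rw [(F.mult A).1] at h2
  have h4 : (1 : A ⊗[A] SymTen.TS A P d) = 1 ⊗ₜ[A] 1 := Algebra.TensorProduct.one_def
  have h5 : (1 : A ⊗[A] C') = 1 ⊗ₜ[A] 1 := Algebra.TensorProduct.one_def
  rw [h4, h5, LinearMap.lTensor_tmul] at h2
  have h3 := congrArg (TensorProduct.lid A C') h2
  rw [TensorProduct.lid_tmul, TensorProduct.lid_tmul, one_smul, one_smul] at h3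
  exact h3

theorem fLin_mul_cv (F : PolLaw.MulLaw A P C' d) {S₁ S₂ : Type u} [CommSemiring S₁]
    [Algebra A S₁] [CommSemiring S₂] [Algebra A S₂] (lam₁ : S₁ →ₗ[A] A) (lam₂ : S₂ →ₗ[A] A)
    (x₁ : S₁ ⊗[A] P) (x₂ : S₂ ⊗[A] P) (y₁ : S₁ ⊗[A] SymTen.TS A P d)
    (y₂ : S₂ ⊗[A] SymTen.TS A P d)
    (h₁ : (SymTen.TS A P d).val.toLinearMap.lTensor S₁ y₁ =
      (SymTen.tpowLaw A P d).law.toFun' S₁ x₁)
    (h₂ : (SymTen.TS A P d).val.toLinearMap.lTensor S₂ y₂ =
      (SymTen.tpowLaw A P d).law.toFun' S₂ x₂) :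
    fLin e d F.law (coefv S₁ lam₁ y₁ * coefv S₂ lam₂ y₂) =
      fLin e d F.law (coefv S₁ lam₁ y₁) * fLin e d F.law (coefv S₂ lam₂ y₂) := by
  obtain ⟨il, hil⟩ : ∃ il : S₁ →ₐ[A] S₁ ⊗[A] S₂, il = Algebra.TensorProduct.includeLeft :=
    ⟨_, rfl⟩
  obtain ⟨ir, hir⟩ : ∃ ir : S₂ →ₐ[A] S₁ ⊗[A] S₂, ir = Algebra.TensorProduct.includeRight :=
    ⟨_, rfl⟩
  -- the lifts over `S₁ ⊗ S₂`
  have hv1 : (SymTen.TS A P d).val.toLinearMap.lTensor (S₁ ⊗[A] S₂)
      (il.toLinearMap.rTensor _ y₁) =
      (SymTen.tpowLaw A P d).law.toFun' (S₁ ⊗[A] S₂) (il.toLinearMap.rTensor P x₁) := by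
    rw [lT_rT, h₁, PolynomialLaw.isCompat_apply']
  have hv2 : (SymTen.TS A P d).val.toLinearMap.lTensor (S₁ ⊗[A] S₂)
      (ir.toLinearMap.rTensor _ y₂) =
      (SymTen.tpowLaw A P d).law.toFun' (S₁ ⊗[A] S₂) (ir.toLinearMap.rTensor P x₂) := by
    rw [lT_rT, h₂, PolynomialLaw.isCompat_apply']
  have hv12 : (SymTen.TS A P d).val.toLinearMap.lTensor (S₁ ⊗[A] S₂)
      (il.toLinearMap.rTensor _ y₁ * ir.toLinearMap.rTensor _ y₂) =
      (SymTen.tpowLaw A P d).law.toFun' (S₁ ⊗[A] S₂)
        (il.toLinearMap.rTensor P x₁ * ir.toLinearMap.rTensor P x₂) := by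
    rw [lTensor_val_mul, hv1, hv2, ((SymTen.tpowLaw A P d).mult (S₁ ⊗[A] S₂)).2]
  have hf1 := fLin_of_val e d F.law F.homog _ _ _ hv1
  have hf2 := fLin_of_val e d F.law F.homog _ _ _ hv2
  have hf12 := fLin_of_val e d F.law F.homog _ _ _ hv12
  rw [(F.mult (S₁ ⊗[A] S₂)).2, ← hf1, ← hf2, lT_rT, lT_rT] at hf12
  -- now extract coefficients
  have hc := congrArg (coefv (C := C') (S₁ ⊗[A] S₂)
    ((LinearMap.mul' A A) ∘ₗ (TensorProduct.map lam₁ lam₂))) hf12
  rw [hil, hir, coefv_mul] at hc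
  have hcv : ∀ (S : Type u) [CommSemiring S] [Algebra A S] (lam : S →ₗ[A] A)
      (z : S ⊗[A] SymTen.TS A P d),
      coefv (C := C') S lam ((fLin e d F.law).lTensor S z) =
        fLin e d F.law (coefv S lam z) := by
    intro S _ _ lam z
    exact cv_lTensor S lam (fLin e d F.law) z
  rw [hcv, hcv, hcv, coefv_mul] at hc
  exact hc

theorem cv_yJ [DecidableEq I] (J : Finset I) (m : I →₀ ℕ)
    (hm : m ∈ Finset.finsuppAntidiag J d) :
    coefv (C := SymTen.TS A P d) (MvPolynomial I A) (MvPolynomial.lcoeff A m)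
      (yJ e d (MvPolynomial I A) J X) = oT e d m := by
  classical
  unfold yJ
  rw [map_sum, Finset.sum_eq_single m]
  · rw [← MvPolynomial.monic_monomial_eq, coefv_tmul, MvPolynomial.lcoeff_apply,
      MvPolynomial.coeff_monomial, if_pos rfl, one_smul]
  · intro m' _ hm'
    rw [← MvPolynomial.monic_monomial_eq, coefv_tmul, MvPolynomial.lcoeff_apply,
      MvPolynomial.coeff_monomial, if_neg hm', zero_smul]
  · intro h
    exact absurd hm h

theorem fLin_mul_oT (F : PolLaw.MulLaw A P C' d) (m m' : I →₀ ℕ) (hm : m.degree = d)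
    (hm' : m'.degree = d) :
    fLin e d F.law (oT e d m * oT e d m') =
      fLin e d F.law (oT e d m) * fLin e d F.law (oT e d m') := by
  classical
  have hmem : ∀ m₀ : I →₀ ℕ, m₀.degree = d → m₀.support ⊆ m.support ∪ m'.support →
      m₀ ∈ Finset.finsuppAntidiag (m.support ∪ m'.support) d := by
    intro m₀ h1 h2
    rw [Finset.mem_finsuppAntidiag]
    refine ⟨?_, h2⟩
    rw [Finsupp.degree_apply] at h1
    exact (Finset.sum_subset h2 fun i _ hi => Finsupp.notMem_support_iff.mp hi).symm.trans h1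
  have h1 := cv_yJ e d (m.support ∪ m'.support) m (hmem m hm Finset.subset_union_left)
  have h2 := cv_yJ e d (m.support ∪ m'.support) m' (hmem m' hm' Finset.subset_union_right)
  have h3 := fLin_mul_cv e d F (MvPolynomial.lcoeff A m) (MvPolynomial.lcoeff A m')
    _ _ _ _ (val_yJ e d (MvPolynomial I A) (m.support ∪ m'.support) X)
    (val_yJ e d (MvPolynomial I A) (m.support ∪ m'.support) X)
  rw [h1, h2] at h3
  exact h3

theorem fLin_mul (F : PolLaw.MulLaw A P C' d) (u v : SymTen.TS A P d) :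
    fLin e d F.law (u * v) = fLin e d F.law u * fLin e d F.law v := by
  have hu := mem_span_oT e d u
  have hv := mem_span_oT e d v
  induction hu using Submodule.span_induction with
  | mem u hu' =>
    obtain ⟨c, rfl⟩ := hu'
    induction hv using Submodule.span_induction with
    | mem v hv' =>
      obtain ⟨c', rfl⟩ := hv'
      exact fLin_mul_oT e d F _ _ (degree_typI c) (degree_typI c')
    | zero => simp
    | add v v' _ _ h1 h2 => rw [mul_add, map_add, map_add, h1, h2, mul_add]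
    | smul a v _ h => rw [mul_smul_comm, map_smul, map_smul, h, mul_smul_comm]
  | zero => simp
  | add u u' _ _ h1 h2 => rw [add_mul, map_add, map_add, h1, h2, add_mul]
  | smul a u _ h => rw [smul_mul_assoc, map_smul, map_smul, h, smul_mul_assoc]

/-- the algebra map `TS^d(P) → C'` classifying a multiplicative law of degree `d` -/
noncomputable def fAlg (F : PolLaw.MulLaw A P C' d) : SymTen.TS A P d →ₐ[A] C' :=
  AlgHom.ofLinearMap (fLin e d F.law) (fLin_one e d F) (fLin_mul e d F)

theorem fAlg_of_val (F : PolLaw.MulLaw A P C' d) (S : Type u) [CommSemiring S] [Algebra A S]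
    (x : S ⊗[A] P) (y : S ⊗[A] SymTen.TS A P d)
    (hy : (SymTen.TS A P d).val.toLinearMap.lTensor S y =
      (SymTen.tpowLaw A P d).law.toFun' S x) :
    (fAlg e d F).toLinearMap.lTensor S y = F.law.toFun' S x :=
  fLin_of_val e d F.law F.homog S x y hy

end univ

end Groth.Agent.Lib.helper6.TSUniv
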