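import Mathlib
import Groth.Prelude.Def_PolLaw
import Groth.Prelude.Def_PolLaw2
import Groth.Prelude.Def_SymTen
import Groth.Agent.Lib.Helper6.TSUniv

/-!
# Cayley–Hamilton for multiplicative polynomial laws `B → A` (helper6)

`chi F A' t` is the characteristic polynomial of `t : A' ⊗ B`; `ch_bc`: `χ_t(t) ∈ kerBC F A'`;
`ch`: `χ_b(b) ∈ ker F`.
-/

set_option autoImplicit false
set_option linter.unusedSectionVars false
set_option linter.unusedVariables false

universe u

open scoped TensorProduct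
open PiTensorProduct

namespace Groth.Agent.Lib.helper6.CHLaw

open Groth.Agent.Lib.helper6.TSUniv Groth.Agent.Lib.helper6.TSBasis

section defs
variable {A : Type u} [CommRing A] {B : Type u} [CommRing B] [Algebra A B]

/-- `t` moved to `A'[X] ⊗ B` -/
noncomputable def tHat (A' : Type u) [CommRing A'] [Algebra A A'] (t : A' ⊗[A] B) :
    Polynomial A' ⊗[A] B :=
  Algebra.TensorProduct.map (IsScalarTower.toAlgHom A A' (Polynomial A')) (AlgHom.id A B) t

/-- the characteristic polynomial `F (t - X)` -/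
noncomputable def chi {d : ℕ} (F : PolLaw.MulLaw A B A d) (A' : Type u) [CommRing A']
    [Algebra A A'] (t : A' ⊗[A] B) : Polynomial A' :=
  TensorProduct.rid A (Polynomial A')
    (F.law.toFun' (Polynomial A') (tHat A' t - Polynomial.X ⊗ₜ[A] (1 : B)))

theorem mem_kerBC_iff {C : Type u} [CommRing C] [Algebra A C] (F : B →ₚₗ[A] C) (A' : Type u)
    [CommRing A'] [Algebra A A'] (b' : A' ⊗[A] B) :
    b' ∈ PolLaw.kerBC F A' ↔ ∀ (R : Type u) [CommSemiring R] [Algebra A R] (ψ : A' →ₐ[A] R)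
      (x w : R ⊗[A] B),
      F.toFun' R (x + w * Algebra.TensorProduct.map ψ (AlgHom.id A B) b') = F.toFun' R x := by
  constructor
  · intro hb R _ _ ψ x w
    letI : Algebra A' R := ψ.toRingHom.toAlgebra
    haveI : IsScalarTower A A' R :=
      IsScalarTower.of_algebraMap_eq (fun a => (ψ.commutes a).symm)
    have hb' : ∀ (R : Type u) [CommSemiring R] [Algebra A R] [Algebra A' R]
        [IsScalarTower A A' R] (x w : R ⊗[A] B),
        F.toFun' R (x + w * Algebra.TensorProduct.map (IsScalarTower.toAlgHom A A' R)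
          (AlgHom.id A B) b') = F.toFun' R x := hb
    have h := hb' R x w
    have hψ : IsScalarTower.toAlgHom A A' R = ψ := by
      ext a
      rfl
    rw [hψ] at h
    exact h
  · intro h
    change ∀ (R : Type u) [CommSemiring R] [Algebra A R] [Algebra A' R]
        [IsScalarTower A A' R] (x w : R ⊗[A] B),
        F.toFun' R (x + w * Algebra.TensorProduct.map (IsScalarTower.toAlgHom A A' R)
          (AlgHom.id A B) b') = F.toFun' R x
    intro R _ _ _ _ x w
    exact h R (IsScalarTower.toAlgHom A A' R) x w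

end defs

section gen
variable (A : Type u) [CommRing A]

theorem map_id_eq {S : Type u} [CommSemiring S] [Algebra A S] {X Y : Type u} [CommRing X]
    [Algebra A X] [CommRing Y] [Algebra A Y] (g : X →ₐ[A] Y) (x : S ⊗[A] X) :
    Algebra.TensorProduct.map (AlgHom.id S S) g x =
      Algebra.TensorProduct.map (AlgHom.id A S) g x := by
  induction x using TensorProduct.induction_on with
  | zero => simp
  | tmul a b => simp
  | add a b ha hb => simp only [map_add, ha, hb]

/-- `s ⊗ r ↦ s * f r` -/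
noncomputable def fbar {R' : Type u} [CommRing R'] [Algebra A R'] (f : R' →ₐ[A] A) (S : Type u)
    [CommSemiring S] [Algebra A S] : S ⊗[A] R' →ₐ[A] S :=
  Algebra.TensorProduct.productMap (AlgHom.id A S) ((Algebra.ofId A S).comp f)

theorem fbar_tmul {R' : Type u} [CommRing R'] [Algebra A R'] (f : R' →ₐ[A] A) (S : Type u)
    [CommSemiring S] [Algebra A S] (s : S) (r : R') :
    fbar A f S (s ⊗ₜ[A] r) = s * algebraMap A S (f r) := by
  simp [fbar, Algebra.ofId_apply]

theorem fbar_spec {R' : Type u} [CommRing R'] [Algebra A R'] (f : R' →ₐ[A] A) (S : Type u)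
    [CommSemiring S] [Algebra A S] (y : S ⊗[A] R') :
    f.toLinearMap.lTensor S y = (fbar A f S y) ⊗ₜ[A] (1 : A) := by
  induction y using TensorProduct.induction_on with
  | zero => simp
  | tmul s r =>
    rw [LinearMap.lTensor_tmul, fbar_tmul, AlgHom.toLinearMap_apply,
      Algebra.algebraMap_eq_smul_one, mul_smul_comm, mul_one, TensorProduct.smul_tmul,
      smul_eq_mul, mul_one]
  | add a b ha hb => rw [map_add, map_add, TensorProduct.add_tmul, ha, hb]

end gen

section abs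
variable (A P Q R : Type u) [CommRing A] [CommRing P] [Algebra A P] [CommRing Q] [Algebra A Q]
  [CommRing R] [Algebra A R] (d : ℕ) (ι : Fin d → (P →ₐ[A] Q)) (val : R →ₐ[A] Q)

noncomputable def iotS (S : Type u) [CommSemiring S] [Algebra A S] (k : Fin d) :
    S ⊗[A] P →ₐ[A] S ⊗[A] Q :=
  Algebra.TensorProduct.map (AlgHom.id A S) (ι k)

noncomputable def valS (S : Type u) [CommSemiring S] [Algebra A S] :
    S ⊗[A] R →ₐ[A] S ⊗[A] Q :=
  Algebra.TensorProduct.map (AlgHom.id A S) val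

variable (A' : Type u) [CommRing A'] [Algebra A A']

noncomputable def evP (t : A' ⊗[A] P) : Polynomial A' →ₐ[A] A' ⊗[A] P :=
  (Polynomial.aeval t : Polynomial A' →ₐ[A'] A' ⊗[A] P).restrictScalars A

theorem evP_C (t : A' ⊗[A] P) (a : A') : evP A P A' t (Polynomial.C a) = a ⊗ₜ[A] 1 := by
  show Polynomial.aeval t (Polynomial.C a) = _
  rw [Polynomial.aeval_C, Algebra.TensorProduct.algebraMap_apply]
  rfl

theorem evP_X (t : A' ⊗[A] P) : evP A P A' t Polynomial.X = t := by
  show Polynomial.aeval t Polynomial.X = _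
  rw [Polynomial.aeval_X]

variable (R₀ : Type u) [CommSemiring R₀] [Algebra A R₀]

noncomputable def incP : R₀ ⊗[A] P →ₐ[A] (R₀ ⊗[A] R) ⊗[A] P :=
  Algebra.TensorProduct.map (Algebra.TensorProduct.includeLeft) (AlgHom.id A P)

noncomputable def mu : (R₀ ⊗[A] R) ⊗[A] R →ₐ[A] R₀ ⊗[A] R :=
  Algebra.TensorProduct.productMap (AlgHom.id A _) Algebra.TensorProduct.includeRight

noncomputable def muQ : (R₀ ⊗[A] R) ⊗[A] Q →ₐ[A] R₀ ⊗[A] Q :=
  Algebra.TensorProduct.productMap (valS A Q R val R₀) Algebra.TensorProduct.includeRight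

noncomputable def Psi0 (ψ : A' →ₐ[A] R₀) (t : A' ⊗[A] P) : Polynomial A' →ₐ[A] R₀ ⊗[A] P :=
  (Algebra.TensorProduct.map ψ (AlgHom.id A P)).comp (evP A P A' t)

noncomputable def Psi (ψ : A' →ₐ[A] R₀) (t : A' ⊗[A] P) :
    Polynomial A' ⊗[A] R →ₐ[A] (R₀ ⊗[A] R) ⊗[A] P :=
  Algebra.TensorProduct.productMap ((incP A P R R₀).comp (Psi0 A P A' R₀ ψ t))
    ((Algebra.TensorProduct.includeLeft : R₀ ⊗[A] R →ₐ[A] (R₀ ⊗[A] R) ⊗[A] P).comp
      (Algebra.TensorProduct.includeRight : R →ₐ[A] R₀ ⊗[A] R))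


noncomputable def evQ (q : A' ⊗[A] Q) : Polynomial A' →ₐ[A] A' ⊗[A] Q :=
  (Polynomial.aeval q : Polynomial A' →ₐ[A'] A' ⊗[A] Q).restrictScalars A

theorem evQ_C (q : A' ⊗[A] Q) (a : A') : evQ A Q A' q (Polynomial.C a) = a ⊗ₜ[A] 1 := by
  show Polynomial.aeval q (Polynomial.C a) = _
  rw [Polynomial.aeval_C, Algebra.TensorProduct.algebraMap_apply]
  rfl

theorem evQ_X (q : A' ⊗[A] Q) : evQ A Q A' q Polynomial.X = q := by
  show Polynomial.aeval q Polynomial.X = _
  rw [Polynomial.aeval_X]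

/-- evaluation `X ↦ ι_l t` on `A'[X] ⊗ Q` -/
noncomputable def epsl (l : Fin d) (t : A' ⊗[A] P) :
    Polynomial A' ⊗[A] Q →ₐ[A] A' ⊗[A] Q :=
  Algebra.TensorProduct.productMap (evQ A Q A' (iotS A P Q d ι A' l t))
    Algebra.TensorProduct.includeRight

theorem epsl_tmul (l : Fin d) (t : A' ⊗[A] P) (p : Polynomial A') (q : Q) :
    epsl A P Q d ι A' l t (p ⊗ₜ[A] q) = evQ A Q A' (iotS A P Q d ι A' l t) p * (1 ⊗ₜ[A] q) := by
  simp [epsl]

theorem epsl_tHat (l k : Fin d) (t : A' ⊗[A] P) :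
    epsl A P Q d ι A' l t (iotS A P Q d ι (Polynomial A') k (tHat A' t)) =
      iotS A P Q d ι A' k t := by
  have h : ((epsl A P Q d ι A' l t).comp (iotS A P Q d ι (Polynomial A') k)).comp
      (Algebra.TensorProduct.map (IsScalarTower.toAlgHom A A' (Polynomial A'))
        (AlgHom.id A P)) = iotS A P Q d ι A' k := by
    refine Algebra.TensorProduct.ext' fun a p => ?_
    have hC : (IsScalarTower.toAlgHom A A' (Polynomial A')) a = Polynomial.C a := rfl
    simp only [AlgHom.comp_apply, iotS, Algebra.TensorProduct.map_tmul, AlgHom.coe_id, id_eq,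
      hC]
    rw [epsl_tmul, evQ_C, Algebra.TensorProduct.tmul_mul_tmul, mul_one, one_mul]
  exact AlgHom.congr_fun h t

theorem epsl_X (l k : Fin d) (t : A' ⊗[A] P) :
    epsl A P Q d ι A' l t (iotS A P Q d ι (Polynomial A') k (Polynomial.X ⊗ₜ[A] (1 : P))) =
      iotS A P Q d ι A' l t := by
  have h1 : iotS A P Q d ι (Polynomial A') k (Polynomial.X ⊗ₜ[A] (1 : P)) =
      Polynomial.X ⊗ₜ[A] (1 : Q) := by
    simp only [iotS, Algebra.TensorProduct.map_tmul, AlgHom.coe_id, id_eq, map_one]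
  rw [h1, epsl_tmul, evQ_X, ← Algebra.TensorProduct.one_def, mul_one]

theorem epsl_theta_zero (l : Fin d) (t : A' ⊗[A] P) :
    epsl A P Q d ι A' l t (∏ k, iotS A P Q d ι (Polynomial A') k
      (tHat A' t - Polynomial.X ⊗ₜ[A] (1 : P))) = 0 := by
  rw [map_prod]
  refine Finset.prod_eq_zero (Finset.mem_univ l) ?_
  rw [map_sub, map_sub, epsl_tHat, epsl_X, sub_self]

variable (f : R →ₐ[A] A)

theorem L1 : (Algebra.TensorProduct.map (fbar A f R₀) (AlgHom.id A P)).comp (incP A P R R₀) =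
    AlgHom.id A (R₀ ⊗[A] P) := by
  refine Algebra.TensorProduct.ext' fun s p => ?_
  simp only [AlgHom.comp_apply, incP, Algebra.TensorProduct.map_tmul,
    Algebra.TensorProduct.includeLeft_apply, fbar_tmul, map_one, mul_one, AlgHom.coe_id, id_eq]

theorem L2 (ψ : A' →ₐ[A] R₀) (t : A' ⊗[A] P) :
    (Algebra.TensorProduct.map (fbar A f R₀) (AlgHom.id A P)).comp (Psi A P R A' R₀ ψ t) =
      (Psi0 A P A' R₀ ψ t).comp (fbar A f (Polynomial A')) := by
  refine Algebra.TensorProduct.ext' fun p r => ?_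
  have h1 := L1 A P R R₀ f
  simp only [AlgHom.comp_apply, Psi, Algebra.TensorProduct.productMap_apply_tmul, map_mul,
    fbar_tmul, AlgHom.commutes]
  have e1 : (Algebra.TensorProduct.map (fbar A f R₀) (AlgHom.id A P))
      ((incP A P R R₀) ((Psi0 A P A' R₀ ψ t) p)) = (Psi0 A P A' R₀ ψ t) p := by
    have := AlgHom.congr_fun h1 ((Psi0 A P A' R₀ ψ t) p)
    simpa only [AlgHom.comp_apply, AlgHom.coe_id, id_eq] using this
  rw [e1]
  congr 1
  simp only [Algebra.TensorProduct.includeRight_apply, Algebra.TensorProduct.includeLeft_apply,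
    Algebra.TensorProduct.map_tmul, fbar_tmul, one_mul, AlgHom.coe_id, id_eq,
    Algebra.TensorProduct.algebraMap_apply]

theorem L3 : (fbar A f R₀).comp (fbar A f (R₀ ⊗[A] R)) = (fbar A f R₀).comp (mu A R R₀) := by
  refine Algebra.TensorProduct.ext' fun a r => ?_
  simp only [AlgHom.comp_apply, mu, fbar_tmul, map_mul, AlgHom.commutes,
    Algebra.TensorProduct.productMap_apply_tmul, AlgHom.coe_id, id_eq,
    Algebra.TensorProduct.includeRight_apply, one_mul]

theorem L4 : (valS A Q R val R₀).comp (mu A R R₀) =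
    (muQ A Q R val R₀).comp (valS A Q R val (R₀ ⊗[A] R)) := by
  refine Algebra.TensorProduct.ext' fun a r => ?_
  simp only [AlgHom.comp_apply, mu, muQ, Algebra.TensorProduct.productMap_apply_tmul, map_mul,
    AlgHom.coe_id, id_eq, Algebra.TensorProduct.includeRight_apply]
  congr 1


theorem L5 (k : Fin d) :
    ((muQ A Q R val R₀).comp (iotS A P Q d ι (R₀ ⊗[A] R) k)).comp (incP A P R R₀) =
      iotS A P Q d ι R₀ k := by
  refine Algebra.TensorProduct.ext' fun s p => ?_
  simp only [AlgHom.comp_apply, incP, iotS, muQ, valS, Algebra.TensorProduct.map_tmul,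
    Algebra.TensorProduct.productMap_apply_tmul, AlgHom.coe_id, id_eq,
    Algebra.TensorProduct.includeLeft_apply, Algebra.TensorProduct.includeRight_apply, map_one,
    Algebra.TensorProduct.tmul_mul_tmul, mul_one, one_mul]

theorem L6' (k : Fin d) (ψ : A' →ₐ[A] R₀) :
    (iotS A P Q d ι R₀ k).comp (Algebra.TensorProduct.map ψ (AlgHom.id A P)) =
      (Algebra.TensorProduct.map ψ (AlgHom.id A Q)).comp (iotS A P Q d ι A' k) := by
  refine Algebra.TensorProduct.ext' fun a p => ?_
  simp only [AlgHom.comp_apply, iotS, Algebra.TensorProduct.map_tmul, AlgHom.coe_id, id_eq]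

theorem L6 (k : Fin d) (ψ : A' →ₐ[A] R₀) (t : A' ⊗[A] P) :
    (iotS A P Q d ι R₀ k).comp (Psi0 A P A' R₀ ψ t) =
      (Algebra.TensorProduct.map ψ (AlgHom.id A Q)).comp
        (evQ A Q A' (iotS A P Q d ι A' k t)) := by
  refine Polynomial.algHom_ext' ?_ ?_
  · refine AlgHom.ext fun a => ?_
    simp only [AlgHom.comp_apply, Psi0, Polynomial.CAlgHom_apply, evP_C, evQ_C]
    simp only [iotS, Algebra.TensorProduct.map_tmul, map_one, AlgHom.coe_id, id_eq]
  · have h := AlgHom.congr_fun (L6' A P Q d ι A' R₀ k ψ) t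
    simp only [AlgHom.comp_apply] at h
    simp only [AlgHom.comp_apply, Psi0, evP_X, evQ_X]
    exact h

theorem L7 (k : Fin d) (ψ : A' →ₐ[A] R₀) (t : A' ⊗[A] P) :
    ((muQ A Q R val R₀).comp (iotS A P Q d ι (R₀ ⊗[A] R) k)).comp (Psi A P R A' R₀ ψ t) =
      (Algebra.TensorProduct.map ψ (AlgHom.id A Q)).comp
        ((epsl A P Q d ι A' k t).comp (valS A Q R val (Polynomial A'))) := by
  refine Algebra.TensorProduct.ext' fun p r => ?_
  have h5 := AlgHom.congr_fun (L5 A P Q R d ι val R₀ k) ((Psi0 A P A' R₀ ψ t) p)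
  have h6 := AlgHom.congr_fun (L6 A P Q d ι A' R₀ k ψ t) p
  simp only [AlgHom.comp_apply] at h5 h6
  have e2 : (muQ A Q R val R₀) ((iotS A P Q d ι (R₀ ⊗[A] R) k)
      (((1 : R₀) ⊗ₜ[A] r) ⊗ₜ[A] (1 : P))) = (1 : R₀) ⊗ₜ[A] val r := by
    simp only [iotS, muQ, valS, Algebra.TensorProduct.map_tmul, AlgHom.coe_id, id_eq, map_one,
      Algebra.TensorProduct.productMap_apply_tmul, mul_one]
  simp only [AlgHom.comp_apply, Psi, Algebra.TensorProduct.productMap_apply_tmul, map_mul,
    Algebra.TensorProduct.includeRight_apply, Algebra.TensorProduct.includeLeft_apply]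
  rw [h5, h6, e2]
  simp only [valS, Algebra.TensorProduct.map_tmul, AlgHom.coe_id, id_eq, epsl_tmul, map_mul,
    map_one]

/-- The abstract Cayley–Hamilton theorem: if the law `F` is classified by `f : R → A` where
`val : R → Q` pins `R` inside `Q` and the "universal law" into `Q` is `x ↦ ∏ k, ι k x`. -/
theorem main_abs (F : P →ₚₗ[A] A)
    (Hex : ∀ (S : Type u) [CommSemiring S] [Algebra A S] (x : S ⊗[A] P),
      ∃ y : S ⊗[A] R, valS A Q R val S y = ∏ k, iotS A P Q d ι S k x)
    (Hf : ∀ (S : Type u) [CommSemiring S] [Algebra A S] (x : S ⊗[A] P) (y : S ⊗[A] R),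
      valS A Q R val S y = ∏ k, iotS A P Q d ι S k x →
        F.toFun' S x = (fbar A f S y) ⊗ₜ[A] (1 : A))
    (t : A' ⊗[A] P) (ψ : A' →ₐ[A] R₀) (x w : R₀ ⊗[A] P) :
    F.toFun' R₀ (x + w * Algebra.TensorProduct.map ψ (AlgHom.id A P)
      (Polynomial.aeval t (TensorProduct.rid A (Polynomial A')
        (F.toFun' (Polynomial A') (tHat A' t - Polynomial.X ⊗ₜ[A] (1 : P)))))) =
    F.toFun' R₀ x := by
  obtain ⟨yχ, hyχ⟩ := Hex (Polynomial A') (tHat A' t - Polynomial.X ⊗ₜ[A] (1 : P))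
  have hχ := Hf (Polynomial A') _ yχ hyχ
  rw [hχ, TensorProduct.rid_tmul, one_smul]
  have hc : Algebra.TensorProduct.map ψ (AlgHom.id A P)
      (Polynomial.aeval t (fbar A f (Polynomial A') yχ)) =
      Psi0 A P A' R₀ ψ t (fbar A f (Polynomial A') yχ) := rfl
  rw [hc]
  have hz : Algebra.TensorProduct.map (fbar A f R₀) (AlgHom.id A P)
      (incP A P R R₀ x + incP A P R R₀ w * Psi A P R A' R₀ ψ t yχ) =
      x + w * Psi0 A P A' R₀ ψ t (fbar A f (Polynomial A') yχ) := by
    have h1x := AlgHom.congr_fun (L1 A P R R₀ f) x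
    have h1w := AlgHom.congr_fun (L1 A P R R₀ f) w
    have h2 := AlgHom.congr_fun (L2 A P R A' R₀ f ψ t) yχ
    simp only [AlgHom.comp_apply, AlgHom.coe_id, id_eq] at h1x h1w h2
    rw [map_add, map_mul, h1x, h1w, h2]
  obtain ⟨y', hy'⟩ := Hex (R₀ ⊗[A] R)
    (incP A P R R₀ x + incP A P R R₀ w * Psi A P R A' R₀ ψ t yχ)
  have hF' := Hf (R₀ ⊗[A] R) _ y' hy'
  have hcompat := PolynomialLaw.isCompat_apply' (f := F) (fbar A f R₀)
    (incP A P R R₀ x + incP A P R R₀ w * Psi A P R A' R₀ ψ t yχ)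
  have e1 : (fbar A f R₀).toLinearMap.rTensor P
      (incP A P R R₀ x + incP A P R R₀ w * Psi A P R A' R₀ ψ t yχ) =
      x + w * Psi0 A P A' R₀ ψ t (fbar A f (Polynomial A') yχ) := by
    rw [PolLaw.rTensor_algHom_apply]
    exact hz
  rw [e1, hF', LinearMap.rTensor_tmul, AlgHom.toLinearMap_apply] at hcompat
  rw [← hcompat]
  have h3 := AlgHom.congr_fun (L3 A R R₀ f) y'
  simp only [AlgHom.comp_apply] at h3
  rw [h3]
  symm
  refine Hf R₀ x (mu A R R₀ y') ?_
  have h4 := AlgHom.congr_fun (L4 A Q R val R₀) y'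
  simp only [AlgHom.comp_apply] at h4
  rw [h4, hy', map_prod]
  refine Finset.prod_congr rfl fun k _ => ?_
  have h5x := AlgHom.congr_fun (L5 A P Q R d ι val R₀ k) x
  have h7 := AlgHom.congr_fun (L7 A P Q R d ι val A' R₀ k ψ t) yχ
  simp only [AlgHom.comp_apply] at h5x h7
  simp only [map_add, map_mul]
  rw [h5x, h7, hyχ, epsl_theta_zero, map_zero, mul_zero, add_zero]

end abs

section free
variable {A : Type u} [CommRing A] {P : Type u} [CommRing P] [Algebra A P] {I : Type u}
  (e : Module.Basis I A P) (d : ℕ)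

variable (A P) in
/-- the `k`-th coordinate embedding -/
noncomputable def iot (k : Fin d) : P →ₐ[A] (⨂[A] _ : Fin d, P) :=
  PiTensorProduct.singleAlgHom (R := A) (A := fun _ : Fin d => P) k

theorem tpow_eq (S : Type u) [CommSemiring S] [Algebra A S] (x : S ⊗[A] P) :
    (SymTen.tpowLaw A P d).law.toFun' S x =
      ∏ k, iotS A P (⨂[A] _ : Fin d, P) d (iot A P d) S k x := by
  unfold SymTen.tpowLaw
  rw [PolLaw.MulLaw.prodMap_toFun']
  refine Finset.prod_congr rfl fun k _ => ?_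
  exact map_id_eq A _ x

theorem lTensor_val_eq (S : Type u) [CommSemiring S] [Algebra A S]
    (y : S ⊗[A] (SymTen.TS A P d)) :
    (SymTen.TS A P d).val.toLinearMap.lTensor S y =
      valS A (⨂[A] _ : Fin d, P) (SymTen.TS A P d) (SymTen.TS A P d).val S y := by
  rw [PolLaw.lTensor_algHom_apply]
  exact map_id_eq A _ y

include e in
/-- Cayley–Hamilton (base-changed form) for a law on an algebra that is free as a module. -/
theorem ch_free (F : PolLaw.MulLaw A P A d) (A' : Type u) [CommRing A'] [Algebra A A']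
    (t : A' ⊗[A] P) (R₀ : Type u) [CommSemiring R₀] [Algebra A R₀] (ψ : A' →ₐ[A] R₀)
    (x w : R₀ ⊗[A] P) :
    F.law.toFun' R₀ (x + w * Algebra.TensorProduct.map ψ (AlgHom.id A P)
      (Polynomial.aeval t (chi F A' t))) = F.law.toFun' R₀ x := by
  unfold chi
  refine main_abs A P (⨂[A] _ : Fin d, P) (SymTen.TS A P d) d (iot A P d)
    (SymTen.TS A P d).val A' R₀ (fAlg e d F) F.law ?_ ?_ t ψ x w
  · intro S _ _ x
    obtain ⟨y, hy⟩ := exists_val e d S x
    exact ⟨y, by rw [← lTensor_val_eq, hy, tpow_eq]⟩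
  · intro S _ _ x y hy
    rw [← fbar_spec]
    refine (fAlg_of_val e d F S x y ?_).symm
    rw [lTensor_val_eq, hy, tpow_eq]

end free

section general
variable {A : Type u} [CommRing A] {B : Type u} [CommRing B] [Algebra A B] {d : ℕ}

theorem mem_ker_iff {C : Type u} [CommRing C] [Algebra A C] (F : B →ₚₗ[A] C) (b : B) :
    b ∈ PolLaw.ker F ↔ ∀ (S : Type u) [CommSemiring S] [Algebra A S] (x w : S ⊗[A] B),
      F.toFun' S (x + w * ((1 : S) ⊗ₜ[A] b)) = F.toFun' S x := Iff.rfl

theorem lT_nat {P : Type u} [CommRing P] [Algebra A P] (π : P →ₐ[A] B) {S S' : Type u}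
    [CommSemiring S] [Algebra A S] [CommSemiring S'] [Algebra A S'] (φ : S →ₐ[A] S')
    (z : S ⊗[A] P) :
    π.toLinearMap.lTensor S' (Algebra.TensorProduct.map φ (AlgHom.id A P) z) =
      Algebra.TensorProduct.map φ (AlgHom.id A B) (π.toLinearMap.lTensor S z) := by
  induction z using TensorProduct.induction_on with
  | zero => simp
  | tmul a p => simp
  | add a b ha hb => simp only [map_add, ha, hb]

theorem lT_add_mul {P : Type u} [CommRing P] [Algebra A P] (π : P →ₐ[A] B) (S : Type u)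
    [CommSemiring S] [Algebra A S] (a b c : S ⊗[A] P) :
    π.toLinearMap.lTensor S (a + b * c) =
      π.toLinearMap.lTensor S a + π.toLinearMap.lTensor S b * π.toLinearMap.lTensor S c := by
  simp only [PolLaw.lTensor_algHom_apply, map_add, map_mul]

theorem lT_aeval {P : Type u} [CommRing P] [Algebra A P] (π : P →ₐ[A] B) (A' : Type u)
    [CommRing A'] [Algebra A A'] (t : A' ⊗[A] P) (p : Polynomial A') :
    π.toLinearMap.lTensor A' (Polynomial.aeval t p) =
      Polynomial.aeval (π.toLinearMap.lTensor A' t) p := by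
  rw [PolLaw.lTensor_algHom_apply, PolLaw.lTensor_algHom_apply,
    Polynomial.aeval_algHom_apply]

theorem lT_tHat {P : Type u} [CommRing P] [Algebra A P] (π : P →ₐ[A] B) (A' : Type u)
    [CommRing A'] [Algebra A A'] (t : A' ⊗[A] P) :
    π.toLinearMap.lTensor (Polynomial A') (tHat A' t) = tHat A' (π.toLinearMap.lTensor A' t) :=
  lT_nat π _ t

theorem chi_precomp {P : Type u} [CommRing P] [Algebra A P] (π : P →ₐ[A] B)
    (F : PolLaw.MulLaw A B A d) (A' : Type u) [CommRing A'] [Algebra A A'] (t : A' ⊗[A] P) :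
    chi (F.precomp π) A' t = chi F A' (π.toLinearMap.lTensor A' t) := by
  unfold chi
  congr 1
  show F.law.toFun' (Polynomial A') (π.toLinearMap.lTensor (Polynomial A')
    (tHat A' t - Polynomial.X ⊗ₜ[A] (1 : P))) = _
  congr 1
  rw [map_sub, LinearMap.lTensor_tmul, AlgHom.toLinearMap_apply, map_one, lT_tHat]

theorem ch_transfer {P : Type u} [CommRing P] [Algebra A P] (π : P →ₐ[A] B)
    (hπ : Function.Surjective π) (F : PolLaw.MulLaw A B A d)
    (hP : ∀ (A' : Type u) [CommRing A'] [Algebra A A'] (t : A' ⊗[A] P) (R₀ : Type u)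
      [CommSemiring R₀] [Algebra A R₀] (ψ : A' →ₐ[A] R₀) (x w : R₀ ⊗[A] P),
      (F.precomp π).law.toFun' R₀ (x + w * Algebra.TensorProduct.map ψ (AlgHom.id A P)
        (Polynomial.aeval t (chi (F.precomp π) A' t))) = (F.precomp π).law.toFun' R₀ x)
    (A' : Type u) [CommRing A'] [Algebra A A'] (t : A' ⊗[A] B) (R₀ : Type u)
    [CommSemiring R₀] [Algebra A R₀] (ψ : A' →ₐ[A] R₀) (x w : R₀ ⊗[A] B) :
    F.law.toFun' R₀ (x + w * Algebra.TensorProduct.map ψ (AlgHom.id A B)
      (Polynomial.aeval t (chi F A' t))) = F.law.toFun' R₀ x := by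
  have hπ' : Function.Surjective π.toLinearMap := hπ
  obtain ⟨t', rfl⟩ := LinearMap.lTensor_surjective A' hπ' t
  obtain ⟨x', rfl⟩ := LinearMap.lTensor_surjective R₀ hπ' x
  obtain ⟨w', rfl⟩ := LinearMap.lTensor_surjective R₀ hπ' w
  have h := hP A' t' R₀ ψ x' w'
  rw [chi_precomp] at h
  have e1 : π.toLinearMap.lTensor R₀ (x' + w' * Algebra.TensorProduct.map ψ (AlgHom.id A P)
      (Polynomial.aeval t' (chi F A' (π.toLinearMap.lTensor A' t')))) =
      π.toLinearMap.lTensor R₀ x' + π.toLinearMap.lTensor R₀ w' *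
        Algebra.TensorProduct.map ψ (AlgHom.id A B)
          (Polynomial.aeval (π.toLinearMap.lTensor A' t')
            (chi F A' (π.toLinearMap.lTensor A' t'))) := by
    rw [lT_add_mul, lT_nat, lT_aeval]
  rw [← e1]
  exact h

/-- Cayley–Hamilton for a multiplicative law `F : B → A`, base-changed form. -/
theorem ch_apply (F : PolLaw.MulLaw A B A d) (A' : Type u) [CommRing A'] [Algebra A A']
    (t : A' ⊗[A] B) (R₀ : Type u) [CommSemiring R₀] [Algebra A R₀] (ψ : A' →ₐ[A] R₀)
    (x w : R₀ ⊗[A] B) :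
    F.law.toFun' R₀ (x + w * Algebra.TensorProduct.map ψ (AlgHom.id A B)
      (Polynomial.aeval t (chi F A' t))) = F.law.toFun' R₀ x := by
  refine ch_transfer (P := MvPolynomial B A) (MvPolynomial.aeval id) ?_ F ?_ A' t R₀ ψ x w
  · intro b
    exact ⟨MvPolynomial.X b, by simp⟩
  · intro A'' _ _ t'' R'' _ _ ψ'' x'' w''
    exact ch_free (MvPolynomial.basisMonomials B A) d _ A'' t'' R'' ψ'' x'' w''

/-- Cayley–Hamilton: `χ_t(t)` lies in the kernel of the base change of `F` to `A'`. -/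
theorem ch_bc (F : PolLaw.MulLaw A B A d) (A' : Type u) [CommRing A'] [Algebra A A']
    (t : A' ⊗[A] B) : Polynomial.aeval t (chi F A' t) ∈ PolLaw.kerBC F.law A' := by
  rw [mem_kerBC_iff]
  intro R _ _ ψ x w
  exact ch_apply F A' t R ψ x w

theorem tHat_one_tmul (b : B) :
    tHat (A := A) A ((1 : A) ⊗ₜ[A] b) = (1 : Polynomial A) ⊗ₜ[A] b := by
  simp [tHat]

/-- the characteristic polynomial of `b : B` -/
noncomputable def chi0 (F : PolLaw.MulLaw A B A d) (b : B) : Polynomial A :=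
  TensorProduct.rid A (Polynomial A)
    (F.law.toFun' (Polynomial A) ((1 : Polynomial A) ⊗ₜ[A] b - Polynomial.X ⊗ₜ[A] (1 : B)))

theorem chi_one_tmul (F : PolLaw.MulLaw A B A d) (b : B) :
    chi F A ((1 : A) ⊗ₜ[A] b) = chi0 F b := by
  unfold chi chi0
  rw [tHat_one_tmul]

/-- Cayley–Hamilton: `χ_b(b) ∈ ker F`. -/
theorem ch (F : PolLaw.MulLaw A B A d) (b : B) :
    Polynomial.aeval b (chi0 F b) ∈ PolLaw.ker F.law := by
  rw [mem_ker_iff]
  intro S _ _ x w
  have h := ch_apply F A ((1 : A) ⊗ₜ[A] b) S (Algebra.ofId A S) x w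
  rw [chi_one_tmul] at h
  have e2 : ∀ p : Polynomial A,
      Polynomial.aeval ((1 : A) ⊗ₜ[A] b) p = (1 : A) ⊗ₜ[A] Polynomial.aeval b p := by
    intro p
    have := Polynomial.aeval_algHom_apply
      (Algebra.TensorProduct.includeRight : B →ₐ[A] A ⊗[A] B) b p
    simpa only [Algebra.TensorProduct.includeRight_apply] using this
  rw [e2, Algebra.TensorProduct.map_tmul, map_one, AlgHom.id_apply] at h
  exact h

end general

end Groth.Agent.Lib.helper6.CHLaw
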