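import Mathlib
import Groth.Prelude.Def_PolLaw
import Groth.Prelude.Def_PolLaw2
import Groth.Agent.Lib.Helper6.CHLaw

/-!
# Consequences of Cayley–Hamilton for multiplicative laws (helper6)
-/

set_option autoImplicit false
set_option linter.unusedSectionVars false
set_option linter.unusedVariables false

universe u

open scoped TensorProduct

namespace Groth.Agent.Lib.helper6.CHLaw2

open Groth.Agent.Lib.helper6.CHLaw

section
variable {A : Type u} [CommRing A] {B : Type u} [CommRing B] [Algebra A B] {d : ℕ}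

theorem law_smul_one (F : PolLaw.MulLaw A B A d) (S : Type u) [CommSemiring S] [Algebra A S]
    (s : S) : F.law.toFun' S (s • (1 : S ⊗[A] B)) = (s ^ d) ⊗ₜ[A] (1 : A) := by
  rw [F.homog S s 1, (F.mult S).1, Algebra.TensorProduct.one_def, TensorProduct.smul_tmul',
    smul_eq_mul, mul_one]

theorem chi_of_mem_kerBC (F : PolLaw.MulLaw A B A d) (A' : Type u) [CommRing A'] [Algebra A A']
    (t : A' ⊗[A] B) (ht : t ∈ PolLaw.kerBC F.law A') : chi F A' t = (-Polynomial.X) ^ d := by
  unfold chi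
  have e : tHat A' t - Polynomial.X ⊗ₜ[A] (1 : B) =
      (-Polynomial.X : Polynomial A') • (1 : Polynomial A' ⊗[A] B) +
        1 * Algebra.TensorProduct.map (IsScalarTower.toAlgHom A A' (Polynomial A'))
          (AlgHom.id A B) t := by
    rw [one_mul, Algebra.TensorProduct.one_def, TensorProduct.smul_tmul', smul_eq_mul, mul_one,
      TensorProduct.neg_tmul, sub_eq_neg_add]
    rfl
  rw [e, (mem_kerBC_iff F.law A' t).mp ht (Polynomial A') _ _ _, law_smul_one,
    TensorProduct.rid_tmul, one_smul]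

theorem chi0_of_mem_ker (F : PolLaw.MulLaw A B A d) (b : B) (hb : b ∈ PolLaw.ker F.law) :
    chi0 F b = (-Polynomial.X) ^ d := by
  unfold chi0
  have e : (1 : Polynomial A) ⊗ₜ[A] b - Polynomial.X ⊗ₜ[A] (1 : B) =
      (-Polynomial.X : Polynomial A) • (1 : Polynomial A ⊗[A] B) +
        1 * ((1 : Polynomial A) ⊗ₜ[A] b) := by
    rw [one_mul, Algebra.TensorProduct.one_def, TensorProduct.smul_tmul', smul_eq_mul, mul_one,
      TensorProduct.neg_tmul, sub_eq_neg_add]
  rw [e, (mem_ker_iff F.law b).mp hb (Polynomial A) _ _, law_smul_one, TensorProduct.rid_tmul,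
    one_smul]

theorem chi0_precomp {B' : Type u} [CommRing B'] [Algebra A B'] (F : PolLaw.MulLaw A B A d)
    (φ : B' →ₐ[A] B) (b' : B') : chi0 (F.precomp φ) b' = chi0 F (φ b') := by
  unfold chi0
  congr 1
  show F.law.toFun' (Polynomial A) (φ.toLinearMap.lTensor (Polynomial A)
    ((1 : Polynomial A) ⊗ₜ[A] b' - Polynomial.X ⊗ₜ[A] (1 : B'))) = _
  congr 1
  rw [map_sub, LinearMap.lTensor_tmul, LinearMap.lTensor_tmul, AlgHom.toLinearMap_apply,
    AlgHom.toLinearMap_apply, map_one]

theorem aeval_neg_X_pow (b : B) : Polynomial.aeval b ((-Polynomial.X : Polynomial A) ^ d) =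
    (-b) ^ d := by
  simp

theorem mem_ker_precomp {B' : Type u} [CommRing B'] [Algebra A B'] (F : PolLaw.MulLaw A B A d)
    (φ : B' →ₐ[A] B) (b' : B') (hb' : φ b' ∈ PolLaw.ker F.law) :
    b' ∈ PolLaw.ker (F.precomp φ).law := by
  rw [mem_ker_iff] at hb' ⊢
  intro S _ _ x w
  show F.law.toFun' S (φ.toLinearMap.lTensor S (x + w * ((1 : S) ⊗ₜ[A] b'))) =
    F.law.toFun' S (φ.toLinearMap.lTensor S x)
  rw [lT_add_mul, LinearMap.lTensor_tmul, AlgHom.toLinearMap_apply]
  exact hb' S _ _

end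

end Groth.Agent.Lib.helper6.CHLaw2
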