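import Mathlib
import Groth.Prelude.Def_PolLaw
import Groth.Prelude.Def_PolLaw2
import Groth.Agent.Lib.Helper6.CHLaw
import Groth.Agent.S13699
import Groth.Agent.S13174

/-!
# The quotient of a polynomial law by an ideal contained in its kernel (helper6)

For `F : B →ₚₗ[A] C` and an ideal `J ≤ ker F`, `quot F J hJ : (B ⧸ J) →ₚₗ[A] C` is the induced law:
`quot_apply : (quot F J hJ)_S ((S ⊗ π) x) = F_S x`. For a multiplicative law `quotMul`.
`ker_quot_eq_bot`: the law induced on `B ⧸ ker F` has zero kernel.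
-/

set_option autoImplicit false
set_option linter.unusedSectionVars false
set_option linter.unusedVariables false

universe u

open scoped TensorProduct

namespace Groth.Agent.Lib.helper6.QuotLaw

open Groth.Agent.Lib.helper6.CHLaw

section
variable {A : Type u} [CommRing A] {B : Type u} [CommRing B] [Algebra A B]
  {C : Type u} [CommRing C] [Algebra A C]

theorem map_eq_lTensor (J : Ideal B) (S : Type u) [CommRing S] [Algebra A S] (z : S ⊗[A] B) :
    Algebra.TensorProduct.map (AlgHom.id A S) (Ideal.Quotient.mkₐ A J) z =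
      (Ideal.Quotient.mkₐ A J).toLinearMap.lTensor S z := by
  induction z using TensorProduct.induction_on with
  | zero => simp
  | tmul s b => rfl
  | add a b ha hb => rw [map_add, map_add, ha, hb]

/-- over a commutative ring `S`, `F_S` only depends on the class modulo `J` -/
theorem wdef (F : B →ₚₗ[A] C) (J : Ideal B) (hJ : J ≤ PolLaw.ker F) (S : Type u) [CommRing S]
    [Algebra A S] (x x' : S ⊗[A] B)
    (h : (Ideal.Quotient.mkₐ A J).toLinearMap.lTensor S x =
      (Ideal.Quotient.mkₐ A J).toLinearMap.lTensor S x') :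
    F.toFun' S x = F.toFun' S x' := by
  have hsurj : Function.Surjective (Ideal.Quotient.mkₐ A J) := Ideal.Quotient.mkₐ_surjective A J
  have hker := Algebra.TensorProduct.lTensor_ker (A := S) (Ideal.Quotient.mkₐ A J) hsurj
  have hk : RingHom.ker (Ideal.Quotient.mkₐ A J) = J := by
    ext b
    rw [RingHom.mem_ker, Ideal.Quotient.mkₐ_eq_mk, Ideal.Quotient.eq_zero_iff_mem]
  rw [hk] at hker
  have hmem : x' - x ∈ RingHom.ker
      (Algebra.TensorProduct.map (AlgHom.id A S) (Ideal.Quotient.mkₐ A J)) := by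
    rw [RingHom.mem_ker, map_sub, sub_eq_zero, map_eq_lTensor, map_eq_lTensor, h]
  rw [hker] at hmem
  have hmem2 : x' - x ∈ PolLaw.kerBC F S :=
    Groth.Agent.S13699.map_ker_le_kerBC F S (Ideal.map_mono hJ hmem)
  have h3 := (mem_kerBC_iff F S _).mp hmem2 S (AlgHom.id A S) x 1
  rw [Algebra.TensorProduct.map_id, AlgHom.id_apply, one_mul, add_sub_cancel] at h3
  exact h3.symm

theorem q_surj (J : Ideal B) (S : Type u) [CommSemiring S] [Algebra A S] :
    Function.Surjective ((Ideal.Quotient.mkₐ A J).toLinearMap.lTensor S) := by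
  have h0 : Function.Surjective (Ideal.Quotient.mkₐ A J).toLinearMap :=
    Ideal.Quotient.mkₐ_surjective A J
  exact LinearMap.lTensor_surjective S h0

/-- the family on polynomial rings -/
noncomputable def T (F : B →ₚₗ[A] C) (J : Ideal B) (n : ℕ) :
    MvPolynomial (Fin n) A ⊗[A] (B ⧸ J) → MvPolynomial (Fin n) A ⊗[A] C :=
  fun x => F.toFun' (MvPolynomial (Fin n) A)
    (Function.surjInv (q_surj J (MvPolynomial (Fin n) A)) x)

theorem lT_rT (J : Ideal B) {S S' : Type u} [CommSemiring S] [Algebra A S] [CommSemiring S']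
    [Algebra A S'] (φ : S →ₐ[A] S') (y : S ⊗[A] B) :
    (Ideal.Quotient.mkₐ A J).toLinearMap.lTensor S' (φ.toLinearMap.rTensor B y) =
      φ.toLinearMap.rTensor (B ⧸ J) ((Ideal.Quotient.mkₐ A J).toLinearMap.lTensor S y) := by
  induction y using TensorProduct.induction_on with
  | zero => simp
  | tmul s b => simp
  | add a b ha hb => simp only [map_add, ha, hb]

theorem hT (F : B →ₚₗ[A] C) (J : Ideal B) (hJ : J ≤ PolLaw.ker F) (n m : ℕ)
    (φ : MvPolynomial (Fin n) A →ₐ[A] MvPolynomial (Fin m) A) :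
    φ.toLinearMap.rTensor C ∘ T F J n = T F J m ∘ φ.toLinearMap.rTensor (B ⧸ J) := by
  funext x
  simp only [Function.comp_apply]
  unfold T
  rw [PolynomialLaw.isCompat_apply']
  apply wdef F J hJ
  rw [Function.surjInv_eq (q_surj J (MvPolynomial (Fin m) A)), lT_rT,
    Function.surjInv_eq (q_surj J (MvPolynomial (Fin n) A))]

/-- the quotient law -/
noncomputable def quot (F : B →ₚₗ[A] C) (J : Ideal B) (hJ : J ≤ PolLaw.ker F) :
    (B ⧸ J) →ₚₗ[A] C :=
  Groth.Agent.S13174.lawOf (T F J) (hT F J hJ)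

theorem quot_apply (F : B →ₚₗ[A] C) (J : Ideal B) (hJ : J ≤ PolLaw.ker F) (S : Type u)
    [CommSemiring S] [Algebra A S] (x : S ⊗[A] B) :
    (quot F J hJ).toFun' S ((Ideal.Quotient.mkₐ A J).toLinearMap.lTensor S x) =
      F.toFun' S x := by
  obtain ⟨n, ψ, p, hp⟩ := PolynomialLaw.exists_lift (R := A) x
  have hz : ψ.toLinearMap.rTensor (B ⧸ J)
      ((Ideal.Quotient.mkₐ A J).toLinearMap.lTensor (MvPolynomial (Fin n) A) p) =
      (Ideal.Quotient.mkₐ A J).toLinearMap.lTensor S x := by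
    rw [← hp, lT_rT]
  show Groth.Agent.S13174.toFunAux (T F J) S _ = _
  rw [Groth.Agent.S13174.toFunAux_eq (T F J) (hT F J hJ) _ n ψ _ hz]
  have h1 : T F J n ((Ideal.Quotient.mkₐ A J).toLinearMap.lTensor (MvPolynomial (Fin n) A) p) =
      F.toFun' (MvPolynomial (Fin n) A) p := by
    unfold T
    apply wdef F J hJ
    rw [Function.surjInv_eq (q_surj J (MvPolynomial (Fin n) A))]
  rw [h1, PolynomialLaw.isCompat_apply', hp]

theorem lT_smul (J : Ideal B) (S : Type u) [CommSemiring S] [Algebra A S] (s : S)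
    (x : S ⊗[A] B) :
    (Ideal.Quotient.mkₐ A J).toLinearMap.lTensor S (s • x) =
      s • (Ideal.Quotient.mkₐ A J).toLinearMap.lTensor S x := by
  rw [PolLaw.lTensor_algHom_apply, PolLaw.lTensor_algHom_apply, map_smul]

theorem lT_mul (J : Ideal B) (S : Type u) [CommSemiring S] [Algebra A S] (x y : S ⊗[A] B) :
    (Ideal.Quotient.mkₐ A J).toLinearMap.lTensor S (x * y) =
      (Ideal.Quotient.mkₐ A J).toLinearMap.lTensor S x *
        (Ideal.Quotient.mkₐ A J).toLinearMap.lTensor S y := by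
  rw [PolLaw.lTensor_algHom_apply, PolLaw.lTensor_algHom_apply, PolLaw.lTensor_algHom_apply,
    map_mul]

theorem lT_one (J : Ideal B) (S : Type u) [CommSemiring S] [Algebra A S] :
    (Ideal.Quotient.mkₐ A J).toLinearMap.lTensor S (1 : S ⊗[A] B) = 1 := by
  rw [PolLaw.lTensor_algHom_apply, map_one]

/-- the quotient of a multiplicative law -/
noncomputable def quotMul {d : ℕ} (F : PolLaw.MulLaw A B C d) (J : Ideal B)
    (hJ : J ≤ PolLaw.ker F.law) : PolLaw.MulLaw A (B ⧸ J) C d where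
  law := quot F.law J hJ
  homog := by
    intro S _ _ s xb
    obtain ⟨x, rfl⟩ := q_surj J S xb
    rw [← lT_smul, quot_apply, quot_apply, F.homog]
  mult := by
    intro S _ _
    refine ⟨?_, fun xb yb => ?_⟩
    · rw [← lT_one J S, quot_apply, (F.mult S).1]
    · obtain ⟨x, rfl⟩ := q_surj J S xb
      obtain ⟨y, rfl⟩ := q_surj J S yb
      rw [← lT_mul, quot_apply, quot_apply, quot_apply, (F.mult S).2]

theorem quotMul_law {d : ℕ} (F : PolLaw.MulLaw A B C d) (J : Ideal B)
    (hJ : J ≤ PolLaw.ker F.law) : (quotMul F J hJ).law = quot F.law J hJ := rfl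

theorem mem_ker_of_mk_mem_ker (F : B →ₚₗ[A] C) (J : Ideal B) (hJ : J ≤ PolLaw.ker F) (c : B)
    (hc : Ideal.Quotient.mk J c ∈ PolLaw.ker (quot F J hJ)) : c ∈ PolLaw.ker F := by
  rw [mem_ker_iff] at hc ⊢
  intro S _ _ x w
  have h := hc S ((Ideal.Quotient.mkₐ A J).toLinearMap.lTensor S x)
    ((Ideal.Quotient.mkₐ A J).toLinearMap.lTensor S w)
  have e : (Ideal.Quotient.mkₐ A J).toLinearMap.lTensor S x +
      (Ideal.Quotient.mkₐ A J).toLinearMap.lTensor S w *
        ((1 : S) ⊗ₜ[A] (Ideal.Quotient.mk J c)) =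
      (Ideal.Quotient.mkₐ A J).toLinearMap.lTensor S (x + w * ((1 : S) ⊗ₜ[A] c)) := by
    rw [map_add, lT_mul]
    rfl
  rw [e, quot_apply, quot_apply] at h
  exact h

theorem ker_quot_eq_bot (F : B →ₚₗ[A] C) :
    PolLaw.ker (quot F (PolLaw.ker F) le_rfl) = ⊥ := by
  rw [eq_bot_iff]
  intro cb hc
  obtain ⟨c, rfl⟩ := Ideal.Quotient.mk_surjective cb
  have h := mem_ker_of_mk_mem_ker F _ le_rfl c hc
  rw [Ideal.mem_bot]
  exact Ideal.Quotient.eq_zero_iff_mem.mpr h

end

end Groth.Agent.Lib.helper6.QuotLaw
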