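import Mathlib
import Groth.Prelude.Def_PolLaw
import Groth.Prelude.Def_PolLaw2
import Groth.Agent.Lib.Helper6.CHLaw
import Groth.Agent.Lib.Helper6.CHLaw2
import Groth.Agent.Lib.Helper6.QuotLaw
import Groth.Agent.Lib.Helper22.PolLawIdem

/-!
# Connected components of the support of a family of zero-cycles (helper6)

Over a base with connected spectrum, every idempotent `e` of `B` has a degree `k` with respect to a
multiplicative law `F : B → A` (`HasDeg`); degrees are additive on orthogonal idempotents, and an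
idempotent of degree `0` lies in the kernel. If `ker F = 0` then `Spec B` is covered by at most `d`
preconnected sets, hence has at most `d` connected components.
-/

set_option autoImplicit false
set_option linter.unusedSectionVars false
set_option linter.unusedVariables false

universe u

open scoped TensorProduct

namespace Groth.Agent.Lib.helper6.CHConn

open Groth.Agent.Lib.helper6.CHLaw Groth.Agent.Lib.helper6.CHLaw2
  Groth.Agent.Lib.helper22.PolLawIdem

section top

theorem finite_card_of_cover {X : Type*} [TopologicalSpace X] (𝒰 : Finset (Set X))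
    (hpre : ∀ U ∈ 𝒰, IsPreconnected U) (hcov : ∀ x : X, ∃ U ∈ 𝒰, x ∈ U) :
    Finite (ConnectedComponents X) ∧ Nat.card (ConnectedComponents X) ≤ 𝒰.card := by
  choose U hU hxU using hcov
  obtain ⟨rep, hrep⟩ : ∃ rep : ConnectedComponents X → X,
      ∀ c, (ConnectedComponents.mk (rep c)) = c :=
    ⟨Function.surjInv ConnectedComponents.surjective_coe,
      Function.surjInv_eq ConnectedComponents.surjective_coe⟩
  let g : ConnectedComponents X → 𝒰 := fun c => ⟨U (rep c), hU (rep c)⟩
  have hg : Function.Injective g := by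
    intro c c' h
    have h1 : U (rep c) = U (rep c') := congrArg Subtype.val h
    have hx : rep c ∈ U (rep c) := hxU _
    have hx' : rep c' ∈ U (rep c) := by
      rw [h1]
      exact hxU _
    have hsub := (hpre _ (hU (rep c))).subset_connectedComponent hx
    have h2 : (ConnectedComponents.mk (rep c')) = ConnectedComponents.mk (rep c) :=
      ConnectedComponents.coe_eq_coe'.mpr (hsub hx')
    rw [← hrep c, ← hrep c', h2]
  have hfin : Finite (ConnectedComponents X) := Finite.of_injective g hg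
  refine ⟨hfin, ?_⟩
  have h3 := Nat.card_le_card_of_injective g hg
  have h4 : Nat.card (𝒰 : Finset (Set X)) = 𝒰.card := by
    rw [Nat.card_eq_fintype_card, Fintype.card_coe]
  rw [h4] at h3
  exact h3

theorem exists_split {R : Type*} [CommRing R] (e : R) (he : IsIdempotentElem e)
    (hpre : ¬ IsPreconnected (PrimeSpectrum.basicOpen e : Set (PrimeSpectrum R))) :
    ∃ f : R, IsIdempotentElem f ∧ f * e = f ∧ f ≠ 0 ∧ f ≠ e := by
  have hs : IsClopen (PrimeSpectrum.basicOpen e : Set (PrimeSpectrum R)) :=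
    PrimeSpectrum.isClopen_iff.mpr ⟨e, he, rfl⟩
  rw [isPreconnected_iff_subset_of_disjoint] at hpre
  push Not at hpre
  obtain ⟨u, v, hu, hv, huv, hdisj, hnu, hnv⟩ := hpre
  have hW : IsClopen ((PrimeSpectrum.basicOpen e : Set (PrimeSpectrum R)) ∩ u) := by
    refine ⟨?_, hs.2.inter hu⟩
    have e1 : (PrimeSpectrum.basicOpen e : Set (PrimeSpectrum R)) ∩ u =
        (PrimeSpectrum.basicOpen e : Set (PrimeSpectrum R)) ∩ vᶜ := by
      ext x
      constructor
      · rintro ⟨hxs, hxu⟩
        refine ⟨hxs, fun hxv => ?_⟩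
        have h1 : x ∈ (PrimeSpectrum.basicOpen e : Set (PrimeSpectrum R)) ∩ (u ∩ v) :=
          ⟨hxs, hxu, hxv⟩
        rw [hdisj] at h1
        exact h1
      · rintro ⟨hxs, hxv⟩
        rcases huv hxs with h | h
        · exact ⟨hxs, h⟩
        · exact absurd h hxv
    rw [e1]
    exact hs.1.inter hv.isClosed_compl
  obtain ⟨f, hf, hfW⟩ := PrimeSpectrum.isClopen_iff.mp hW
  refine ⟨f, hf, ?_, ?_, ?_⟩
  · apply PrimeSpectrum.basicOpen_injOn_isIdempotentElem (hf.mul he) hf
    apply TopologicalSpace.Opens.ext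
    rw [PrimeSpectrum.basicOpen_mul, TopologicalSpace.Opens.coe_inf, ← hfW]
    ext x
    constructor
    · rintro ⟨h1, _⟩
      exact h1
    · intro h1
      exact ⟨h1, h1.1⟩
  · intro hf0
    obtain ⟨x, hxs, hxv⟩ := Set.not_subset.mp hnv
    have hxu : x ∈ u := (huv hxs).resolve_right hxv
    have h1 : x ∈ (PrimeSpectrum.basicOpen f : Set (PrimeSpectrum R)) := by
      rw [← hfW]
      exact ⟨hxs, hxu⟩
    rw [hf0] at h1
    exact h1 (Ideal.zero_mem _)
  · intro hfe
    apply hnu
    intro x hx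
    have h1 : x ∈ (PrimeSpectrum.basicOpen e : Set (PrimeSpectrum R)) ∩ u := by
      rw [hfW, hfe]
      exact hx
    exact h1.2

end top

section deg
variable {A : Type u} [CommRing A] {B : Type u} [CommRing B] [Algebra A B] {d : ℕ}

/-- `e` has degree `k` for the law `G` -/
def HasDeg (G : B →ₚₗ[A] A) (e : B) (k : ℕ) : Prop :=
  ∀ (S : Type u) [CommSemiring S] [Algebra A S] (s : S),
    G.toFun' S ((1 : S) ⊗ₜ[A] (1 - e) + s ⊗ₜ[A] e) = (s ^ k) ⊗ₜ[A] (1 : A)

theorem hasDeg_unique [Nontrivial A] (G : B →ₚₗ[A] A) (e : B) (k k' : ℕ) (h : HasDeg G e k)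
    (h' : HasDeg G e k') : k = k' := by
  have h1 := h (Polynomial A) Polynomial.X
  rw [h' (Polynomial A) Polynomial.X] at h1
  have h2 := congrArg (TensorProduct.rid A (Polynomial A)) h1
  rw [TensorProduct.rid_tmul, TensorProduct.rid_tmul, one_smul, one_smul] at h2
  have h3 := congrArg Polynomial.natDegree h2
  rw [Polynomial.natDegree_X_pow, Polynomial.natDegree_X_pow] at h3
  exact h3.symm

theorem hasDeg_add (G : B →ₚₗ[A] A) (hG : PolLaw.IsMult G) (e e' : B)
    (hee' : e * e' = 0) (k k' : ℕ) (h : HasDeg G e k)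
    (h' : HasDeg G e' k') : HasDeg G (e + e') (k + k') := by
  intro S _ _ s
  have b1 : (1 - e) * (1 - e') = 1 - (e + e') := by
    have h0 : (1 - e) * (1 - e') = 1 - (e + e') + e * e' := by ring
    rw [h0, hee', add_zero]
  have b2 : (1 - e) * e' = e' := by
    have h0 : (1 - e) * e' = e' - e * e' := by ring
    rw [h0, hee', sub_zero]
  have b3 : e * (1 - e') = e := by
    have h0 : e * (1 - e') = e - e * e' := by ring
    rw [h0, hee', sub_zero]
  have e1 : (1 : S) ⊗ₜ[A] (1 - (e + e')) + s ⊗ₜ[A] (e + e') =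
      ((1 : S) ⊗ₜ[A] (1 - e) + s ⊗ₜ[A] e) * ((1 : S) ⊗ₜ[A] (1 - e') + s ⊗ₜ[A] e') := by
    rw [add_mul, mul_add, mul_add, Algebra.TensorProduct.tmul_mul_tmul,
      Algebra.TensorProduct.tmul_mul_tmul, Algebra.TensorProduct.tmul_mul_tmul,
      Algebra.TensorProduct.tmul_mul_tmul, b1, b2, b3, hee', TensorProduct.tmul_zero, add_zero,
      one_mul, one_mul, mul_one, TensorProduct.tmul_add]
    abel
  rw [e1, (hG S).2, h S s, h' S s, Algebra.TensorProduct.tmul_mul_tmul, mul_one, pow_add]

theorem hasDeg_one (G : PolLaw.MulLaw A B A d) : HasDeg G.law 1 d := by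
  intro S _ _ s
  have e : (1 : S) ⊗ₜ[A] ((1 : B) - 1) + s ⊗ₜ[A] (1 : B) = s • (1 : S ⊗[A] B) := by
    rw [sub_self, TensorProduct.tmul_zero, zero_add, Algebra.TensorProduct.one_def,
      TensorProduct.smul_tmul', smul_eq_mul, mul_one]
  rw [e, law_smul_one]

theorem nontrivial_of_connected [ConnectedSpace (PrimeSpectrum A)] : Nontrivial A := by
  by_contra h
  rw [not_nontrivial_iff_subsingleton] at h
  exact (PrimeSpectrum.instIsEmptyOfSubsingleton (R := A)).false
    (Classical.arbitrary (PrimeSpectrum A))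

theorem hasDeg_compl [ConnectedSpace (PrimeSpectrum A)] (G : PolLaw.MulLaw A B A d) (e : B)
    (he : IsIdempotentElem e) (k : ℕ) (h : HasDeg G.law e k) :
    HasDeg G.law (1 - e) (d - k) ∧ k ≤ d := by
  haveI : Nontrivial A := nontrivial_of_connected
  obtain ⟨k', hk'⟩ := exists_deg G.law G.mult (1 - e) he.one_sub
  have hadd := hasDeg_add G.law G.mult e (1 - e)
    (by rw [mul_sub, mul_one, he.eq, sub_self]) k k' h hk'
  rw [add_sub_cancel] at hadd
  have h1 := hasDeg_unique G.law 1 _ _ hadd (hasDeg_one G)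
  refine ⟨?_, by omega⟩
  have hk'' : k' = d - k := by omega
  rw [← hk'']
  exact hk'

theorem mem_ker_of_hasDeg_zero [ConnectedSpace (PrimeSpectrum A)] (G : PolLaw.MulLaw A B A d)
    (e : B) (he : IsIdempotentElem e) (h : HasDeg G.law e 0) : e ∈ PolLaw.ker G.law := by
  obtain ⟨hc, _⟩ := hasDeg_compl G e he 0 h
  rw [Nat.sub_zero] at hc
  have hk' : ∀ (S : Type u) [CommSemiring S] [Algebra A S] (s : S),
      G.law.toFun' S ((1 : S) ⊗ₜ[A] e + s ⊗ₜ[A] (1 - e)) = (s ^ d) ⊗ₜ[A] (1 : A) := by
    intro S _ _ s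
    have h1 := hc S s
    rwa [sub_sub_cancel] at h1
  have hhom := cut_homog G.law G.mult G.homog e he d le_rfl hk'
  rw [Nat.sub_self] at hhom
  have hcut1 : ∀ (S : Type u) [CommSemiring S] [Algebra A S] (y : S ⊗[A] B),
      (cut G.law e).toFun' S y = 1 := by
    intro S _ _ y
    have h1 := hhom S 0 y
    rw [zero_smul, pow_zero, one_smul] at h1
    rw [← h1, cut_apply, zero_mul, zero_add]
    have h2 := h S 0
    rw [TensorProduct.zero_tmul, add_zero, pow_zero, ← Algebra.TensorProduct.one_def] at h2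
    exact h2
  rw [mem_ker_iff]
  intro S _ _ x w
  obtain ⟨eh, heh⟩ : ∃ eh : S ⊗[A] B, eh = (1 : S) ⊗ₜ[A] e := ⟨_, rfl⟩
  obtain ⟨eh', heh'⟩ : ∃ eh' : S ⊗[A] B, eh' = (1 : S) ⊗ₜ[A] (1 - e) := ⟨_, rfl⟩
  have f1 : eh * eh = eh := by
    rw [heh]
    exact eh_mul_eh S e he
  have f2 : eh * eh' = 0 := by
    rw [heh, heh']
    exact eh_mul_eh' S e he
  have f3 : eh' * eh' = eh' := by
    rw [heh']
    exact eh'_mul_eh' S e he
  have f4 : eh + eh' = 1 := by
    rw [heh, heh']
    exact eh_add_eh' S e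
  have key : ∀ y : S ⊗[A] B, G.law.toFun' S y = G.law.toFun' S (eh + y * eh') := by
    intro y
    have e1 : (y * eh + eh') * (eh + y * eh') = y := by
      have h0 : (y * eh + eh') * (eh + y * eh') =
          y * (eh * eh) + y * y * (eh * eh') + eh * eh' + y * (eh' * eh') := by ring
      rw [h0, f1, f2, f3, mul_zero, add_zero, add_zero, ← mul_add, f4, mul_one]
    have e2 := (G.mult S).2 (y * eh + eh') (eh + y * eh')
    rw [e1] at e2
    have e3 := hcut1 S y
    rw [cut_apply, ← heh, ← heh'] at e3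
    rw [e2, e3, one_mul]
  have e4 : eh + (x + w * eh) * eh' = eh + x * eh' := by
    rw [add_mul, mul_assoc, f2, mul_zero, add_zero]
  rw [← heh, key (x + w * eh), key x, e4]

end deg

section count
variable {A : Type u} [CommRing A] {B : Type u} [CommRing B] [Algebra A B] {d : ℕ}

theorem one_le_of_hasDeg [ConnectedSpace (PrimeSpectrum A)] (G : PolLaw.MulLaw A B A d)
    (hker : PolLaw.ker G.law = ⊥) (e : B) (he : IsIdempotentElem e) (hne : e ≠ 0) (k : ℕ)
    (hk : HasDeg G.law e k) : 1 ≤ k := by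
  by_contra hlt
  have h0 : k = 0 := by omega
  subst h0
  have h1 := mem_ker_of_hasDeg_zero G e he hk
  rw [hker, Ideal.mem_bot] at h1
  exact hne h1

theorem cover [ConnectedSpace (PrimeSpectrum A)] (G : PolLaw.MulLaw A B A d)
    (hker : PolLaw.ker G.law = ⊥) :
    ∀ (k : ℕ) (e : B), IsIdempotentElem e → e ≠ 0 → HasDeg G.law e k →
      ∃ 𝒰 : Finset (Set (PrimeSpectrum B)), 𝒰.card ≤ k ∧ (∀ U ∈ 𝒰, IsPreconnected U) ∧
        ∀ x : PrimeSpectrum B, e ∉ x.asIdeal → ∃ U ∈ 𝒰, x ∈ U := by
  haveI : Nontrivial A := nontrivial_of_connected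
  intro k
  induction k using Nat.strong_induction_on with
  | _ k ih =>
    intro e he hne hk
    have hk1 : 1 ≤ k := one_le_of_hasDeg G hker e he hne k hk
    by_cases hpre : IsPreconnected (PrimeSpectrum.basicOpen e : Set (PrimeSpectrum B))
    · refine ⟨{(PrimeSpectrum.basicOpen e : Set (PrimeSpectrum B))}, ?_, ?_, ?_⟩
      · rw [Finset.card_singleton]
        exact hk1
      · intro U hU
        rw [Finset.mem_singleton] at hU
        rw [hU]
        exact hpre
      · intro x hx
        exact ⟨_, Finset.mem_singleton_self _, hx⟩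
    · obtain ⟨f, hf, hfe, hf0, hfne⟩ := exists_split e he hpre
      have hg : IsIdempotentElem (e - f) := by
        show (e - f) * (e - f) = e - f
        have h0 : (e - f) * (e - f) = e * e - f * e - f * e + f * f := by ring
        rw [h0, he.eq, hfe, hf.eq]
        ring
      have hfg : f * (e - f) = 0 := by
        rw [mul_sub, hfe, hf.eq, sub_self]
      have hg0 : e - f ≠ 0 := sub_ne_zero.mpr (Ne.symm hfne)
      obtain ⟨k₁, hk₁⟩ := exists_deg G.law G.mult f hf
      obtain ⟨k₂, hk₂⟩ := exists_deg G.law G.mult (e - f) hg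
      have hsum := hasDeg_add G.law G.mult f (e - f) hfg k₁ k₂ hk₁ hk₂
      rw [add_sub_cancel] at hsum
      have hkk : k₁ + k₂ = k := hasDeg_unique G.law e _ _ hsum hk
      have hk₁pos : 1 ≤ k₁ := one_le_of_hasDeg G hker f hf hf0 k₁ hk₁
      have hk₂pos : 1 ≤ k₂ := one_le_of_hasDeg G hker (e - f) hg hg0 k₂ hk₂
      obtain ⟨𝒰₁, hc₁, hp₁, hcov₁⟩ := ih k₁ (by omega) f hf hf0 hk₁
      obtain ⟨𝒰₂, hc₂, hp₂, hcov₂⟩ := ih k₂ (by omega) (e - f) hg hg0 hk₂
      classical
      refine ⟨𝒰₁ ∪ 𝒰₂, ?_, ?_, ?_⟩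
      · exact (Finset.card_union_le _ _).trans (by omega)
      · intro U hU
        rcases Finset.mem_union.mp hU with h | h
        · exact hp₁ U h
        · exact hp₂ U h
      · intro x hx
        by_cases hxf : f ∈ x.asIdeal
        · have hxg : e - f ∉ x.asIdeal := by
            intro h
            apply hx
            have h1 := x.asIdeal.add_mem hxf h
            rwa [add_sub_cancel] at h1
          obtain ⟨U, hU, hxU⟩ := hcov₂ x hxg
          exact ⟨U, Finset.mem_union_right _ hU, hxU⟩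
        · obtain ⟨U, hU, hxU⟩ := hcov₁ x hxf
          exact ⟨U, Finset.mem_union_left _ hU, hxU⟩

/-- if `ker G = 0` and `Spec A` is connected then `Spec B` has at most `d` connected components -/
theorem card_connectedComponents_le [ConnectedSpace (PrimeSpectrum A)]
    (G : PolLaw.MulLaw A B A d) (hker : PolLaw.ker G.law = ⊥) :
    Finite (ConnectedComponents (PrimeSpectrum B)) ∧
      Nat.card (ConnectedComponents (PrimeSpectrum B)) ≤ d := by
  rcases subsingleton_or_nontrivial B with hB | hB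
  · have h := finite_card_of_cover (X := PrimeSpectrum B) ∅ (fun U hU => by simp at hU)
      (fun x => (IsEmpty.false x).elim)
    refine ⟨h.1, h.2.trans ?_⟩
    simp
  · obtain ⟨𝒰, hcard, hpre, hcov⟩ := cover G hker d 1 IsIdempotentElem.one one_ne_zero
      (hasDeg_one G)
    have h := finite_card_of_cover 𝒰 hpre
      (fun x => hcov x (fun h1 => x.isPrime.ne_top ((Ideal.eq_top_iff_one _).mpr h1)))
    exact ⟨h.1, h.2.trans hcard⟩

end count

end Groth.Agent.Lib.helper6.CHConn
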