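import Mathlib
import Groth.Prelude.Def_PolLaw
import Groth.Prelude.Def_PolLaw2
import Groth.Agent.Lib.Helper6.GammaPol
import Groth.Agent.Lib.Helper6.CHLaw
import Groth.Agent.Lib.Helper6.CHLaw2
import Groth.Agent.S13699

/-!
# The kernel of a multiplicative law commutes with polynomial base change (any finite number of
variables); strong Cayley–Hamilton: `χ_t(t)` lies in the extension of `ker F` (helper6)
-/

set_option autoImplicit false
set_option linter.unusedSectionVars false
set_option linter.unusedVariables false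

universe u

open scoped TensorProduct
open Polynomial

namespace Groth.Agent.Lib.helper6.CHPoly

open Groth.Agent.Lib.helper6.CHLaw Groth.Agent.Lib.helper6.CHLaw2

section
variable {A : Type u} [CommRing A] {B : Type u} [CommRing B] [Algebra A B] {d : ℕ}

theorem kerBC_map {C : Type u} [CommRing C] [Algebra A C] (F : B →ₚₗ[A] C) {A'' A' : Type u}
    [CommRing A''] [Algebra A A''] [CommRing A'] [Algebra A A'] (φ : A'' →ₐ[A] A')
    (c : A'' ⊗[A] B) (hc : c ∈ PolLaw.kerBC F A'') :
    Algebra.TensorProduct.map φ (AlgHom.id A B) c ∈ PolLaw.kerBC F A' := by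
  rw [mem_kerBC_iff] at hc ⊢
  intro R _ _ ψ x w
  have h := hc R (ψ.comp φ) x w
  have e : Algebra.TensorProduct.map (ψ.comp φ) (AlgHom.id A B) c =
      Algebra.TensorProduct.map ψ (AlgHom.id A B)
        (Algebra.TensorProduct.map φ (AlgHom.id A B) c) := by
    rw [← AlgHom.comp_apply, ← Algebra.TensorProduct.map_comp, AlgHom.comp_id]
  rw [e] at h
  exact h

theorem ext_map (I : Ideal B) {A'' A' : Type u} [CommRing A''] [Algebra A A''] [CommRing A']
    [Algebra A A'] (φ : A'' →ₐ[A] A') (z : A'' ⊗[A] B)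
    (hz : z ∈ I.map (Algebra.TensorProduct.includeRight : B →ₐ[A] A'' ⊗[A] B)) :
    Algebra.TensorProduct.map φ (AlgHom.id A B) z ∈
      I.map (Algebra.TensorProduct.includeRight : B →ₐ[A] A' ⊗[A] B) := by
  have h : I.map (Algebra.TensorProduct.includeRight : B →ₐ[A] A'' ⊗[A] B) ≤
      (I.map (Algebra.TensorProduct.includeRight : B →ₐ[A] A' ⊗[A] B)).comap
        (Algebra.TensorProduct.map φ (AlgHom.id A B)) := by
    rw [Ideal.map_le_iff_le_comap]
    intro b hb
    rw [Ideal.mem_comap, Ideal.mem_comap]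
    have e : Algebra.TensorProduct.map φ (AlgHom.id A B)
        ((Algebra.TensorProduct.includeRight : B →ₐ[A] A'' ⊗[A] B) b) =
        (Algebra.TensorProduct.includeRight : B →ₐ[A] A' ⊗[A] B) b := by
      simp
    rw [e]
    exact Ideal.mem_map_of_mem _ hb
  exact h hz

theorem kerBC_of_X_mul (F : PolLaw.MulLaw A B A d) (A' : Type u) [CommRing A'] [Algebra A A']
    (c : A'[X] ⊗[A] B)
    (hc : ((X : A'[X]) ⊗ₜ[A] (1 : B)) * c ∈ PolLaw.kerBC F.law A'[X]) :
    c ∈ PolLaw.kerBC F.law A'[X] := by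
  rw [mem_kerBC_iff] at hc ⊢
  intro R _ _ ψ x w
  let ψ₀ : A' →ₐ[A] R := ψ.comp CAlgHom
  let ψ' : A'[X] →ₐ[A] R[X] :=
    ((aeval (C (ψ X) + X) : R[X] →ₐ[R] R[X]).restrictScalars A).comp (mapAlgHom ψ₀)
  let ιC : R →ₐ[A] R[X] := CAlgHom
  let ε₀ : R[X] →ₐ[A] R := (aeval (0 : R)).restrictScalars A
  have hεψ : ε₀.comp ψ' = ψ := by
    refine Polynomial.algHom_ext' ?_ ?_
    · ext a'
      simp [ε₀, ψ', ψ₀]
    · simp [ε₀, ψ']
  have hει : ε₀.comp ιC = AlgHom.id A R := by
    ext r
    simp [ε₀, ιC]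
  have hET : ∀ z, Algebra.TensorProduct.map ε₀ (AlgHom.id A B)
      (Algebra.TensorProduct.map ψ' (AlgHom.id A B) z) =
        Algebra.TensorProduct.map ψ (AlgHom.id A B) z := by
    intro z
    rw [← AlgHom.comp_apply, ← Algebra.TensorProduct.map_comp, hεψ, AlgHom.comp_id]
  have hEI : ∀ z, Algebra.TensorProduct.map ε₀ (AlgHom.id A B)
      (Algebra.TensorProduct.map ιC (AlgHom.id A B) z) = z := by
    intro z
    rw [← AlgHom.comp_apply, ← Algebra.TensorProduct.map_comp, hει, AlgHom.comp_id,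
      Algebra.TensorProduct.map_id, AlgHom.id_apply]
  have hTX : Algebra.TensorProduct.map ψ' (AlgHom.id A B) ((X : A'[X]) ⊗ₜ[A] (1 : B)) =
      (C (ψ X) + X : R[X]) ⊗ₜ[A] (1 : B) := by
    simp [ψ']
  have key : F.law.toFun' R[X] (Algebra.TensorProduct.map ιC (AlgHom.id A B) x +
      Algebra.TensorProduct.map ιC (AlgHom.id A B) w *
        Algebra.TensorProduct.map ψ' (AlgHom.id A B) c) =
      F.law.toFun' R[X] (Algebra.TensorProduct.map ιC (AlgHom.id A B) x) := by
    have h1 := hc R[X] ψ' ((C (ψ X) + X : R[X]) • Algebra.TensorProduct.map ιC (AlgHom.id A B) x)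
      (Algebra.TensorProduct.map ιC (AlgHom.id A B) w)
    rw [map_mul, hTX] at h1
    have h2 : (C (ψ X) + X : R[X]) • (Algebra.TensorProduct.map ιC (AlgHom.id A B) x +
        Algebra.TensorProduct.map ιC (AlgHom.id A B) w *
          Algebra.TensorProduct.map ψ' (AlgHom.id A B) c) =
        (C (ψ X) + X : R[X]) • Algebra.TensorProduct.map ιC (AlgHom.id A B) x +
          Algebra.TensorProduct.map ιC (AlgHom.id A B) w *
            (((C (ψ X) + X : R[X]) ⊗ₜ[A] (1 : B)) *
              Algebra.TensorProduct.map ψ' (AlgHom.id A B) c) := by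
      rw [smul_add, Algebra.smul_def ((C (ψ X) + X : R[X]))
        (Algebra.TensorProduct.map ιC (AlgHom.id A B) w *
          Algebra.TensorProduct.map ψ' (AlgHom.id A B) c),
        Algebra.TensorProduct.algebraMap_apply, Algebra.algebraMap_self, RingHom.id_apply]
      ring
    have h3 := F.homog R[X] (C (ψ X) + X : R[X])
      (Algebra.TensorProduct.map ιC (AlgHom.id A B) x +
        Algebra.TensorProduct.map ιC (AlgHom.id A B) w *
          Algebra.TensorProduct.map ψ' (AlgHom.id A B) c)
    have h4 := F.homog R[X] (C (ψ X) + X : R[X]) (Algebra.TensorProduct.map ιC (AlgHom.id A B) x)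
    rw [h2, h1, h4] at h3
    exact (Groth.Agent.S13699.smul_cancel_of_monic (ψ X) d _ _ h3).symm
  have h5 := congrArg (ε₀.toLinearMap.rTensor A) key
  rw [F.law.isCompat_apply', F.law.isCompat_apply', PolLaw.rTensor_algHom_apply,
    PolLaw.rTensor_algHom_apply, map_add, map_mul, hEI, hEI, hET] at h5
  exact h5

theorem good_polynomial (F : PolLaw.MulLaw A B A d) (A' : Type u) [CommRing A'] [Algebra A A']
    (hA' : PolLaw.kerBC F.law A' ≤
      (PolLaw.ker F.law).map (Algebra.TensorProduct.includeRight : B →ₐ[A] A' ⊗[A] B)) :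
    PolLaw.kerBC F.law A'[X] ≤
      (PolLaw.ker F.law).map (Algebra.TensorProduct.includeRight : B →ₐ[A] A'[X] ⊗[A] B) := by
  let ΦC : A' ⊗[A] B →ₐ[A] A'[X] ⊗[A] B := Algebra.TensorProduct.map CAlgHom (AlgHom.id A B)
  let Θ : (A' ⊗[A] B)[X] →+* A'[X] ⊗[A] B :=
    eval₂RingHom ΦC.toRingHom ((X : A'[X]) ⊗ₜ[A] (1 : B))
  have hΘC : ∀ z, Θ (C z) = ΦC z := by
    intro z
    simp [Θ]
  have hΘX : Θ X = (X : A'[X]) ⊗ₜ[A] (1 : B) := by
    simp [Θ]
  have hinc : ∀ p : A'[X],
      Θ (p.map (Algebra.TensorProduct.includeLeft : A' →ₐ[A] A' ⊗[A] B).toRingHom) =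
        p ⊗ₜ[A] (1 : B) := by
    intro p
    have h : Θ.comp (mapRingHom (Algebra.TensorProduct.includeLeft : A' →ₐ[A] A' ⊗[A] B).toRingHom) =
        (Algebra.TensorProduct.includeLeft : A'[X] →ₐ[A] A'[X] ⊗[A] B).toRingHom := by
      refine Polynomial.ringHom_ext ?_ ?_
      · intro a'
        simp [Θ, ΦC]
      · simp [Θ]
    have h' := RingHom.congr_fun h p
    simpa using h'
  have hsurj : Function.Surjective Θ := by
    intro c
    induction c using TensorProduct.induction_on with
    | zero => exact ⟨0, map_zero _⟩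
    | tmul p b =>
      refine ⟨p.map (Algebra.TensorProduct.includeLeft : A' →ₐ[A] A' ⊗[A] B).toRingHom *
        C ((1 : A') ⊗ₜ[A] b), ?_⟩
      rw [map_mul, hΘC, hinc]
      simp [ΦC]
    | add x y hx hy =>
      obtain ⟨qx, rfl⟩ := hx
      obtain ⟨qy, rfl⟩ := hy
      exact ⟨qx + qy, map_add _ _ _⟩
  have hJle := Groth.Agent.S13699.map_ker_le_kerBC F.law A'[X]
  let ε : A'[X] →ₐ[A] A' := (aeval (0 : A')).restrictScalars A
  have hεC : ∀ z, Algebra.TensorProduct.map ε (AlgHom.id A B) (ΦC z) = z := by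
    intro z
    have h : ε.comp CAlgHom = AlgHom.id A A' := by
      ext a
      simp [ε]
    show Algebra.TensorProduct.map ε (AlgHom.id A B)
      (Algebra.TensorProduct.map CAlgHom (AlgHom.id A B) z) = z
    rw [← AlgHom.comp_apply, ← Algebra.TensorProduct.map_comp, h, AlgHom.comp_id,
      Algebra.TensorProduct.map_id, AlgHom.id_apply]
  have hεX : Algebra.TensorProduct.map ε (AlgHom.id A B) ((X : A'[X]) ⊗ₜ[A] (1 : B)) = 0 := by
    simp [ε]
  have main : ∀ q : (A' ⊗[A] B)[X], Θ q ∈ PolLaw.kerBC F.law A'[X] →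
      Θ q ∈ (PolLaw.ker F.law).map
        (Algebra.TensorProduct.includeRight : B →ₐ[A] A'[X] ⊗[A] B) := by
    intro q
    induction q using Polynomial.recOnHorner with
    | M0 =>
      intro _
      rw [map_zero]
      exact zero_mem _
    | MC q z hq0 hz ih =>
      intro h
      rw [map_add, hΘC] at h ⊢
      have hq : q = divX q * X := by
        have h6 := divX_mul_X_add q
        rw [hq0, C_0, add_zero] at h6
        exact h6.symm
      have h2 : Algebra.TensorProduct.map ε (AlgHom.id A B) (Θ q) = 0 := by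
        rw [hq, map_mul, hΘX, map_mul, hεX, mul_zero]
      have hz' : z ∈ PolLaw.kerBC F.law A' := by
        have h1 := kerBC_map F.law ε _ h
        rw [map_add, h2, zero_add, hεC] at h1
        exact h1
      have h3 : ΦC z ∈ (PolLaw.ker F.law).map
          (Algebra.TensorProduct.includeRight : B →ₐ[A] A'[X] ⊗[A] B) :=
        ext_map _ CAlgHom z (hA' hz')
      have h4 : Θ q ∈ PolLaw.kerBC F.law A'[X] := by
        have h7 := sub_mem h (hJle h3)
        rwa [add_sub_cancel_right] at h7
      exact add_mem (ih h4) h3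
    | MX q hq ih =>
      intro h
      rw [map_mul, hΘX, mul_comm] at h ⊢
      exact Ideal.mul_mem_left _ _ (ih (kerBC_of_X_mul F A' _ h))
  intro c hc
  obtain ⟨q, rfl⟩ := hsurj c
  exact main q hc

theorem good_of_equiv (F : PolLaw.MulLaw A B A d) {A'' A' : Type u} [CommRing A'']
    [Algebra A A''] [CommRing A'] [Algebra A A'] (e : A'' ≃ₐ[A] A')
    (hA' : PolLaw.kerBC F.law A' ≤
      (PolLaw.ker F.law).map (Algebra.TensorProduct.includeRight : B →ₐ[A] A' ⊗[A] B)) :
    PolLaw.kerBC F.law A'' ≤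
      (PolLaw.ker F.law).map (Algebra.TensorProduct.includeRight : B →ₐ[A] A'' ⊗[A] B) := by
  intro c hc
  have h1 := hA' (kerBC_map F.law e.toAlgHom c hc)
  have h2 := ext_map (PolLaw.ker F.law) e.symm.toAlgHom _ h1
  have e3 : Algebra.TensorProduct.map e.symm.toAlgHom (AlgHom.id A B)
      (Algebra.TensorProduct.map e.toAlgHom (AlgHom.id A B) c) = c := by
    have h : e.symm.toAlgHom.comp e.toAlgHom = AlgHom.id A A'' := by
      ext a
      simp
    rw [← AlgHom.comp_apply, ← Algebra.TensorProduct.map_comp, AlgHom.comp_id, h,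
      Algebra.TensorProduct.map_id, AlgHom.id_apply]
  rw [e3] at h2
  exact h2

theorem good_base (F : PolLaw.MulLaw A B A d) :
    PolLaw.kerBC F.law A ≤
      (PolLaw.ker F.law).map (Algebra.TensorProduct.includeRight : B →ₐ[A] A ⊗[A] B) := by
  intro c hc
  have hc1 : c = (1 : A) ⊗ₜ[A] (TensorProduct.lid A B c) := by
    have h := (TensorProduct.lid A B).symm_apply_apply c
    rw [TensorProduct.lid_symm_apply] at h
    exact h.symm
  have hb : TensorProduct.lid A B c ∈ PolLaw.ker F.law := by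
    rw [mem_ker_iff]
    intro S _ _ x w
    have h := (mem_kerBC_iff F.law A c).mp hc S (Algebra.ofId A S) x w
    rw [hc1, Algebra.TensorProduct.map_tmul, map_one, AlgHom.id_apply] at h
    exact h
  rw [hc1]
  exact Ideal.mem_map_of_mem _ hb

/-- `ker` commutes with base change to polynomial rings in finitely many variables -/
theorem good_mvPolynomial (F : PolLaw.MulLaw A B A d) (n : ℕ) :
    PolLaw.kerBC F.law (MvPolynomial (Fin n) A) ≤
      (PolLaw.ker F.law).map
        (Algebra.TensorProduct.includeRight : B →ₐ[A] MvPolynomial (Fin n) A ⊗[A] B) := by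
  induction n with
  | zero => exact good_of_equiv F (MvPolynomial.isEmptyAlgEquiv A (Fin 0)) (good_base F)
  | succ n ih => exact good_of_equiv F (MvPolynomial.finSuccEquiv A n) (good_polynomial F _ ih)

theorem rid_rTensor {S S' : Type u} [CommSemiring S] [Algebra A S] [CommSemiring S']
    [Algebra A S'] (g : S →ₐ[A] S') (z : S ⊗[A] A) :
    TensorProduct.rid A S' (g.toLinearMap.rTensor A z) = g (TensorProduct.rid A S z) := by
  induction z using TensorProduct.induction_on with
  | zero => simp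
  | tmul s a => simp
  | add x y hx hy => simp only [map_add, hx, hy]

theorem chi_map (F : PolLaw.MulLaw A B A d) {A'' A' : Type u} [CommRing A''] [Algebra A A'']
    [CommRing A'] [Algebra A A'] (φ : A'' →ₐ[A] A') (T : A'' ⊗[A] B) :
    chi F A' (Algebra.TensorProduct.map φ (AlgHom.id A B) T) =
      Polynomial.mapAlgHom φ (chi F A'' T) := by
  unfold chi
  have h := PolynomialLaw.isCompat_apply' (f := F.law) (Polynomial.mapAlgHom φ)
    (tHat A'' T - Polynomial.X ⊗ₜ[A] (1 : B))
  have hX : (Polynomial.mapAlgHom φ) (Polynomial.X : Polynomial A'') = Polynomial.X := by simp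
  have hT : Algebra.TensorProduct.map (Polynomial.mapAlgHom φ) (AlgHom.id A B) (tHat A'' T) =
      tHat A' (Algebra.TensorProduct.map φ (AlgHom.id A B) T) := by
    unfold tHat
    rw [← AlgHom.comp_apply, ← AlgHom.comp_apply, ← Algebra.TensorProduct.map_comp,
      ← Algebra.TensorProduct.map_comp]
    have hcomp : (Polynomial.mapAlgHom φ).comp (IsScalarTower.toAlgHom A A'' (Polynomial A'')) =
        (IsScalarTower.toAlgHom A A' (Polynomial A')).comp φ := by
      ext a
      simp
    rw [hcomp]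
  have e1 : (Polynomial.mapAlgHom φ).toLinearMap.rTensor B
      (tHat A'' T - Polynomial.X ⊗ₜ[A] (1 : B)) =
      tHat A' (Algebra.TensorProduct.map φ (AlgHom.id A B) T) - Polynomial.X ⊗ₜ[A] (1 : B) := by
    rw [PolLaw.rTensor_algHom_apply, map_sub, Algebra.TensorProduct.map_tmul, hX, hT,
      AlgHom.id_apply]
  rw [e1] at h
  rw [← h, rid_rTensor]

theorem map_aeval {A'' A' : Type u} [CommRing A''] [Algebra A A''] [CommRing A'] [Algebra A A']
    (φ : A'' →ₐ[A] A') (T : A'' ⊗[A] B) (p : Polynomial A'') :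
    Algebra.TensorProduct.map φ (AlgHom.id A B) (Polynomial.aeval T p) =
      Polynomial.aeval (Algebra.TensorProduct.map φ (AlgHom.id A B) T)
        (Polynomial.mapAlgHom φ p) := by
  induction p using Polynomial.induction_on' with
  | add p q hp hq => simp only [map_add, hp, hq]
  | monomial n a =>
    simp only [Polynomial.coe_mapAlgHom, Polynomial.map_monomial, Polynomial.aeval_monomial,
      map_mul, map_pow]
    congr 1

/-- strong Cayley–Hamilton: `χ_t(t)` lies in the extension of `ker F` to `A' ⊗ B` -/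
theorem ch_ext (F : PolLaw.MulLaw A B A d) (A' : Type u) [CommRing A'] [Algebra A A']
    (t : A' ⊗[A] B) :
    Polynomial.aeval t (chi F A' t) ∈
      (PolLaw.ker F.law).map (Algebra.TensorProduct.includeRight : B →ₐ[A] A' ⊗[A] B) := by
  obtain ⟨n, a', b, rfl⟩ := Groth.Agent.Lib.helper6.GammaPol.exists_repr_fin A' t
  let T : MvPolynomial (Fin n) A ⊗[A] B := ∑ j, (MvPolynomial.X j) ⊗ₜ[A] b j
  let φ : MvPolynomial (Fin n) A →ₐ[A] A' := MvPolynomial.aeval a'
  have hT : Algebra.TensorProduct.map φ (AlgHom.id A B) T = ∑ j, a' j ⊗ₜ[A] b j := by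
    simp [T, φ]
  have h1 := good_mvPolynomial F n (ch_bc F _ T)
  have h2 := ext_map _ φ _ h1
  rw [map_aeval, ← chi_map, hT] at h2
  exact h2

end

end Groth.Agent.Lib.helper6.CHPoly
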