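import Mathlib
import Groth.Prelude.Def_PolLaw
import Groth.Prelude.Def_PolLaw2
import Groth.Agent.Lib.Helper6.CHLaw
import Groth.Agent.Lib.Helper6.CHPoly
import Groth.Agent.S13697
import Groth.Agent.S13699

/-!
# Going down for the image of a family of zero-cycles, after any base change (helper6)
-/

set_option autoImplicit false
set_option linter.unusedSectionVars false
set_option linter.unusedVariables false

universe u

open scoped TensorProduct

namespace Groth.Agent.Lib.helper6.CHGen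

open Groth.Agent.Lib.helper6.CHLaw Groth.Agent.Lib.helper6.CHPoly

section
variable {A : Type u} [CommRing A] {B : Type u} [CommRing B] [Algebra A B] {d : ℕ}

theorem smul_cancel_dom (S : Type u) [CommRing S] [IsDomain S] [Algebra A S] (p : S)
    (hp : p ≠ 0) (P Q : S ⊗[A] A) (h : p • P = p • Q) : P = Q := by
  let e := TensorProduct.AlgebraTensorModule.rid A S S
  have h' := congrArg e h
  rw [map_smul, map_smul, smul_eq_mul, smul_eq_mul] at h'
  exact e.injective (mul_left_cancel₀ hp h')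

/-- membership in `kerBC F A''` can be tested on polynomial algebras over `A''` -/
theorem mem_kerBC_of_poly {C : Type u} [CommRing C] [Algebra A C] (F : B →ₚₗ[A] C)
    (A'' : Type u) [CommRing A''] [Algebra A A''] (u : A'' ⊗[A] B)
    (h : ∀ (σ : Type u) (x w : MvPolynomial σ A'' ⊗[A] B),
      F.toFun' (MvPolynomial σ A'') (x + w * Algebra.TensorProduct.map
        (IsScalarTower.toAlgHom A A'' (MvPolynomial σ A'')) (AlgHom.id A B) u) =
        F.toFun' (MvPolynomial σ A'') x) :
    u ∈ PolLaw.kerBC F A'' := by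
  rw [mem_kerBC_iff]
  intro R _ _ ψ x w
  letI : Algebra A'' R := ψ.toRingHom.toAlgebra
  haveI : IsScalarTower A A'' R :=
    IsScalarTower.of_algebraMap_eq (fun a => (ψ.commutes a).symm)
  let π : MvPolynomial R A'' →ₐ[A] R :=
    (MvPolynomial.aeval (id : R → R) : MvPolynomial R A'' →ₐ[A''] R).restrictScalars A
  have hπ : Function.Surjective π := fun r => ⟨MvPolynomial.X r, by simp [π]⟩
  have hπψ : π.comp (IsScalarTower.toAlgHom A A'' (MvPolynomial R A'')) = ψ := by
    ext a
    show MvPolynomial.aeval (id : R → R) (algebraMap A'' (MvPolynomial R A'') a) = ψ a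
    rw [MvPolynomial.algebraMap_eq, MvPolynomial.aeval_C]
    rfl
  have hπ0 : Function.Surjective π.toLinearMap := hπ
  have hπ' : Function.Surjective (π.toLinearMap.rTensor B) := LinearMap.rTensor_surjective B hπ0
  obtain ⟨x₀, rfl⟩ := hπ' x
  obtain ⟨w₀, rfl⟩ := hπ' w
  have h0 := h R x₀ w₀
  have h1 := congrArg (π.toLinearMap.rTensor C) h0
  rw [PolynomialLaw.isCompat_apply', PolynomialLaw.isCompat_apply'] at h1
  have e : π.toLinearMap.rTensor B (x₀ + w₀ * Algebra.TensorProduct.map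
      (IsScalarTower.toAlgHom A A'' (MvPolynomial R A'')) (AlgHom.id A B) u) =
      π.toLinearMap.rTensor B x₀ + π.toLinearMap.rTensor B w₀ *
        Algebra.TensorProduct.map ψ (AlgHom.id A B) u := by
    rw [PolLaw.rTensor_algHom_apply, PolLaw.rTensor_algHom_apply, PolLaw.rTensor_algHom_apply,
      map_add, map_mul]
    congr 2
    rw [← AlgHom.comp_apply, ← Algebra.TensorProduct.map_comp, hπψ, AlgHom.comp_id]
  rw [e] at h1
  exact h1

/-- over a domain `A''`, `kerBC F A''` is saturated with respect to nonzero elements of `A''` -/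
theorem kerBC_saturated (F : PolLaw.MulLaw A B A d) (A'' : Type u) [CommRing A''] [IsDomain A'']
    [Algebra A A''] (a : A'') (ha : a ≠ 0) (u : A'' ⊗[A] B)
    (hu : (a ⊗ₜ[A] (1 : B)) * u ∈ PolLaw.kerBC F.law A'') : u ∈ PolLaw.kerBC F.law A'' := by
  apply mem_kerBC_of_poly
  intro σ x w
  have hu' := (mem_kerBC_iff F.law A'' _).mp hu (MvPolynomial σ A'')
    (IsScalarTower.toAlgHom A A'' (MvPolynomial σ A''))
  have hâ : algebraMap A'' (MvPolynomial σ A'') a ≠ 0 := by
    rw [MvPolynomial.algebraMap_eq]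
    exact (map_ne_zero_iff _ (MvPolynomial.C_injective σ A'')).mpr ha
  have e0 : algebraMap A'' (MvPolynomial σ A'') a • Algebra.TensorProduct.map
      (IsScalarTower.toAlgHom A A'' (MvPolynomial σ A'')) (AlgHom.id A B) u =
      Algebra.TensorProduct.map (IsScalarTower.toAlgHom A A'' (MvPolynomial σ A''))
        (AlgHom.id A B) ((a ⊗ₜ[A] (1 : B)) * u) := by
    rw [map_mul, Algebra.TensorProduct.map_tmul, map_one, Algebra.smul_def,
      Algebra.TensorProduct.algebraMap_apply, Algebra.algebraMap_self, RingHom.id_apply]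
    rfl
  have e1 : algebraMap A'' (MvPolynomial σ A'') a • (x + w * Algebra.TensorProduct.map
      (IsScalarTower.toAlgHom A A'' (MvPolynomial σ A'')) (AlgHom.id A B) u) =
      algebraMap A'' (MvPolynomial σ A'') a • x + w * Algebra.TensorProduct.map
        (IsScalarTower.toAlgHom A A'' (MvPolynomial σ A'')) (AlgHom.id A B)
          ((a ⊗ₜ[A] (1 : B)) * u) := by
    rw [smul_add, ← mul_smul_comm, e0]
  have h3 := F.homog _ (algebraMap A'' (MvPolynomial σ A'') a) (x + w * Algebra.TensorProduct.map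
      (IsScalarTower.toAlgHom A A'' (MvPolynomial σ A'')) (AlgHom.id A B) u)
  have h4 := F.homog _ (algebraMap A'' (MvPolynomial σ A'') a) x
  rw [e1, hu' _ w, h4] at h3
  exact (smul_cancel_dom _ _ (pow_ne_zero d hâ) _ _ h3).symm

/-- over a domain `A''`, minimal primes over `kerBC F A''` contract to zero in `A''` -/
theorem comap_eq_bot_of_minimal (F : PolLaw.MulLaw A B A d) (A'' : Type u) [CommRing A'']
    [IsDomain A''] [Algebra A A''] {P : Ideal (A'' ⊗[A] B)}
    (hP : P ∈ (PolLaw.kerBC F.law A'').minimalPrimes) :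
    P.comap (algebraMap A'' (A'' ⊗[A] B)) = ⊥ := by
  classical
  obtain ⟨P', hP', rfl⟩ : ∃ P' ∈ minimalPrimes ((A'' ⊗[A] B) ⧸ PolLaw.kerBC F.law A''),
      Ideal.comap (Ideal.Quotient.mk (PolLaw.kerBC F.law A'')) P' = P := by
    have h := hP
    rw [Ideal.minimalPrimes_eq_comap] at h
    exact h
  rw [eq_bot_iff]
  intro a ha
  rw [Ideal.mem_bot]
  by_contra hne
  have hmem : Ideal.Quotient.mk (PolLaw.kerBC F.law A'') (algebraMap A'' (A'' ⊗[A] B) a) ∈ P' :=
    ha
  have hnzd : Ideal.Quotient.mk (PolLaw.kerBC F.law A'') (algebraMap A'' (A'' ⊗[A] B) a) ∈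
      nonZeroDivisors ((A'' ⊗[A] B) ⧸ PolLaw.kerBC F.law A'') := by
    rw [mem_nonZeroDivisors_iff_right]
    intro z hz
    obtain ⟨y, rfl⟩ := Ideal.Quotient.mk_surjective z
    rw [← map_mul, Ideal.Quotient.eq_zero_iff_mem, mul_comm,
      Algebra.TensorProduct.algebraMap_apply, Algebra.algebraMap_self, RingHom.id_apply] at hz
    rw [Ideal.Quotient.eq_zero_iff_mem]
    exact kerBC_saturated F A'' a hne y hz
  exact Set.disjoint_left.mp (Ideal.disjoint_nonZeroDivisors_of_mem_minimalPrimes hP') hmem hnzd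

/-- going down for `A' → A' ⊗ (B ⧸ ker F)` -/
theorem going_down_aux (F : PolLaw.MulLaw A B A d) (A' : Type u) [CommRing A'] [Algebra A A']
    (p : Ideal A') [p.IsPrime] (Q : Ideal (A' ⊗[A] (B ⧸ PolLaw.ker F.law))) [Q.IsPrime]
    (hpQ : p ≤ Q.comap (algebraMap A' (A' ⊗[A] (B ⧸ PolLaw.ker F.law)))) :
    ∃ P ≤ Q, P.IsPrime ∧ P.comap (algebraMap A' (A' ⊗[A] (B ⧸ PolLaw.ker F.law))) = p := by
  classical
  let θ : A' ⊗[A] B →ₐ[A] A' ⊗[A] (B ⧸ PolLaw.ker F.law) :=
    Algebra.TensorProduct.map (AlgHom.id A A') (Ideal.Quotient.mkₐ A (PolLaw.ker F.law))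
  have hθs : Function.Surjective θ :=
    Algebra.TensorProduct.map_surjective (AlgHom.id A A') (Ideal.Quotient.mkₐ A (PolLaw.ker F.law))
      Function.surjective_id (Ideal.Quotient.mkₐ_surjective A _)
  have hkerθ : RingHom.ker θ = (PolLaw.ker F.law).map
      (Algebra.TensorProduct.includeRight : B →ₐ[A] A' ⊗[A] B) := by
    have h := Algebra.TensorProduct.lTensor_ker (A := A')
      (Ideal.Quotient.mkₐ A (PolLaw.ker F.law)) (Ideal.Quotient.mkₐ_surjective A _)
    have hk : RingHom.ker (Ideal.Quotient.mkₐ A (PolLaw.ker F.law)) = PolLaw.ker F.law := by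
      ext x
      rw [RingHom.mem_ker, Ideal.Quotient.mkₐ_eq_mk, Ideal.Quotient.eq_zero_iff_mem]
    rw [hk] at h
    exact h
  let qm : A' →ₐ[A] A' ⧸ p := Ideal.Quotient.mkₐ A p
  have hqm : Function.Surjective qm := Ideal.Quotient.mkₐ_surjective A p
  let ρ : A' ⊗[A] B →ₐ[A] (A' ⧸ p) ⊗[A] B := Algebra.TensorProduct.map qm (AlgHom.id A B)
  have hρs : Function.Surjective ρ :=
    Algebra.TensorProduct.map_surjective qm (AlgHom.id A B) hqm Function.surjective_id
  have hkerρ : RingHom.ker ρ = p.map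
      (Algebra.TensorProduct.includeLeft : A' →ₐ[A] A' ⊗[A] B) := by
    have h := Algebra.TensorProduct.rTensor_ker (R := A) (S := A) (C := B) qm hqm
    have hk : RingHom.ker qm = p := by
      ext x
      rw [RingHom.mem_ker]
      exact Ideal.Quotient.eq_zero_iff_mem
    rw [hk] at h
    exact h
  -- Q_T
  have h1 : RingHom.ker ρ ≤ Q.comap θ := by
    rw [hkerρ, Ideal.map_le_iff_le_comap]
    intro a' ha'
    rw [Ideal.mem_comap, Ideal.mem_comap]
    have h := hpQ ha'
    rw [Ideal.mem_comap, Algebra.TensorProduct.algebraMap_apply, Algebra.algebraMap_self,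
      RingHom.id_apply] at h
    simpa [θ] using h
  haveI hQTprime : (Q.comap θ).IsPrime := Ideal.comap_isPrime θ Q
  haveI hQ''prime : ((Q.comap θ).map ρ).IsPrime := Ideal.map_isPrime_of_surjective hρs h1
  have hQ''comap : ((Q.comap θ).map ρ).comap ρ = Q.comap θ := by
    rw [Ideal.comap_map_of_surjective' ρ hρs, sup_eq_left]
    exact h1
  have hI'' : (PolLaw.ker F.law).map
      (Algebra.TensorProduct.includeRight : B →ₐ[A] (A' ⧸ p) ⊗[A] B) ≤ (Q.comap θ).map ρ := by
    rw [Ideal.map_le_iff_le_comap]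
    intro b hb
    rw [Ideal.mem_comap]
    have h2 : ((1 : A') ⊗ₜ[A] b : A' ⊗[A] B) ∈ Q.comap θ := by
      rw [Ideal.mem_comap]
      have h3 : θ ((1 : A') ⊗ₜ[A] b) = 0 := by
        simp [θ, Ideal.Quotient.eq_zero_iff_mem.mpr hb]
      rw [h3]
      exact zero_mem _
    have h4 : ρ ((1 : A') ⊗ₜ[A] b) =
        (Algebra.TensorProduct.includeRight : B →ₐ[A] (A' ⧸ p) ⊗[A] B) b := by
      simp [ρ]
    rw [← h4]
    exact Ideal.mem_map_of_mem ρ h2
  have hkBC : PolLaw.kerBC F.law (A' ⧸ p) ≤ (Q.comap θ).map ρ := by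
    have h5 := Groth.Agent.S13697.result F (A' ⧸ p)
    have h6 : ((PolLaw.ker F.law).map
        (Algebra.TensorProduct.includeRight : B →ₐ[A] (A' ⧸ p) ⊗[A] B)).radical ≤
        (Q.comap θ).map ρ := (Ideal.IsPrime.radical_le_iff hQ''prime).mpr hI''
    rw [← h5] at h6
    exact Ideal.le_radical.trans h6
  obtain ⟨P'', hP''min, hP''le⟩ := Ideal.exists_minimalPrimes_le hkBC
  have hP''bot := comap_eq_bot_of_minimal F (A' ⧸ p) hP''min
  haveI hP''prime : P''.IsPrime := hP''min.1.1
  haveI hPTprime : (P''.comap ρ).IsPrime := Ideal.comap_isPrime ρ P''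
  have h2 : RingHom.ker θ ≤ P''.comap ρ := by
    rw [hkerθ, Ideal.map_le_iff_le_comap]
    intro b hb
    rw [Ideal.mem_comap, Ideal.mem_comap]
    have h4 : ρ ((Algebra.TensorProduct.includeRight : B →ₐ[A] A' ⊗[A] B) b) =
        (Algebra.TensorProduct.includeRight : B →ₐ[A] (A' ⧸ p) ⊗[A] B) b := by
      simp [ρ]
    rw [h4]
    exact hP''min.1.2 (Groth.Agent.S13699.map_ker_le_kerBC F.law (A' ⧸ p)
      (Ideal.mem_map_of_mem _ hb))
  have hPcomap : ((P''.comap ρ).map θ).comap θ = P''.comap ρ := by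
    rw [Ideal.comap_map_of_surjective' θ hθs, sup_eq_left]
    exact h2
  refine ⟨(P''.comap ρ).map θ, ?_, Ideal.map_isPrime_of_surjective hθs h2, ?_⟩
  · rw [Ideal.map_le_iff_le_comap, ← hQ''comap]
    exact Ideal.comap_mono hP''le
  · ext a'
    rw [Ideal.mem_comap]
    have h7 : algebraMap A' (A' ⊗[A] (B ⧸ PolLaw.ker F.law)) a' =
        θ (a' ⊗ₜ[A] (1 : B)) := by
      rw [Algebra.TensorProduct.algebraMap_apply, Algebra.algebraMap_self, RingHom.id_apply]
      simp [θ]
    rw [h7, ← Ideal.mem_comap, hPcomap, Ideal.mem_comap]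
    have h8 : ρ (a' ⊗ₜ[A] (1 : B)) = algebraMap (A' ⧸ p) ((A' ⧸ p) ⊗[A] B) (qm a') := by
      rw [Algebra.TensorProduct.algebraMap_apply, Algebra.algebraMap_self, RingHom.id_apply]
      simp [ρ]
    rw [h8, ← Ideal.mem_comap, hP''bot, Ideal.mem_bot]
    exact Ideal.Quotient.eq_zero_iff_mem

end

end Groth.Agent.Lib.helper6.CHGen
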