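import Mathlib
import Groth.Prelude.Def_PolLaw
import Groth.Prelude.Def_PolLaw2
import Groth.Agent.Lib.Helper6.TSCoef
import Groth.Agent.Lib.Helper6.CHLaw

/-!
# The characteristic polynomial `χ_b` of a multiplicative law of degree `d` is `(-1)^d`·monic of
degree `d` (helper6)
-/

set_option autoImplicit false
set_option linter.unusedSectionVars false
set_option linter.unusedVariables false

universe u

open scoped TensorProduct

namespace Groth.Agent.Lib.helper6.CHMonic

open Groth.Agent.Lib.helper6.TSCoef Groth.Agent.Lib.helper6.CHLaw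

/-- two-element index type in universe `u` -/
abbrev I2 : Type u := ULift.{u} Bool

theorem sum_I2 {M : Type*} [AddCommMonoid M] (f : I2.{u} → M) :
    ∑ j, f j = f ⟨true⟩ + f ⟨false⟩ := by
  rw [← Fintype.sum_bool (fun c => f ⟨c⟩)]
  exact Fintype.sum_equiv Equiv.ulift _ _ (fun x => rfl)

theorem prod_I2 {M : Type*} [CommMonoid M] (f : I2.{u} → M) :
    ∏ j, f j = f ⟨true⟩ * f ⟨false⟩ := by
  rw [← Fintype.prod_bool (fun c => f ⟨c⟩)]
  exact Fintype.prod_equiv Equiv.ulift _ _ (fun x => rfl)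

theorem fprod_I2 {S : Type*} [CommSemiring S] (s : I2.{u} → S) (m : I2.{u} →₀ ℕ) :
    (m.prod fun i k => s i ^ k) = s ⟨true⟩ ^ m ⟨true⟩ * s ⟨false⟩ ^ m ⟨false⟩ := by
  rw [Finsupp.prod_fintype _ _ (fun i => pow_zero _), prod_I2]

theorem mem_anti_I2 (d : ℕ) (m : I2.{u} →₀ ℕ) :
    m ∈ Finset.finsuppAntidiag (Finset.univ : Finset I2.{u}) d ↔ m ⟨true⟩ + m ⟨false⟩ = d := by
  rw [Finset.mem_finsuppAntidiag, sum_I2]
  simp

theorem single_mem_anti (d : ℕ) :
    (Finsupp.single (⟨true⟩ : I2.{u}) d) ∈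
      Finset.finsuppAntidiag (Finset.univ : Finset I2.{u}) d := by
  rw [mem_anti_I2]
  simp [Finsupp.single_apply]

theorem single_false (d : ℕ) : (Finsupp.single (⟨true⟩ : I2.{u}) d) ⟨false⟩ = 0 := by
  simp [Finsupp.single_apply]

theorem eq_single_of (d : ℕ) (m : I2.{u} →₀ ℕ) (h : m ⟨true⟩ + m ⟨false⟩ = d)
    (h1 : m ⟨true⟩ = d) : m = Finsupp.single ⟨true⟩ d := by
  have h0 : m ⟨false⟩ = 0 := by omega
  ext ⟨c⟩
  cases c
  · rw [h0, single_false]
  · rw [h1, Finsupp.single_eq_same]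

section
variable {A : Type u} [CommRing A] {B : Type u} [CommRing B] [Algebra A B] {d : ℕ}

/-- the family `(1, b)` -/
def e2 (b : B) : I2.{u} → B := fun i => cond i.down 1 b

theorem e2_true (b : B) : e2 b ⟨true⟩ = 1 := rfl
theorem e2_false (b : B) : e2 b ⟨false⟩ = b := rfl

variable (A) in
/-- the scalars `(-X, 1)` -/
noncomputable def s2 : I2.{u} → Polynomial A := fun i => cond i.down (-Polynomial.X) 1

theorem s2_true : s2 A ⟨true⟩ = -Polynomial.X := rfl
theorem s2_false : s2 A ⟨false⟩ = 1 := rfl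

variable (A) in
/-- the scalars `(1, 0)` -/
def t2 : I2.{u} → A := fun i => cond i.down 1 0

theorem t2_true : t2 A ⟨true⟩ = 1 := rfl
theorem t2_false : t2 A ⟨false⟩ = 0 := rfl

theorem chi0_eq_sum (F : PolLaw.MulLaw A B A d) (b : B) :
    chi0 F b = ∑ m ∈ Finset.finsuppAntidiag (Finset.univ : Finset I2.{u}) d,
      CF F.law (e2 b) m • (-Polynomial.X : Polynomial A) ^ m ⟨true⟩ := by
  classical
  unfold chi0
  have h := evalD F.law F.homog (e2 b) Finset.univ (Polynomial A) (s2 A)
  rw [sum_I2, s2_true, s2_false, e2_true, e2_false] at h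
  have e : (1 : Polynomial A) ⊗ₜ[A] b - Polynomial.X ⊗ₜ[A] (1 : B) =
      (-Polynomial.X : Polynomial A) ⊗ₜ[A] (1 : B) + (1 : Polynomial A) ⊗ₜ[A] b := by
    rw [TensorProduct.neg_tmul, sub_eq_neg_add]
  rw [e, h, map_sum]
  refine Finset.sum_congr rfl fun m _ => ?_
  rw [fprod_I2, s2_true, s2_false, one_pow, mul_one, TensorProduct.rid_tmul]

theorem chi0_natDegree_le (F : PolLaw.MulLaw A B A d) (b : B) : (chi0 F b).natDegree ≤ d := by
  rw [chi0_eq_sum]
  refine Polynomial.natDegree_sum_le_of_forall_le _ _ fun m hm => ?_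
  have hm' := (mem_anti_I2 d m).mp hm
  refine (Polynomial.natDegree_smul_le _ _).trans ?_
  refine Polynomial.natDegree_pow_le.trans ?_
  rw [Polynomial.natDegree_neg]
  calc m ⟨true⟩ * (Polynomial.X : Polynomial A).natDegree ≤ m ⟨true⟩ * 1 :=
        Nat.mul_le_mul_left _ Polynomial.natDegree_X_le
    _ ≤ d := by omega

theorem coeff_neg_X_pow (k n : ℕ) :
    ((-Polynomial.X : Polynomial A) ^ k).coeff n = if n = k then (-1) ^ k else 0 := by
  have h : (-Polynomial.X : Polynomial A) ^ k =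
      Polynomial.C ((-1 : A) ^ k) * Polynomial.X ^ k := by
    rw [neg_pow]
    simp
  rw [h, Polynomial.coeff_C_mul, Polynomial.coeff_X_pow]
  split_ifs <;> simp

theorem chi0_coeff (F : PolLaw.MulLaw A B A d) (b : B) :
    (chi0 F b).coeff d = (-1) ^ d * CF F.law (e2 b) (Finsupp.single ⟨true⟩ d) := by
  rw [chi0_eq_sum, Polynomial.finset_sum_coeff,
    Finset.sum_eq_single (Finsupp.single (⟨true⟩ : I2.{u}) d)]
  · rw [Polynomial.coeff_smul, coeff_neg_X_pow, Finsupp.single_eq_same, if_pos rfl, smul_eq_mul,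
      mul_comm]
  · intro m hm hne
    have hm' := (mem_anti_I2 d m).mp hm
    rw [Polynomial.coeff_smul, coeff_neg_X_pow, if_neg, smul_zero]
    intro h
    exact hne (eq_single_of d m hm' h.symm)
  · intro h
    exact absurd (single_mem_anti d) h

theorem CF_single (F : PolLaw.MulLaw A B A d) (b : B) :
    CF F.law (e2 b) (Finsupp.single ⟨true⟩ d) = 1 := by
  classical
  have h := evalD F.law F.homog (e2 b) Finset.univ A (t2 A)
  rw [sum_I2, t2_true, t2_false, e2_true, e2_false, TensorProduct.zero_tmul, add_zero,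
    ← Algebra.TensorProduct.one_def, (F.mult A).1,
    Finset.sum_eq_single (Finsupp.single (⟨true⟩ : I2.{u}) d)] at h
  · rw [fprod_I2, t2_true, t2_false, one_pow, one_mul, single_false, pow_zero] at h
    have h2 := congrArg (TensorProduct.lid A A) h
    rw [Algebra.TensorProduct.one_def, TensorProduct.lid_tmul, TensorProduct.lid_tmul, one_smul,
      one_smul] at h2
    exact h2.symm
  · intro m hm hne
    have hm' := (mem_anti_I2 d m).mp hm
    have h0 : m ⟨false⟩ ≠ 0 := by
      intro h0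
      exact hne (eq_single_of d m hm' (by omega))
    rw [fprod_I2, t2_true, t2_false, zero_pow h0, mul_zero, TensorProduct.zero_tmul]
  · intro h
    exact absurd (single_mem_anti d) h

/-- `(-1)^d χ_b` is monic -/
theorem chi0_monic (F : PolLaw.MulLaw A B A d) (b : B) :
    (Polynomial.C ((-1 : A) ^ d) * chi0 F b).Monic := by
  apply Polynomial.monic_of_natDegree_le_of_coeff_eq_one d
  · exact (Polynomial.natDegree_C_mul_le _ _).trans (chi0_natDegree_le F b)
  · rw [Polynomial.coeff_C_mul, chi0_coeff, CF_single, mul_one, ← mul_pow]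
    simp

/-- every `b` is integral modulo `ker F` -/
theorem aeval_monic_mem_ker (F : PolLaw.MulLaw A B A d) (b : B) :
    Polynomial.aeval b (Polynomial.C ((-1 : A) ^ d) * chi0 F b) ∈ PolLaw.ker F.law := by
  rw [map_mul]
  exact Ideal.mul_mem_left _ _ (ch F b)

end

end Groth.Agent.Lib.helper6.CHMonic
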