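import Mathlib
import Groth.Prelude.Def_PolLaw
import Groth.Prelude.Def_PolLaw2
import Groth.Agent.Lib.Helper6.GammaPol
import Groth.Agent.Lib.Helper6.TSCoef
import Groth.Agent.Lib.Helper6.CHLaw
import Groth.Agent.Lib.Helper6.CHMonic

/-!
# The characteristic polynomial `χ_t`, `t : A' ⊗ B`, has degree `≤ d` and `X^d`-coefficient
`(-1)^d` (helper6)
-/

set_option autoImplicit false
set_option linter.unusedSectionVars false
set_option linter.unusedVariables false

universe u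

open scoped TensorProduct

namespace Groth.Agent.Lib.helper6.CHMonic2

open Groth.Agent.Lib.helper6.TSCoef Groth.Agent.Lib.helper6.CHLaw Groth.Agent.Lib.helper6.CHMonic

/-- index type with `n + 1` elements in universe `u` -/
abbrev J (n : ℕ) : Type u := ULift.{u} (Fin (n + 1))

theorem sum_J {M : Type*} [AddCommMonoid M] (n : ℕ) (g : J.{u} n → M) :
    ∑ i, g i = g ⟨0⟩ + ∑ j : Fin n, g ⟨j.succ⟩ := by
  rw [← Fin.sum_univ_succ (fun i' : Fin (n + 1) => g ⟨i'⟩)]
  exact Fintype.sum_equiv Equiv.ulift _ _ (fun x => rfl)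

theorem prod_J {M : Type*} [CommMonoid M] (n : ℕ) (g : J.{u} n → M) :
    ∏ i, g i = g ⟨0⟩ * ∏ j : Fin n, g ⟨j.succ⟩ := by
  rw [← Fin.prod_univ_succ (fun i' : Fin (n + 1) => g ⟨i'⟩)]
  exact Fintype.prod_equiv Equiv.ulift _ _ (fun x => rfl)

theorem fprod_J {S : Type*} [CommSemiring S] (n : ℕ) (s : J.{u} n → S) (m : J.{u} n →₀ ℕ) :
    (m.prod fun i k => s i ^ k) = s ⟨0⟩ ^ m ⟨0⟩ * ∏ j : Fin n, s ⟨j.succ⟩ ^ m ⟨j.succ⟩ := by
  rw [Finsupp.prod_fintype _ _ (fun i => pow_zero _), prod_J]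

theorem mem_anti_J (n d : ℕ) (m : J.{u} n →₀ ℕ) :
    m ∈ Finset.finsuppAntidiag (Finset.univ : Finset (J.{u} n)) d ↔
      m ⟨0⟩ + ∑ j : Fin n, m ⟨j.succ⟩ = d := by
  rw [Finset.mem_finsuppAntidiag, sum_J]
  simp

theorem single_succ (n d : ℕ) (j : Fin n) :
    (Finsupp.single (⟨0⟩ : J.{u} n) d) ⟨j.succ⟩ = 0 := by
  rw [Finsupp.single_apply, if_neg]
  intro h
  have h' := congrArg ULift.down h
  exact absurd h'.symm (Fin.succ_ne_zero j)

theorem single_mem_anti_J (n d : ℕ) :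
    Finsupp.single (⟨0⟩ : J.{u} n) d ∈
      Finset.finsuppAntidiag (Finset.univ : Finset (J.{u} n)) d := by
  rw [mem_anti_J, Finsupp.single_eq_same]
  simp only [single_succ, Finset.sum_const_zero, add_zero]

theorem eq_single_J (n d : ℕ) (m : J.{u} n →₀ ℕ) (h : m ⟨0⟩ + ∑ j : Fin n, m ⟨j.succ⟩ = d)
    (h1 : m ⟨0⟩ = d) : m = Finsupp.single ⟨0⟩ d := by
  have h0 : ∑ j : Fin n, m ⟨j.succ⟩ = 0 := by omega
  have h0' : ∀ j : Fin n, m ⟨j.succ⟩ = 0 := by
    intro j
    exact (Finset.sum_eq_zero_iff.mp h0) j (Finset.mem_univ j)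
  ext ⟨i'⟩
  induction i' using Fin.cases with
  | zero => rw [h1, Finsupp.single_eq_same]
  | succ j => rw [h0' j, single_succ]

section
variable {A : Type u} [CommRing A] {B : Type u} [CommRing B] [Algebra A B] {d : ℕ}

/-- the family `(1, b_1, …, b_n)` -/
def eJ {n : ℕ} (b : Fin n → B) : J.{u} n → B :=
  fun i => (Fin.cons (1 : B) b : Fin (n + 1) → B) i.down

theorem eJ_zero {n : ℕ} (b : Fin n → B) : eJ b ⟨0⟩ = 1 := by simp [eJ]
theorem eJ_succ {n : ℕ} (b : Fin n → B) (j : Fin n) : eJ b ⟨j.succ⟩ = b j := by simp [eJ]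

/-- the scalars `(-X, a_1, …, a_n)` -/
noncomputable def sJ {n : ℕ} (A' : Type u) [CommRing A'] (a' : Fin n → A') :
    J.{u} n → Polynomial A' :=
  fun i => (Fin.cons (-Polynomial.X) (fun j => Polynomial.C (a' j)) :
    Fin (n + 1) → Polynomial A') i.down

theorem sJ_zero {n : ℕ} (A' : Type u) [CommRing A'] (a' : Fin n → A') :
    sJ A' a' ⟨0⟩ = -Polynomial.X := by simp [sJ]
theorem sJ_succ {n : ℕ} (A' : Type u) [CommRing A'] (a' : Fin n → A') (j : Fin n) :
    sJ A' a' ⟨j.succ⟩ = Polynomial.C (a' j) := by simp [sJ]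

variable (A) in
/-- the scalars `(1, 0, …, 0)` -/
def tJ (n : ℕ) : J.{u} n → A := fun i => (Fin.cons (1 : A) (fun _ => 0) : Fin (n + 1) → A) i.down

theorem tJ_zero (n : ℕ) : tJ A n ⟨0⟩ = 1 := by simp [tJ]
theorem tJ_succ (n : ℕ) (j : Fin n) : tJ A n ⟨j.succ⟩ = 0 := by simp [tJ]

theorem chi_eq_sum (F : PolLaw.MulLaw A B A d) (A' : Type u) [CommRing A'] [Algebra A A']
    {n : ℕ} (a' : Fin n → A') (b : Fin n → B) :
    chi F A' (∑ j, a' j ⊗ₜ[A] b j) =
      ∑ m ∈ Finset.finsuppAntidiag (Finset.univ : Finset (J.{u} n)) d,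
        CF F.law (eJ b) m • ((-Polynomial.X : Polynomial A') ^ m ⟨0⟩ *
          Polynomial.C (∏ j : Fin n, a' j ^ m ⟨j.succ⟩)) := by
  classical
  unfold chi
  have h := evalD F.law F.homog (eJ b) Finset.univ (Polynomial A') (sJ A' a')
  rw [sum_J, sJ_zero, eJ_zero] at h
  simp only [sJ_succ, eJ_succ] at h
  have e : tHat A' (∑ j, a' j ⊗ₜ[A] b j) - Polynomial.X ⊗ₜ[A] (1 : B) =
      (-Polynomial.X : Polynomial A') ⊗ₜ[A] (1 : B) +
        ∑ j : Fin n, (Polynomial.C (a' j)) ⊗ₜ[A] b j := by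
    rw [TensorProduct.neg_tmul, sub_eq_neg_add]
    congr 1
    unfold tHat
    rw [map_sum]
    refine Finset.sum_congr rfl fun j _ => ?_
    rw [Algebra.TensorProduct.map_tmul]
    rfl
  rw [e, h, map_sum]
  refine Finset.sum_congr rfl fun m _ => ?_
  have hp : ∏ j : Fin n, sJ A' a' ⟨j.succ⟩ ^ m ⟨j.succ⟩ =
      Polynomial.C (∏ j : Fin n, a' j ^ m ⟨j.succ⟩) := by
    rw [map_prod]
    refine Finset.prod_congr rfl fun j _ => ?_
    rw [sJ_succ, Polynomial.C_pow]
  rw [fprod_J, sJ_zero, hp, TensorProduct.rid_tmul]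

theorem chi_natDegree_le (F : PolLaw.MulLaw A B A d) (A' : Type u) [CommRing A'] [Algebra A A']
    (t : A' ⊗[A] B) : (chi F A' t).natDegree ≤ d := by
  obtain ⟨n, a', b, rfl⟩ := Groth.Agent.Lib.helper6.GammaPol.exists_repr_fin A' t
  rw [chi_eq_sum]
  refine Polynomial.natDegree_sum_le_of_forall_le _ _ fun m hm => ?_
  have hm' := (mem_anti_J n d m).mp hm
  refine (Polynomial.natDegree_smul_le _ _).trans ?_
  refine Polynomial.natDegree_mul_le.trans ?_
  rw [Polynomial.natDegree_C, add_zero]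
  refine Polynomial.natDegree_pow_le.trans ?_
  rw [Polynomial.natDegree_neg]
  calc m ⟨0⟩ * (Polynomial.X : Polynomial A').natDegree ≤ m ⟨0⟩ * 1 :=
        Nat.mul_le_mul_left _ Polynomial.natDegree_X_le
    _ ≤ d := by omega

theorem CF_single_J (F : PolLaw.MulLaw A B A d) {n : ℕ} (b : Fin n → B) :
    CF F.law (eJ b) (Finsupp.single ⟨0⟩ d) = 1 := by
  classical
  have h := evalD F.law F.homog (eJ b) Finset.univ A (tJ A n)
  rw [sum_J, tJ_zero, eJ_zero] at h
  simp only [tJ_succ, TensorProduct.zero_tmul, Finset.sum_const_zero, add_zero] at h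
  rw [← Algebra.TensorProduct.one_def, (F.mult A).1,
    Finset.sum_eq_single (Finsupp.single (⟨0⟩ : J.{u} n) d)] at h
  · rw [fprod_J, tJ_zero, one_pow, one_mul] at h
    simp only [tJ_succ, single_succ, pow_zero, Finset.prod_const_one] at h
    have h2 := congrArg (TensorProduct.lid A A) h
    rw [Algebra.TensorProduct.one_def, TensorProduct.lid_tmul, TensorProduct.lid_tmul, one_smul,
      one_smul] at h2
    exact h2.symm
  · intro m hm hne
    have hm' := (mem_anti_J n d m).mp hm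
    have hex : ∃ j : Fin n, m ⟨j.succ⟩ ≠ 0 := by
      by_contra hcon
      simp only [not_exists, not_not] at hcon
      have h0 : ∑ j : Fin n, m ⟨j.succ⟩ = 0 := Finset.sum_eq_zero fun j _ => hcon j
      exact hne (eq_single_J n d m hm' (by omega))
    obtain ⟨j, hj⟩ := hex
    have hz : ∏ j : Fin n, tJ A n ⟨j.succ⟩ ^ m ⟨j.succ⟩ = 0 := by
      refine Finset.prod_eq_zero (Finset.mem_univ j) ?_
      rw [tJ_succ, zero_pow hj]
    rw [fprod_J, hz, mul_zero, TensorProduct.zero_tmul]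
  · intro h
    exact absurd (single_mem_anti_J n d) h

theorem chi_coeff (F : PolLaw.MulLaw A B A d) (A' : Type u) [CommRing A'] [Algebra A A']
    (t : A' ⊗[A] B) : (chi F A' t).coeff d = (-1) ^ d := by
  obtain ⟨n, a', b, rfl⟩ := Groth.Agent.Lib.helper6.GammaPol.exists_repr_fin A' t
  rw [chi_eq_sum, Polynomial.finset_sum_coeff,
    Finset.sum_eq_single (Finsupp.single (⟨0⟩ : J.{u} n) d)]
  · rw [Polynomial.coeff_smul, Polynomial.coeff_mul_C, coeff_neg_X_pow, Finsupp.single_eq_same,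
      if_pos rfl, CF_single_J]
    simp only [single_succ, pow_zero, Finset.prod_const_one, mul_one, one_smul]
  · intro m hm hne
    have hm' := (mem_anti_J n d m).mp hm
    rw [Polynomial.coeff_smul, Polynomial.coeff_mul_C, coeff_neg_X_pow, if_neg, zero_mul,
      smul_zero]
    intro h
    exact hne (eq_single_J n d m hm' h.symm)
  · intro h
    exact absurd (single_mem_anti_J n d) h

theorem chi_ne_zero (F : PolLaw.MulLaw A B A d) (A' : Type u) [CommRing A'] [Algebra A A']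
    [Nontrivial A'] (t : A' ⊗[A] B) : chi F A' t ≠ 0 := by
  intro h
  have h1 := chi_coeff F A' t
  rw [h, Polynomial.coeff_zero] at h1
  exact ((isUnit_one.neg).pow d).ne_zero h1.symm

/-- `(-1)^d χ_t` is monic -/
theorem chi_monic (F : PolLaw.MulLaw A B A d) (A' : Type u) [CommRing A'] [Algebra A A']
    (t : A' ⊗[A] B) : (Polynomial.C ((-1 : A') ^ d) * chi F A' t).Monic := by
  apply Polynomial.monic_of_natDegree_le_of_coeff_eq_one d
  · exact (Polynomial.natDegree_C_mul_le _ _).trans (chi_natDegree_le F A' t)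
  · rw [Polynomial.coeff_C_mul, chi_coeff, ← mul_pow]
    simp

end

end Groth.Agent.Lib.helper6.CHMonic2
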