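import Mathlib
import Groth.Prelude.Def_PolLaw
import Groth.Prelude.Def_PolLaw2
import Groth.Agent.Lib.Helper6.CHLaw
import Groth.Agent.Lib.Helper6.CHLaw2
import Groth.Agent.Lib.Helper6.CHMonic2
import Groth.Agent.Lib.Helper6.CHPoly
import Groth.Agent.Lib.Helper6.CHGen
import Groth.Agent.S13699

/-!
# The image of a family of zero-cycles is universally open over the base (ring level) (helper6)

For a multiplicative law `F : B → A` of degree `d`, an `A`-algebra `A'` and `t : A' ⊗ B`, the image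
of `D(t) ⊆ Spec (A' ⊗ B/ker F)` in `Spec A'` is the union of the `D(cᵢ)`, `cᵢ` the lower
coefficients of the characteristic polynomial of `t`.
-/

set_option autoImplicit false
set_option linter.unusedSectionVars false
set_option linter.unusedVariables false

universe u

open scoped TensorProduct
open Polynomial

namespace Groth.Agent.Lib.helper6.CHOpen

open Groth.Agent.Lib.helper6.CHLaw Groth.Agent.Lib.helper6.CHLaw2
  Groth.Agent.Lib.helper6.CHMonic2 Groth.Agent.Lib.helper6.CHPoly Groth.Agent.Lib.helper6.CHGen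

section
variable {A : Type u} [CommRing A] {B : Type u} [CommRing B] [Algebra A B] {d : ℕ}

/-- if `u ^ n` lies in the kernel then `χ_u` divides `X ^ (n d)` -/
theorem chi_dvd_of_pow_mem (F : PolLaw.MulLaw A B A d) (D : Type u) [CommRing D] [Algebra A D]
    (u : D ⊗[A] B) (n : ℕ) (hu : u ^ n ∈ PolLaw.kerBC F.law D) :
    chi F D u ∣ (Polynomial.X : Polynomial D) ^ (n * d) := by
  obtain ⟨ψ, hψ⟩ : ∃ ψ : D →ₐ[A] Polynomial D, ψ = IsScalarTower.toAlgHom A D (Polynomial D) :=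
    ⟨_, rfl⟩
  obtain ⟨uh, huh⟩ : ∃ uh : Polynomial D ⊗[A] B, uh = tHat D u := ⟨_, rfl⟩
  obtain ⟨Xh, hXh⟩ : ∃ Xh : Polynomial D ⊗[A] B,
      Xh = (Polynomial.X : Polynomial D) ⊗ₜ[A] (1 : B) := ⟨_, rfl⟩
  obtain ⟨G, hG⟩ : ∃ G : Polynomial D ⊗[A] B,
      G = ∑ i ∈ Finset.range n, uh ^ i * Xh ^ (n - 1 - i) := ⟨_, rfl⟩
  have hgeom : G * (uh - Xh) = uh ^ n - Xh ^ n := by
    rw [hG]
    exact geom_sum₂_mul uh Xh n
  have hmul := (F.mult (Polynomial D)).2 G (uh - Xh)
  rw [hgeom] at hmul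
  have hpow : uh ^ n = Algebra.TensorProduct.map ψ (AlgHom.id A B) (u ^ n) := by
    rw [map_pow, huh, hψ]
    rfl
  have hX : -(Xh ^ n) =
      (-((Polynomial.X : Polynomial D) ^ n)) • (1 : Polynomial D ⊗[A] B) := by
    rw [hXh, Algebra.TensorProduct.tmul_pow, one_pow, Algebra.TensorProduct.one_def,
      TensorProduct.smul_tmul', smul_eq_mul, mul_one, TensorProduct.neg_tmul]
  have e : uh ^ n - Xh ^ n =
      (-((Polynomial.X : Polynomial D) ^ n)) • (1 : Polynomial D ⊗[A] B) +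
        1 * Algebra.TensorProduct.map ψ (AlgHom.id A B) (u ^ n) := by
    rw [one_mul, ← hpow, ← hX]
    ring
  have hval : F.law.toFun' (Polynomial D) (uh ^ n - Xh ^ n) =
      ((-((Polynomial.X : Polynomial D) ^ n)) ^ d) ⊗ₜ[A] (1 : A) := by
    rw [e, (mem_kerBC_iff F.law D (u ^ n)).mp hu (Polynomial D) ψ _ _, law_smul_one]
  have hrid : ∀ y : Polynomial D ⊗[A] A,
      y = (TensorProduct.rid A (Polynomial D) y) ⊗ₜ[A] (1 : A) := by
    intro y
    rw [← TensorProduct.rid_symm_apply, LinearEquiv.symm_apply_apply]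
  have h1 : F.law.toFun' (Polynomial D) (uh - Xh) = (chi F D u) ⊗ₜ[A] (1 : A) := by
    rw [huh, hXh]
    exact hrid _
  obtain ⟨g, hg⟩ : ∃ g : Polynomial D, F.law.toFun' (Polynomial D) G = g ⊗ₜ[A] (1 : A) :=
    ⟨_, hrid _⟩
  rw [hval, h1, hg, Algebra.TensorProduct.tmul_mul_tmul, mul_one] at hmul
  have h3 := congrArg (TensorProduct.rid A (Polynomial D)) hmul
  rw [TensorProduct.rid_tmul, TensorProduct.rid_tmul, one_smul, one_smul] at h3
  refine ⟨Polynomial.C ((-1 : D) ^ d) * g, ?_⟩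
  have h4 : (Polynomial.X : Polynomial D) ^ (n * d) =
      Polynomial.C ((-1 : D) ^ d) * (-((Polynomial.X : Polynomial D) ^ n)) ^ d := by
    have h5 : (-((Polynomial.X : Polynomial D) ^ n)) ^ d =
        Polynomial.C ((-1 : D) ^ d) * (Polynomial.X : Polynomial D) ^ (n * d) := by
      rw [neg_pow ((Polynomial.X : Polynomial D) ^ n) d, ← pow_mul, map_pow, map_neg, map_one]
    rw [h5, ← mul_assoc, ← map_mul, ← mul_pow, neg_mul_neg, one_mul, one_pow, map_one, one_mul]
  rw [h4, h3]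
  ring

/-- over a domain, if `u` is nilpotent modulo the kernel then the lower coefficients of `χ_u`
vanish -/
theorem coeff_eq_zero_of_pow_mem (F : PolLaw.MulLaw A B A d) (D : Type u) [CommRing D]
    [IsDomain D] [Algebra A D] (u : D ⊗[A] B) (n : ℕ) (hu : u ^ n ∈ PolLaw.kerBC F.law D)
    (i : ℕ) (hi : i < d) : (chi F D u).coeff i = 0 := by
  have hdvd := chi_dvd_of_pow_mem F D u n hu
  obtain ⟨m, hm, hassoc⟩ := (dvd_prime_pow Polynomial.prime_X _).mp hdvd
  obtain ⟨v, hv⟩ := hassoc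
  obtain ⟨r, hr, hrv⟩ := Polynomial.isUnit_iff.mp v.isUnit
  rw [← hrv] at hv
  have hcd := congrArg (fun p => Polynomial.coeff p d) hv
  simp only [Polynomial.coeff_mul_C, Polynomial.coeff_X_pow] at hcd
  rw [chi_coeff] at hcd
  have hmd : d = m := by
    by_contra hne
    rw [if_neg hne] at hcd
    exact (((isUnit_one.neg).pow d).mul hr).ne_zero hcd
  have hci := congrArg (fun p => Polynomial.coeff p i) hv
  simp only [Polynomial.coeff_mul_C, Polynomial.coeff_X_pow] at hci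
  rw [if_neg (by omega)] at hci
  exact (hr.mul_left_eq_zero).mp hci

end

section main
variable {A : Type u} [CommRing A] {B : Type u} [CommRing B] [Algebra A B] {d : ℕ}
  (F : PolLaw.MulLaw A B A d) (A' : Type u) [CommRing A'] [Algebra A A']

/-- the projection `A' ⊗ B → A' ⊗ (B ⧸ ker F)` -/
noncomputable def proj : A' ⊗[A] B →ₐ[A'] A' ⊗[A] (B ⧸ PolLaw.ker F.law) :=
  Algebra.TensorProduct.map (AlgHom.id A' A') (Ideal.Quotient.mkₐ A (PolLaw.ker F.law))

theorem proj_surjective : Function.Surjective (proj F A') :=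
  Algebra.TensorProduct.map_surjective _ _ (fun x => ⟨x, rfl⟩)
    (Ideal.Quotient.mkₐ_surjective A _)

theorem proj_eq (z : A' ⊗[A] B) : proj F A' z =
    Algebra.TensorProduct.map (AlgHom.id A A') (Ideal.Quotient.mkₐ A (PolLaw.ker F.law)) z := by
  induction z using TensorProduct.induction_on with
  | zero => simp
  | tmul a b => rfl
  | add x y hx hy => rw [map_add, map_add, hx, hy]

theorem ker_proj : RingHom.ker (proj F A') =
    (PolLaw.ker F.law).map (Algebra.TensorProduct.includeRight : B →ₐ[A] A' ⊗[A] B) := by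
  have h := Algebra.TensorProduct.lTensor_ker (A := A')
    (Ideal.Quotient.mkₐ A (PolLaw.ker F.law)) (Ideal.Quotient.mkₐ_surjective A _)
  have hk : RingHom.ker (Ideal.Quotient.mkₐ A (PolLaw.ker F.law)) = PolLaw.ker F.law := by
    ext x
    rw [RingHom.mem_ker, Ideal.Quotient.mkₐ_eq_mk, Ideal.Quotient.eq_zero_iff_mem]
  rw [hk] at h
  rw [← h]
  ext z
  rw [RingHom.mem_ker, RingHom.mem_ker, proj_eq]

theorem key (P : Ideal A') [P.IsPrime] (t : A' ⊗[A] B) (a : A') (ha : a ∉ P) (n : ℕ)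
    (h : algebraMap A' (A' ⊗[A] (B ⧸ PolLaw.ker F.law)) a * (proj F A' t) ^ n ∈
      P.map (algebraMap A' (A' ⊗[A] (B ⧸ PolLaw.ker F.law)))) (i : ℕ) (hi : i < d) :
    (chi F A' t).coeff i ∈ P := by
  obtain ⟨J0, hJ0⟩ : ∃ J0 : Ideal (A' ⊗[A] B), J0 = P.map (algebraMap A' (A' ⊗[A] B)) :=
    ⟨_, rfl⟩
  have hJ : P.map (algebraMap A' (A' ⊗[A] (B ⧸ PolLaw.ker F.law))) ≤ J0.map (proj F A') := by
    rw [Ideal.map_le_iff_le_comap]
    intro a' ha'
    rw [Ideal.mem_comap, ← (proj F A').commutes a']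
    refine Ideal.mem_map_of_mem _ ?_
    rw [hJ0]
    exact Ideal.mem_map_of_mem _ ha'
  have hw : algebraMap A' (A' ⊗[A] B) a * t ^ n ∈ J0 ⊔ RingHom.ker (proj F A') := by
    rw [← Ideal.comap_map_of_surjective' (proj F A') (proj_surjective F A') J0, Ideal.mem_comap,
      map_mul, map_pow, AlgHom.commutes]
    exact hJ h
  obtain ⟨x, hx, y, hy, hxy⟩ := Submodule.mem_sup.mp hw
  rw [ker_proj] at hy
  obtain ⟨θ, hθ⟩ : ∃ θ : A' ⊗[A] B →ₐ[A] (A' ⧸ P) ⊗[A] B,
      θ = Algebra.TensorProduct.map (Ideal.Quotient.mkₐ A P) (AlgHom.id A B) := ⟨_, rfl⟩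
  have hθa : ∀ a' : A', θ (algebraMap A' (A' ⊗[A] B) a') =
      (Ideal.Quotient.mk P a') ⊗ₜ[A] (1 : B) := by
    intro a'
    rw [Algebra.TensorProduct.algebraMap_apply, Algebra.algebraMap_self, RingHom.id_apply, hθ,
      Algebra.TensorProduct.map_tmul, map_one, Ideal.Quotient.mkₐ_eq_mk]
  have hθx : θ x = 0 := by
    have hle : J0 ≤ RingHom.ker θ := by
      rw [hJ0, Ideal.map_le_iff_le_comap]
      intro a' ha'
      rw [Ideal.mem_comap, RingHom.mem_ker, hθa, Ideal.Quotient.eq_zero_iff_mem.mpr ha',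
        TensorProduct.zero_tmul]
    exact hle hx
  have hθy : θ y ∈ PolLaw.kerBC F.law (A' ⧸ P) := by
    rw [hθ]
    exact kerBC_map F.law (Ideal.Quotient.mkₐ A P) y
      (Groth.Agent.S13699.map_ker_le_kerBC F.law A' hy)
  have hθw : ((Ideal.Quotient.mk P a) ⊗ₜ[A] (1 : B)) * (θ t) ^ n = θ y := by
    have h5 := congrArg θ hxy
    rw [map_add, hθx, zero_add, map_mul, map_pow, hθa] at h5
    exact h5.symm
  have hmk : Ideal.Quotient.mk P a ≠ 0 := fun h0 => ha (Ideal.Quotient.eq_zero_iff_mem.mp h0)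
  have hsat : (θ t) ^ n ∈ PolLaw.kerBC F.law (A' ⧸ P) := by
    apply kerBC_saturated F (A' ⧸ P) (Ideal.Quotient.mk P a) hmk
    rw [hθw]
    exact hθy
  have hz := coeff_eq_zero_of_pow_mem F (A' ⧸ P) (θ t) n hsat i hi
  have hmap : chi F (A' ⧸ P) (θ t) =
      Polynomial.mapAlgHom (Ideal.Quotient.mkₐ A P) (chi F A' t) := by
    rw [hθ]
    exact chi_map F (Ideal.Quotient.mkₐ A P) t
  rw [hmap, Polynomial.coe_mapAlgHom, Polynomial.coeff_map] at hz
  have hz' : Ideal.Quotient.mk P ((chi F A' t).coeff i) = 0 := hz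
  exact Ideal.Quotient.eq_zero_iff_mem.mp hz'

theorem image_basicOpen (t : A' ⊗[A] B) :
    PrimeSpectrum.comap (algebraMap A' (A' ⊗[A] (B ⧸ PolLaw.ker F.law))) ''
      (PrimeSpectrum.basicOpen (proj F A' t) :
        Set (PrimeSpectrum (A' ⊗[A] (B ⧸ PolLaw.ker F.law)))) =
    {p | ∃ i, i < d ∧ (chi F A' t).coeff i ∉ p.asIdeal} := by
  ext p
  constructor
  · rintro ⟨q, hq, rfl⟩
    rw [Set.mem_ofPred_eq]
    by_contra hcon
    push_neg at hcon
    have hq' : proj F A' t ∉ q.asIdeal := hq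
    apply hq'
    have h0 : Polynomial.aeval (proj F A' t) (chi F A' t) = 0 := by
      rw [Polynomial.aeval_algHom_apply, ← RingHom.mem_ker, ker_proj]
      exact ch_ext F A' t
    rw [Polynomial.aeval_def,
      Polynomial.eval₂_eq_sum_range' _ (Nat.lt_succ_of_le (chi_natDegree_le F A' t)),
      Finset.sum_range_succ, chi_coeff] at h0
    have hsum : ∑ i ∈ Finset.range d,
        algebraMap A' (A' ⊗[A] (B ⧸ PolLaw.ker F.law)) ((chi F A' t).coeff i) *
          (proj F A' t) ^ i ∈ q.asIdeal := by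
      refine Ideal.sum_mem _ fun i hi => ?_
      exact Ideal.mul_mem_right _ _ (hcon i (Finset.mem_range.mp hi))
    have hd : algebraMap A' (A' ⊗[A] (B ⧸ PolLaw.ker F.law)) ((-1 : A') ^ d) *
        (proj F A' t) ^ d ∈ q.asIdeal := by
      have e1 : algebraMap A' (A' ⊗[A] (B ⧸ PolLaw.ker F.law)) ((-1 : A') ^ d) *
          (proj F A' t) ^ d =
          -∑ i ∈ Finset.range d,
            algebraMap A' (A' ⊗[A] (B ⧸ PolLaw.ker F.law)) ((chi F A' t).coeff i) *
              (proj F A' t) ^ i :=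
        eq_neg_of_add_eq_zero_right h0
      rw [e1]
      exact neg_mem hsum
    have hd' : (proj F A' t) ^ d ∈ q.asIdeal := by
      have e2 : (proj F A' t) ^ d =
          algebraMap A' (A' ⊗[A] (B ⧸ PolLaw.ker F.law)) ((-1 : A') ^ d) *
            (algebraMap A' (A' ⊗[A] (B ⧸ PolLaw.ker F.law)) ((-1 : A') ^ d) *
              (proj F A' t) ^ d) := by
        rw [← mul_assoc, ← map_mul, ← mul_pow, neg_mul_neg, one_mul, one_pow, map_one, one_mul]
      rw [e2]
      exact Ideal.mul_mem_left _ _ hd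
    exact q.isPrime.mem_of_pow_mem d hd'
  · rintro ⟨i, hi, hci⟩
    haveI := p.isPrime
    obtain ⟨J, hJ⟩ : ∃ J : Ideal (A' ⊗[A] (B ⧸ PolLaw.ker F.law)),
        J = p.asIdeal.map (algebraMap A' (A' ⊗[A] (B ⧸ PolLaw.ker F.law))) := ⟨_, rfl⟩
    obtain ⟨S, hS⟩ : ∃ S : Submonoid (A' ⊗[A] (B ⧸ PolLaw.ker F.law)),
        S = Submonoid.map (algebraMap A' (A' ⊗[A] (B ⧸ PolLaw.ker F.law))) p.asIdeal.primeCompl ⊔
          Submonoid.powers (proj F A' t) := ⟨_, rfl⟩
    have hdisj : Disjoint (J : Set (A' ⊗[A] (B ⧸ PolLaw.ker F.law)))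
        (S : Set (A' ⊗[A] (B ⧸ PolLaw.ker F.law))) := by
      rw [Set.disjoint_left]
      intro z hzJ hzS
      rw [SetLike.mem_coe, hS] at hzS
      obtain ⟨y, hy, w, hw, rfl⟩ := Submonoid.mem_sup.mp hzS
      obtain ⟨a, ha, rfl⟩ := Submonoid.mem_map.mp hy
      obtain ⟨n, rfl⟩ := (Submonoid.mem_powers_iff _ _).mp hw
      rw [SetLike.mem_coe, hJ] at hzJ
      exact hci (key F A' p.asIdeal t a ha n hzJ i hi)
    obtain ⟨Q, hQ, hJQ, hQS⟩ := Ideal.exists_le_prime_disjoint J S hdisj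
    refine ⟨⟨Q, hQ⟩, ?_, ?_⟩
    · show proj F A' t ∉ Q
      intro h
      refine Set.disjoint_left.mp hQS h ?_
      rw [SetLike.mem_coe, hS]
      exact Submonoid.mem_sup_right (Submonoid.mem_powers _)
    · apply PrimeSpectrum.ext
      show Q.comap (algebraMap A' (A' ⊗[A] (B ⧸ PolLaw.ker F.law))) = p.asIdeal
      apply le_antisymm
      · intro a ha
        by_contra hne
        refine Set.disjoint_left.mp hQS ha ?_
        rw [SetLike.mem_coe, hS]
        exact Submonoid.mem_sup_left (Submonoid.mem_map_of_mem _ hne)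
      · rw [hJ] at hJQ
        exact Ideal.map_le_iff_le_comap.mp hJQ

theorem isOpenMap_comap :
    IsOpenMap (PrimeSpectrum.comap (algebraMap A' (A' ⊗[A] (B ⧸ PolLaw.ker F.law)))) := by
  rw [PrimeSpectrum.isTopologicalBasis_basic_opens.isOpenMap_iff]
  rintro _ ⟨s, rfl⟩
  obtain ⟨t, rfl⟩ := proj_surjective F A' s
  show IsOpen (PrimeSpectrum.comap (algebraMap A' (A' ⊗[A] (B ⧸ PolLaw.ker F.law))) ''
      (PrimeSpectrum.basicOpen (proj F A' t) :
        Set (PrimeSpectrum (A' ⊗[A] (B ⧸ PolLaw.ker F.law)))))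
  rw [image_basicOpen]
  have e : {p : PrimeSpectrum A' | ∃ i, i < d ∧ (chi F A' t).coeff i ∉ p.asIdeal} =
      ⋃ i ∈ Finset.range d,
        (PrimeSpectrum.basicOpen ((chi F A' t).coeff i) : Set (PrimeSpectrum A')) := by
    ext p
    simp only [Set.mem_ofPred_eq, Set.mem_iUnion, Finset.mem_range, SetLike.mem_coe,
      PrimeSpectrum.mem_basicOpen, exists_prop]
  rw [e]
  exact isOpen_biUnion fun i _ => (PrimeSpectrum.basicOpen _).isOpen

end main

end Groth.Agent.Lib.helper6.CHOpen
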