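import Mathlib
import Groth.Prelude.Def_PolLaw
import Groth.Prelude.Def_PolLaw2
import Groth.Agent.Lib.Helper6.CHLaw
import Groth.Agent.Lib.Helper6.CHPoly
import Groth.Agent.Lib.Helper6.CHMonic2
import Groth.Agent.S13695

/-!
# The image of a family of zero-cycles of degree `d` has at most `d` points in every fibre
(helper6)
-/

set_option autoImplicit false
set_option linter.unusedSectionVars false
set_option linter.unusedVariables false

universe u

open scoped TensorProduct
open Function

namespace Groth.Agent.Lib.helper6.CHPts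

open Groth.Agent.Lib.helper6.CHLaw Groth.Agent.Lib.helper6.CHPoly Groth.Agent.Lib.helper6.CHMonic2

section
variable {A : Type u} [CommRing A] {B : Type u} [CommRing B] [Algebra A B] {d : ℕ}

/-- Over an infinite field `K`, a quotient of `K ⊗ B` killing `ker F` has at most `d` maximal
ideals. -/
theorem card_le_of_maximal {K : Type u} [Field K] [Algebra A K] [Infinite K]
    (F : PolLaw.MulLaw A B A d) {R : Type u} [CommRing R] [Algebra K R]
    (θ : K ⊗[A] B →ₐ[K] R) (hθ : Function.Surjective θ)
    (hker : ∀ b ∈ PolLaw.ker F.law, θ ((1 : K) ⊗ₜ[A] b) = 0)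
    (s : Finset (Ideal R)) (hs : ∀ I ∈ s, I.IsMaximal) : s.card ≤ d := by
  classical
  by_contra hcon
  rw [not_le] at hcon
  have hcop : Pairwise (IsCoprime on (fun i : s => (i : Ideal R))) := by
    intro i j hij
    have hne : (i : Ideal R) ≠ j := fun h => hij (Subtype.ext h)
    exact Ideal.isCoprime_iff_sup_eq.mpr ((hs i i.2).coprime_of_ne (hs j j.2) hne)
  let c : s → K := fun i => Infinite.natEmbedding K (Fintype.equivFin s i)
  have hc : Function.Injective c := fun i j h =>
    (Fintype.equivFin s).injective (Fin.val_injective ((Infinite.natEmbedding K).injective h))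
  obtain ⟨r, hr⟩ := Ideal.exists_forall_sub_mem_ideal hcop (fun i => algebraMap K R (c i))
  obtain ⟨t, rfl⟩ := hθ r
  have hχ0 : Polynomial.aeval (θ t) (chi F K t) = 0 := by
    rw [Polynomial.aeval_algHom_apply]
    have hle : (PolLaw.ker F.law).map
        (Algebra.TensorProduct.includeRight : B →ₐ[A] K ⊗[A] B) ≤ RingHom.ker θ := by
      rw [Ideal.map_le_iff_le_comap]
      intro b hb
      rw [Ideal.mem_comap, RingHom.mem_ker]
      exact hker b hb
    exact hle (ch_ext F K t)
  have heval : ∀ i : s, (chi F K t).eval (c i) = 0 := by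
    intro i
    by_contra hne
    have hdvd := Polynomial.sub_dvd_eval_sub (algebraMap K R (c i)) (θ t)
      ((chi F K t).map (algebraMap K R))
    have hav : Polynomial.aeval (algebraMap K R (c i)) (chi F K t) =
        algebraMap K R ((chi F K t).eval (c i)) := by
      rw [Polynomial.aeval_algebraMap_apply]
      simp
    rw [Polynomial.eval_map_algebraMap, Polynomial.eval_map_algebraMap, hχ0, sub_zero, hav]
      at hdvd
    have hmem : algebraMap K R ((chi F K t).eval (c i)) ∈ (i : Ideal R) := by
      obtain ⟨q, hq⟩ := hdvd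
      rw [hq]
      apply Ideal.mul_mem_right
      have h1 := hr i
      rw [← neg_sub]
      exact neg_mem h1
    have hunit : IsUnit (algebraMap K R ((chi F K t).eval (c i))) :=
      (IsUnit.mk0 _ hne).map (algebraMap K R)
    exact (hs i i.2).ne_top (Ideal.eq_top_of_isUnit_mem _ hmem hunit)
  have hzero := Polynomial.eq_zero_of_natDegree_lt_card_of_eval_eq_zero (chi F K t) hc heval (by
    rw [Fintype.card_coe]
    exact lt_of_le_of_lt (chi_natDegree_le F K t) hcon)
  exact chi_ne_zero F K t hzero

/-- the fibre of the image over any field has at most `d` points -/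
theorem fibre_card_le (F : PolLaw.MulLaw A B A d) (K : Type u) [Field K] [Algebra A K]
    (s : Finset (PrimeSpectrum (K ⊗[A] (B ⧸ PolLaw.ker F.law)))) : s.card ≤ d := by
  classical
  haveI hint : Algebra.IsIntegral A (B ⧸ PolLaw.ker F.law) := Groth.Agent.S13695.result F
  -- bound for the algebraic closure
  have hR' : ∀ s' : Finset (Ideal (AlgebraicClosure K ⊗[A] (B ⧸ PolLaw.ker F.law))),
      (∀ I ∈ s', I.IsMaximal) → s'.card ≤ d := by
    intro s' hs'
    refine card_le_of_maximal (K := AlgebraicClosure K) F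
      (Algebra.TensorProduct.map (AlgHom.id (AlgebraicClosure K) (AlgebraicClosure K))
        (Ideal.Quotient.mkₐ A (PolLaw.ker F.law))) ?_ ?_ s' hs'
    · intro y
      obtain ⟨x, hx⟩ := LinearMap.lTensor_surjective (AlgebraicClosure K)
        (g := (Ideal.Quotient.mkₐ A (PolLaw.ker F.law)).toLinearMap)
        (Ideal.Quotient.mkₐ_surjective A _) y
      refine ⟨x, ?_⟩
      rw [← PolLaw.lTensor_algHom_apply]
      exact hx
    · intro b hb
      rw [Algebra.TensorProduct.map_tmul, Ideal.Quotient.mkₐ_eq_mk,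
        Ideal.Quotient.eq_zero_iff_mem.mpr hb, TensorProduct.tmul_zero]
  -- the comparison map
  let g : K ⊗[A] (B ⧸ PolLaw.ker F.law) →ₐ[A] AlgebraicClosure K ⊗[A] (B ⧸ PolLaw.ker F.law) :=
    Algebra.TensorProduct.map (IsScalarTower.toAlgHom A K (AlgebraicClosure K))
      (AlgHom.id A (B ⧸ PolLaw.ker F.law))
  have hginj : Function.Injective g := by
    obtain ⟨σ, hσ⟩ := LinearMap.exists_leftInverse_of_injective
      (Algebra.linearMap K (AlgebraicClosure K))
      (LinearMap.ker_eq_bot.mpr (algebraMap K (AlgebraicClosure K)).injective)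
    have hleft : ∀ x, (σ.restrictScalars A).rTensor (B ⧸ PolLaw.ker F.law) (g x) = x := by
      intro x
      induction x using TensorProduct.induction_on with
      | zero => simp
      | tmul k b =>
        have h1 := LinearMap.congr_fun hσ k
        simp only [LinearMap.comp_apply, Algebra.linearMap_apply, LinearMap.id_apply] at h1
        simp only [g, Algebra.TensorProduct.map_tmul, IsScalarTower.coe_toAlgHom',
          AlgHom.id_apply, LinearMap.rTensor_tmul, LinearMap.restrictScalars_apply, h1]
      | add x y hx hy => simp only [map_add, hx, hy]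
    exact Function.LeftInverse.injective hleft
  have hgint : g.toRingHom.IsIntegral := by
    intro y
    induction y using TensorProduct.induction_on with
    | zero => exact g.toRingHom.isIntegralElem_zero
    | tmul k' b =>
      have h1 : (k' ⊗ₜ[A] b : AlgebraicClosure K ⊗[A] (B ⧸ PolLaw.ker F.law)) =
          (k' ⊗ₜ[A] (1 : B ⧸ PolLaw.ker F.law)) * g.toRingHom ((1 : K) ⊗ₜ[A] b) := by
        simp [g]
      rw [h1]
      refine RingHom.IsIntegralElem.mul _ ?_ g.toRingHom.isIntegralElem_map
      obtain ⟨p, hpm, hp⟩ := (Algebra.IsAlgebraic.isAlgebraic (R := K) k').isIntegral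
      refine ⟨p.map (algebraMap K (K ⊗[A] (B ⧸ PolLaw.ker F.law))), hpm.map _, ?_⟩
      rw [Polynomial.eval₂_map]
      have h2 : g.toRingHom.comp (algebraMap K (K ⊗[A] (B ⧸ PolLaw.ker F.law))) =
          (Algebra.TensorProduct.includeLeftRingHom :
            AlgebraicClosure K →+* AlgebraicClosure K ⊗[A] (B ⧸ PolLaw.ker F.law)).comp
            (algebraMap K (AlgebraicClosure K)) := by
        ext k
        simp [g]
      have h3 := Polynomial.hom_eval₂ p (algebraMap K (AlgebraicClosure K))
        (Algebra.TensorProduct.includeLeftRingHom :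
          AlgebraicClosure K →+* AlgebraicClosure K ⊗[A] (B ⧸ PolLaw.ker F.law)) k'
      rw [hp, map_zero] at h3
      rw [h2]
      exact h3.symm
    | add x y hx hy => exact RingHom.IsIntegralElem.add _ hx hy
  letI : Algebra (K ⊗[A] (B ⧸ PolLaw.ker F.law))
      (AlgebraicClosure K ⊗[A] (B ⧸ PolLaw.ker F.law)) := g.toRingHom.toAlgebra
  haveI : Algebra.IsIntegral (K ⊗[A] (B ⧸ PolLaw.ker F.law))
      (AlgebraicClosure K ⊗[A] (B ⧸ PolLaw.ker F.law)) := ⟨hgint⟩
  haveI : Algebra.IsIntegral K (K ⊗[A] (B ⧸ PolLaw.ker F.law)) := inferInstance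
  have hex : ∀ 𝔭 : PrimeSpectrum (K ⊗[A] (B ⧸ PolLaw.ker F.law)),
      ∃ M : Ideal (AlgebraicClosure K ⊗[A] (B ⧸ PolLaw.ker F.law)),
        M.IsMaximal ∧ M.comap g.toRingHom = 𝔭.asIdeal := by
    intro 𝔭
    haveI := 𝔭.isPrime
    have hpmax : 𝔭.asIdeal.IsMaximal := by
      have hbot : 𝔭.asIdeal.comap (algebraMap K (K ⊗[A] (B ⧸ PolLaw.ker F.law))) = ⊥ := by
        rcases Ideal.eq_bot_or_top
          (𝔭.asIdeal.comap (algebraMap K (K ⊗[A] (B ⧸ PolLaw.ker F.law)))) with h | h
        · exact h
        · exact absurd h (Ideal.IsPrime.ne_top inferInstance)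
      exact Ideal.isMaximal_of_isIntegral_of_isMaximal_comap (R := K) 𝔭.asIdeal
        (hbot ▸ Ideal.bot_isMaximal)
    have hle : (⊥ : Ideal (AlgebraicClosure K ⊗[A] (B ⧸ PolLaw.ker F.law))).comap
        (algebraMap (K ⊗[A] (B ⧸ PolLaw.ker F.law))
          (AlgebraicClosure K ⊗[A] (B ⧸ PolLaw.ker F.law))) ≤ 𝔭.asIdeal := by
      intro x hx
      rw [Ideal.mem_comap, Ideal.mem_bot] at hx
      have hx0 : x = 0 := hginj (hx.trans (map_zero g).symm)
      rw [hx0]
      exact zero_mem _
    obtain ⟨Q, _, hQprime, hQ⟩ := Ideal.exists_ideal_over_prime_of_isIntegral 𝔭.asIdeal ⊥ hle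
    obtain ⟨M, hMmax, hQM⟩ := Ideal.exists_le_maximal Q hQprime.ne_top
    refine ⟨M, hMmax, ?_⟩
    have h1 : 𝔭.asIdeal ≤ M.comap g.toRingHom := by
      rw [← hQ]
      exact Ideal.comap_mono hQM
    have h2 : M.comap g.toRingHom ≠ ⊤ := by
      haveI := hMmax.isPrime
      exact Ideal.IsPrime.ne_top (Ideal.comap_isPrime g.toRingHom M)
    exact (hpmax.eq_of_le h2 h1).symm
  choose Φ hΦmax hΦcomap using hex
  have hΦinj : Function.Injective Φ := by
    intro 𝔭 𝔮 h
    apply PrimeSpectrum.ext
    rw [← hΦcomap 𝔭, ← hΦcomap 𝔮, h]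
  have h3 := hR' (s.image Φ) (by
    intro I hI
    obtain ⟨𝔭, _, rfl⟩ := Finset.mem_image.mp hI
    exact hΦmax 𝔭)
  rwa [Finset.card_image_of_injective s hΦinj] at h3

end

end Groth.Agent.Lib.helper6.CHPts
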