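import Mathlib
import Groth.Prelude.Def_PolLaw
import Groth.Prelude.Def_PolLaw2
import Groth.Agent.Lib.Helper6.CHLaw

/-!
# The kernel of a multiplicative law can be tested on polynomial rings; over a domain it is
saturated (helper6)
-/

set_option autoImplicit false
set_option linter.unusedSectionVars false
set_option linter.unusedVariables false

universe u

open scoped TensorProduct

namespace Groth.Agent.Lib.helper6.CHSat

open Groth.Agent.Lib.helper6.CHLaw

section
variable {A : Type u} [CommRing A] {B : Type u} [CommRing B] [Algebra A B] {d : ℕ}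

theorem mem_ker_of_poly {C : Type u} [CommRing C] [Algebra A C] (F : B →ₚₗ[A] C) (u : B)
    (h : ∀ (σ : Type u) (x w : MvPolynomial σ A ⊗[A] B),
      F.toFun' (MvPolynomial σ A) (x + w * ((1 : MvPolynomial σ A) ⊗ₜ[A] u)) =
        F.toFun' (MvPolynomial σ A) x) :
    u ∈ PolLaw.ker F := by
  rw [mem_ker_iff]
  intro S _ _ x w
  let π : MvPolynomial S A →ₐ[A] S := MvPolynomial.aeval id
  have hπ : Function.Surjective π := fun s => ⟨MvPolynomial.X s, by simp [π]⟩
  have hπ0 : Function.Surjective π.toLinearMap := hπ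
  have hπ' : Function.Surjective (π.toLinearMap.rTensor B) := LinearMap.rTensor_surjective B hπ0
  obtain ⟨x₀, rfl⟩ := hπ' x
  obtain ⟨w₀, rfl⟩ := hπ' w
  have h0 := h S x₀ w₀
  have h1 := congrArg (π.toLinearMap.rTensor C) h0
  rw [PolynomialLaw.isCompat_apply', PolynomialLaw.isCompat_apply'] at h1
  have e : π.toLinearMap.rTensor B (x₀ + w₀ * ((1 : MvPolynomial S A) ⊗ₜ[A] u)) =
      π.toLinearMap.rTensor B x₀ + π.toLinearMap.rTensor B w₀ * ((1 : S) ⊗ₜ[A] u) := by
    rw [PolLaw.rTensor_algHom_apply, PolLaw.rTensor_algHom_apply, PolLaw.rTensor_algHom_apply,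
      map_add, map_mul, Algebra.TensorProduct.map_tmul, map_one, AlgHom.id_apply]
  rw [e] at h1
  exact h1

theorem smul_cancel_domain [IsDomain A] (σ : Type u) (p : MvPolynomial σ A) (hp : p ≠ 0)
    (P Q : MvPolynomial σ A ⊗[A] A) (h : p • P = p • Q) : P = Q := by
  let e := TensorProduct.AlgebraTensorModule.rid A (MvPolynomial σ A) (MvPolynomial σ A)
  have h' := congrArg e h
  rw [map_smul, map_smul, smul_eq_mul, smul_eq_mul] at h'
  exact e.injective (mul_left_cancel₀ hp h')

/-- over a domain, `ker F` is saturated with respect to the nonzero elements of `A` -/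
theorem ker_saturated [IsDomain A] (F : PolLaw.MulLaw A B A d) (a : A) (ha : a ≠ 0) (u : B)
    (hu : algebraMap A B a * u ∈ PolLaw.ker F.law) : u ∈ PolLaw.ker F.law := by
  apply mem_ker_of_poly
  intro σ x w
  have hu' := (mem_ker_iff F.law _).mp hu (MvPolynomial σ A)
  have hâ : algebraMap A (MvPolynomial σ A) a ≠ 0 := by
    rw [MvPolynomial.algebraMap_eq]
    exact (map_ne_zero_iff _ (MvPolynomial.C_injective σ A)).mpr ha
  have e0 : algebraMap A (MvPolynomial σ A) a • ((1 : MvPolynomial σ A) ⊗ₜ[A] u) =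
      (1 : MvPolynomial σ A) ⊗ₜ[A] (algebraMap A B a * u) := by
    rw [TensorProduct.smul_tmul', smul_eq_mul, mul_one, Algebra.algebraMap_eq_smul_one,
      TensorProduct.smul_tmul, Algebra.smul_def]
  have e1 : algebraMap A (MvPolynomial σ A) a • (x + w * ((1 : MvPolynomial σ A) ⊗ₜ[A] u)) =
      algebraMap A (MvPolynomial σ A) a • x +
        w * ((1 : MvPolynomial σ A) ⊗ₜ[A] (algebraMap A B a * u)) := by
    rw [smul_add, ← mul_smul_comm, e0]
  have h3 := F.homog _ (algebraMap A (MvPolynomial σ A) a)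
    (x + w * ((1 : MvPolynomial σ A) ⊗ₜ[A] u))
  have h4 := F.homog _ (algebraMap A (MvPolynomial σ A) a) x
  rw [e1, hu' _ w, h4] at h3
  exact (smul_cancel_domain σ _ (pow_ne_zero d hâ) _ _ h3).symm

end

end Groth.Agent.Lib.helper6.CHSat
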