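import Mathlib
import Groth.Prelude.Def_PolLaw
import Groth.Prelude.Def_PolLaw2
import Groth.Agent.Lib.Helper6.CHLaw
import Groth.Agent.Lib.Helper6.CHPoly
import Groth.Agent.S13699

/-!
# Kernel of a polynomial law and finite étale base change `A → A[X]/(g)` (helper6)

* `exists_splitting`: a monic polynomial splits into linear factors over a ring `A''` having an
  `A`-linear retraction `A'' → A`.
* `isUnit_sub_of_separable`: the roots of a separable split polynomial differ by units.
* `mem_of_vandermonde`: Vandermonde elimination modulo an ideal.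
* `mem_ker_of_one_tmul_mem_kerBC`: descent of kernel membership along a retractable extension.
* `kerBC_adjoinRoot_le`: `kerBC F (A[X]/(g)) ≤ ext (ker F)` for `g` monic separable.
-/

set_option autoImplicit false
set_option linter.unusedSectionVars false
set_option linter.unusedVariables false

universe u

open scoped TensorProduct
open Polynomial

namespace Groth.Agent.Lib.helper6.CHSplit

open Groth.Agent.Lib.helper6.CHLaw Groth.Agent.Lib.helper6.CHPoly

theorem exists_splitting (n : ℕ) : ∀ (A : Type u) [CommRing A] (g : Polynomial A), g.Monic →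
    g.natDegree = n →
    ∃ (A'' : Type u) (_ : CommRing A'') (_ : Algebra A A'') (ρ : A'' →ₗ[A] A) (r : Fin n → A''),
      ρ 1 = 1 ∧ g.map (algebraMap A A'') = ∏ i, (Polynomial.X - Polynomial.C (r i)) := by
  induction n with
  | zero =>
    intro A _ g hg hdeg
    refine ⟨A, inferInstance, Algebra.id A, LinearMap.id, Fin.elim0, rfl, ?_⟩
    have h1 : g = 1 := hg.natDegree_eq_zero.mp hdeg
    rw [h1]
    simp
  | succ n ih =>
    intro A _ g hg hdeg
    rcases subsingleton_or_nontrivial A with hA | hA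
    · exact ⟨A, inferInstance, Algebra.id A, LinearMap.id, fun _ => 0, rfl,
        Subsingleton.elim _ _⟩
    · obtain ⟨x, hx⟩ : ∃ x : AdjoinRoot g, x = AdjoinRoot.root g := ⟨_, rfl⟩
      have hroot : (g.map (AdjoinRoot.of g)).IsRoot x := by
        rw [hx]
        exact AdjoinRoot.isRoot_root g
      obtain ⟨ρ₁, hρ₁def⟩ : ∃ ρ₁ : AdjoinRoot g →ₗ[A] A,
          ρ₁ = (Polynomial.lcoeff A 0).comp (AdjoinRoot.modByMonicHom hg) := ⟨_, rfl⟩
      have hρ₁ : ρ₁ 1 = 1 := by
        have h1 : (1 : AdjoinRoot g) = AdjoinRoot.mk g 1 := (map_one _).symm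
        have hlt : (1 : Polynomial A).degree < g.degree := by
          rw [Polynomial.degree_one, Polynomial.degree_eq_natDegree hg.ne_zero, hdeg]
          exact_mod_cast Nat.succ_pos n
        rw [hρ₁def, LinearMap.comp_apply, h1, AdjoinRoot.modByMonicHom_mk,
          (Polynomial.modByMonic_eq_self_iff hg).mpr hlt, Polynomial.lcoeff_apply,
          Polynomial.coeff_one_zero]
      haveI : Nontrivial (AdjoinRoot g) := by
        refine ⟨⟨0, 1, fun h01 => ?_⟩⟩
        have h2 := congrArg ρ₁ h01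
        rw [map_zero, hρ₁] at h2
        exact zero_ne_one h2
      obtain ⟨g₁, hg₁def⟩ : ∃ g₁ : Polynomial (AdjoinRoot g),
          g₁ = g.map (AdjoinRoot.of g) /ₘ (Polynomial.X - Polynomial.C x) := ⟨_, rfl⟩
      have hfac : (Polynomial.X - Polynomial.C x) * g₁ = g.map (AdjoinRoot.of g) := by
        rw [hg₁def]
        exact Polynomial.mul_divByMonic_eq_iff_isRoot.mpr hroot
      have hg₁ : g₁.Monic :=
        Polynomial.Monic.of_mul_monic_left (Polynomial.monic_X_sub_C x)
          (by rw [hfac]; exact hg.map _)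
      have hdeg₁ : g₁.natDegree = n := by
        have h3 := congrArg Polynomial.natDegree hfac
        rw [(Polynomial.monic_X_sub_C x).natDegree_mul hg₁, Polynomial.natDegree_X_sub_C,
          hg.natDegree_map, hdeg] at h3
        omega
      obtain ⟨A'', instCR, instAlg, ρ, r, hρ, hr⟩ := ih (AdjoinRoot g) g₁ hg₁ hdeg₁
      letI instA : Algebra A A'' :=
        ((algebraMap (AdjoinRoot g) A'').comp (algebraMap A (AdjoinRoot g))).toAlgebra
      haveI : IsScalarTower A (AdjoinRoot g) A'' :=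
        IsScalarTower.of_algebraMap_eq (fun a => rfl)
      refine ⟨A'', instCR, instA, ρ₁.comp (ρ.restrictScalars A),
        Fin.cons (algebraMap (AdjoinRoot g) A'' x) r, ?_, ?_⟩
      · rw [LinearMap.comp_apply, LinearMap.restrictScalars_apply, hρ, hρ₁]
      · rw [Fin.prod_univ_succ, Fin.cons_zero]
        simp only [Fin.cons_succ]
        rw [← hr, IsScalarTower.algebraMap_eq A (AdjoinRoot g) A'', ← Polynomial.map_map,
          AdjoinRoot.algebraMap_eq, ← hfac, Polynomial.map_mul, Polynomial.map_sub,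
          Polynomial.map_X, Polynomial.map_C]

theorem isUnit_sub_of_separable {R : Type*} [CommRing R] {n : ℕ} (p : Polynomial R)
    (hsep : p.Separable) (r : Fin n → R)
    (hp : p = ∏ i, (Polynomial.X - Polynomial.C (r i))) (i k : Fin n) (hik : i ≠ k) :
    IsUnit (r i - r k) := by
  obtain ⟨a, b, hab⟩ := hsep
  obtain ⟨h, hh⟩ : ∃ h : Polynomial R,
      h = ∏ l ∈ Finset.univ.erase i, (Polynomial.X - Polynomial.C (r l)) := ⟨_, rfl⟩
  have hi : p = (Polynomial.X - Polynomial.C (r i)) * h := by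
    rw [hp, hh]
    exact (Finset.mul_prod_erase Finset.univ (fun l => (Polynomial.X - Polynomial.C (r l) : Polynomial R))
      (Finset.mem_univ i)).symm
  have hder : (Polynomial.derivative p).eval (r i) = h.eval (r i) := by
    rw [hi, Polynomial.derivative_mul]
    simp
  have hpe : p.eval (r i) = 0 := by
    rw [hi]
    simp
  have h1 := congrArg (Polynomial.eval (r i)) hab
  rw [Polynomial.eval_add, Polynomial.eval_mul, Polynomial.eval_mul, hpe, mul_zero, zero_add,
    hder, Polynomial.eval_one] at h1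
  have hu : IsUnit (h.eval (r i)) := IsUnit.of_mul_eq_one_right _ h1
  have hdvd : (r i - r k) ∣ h.eval (r i) := by
    rw [hh, Polynomial.eval_prod]
    have e : (Polynomial.X - Polynomial.C (r k) : Polynomial R).eval (r i) = r i - r k := by
      simp
    rw [← e]
    exact Finset.dvd_prod_of_mem (fun l => (Polynomial.X - Polynomial.C (r l) : Polynomial R).eval (r i))
      (Finset.mem_erase.mpr ⟨hik.symm, Finset.mem_univ k⟩)
  exact isUnit_of_dvd_unit hdvd hu

theorem mem_of_vandermonde {E : Type*} [CommRing E] (K : Ideal E) {n : ℕ} (v : Fin n → E)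
    (hv : ∀ i k, i ≠ k → IsUnit (v i - v k)) (c : Fin n → E)
    (h : ∀ i, ∑ j : Fin n, v i ^ (j : ℕ) * c j ∈ K) : ∀ j, c j ∈ K := by
  have hdet : IsUnit (Matrix.vandermonde v).det := by
    rw [Matrix.det_vandermonde]
    refine Finset.prod_induction _ IsUnit (fun _ _ => IsUnit.mul) isUnit_one fun i _ => ?_
    refine Finset.prod_induction _ IsUnit (fun _ _ => IsUnit.mul) isUnit_one fun j hj => ?_
    exact hv j i (ne_of_gt (Finset.mem_Ioi.mp hj))
  have hMc : ∀ i, (Matrix.mulVec (Matrix.vandermonde v) c) i ∈ K := by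
    intro i
    have e : (Matrix.mulVec (Matrix.vandermonde v) c) i = ∑ j : Fin n, v i ^ (j : ℕ) * c j := by
      simp [Matrix.mulVec, dotProduct, Matrix.vandermonde_apply]
    rw [e]
    exact h i
  have hc : c = Matrix.mulVec (Matrix.vandermonde v)⁻¹ (Matrix.mulVec (Matrix.vandermonde v) c) := by
    rw [Matrix.mulVec_mulVec, Matrix.nonsing_inv_mul _ hdet, Matrix.one_mulVec]
  intro j
  rw [hc]
  show ∑ i, (Matrix.vandermonde v)⁻¹ j i * (Matrix.mulVec (Matrix.vandermonde v) c) i ∈ K
  exact Ideal.sum_mem _ fun i _ => Ideal.mul_mem_left _ _ (hMc i)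

section descent
variable {A : Type u} [CommRing A] {B : Type u} [CommRing B] [Algebra A B]

theorem mem_ker_of_one_tmul_mem_kerBC {C : Type u} [CommRing C] [Algebra A C] (F : B →ₚₗ[A] C)
    (A'' : Type u) [CommRing A''] [Algebra A A''] (ρ : A'' →ₗ[A] A) (hρ : ρ 1 = 1) (b : B)
    (hb : (1 : A'') ⊗ₜ[A] b ∈ PolLaw.kerBC F A'') : b ∈ PolLaw.ker F := by
  rw [mem_ker_iff]
  intro S _ _ x w
  obtain ⟨ι, hι⟩ : ∃ ι : S →ₐ[A] S ⊗[A] A'', ι = Algebra.TensorProduct.includeLeft := ⟨_, rfl⟩
  obtain ⟨ψ, hψ⟩ : ∃ ψ : A'' →ₐ[A] S ⊗[A] A'', ψ = Algebra.TensorProduct.includeRight :=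
    ⟨_, rfl⟩
  have h := (mem_kerBC_iff F A'' _).mp hb (S ⊗[A] A'') ψ (ι.toLinearMap.rTensor B x)
    (ι.toLinearMap.rTensor B w)
  have e : ι.toLinearMap.rTensor B x + ι.toLinearMap.rTensor B w *
      Algebra.TensorProduct.map ψ (AlgHom.id A B) ((1 : A'') ⊗ₜ[A] b) =
      ι.toLinearMap.rTensor B (x + w * ((1 : S) ⊗ₜ[A] b)) := by
    rw [PolLaw.rTensor_algHom_apply, PolLaw.rTensor_algHom_apply, PolLaw.rTensor_algHom_apply,
      map_add, map_mul, Algebra.TensorProduct.map_tmul, Algebra.TensorProduct.map_tmul, map_one,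
      map_one, AlgHom.id_apply]
  rw [e, ← PolynomialLaw.isCompat_apply' (f := F) ι, ← PolynomialLaw.isCompat_apply' (f := F) ι]
    at h
  obtain ⟨σ, hσdef⟩ : ∃ σ : S ⊗[A] A'' →ₗ[A] S,
      σ = (TensorProduct.rid A S).toLinearMap.comp (ρ.lTensor S) := ⟨_, rfl⟩
  have hσ : σ.comp ι.toLinearMap = LinearMap.id := by
    ext s
    rw [hσdef, hι]
    simp [hρ]
  have hinj : Function.Injective (ι.toLinearMap.rTensor C) := by
    apply Function.LeftInverse.injective (g := σ.rTensor C)
    intro y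
    rw [← LinearMap.comp_apply, ← LinearMap.rTensor_comp, hσ, LinearMap.rTensor_id,
      LinearMap.id_apply]
  exact hinj h

end descent

section main
variable {A : Type u} [CommRing A] {B : Type u} [CommRing B] [Algebra A B]

theorem kerBC_adjoinRoot_le {C : Type u} [CommRing C] [Algebra A C] (F : B →ₚₗ[A] C)
    (g : Polynomial A) (hg : g.Monic) (hsep : g.Separable) :
    PolLaw.kerBC F (AdjoinRoot g) ≤
      (PolLaw.ker F).map (Algebra.TensorProduct.includeRight : B →ₐ[A] AdjoinRoot g ⊗[A] B) := by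
  intro z hz
  obtain ⟨A'', _, _, ρ, r, hρ, hr⟩ := exists_splitting g.natDegree A g hg rfl
  have h𝔟 : ∀ j : Fin g.natDegree, (AdjoinRoot.powerBasisAux' hg) j =
      AdjoinRoot.root g ^ (j : ℕ) := fun j => (AdjoinRoot.powerBasis' hg).basis_eq_pow j
  obtain ⟨c, rfl⟩ := TensorProduct.eq_repr_basis_left (AdjoinRoot.powerBasisAux' hg) z
  have hzsum : (c.sum fun j b => (AdjoinRoot.powerBasisAux' hg) j ⊗ₜ[A] b) =
      ∑ j : Fin g.natDegree, (AdjoinRoot.root g ^ (j : ℕ)) ⊗ₜ[A] c j := by
    rw [Finsupp.sum_fintype _ _ (fun j => TensorProduct.tmul_zero _ _)]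
    exact Finset.sum_congr rfl fun j _ => by rw [h𝔟]
  rw [hzsum] at hz ⊢
  have hroot : ∀ i, Polynomial.eval₂ (algebraMap A A'') (r i) g = 0 := by
    intro i
    rw [Polynomial.eval₂_eq_eval_map, hr, Polynomial.eval_prod]
    exact Finset.prod_eq_zero (Finset.mem_univ i) (by simp)
  have hunit : ∀ i k, i ≠ k → IsUnit (r i - r k) :=
    isUnit_sub_of_separable (g.map (algebraMap A A'')) hsep.map r hr
  -- the evaluation maps
  have hmem : ∀ i, ∑ j : Fin g.natDegree,
      ((r i) ⊗ₜ[A] (1 : B)) ^ (j : ℕ) * ((1 : A'') ⊗ₜ[A] c j) ∈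
      PolLaw.kerBC F A'' := by
    intro i
    have h1 := kerBC_map F (AdjoinRoot.liftAlgHom g (Algebra.ofId A A'') (r i) (hroot i)) _ hz
    rw [map_sum] at h1
    have e : ∀ j : Fin g.natDegree,
        Algebra.TensorProduct.map (AdjoinRoot.liftAlgHom g (Algebra.ofId A A'') (r i) (hroot i))
          (AlgHom.id A B) ((AdjoinRoot.root g ^ (j : ℕ)) ⊗ₜ[A] c j) =
        ((r i) ⊗ₜ[A] (1 : B)) ^ (j : ℕ) * ((1 : A'') ⊗ₜ[A] c j) := by
      intro j
      rw [Algebra.TensorProduct.map_tmul, map_pow, AdjoinRoot.liftAlgHom_root, AlgHom.id_apply,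
        Algebra.TensorProduct.tmul_pow, one_pow, Algebra.TensorProduct.tmul_mul_tmul, mul_one,
        one_mul]
    rw [Finset.sum_congr rfl fun j _ => e j] at h1
    exact h1
  have hv : ∀ i k, i ≠ k → IsUnit ((r i) ⊗ₜ[A] (1 : B) - (r k) ⊗ₜ[A] (1 : B)) := by
    intro i k hik
    rw [← TensorProduct.sub_tmul]
    exact (hunit i k hik).map (Algebra.TensorProduct.includeLeft : A'' →ₐ[A] A'' ⊗[A] B)
  have hc := mem_of_vandermonde (PolLaw.kerBC F A'') (fun i => (r i) ⊗ₜ[A] (1 : B)) hv
    (fun j => (1 : A'') ⊗ₜ[A] c j) hmem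
  have hcj : ∀ j, c j ∈ PolLaw.ker F := fun j =>
    mem_ker_of_one_tmul_mem_kerBC F A'' ρ hρ (c j) (hc j)
  refine Ideal.sum_mem _ fun j _ => ?_
  have e2 : (AdjoinRoot.root g ^ (j : ℕ)) ⊗ₜ[A] c j =
      ((AdjoinRoot.root g ^ (j : ℕ)) ⊗ₜ[A] (1 : B)) *
        (Algebra.TensorProduct.includeRight : B →ₐ[A] AdjoinRoot g ⊗[A] B) (c j) := by
    rw [Algebra.TensorProduct.includeRight_apply, Algebra.TensorProduct.tmul_mul_tmul, mul_one,
      one_mul]
  rw [e2]
  exact Ideal.mul_mem_left _ _ (Ideal.mem_map_of_mem _ (hcj j))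

end main

end Groth.Agent.Lib.helper6.CHSplit
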