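import Mathlib

/-!
# Linear algebra lemmas for chains of linear maps (helper6)

* `finrank_map_add_finrank_inf_ker`: rank–nullity for the restriction to a subspace;
* `exists_equiv_fix_map`, `exists_equiv_agree_map`: modify an automorphism, keeping it on a
  subspace `A`, so that it carries `B` onto `B'`;
* `exists_equiv_comp_eq`: an automorphism `δ` of the target with `δ ∘ φ = φ' ∘ γ`;
* `exists_equiv_flags`: the same, moreover carrying a flag onto another flag.
-/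

namespace Groth.Agent.Lib.Helper6.ChainRank

open Module

variable {k : Type*} [Field k]

section
variable {V U : Type*} [AddCommGroup V] [Module k V] [AddCommGroup U] [Module k U]

/-- rank–nullity for the restriction of a linear map to a subspace. -/
theorem finrank_map_add_finrank_inf_ker [FiniteDimensional k V] (S : Submodule k V)
    (φ : V →ₗ[k] U) :
    finrank k (S.map φ) + finrank k (S ⊓ LinearMap.ker φ : Submodule k V) = finrank k S := by
  have h := LinearMap.finrank_range_add_finrank_ker (φ.domRestrict S)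
  rw [LinearMap.range_domRestrict, LinearMap.ker_domRestrict] at h
  have h2 : finrank k ((LinearMap.ker φ).comap S.subtype) =
      finrank k (S ⊓ LinearMap.ker φ : Submodule k V) := by
    have h3 : (LinearMap.ker φ).comap S.subtype = (S ⊓ LinearMap.ker φ).comap S.subtype := by
      rw [Submodule.comap_inf, Submodule.comap_subtype_self, top_inf_eq]
    rw [h3]
    exact (Submodule.comapSubtypeEquivOfLe (inf_le_left : S ⊓ LinearMap.ker φ ≤ S)).finrank_eq
  rw [h2] at h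
  exact h

theorem map_inf_comap' (S : Submodule k V) (φ : V →ₗ[k] U) (B : Submodule k U) :
    (S ⊓ B.comap φ).map φ = S.map φ ⊓ B := by
  apply SetLike.coe_injective
  simp only [Submodule.map_coe, Submodule.coe_inf, Submodule.comap_coe]
  exact Set.image_inter_preimage _ _ _

end

section
variable {U : Type*} [AddCommGroup U] [Module k U]

theorem exists_tripleEquiv (A C E : Submodule k U) (h1 : A ⊓ C = ⊥) (h2 : (A ⊔ C) ⊓ E = ⊥)
    (h3 : A ⊔ C ⊔ E = ⊤) :
    ∃ Ψ : (A × C × E) ≃ₗ[k] U, ∀ (a : A) (c : C) (e : E), Ψ (a, c, e) = (a : U) + c + e := by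
  obtain ⟨ψ, hψdef⟩ : ∃ ψ : (A × C × E) →ₗ[k] U,
      ψ = A.subtype.coprod (C.subtype.coprod E.subtype) := ⟨_, rfl⟩
  have hψ : ∀ (a : A) (c : C) (e : E), ψ (a, c, e) = (a : U) + ((c : U) + e) := fun a c e => by
    rw [hψdef]; simp
  have hinj : Function.Injective ψ := by
    rw [← LinearMap.ker_eq_bot, LinearMap.ker_eq_bot']
    rintro ⟨a, c, e⟩ h
    rw [hψ] at h
    have he : (e : U) ∈ (A ⊔ C) ⊓ E := by
      refine ⟨?_, e.2⟩
      have h' : ((a : U) + c) + e = 0 := by rw [add_assoc]; exact h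
      rw [eq_neg_of_add_eq_zero_right h']
      exact neg_mem (Submodule.add_mem_sup a.2 c.2)
    rw [h2, Submodule.mem_bot] at he
    rw [he, add_zero] at h
    have hc : (c : U) ∈ A ⊓ C := by
      refine ⟨?_, c.2⟩
      rw [eq_neg_of_add_eq_zero_right h]
      exact neg_mem a.2
    rw [h1, Submodule.mem_bot] at hc
    rw [hc, add_zero] at h
    have ha' : a = 0 := Subtype.ext h
    have hc' : c = 0 := Subtype.ext hc
    have he' : e = 0 := Subtype.ext he
    rw [ha', hc', he']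
    rfl
  have hsurj : Function.Surjective ψ := by
    rw [← LinearMap.range_eq_top, hψdef]
    simp only [LinearMap.range_coprod, Submodule.range_subtype]
    rw [← sup_assoc]; exact h3
  exact ⟨LinearEquiv.ofBijective ψ ⟨hinj, hsurj⟩, fun a c e => by
    rw [LinearEquiv.ofBijective_apply, hψ, add_assoc]⟩

variable [FiniteDimensional k U]

/-- If `A ⊓ B = A ⊓ B'` and `dim B = dim B'`, some automorphism fixes `A` pointwise and carries
`B` onto `B'`. -/
theorem exists_equiv_fix_map (A B B' : Submodule k U) (hAB : A ⊓ B = A ⊓ B')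
    (hdim : finrank k B = finrank k B') :
    ∃ σ : U ≃ₗ[k] U, (∀ x ∈ A, σ x = x) ∧ B.map (σ : U →ₗ[k] U) = B' := by
  obtain ⟨C0, hC0⟩ := Submodule.exists_isCompl (A ⊓ B)
  obtain ⟨D, hD⟩ : ∃ D : Submodule k U, D = A ⊓ B := ⟨_, rfl⟩
  rw [← hD] at hC0
  have hDA : D ≤ A := hD ▸ inf_le_left
  have hDB : D ≤ B := hD ▸ inf_le_right
  have hDB' : D ≤ B' := by rw [hD, hAB]; exact inf_le_right
  have hC : D ⊔ (C0 ⊓ B) = B := by
    rw [← sup_inf_assoc_of_le C0 hDB, hC0.sup_eq_top, top_inf_eq]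
  have hC' : D ⊔ (C0 ⊓ B') = B' := by
    rw [← sup_inf_assoc_of_le C0 hDB', hC0.sup_eq_top, top_inf_eq]
  have hDC : D ⊓ (C0 ⊓ B) = ⊥ := by
    rw [← inf_assoc, hC0.inf_eq_bot, bot_inf_eq]
  have hDC' : D ⊓ (C0 ⊓ B') = ⊥ := by
    rw [← inf_assoc, hC0.inf_eq_bot, bot_inf_eq]
  have hAC : A ⊓ (C0 ⊓ B) = ⊥ := by
    rw [inf_comm C0 B, ← inf_assoc, ← hD, hC0.inf_eq_bot]
  have hAC' : A ⊓ (C0 ⊓ B') = ⊥ := by
    rw [inf_comm C0 B', ← inf_assoc, ← hAB, ← hD, hC0.inf_eq_bot]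
  have hfC : finrank k (C0 ⊓ B : Submodule k U) = finrank k (C0 ⊓ B' : Submodule k U) := by
    have e1 := Submodule.finrank_sup_add_finrank_inf_eq D (C0 ⊓ B)
    have e2 := Submodule.finrank_sup_add_finrank_inf_eq D (C0 ⊓ B')
    rw [hC, hDC] at e1
    rw [hC', hDC'] at e2
    simp only [finrank_bot, add_zero] at e1 e2
    omega
  obtain ⟨E, hE⟩ := Submodule.exists_isCompl (A ⊔ (C0 ⊓ B))
  obtain ⟨E', hE'⟩ := Submodule.exists_isCompl (A ⊔ (C0 ⊓ B'))
  have hfE : finrank k E = finrank k E' := by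
    have e1 := Submodule.finrank_sup_add_finrank_inf_eq A (C0 ⊓ B)
    have e2 := Submodule.finrank_sup_add_finrank_inf_eq A (C0 ⊓ B')
    rw [hAC] at e1
    rw [hAC'] at e2
    simp only [finrank_bot, add_zero] at e1 e2
    have e3 := Submodule.finrank_add_eq_of_isCompl hE
    have e4 := Submodule.finrank_add_eq_of_isCompl hE'
    omega
  obtain ⟨Ψ, hΨ⟩ := exists_tripleEquiv A (C0 ⊓ B) E hAC hE.inf_eq_bot hE.sup_eq_top
  obtain ⟨Ψ', hΨ'⟩ := exists_tripleEquiv A (C0 ⊓ B') E' hAC' hE'.inf_eq_bot hE'.sup_eq_top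
  obtain ⟨κ⟩ : Nonempty ((C0 ⊓ B : Submodule k U) ≃ₗ[k] (C0 ⊓ B' : Submodule k U)) :=
    ⟨LinearEquiv.ofFinrankEq _ _ hfC⟩
  obtain ⟨ε⟩ : Nonempty (E ≃ₗ[k] E') := ⟨LinearEquiv.ofFinrankEq _ _ hfE⟩
  obtain ⟨σ, hσdef⟩ : ∃ σ : U ≃ₗ[k] U,
      σ = Ψ.symm ≪≫ₗ ((LinearEquiv.refl k A).prodCongr (κ.prodCongr ε)) ≪≫ₗ Ψ' := ⟨_, rfl⟩
  have hσ : ∀ (a : A) (c : (C0 ⊓ B : Submodule k U)) (e : E),
      σ ((a : U) + c + e) = (a : U) + (κ c : U) + (ε e : U) := by
    intro a c e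
    rw [← hΨ, ← hΨ', hσdef]
    simp only [LinearEquiv.trans_apply, LinearEquiv.symm_apply_apply]
    rfl
  have hσA : ∀ x ∈ A, σ x = x := by
    intro x hx
    have := hσ ⟨x, hx⟩ 0 0
    simpa using this
  refine ⟨σ, hσA, ?_⟩
  have hle : B.map (σ : U →ₗ[k] U) ≤ B' := by
    rintro _ ⟨b, hb, rfl⟩
    have hb' : b ∈ D ⊔ (C0 ⊓ B) := by rw [hC]; exact hb
    obtain ⟨dd, hdd, c, hc, rfl⟩ := Submodule.mem_sup.1 hb'
    have := hσ ⟨dd, hDA hdd⟩ ⟨c, hc⟩ 0
    simp only [Submodule.coe_zero, add_zero, map_zero] at this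
    change σ (dd + c) ∈ B'
    rw [this]
    exact hC'.le (Submodule.add_mem_sup hdd (κ ⟨c, hc⟩).2)
  apply Submodule.eq_of_le_of_finrank_eq hle
  rw [LinearEquiv.finrank_map_eq σ B, hdim]

/-- Modify the automorphism `δ`, keeping it on `A`, so that it carries `B` onto `B'`. -/
theorem exists_equiv_agree_map (δ : U ≃ₗ[k] U) (A B B' : Submodule k U)
    (hAB : (A ⊓ B).map (δ : U →ₗ[k] U) = A.map (δ : U →ₗ[k] U) ⊓ B')
    (hdim : finrank k B = finrank k B') :
    ∃ δ' : U ≃ₗ[k] U, (∀ x ∈ A, δ' x = δ x) ∧ B.map (δ' : U →ₗ[k] U) = B' := by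
  have h1 : A ⊓ B = A ⊓ B'.comap (δ : U →ₗ[k] U) := by
    have := congrArg (Submodule.comap (δ : U →ₗ[k] U)) hAB
    rw [Submodule.comap_map_eq_of_injective δ.injective, Submodule.comap_inf,
      Submodule.comap_map_eq_of_injective δ.injective] at this
    exact this
  have h2 : finrank k B = finrank k (B'.comap (δ : U →ₗ[k] U)) := by
    rw [hdim, ← LinearEquiv.finrank_map_eq δ (B'.comap (δ : U →ₗ[k] U)),
      Submodule.map_comap_eq_of_surjective δ.surjective]
  obtain ⟨σ, hσA, hσB⟩ := exists_equiv_fix_map A B (B'.comap (δ : U →ₗ[k] U)) h1 h2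
  refine ⟨σ ≪≫ₗ δ, fun x hx => ?_, ?_⟩
  · rw [LinearEquiv.trans_apply, hσA x hx]
  · have : ((σ ≪≫ₗ δ : U ≃ₗ[k] U) : U →ₗ[k] U) = (δ : U →ₗ[k] U).comp (σ : U →ₗ[k] U) := rfl
    rw [this, Submodule.map_comp, hσB, Submodule.map_comap_eq_of_surjective δ.surjective]

end

section
variable {V U : Type*} [AddCommGroup V] [Module k V] [AddCommGroup U] [Module k U]
  [FiniteDimensional k U]

/-- If `γ` carries `ker φ` onto `ker φ'`, there is an automorphism `δ` of the target with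
`δ ∘ φ = φ' ∘ γ`. -/
theorem exists_equiv_comp_eq (φ φ' : V →ₗ[k] U) (γ : V ≃ₗ[k] V)
    (hker : (LinearMap.ker φ).map (γ : V →ₗ[k] V) = LinearMap.ker φ') :
    ∃ δ : U ≃ₗ[k] U, ∀ v, δ (φ v) = φ' (γ v) := by
  obtain ⟨g, hgdef⟩ : ∃ g : LinearMap.range φ ≃ₗ[k] LinearMap.range φ',
      g = φ.quotKerEquivRange.symm ≪≫ₗ (Submodule.Quotient.equiv _ _ γ hker) ≪≫ₗ
        φ'.quotKerEquivRange := ⟨_, rfl⟩
  have hg : ∀ v, ((g ⟨φ v, LinearMap.mem_range_self φ v⟩ : LinearMap.range φ') : U) =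
      φ' (γ v) := by
    intro v
    rw [hgdef]
    simp only [LinearEquiv.trans_apply]
    rw [LinearMap.quotKerEquivRange_symm_apply_image]
    simp [Submodule.Quotient.equiv_apply]
  obtain ⟨K, hK⟩ := Submodule.exists_isCompl (LinearMap.range φ)
  obtain ⟨K', hK'⟩ := Submodule.exists_isCompl (LinearMap.range φ')
  have hfK : finrank k K = finrank k K' := by
    have e1 := Submodule.finrank_add_eq_of_isCompl hK
    have e2 := Submodule.finrank_add_eq_of_isCompl hK'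
    have e3 := g.finrank_eq
    omega
  obtain ⟨κ⟩ : Nonempty (K ≃ₗ[k] K') := ⟨LinearEquiv.ofFinrankEq _ _ hfK⟩
  refine ⟨(Submodule.prodEquivOfIsCompl _ K hK).symm ≪≫ₗ (g.prodCongr κ) ≪≫ₗ
    Submodule.prodEquivOfIsCompl _ K' hK', fun v => ?_⟩
  have h1 : (Submodule.prodEquivOfIsCompl _ K hK).symm (φ v) =
      ((⟨φ v, LinearMap.mem_range_self φ v⟩ : LinearMap.range φ), (0 : K)) :=
    Submodule.prodEquivOfIsCompl_symm_apply_left _ K hK ⟨φ v, LinearMap.mem_range_self φ v⟩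
  simp only [LinearEquiv.trans_apply, h1, LinearEquiv.prodCongr_apply, map_zero,
    Submodule.coe_prodEquivOfIsCompl', Submodule.coe_zero, add_zero]
  exact hg v

/-- An automorphism `δ` of the target with `δ ∘ φ = φ' ∘ γ` carrying the flag `G` onto `G'`. -/
theorem exists_equiv_flags (φ φ' : V →ₗ[k] U) (γ : V ≃ₗ[k] V) (G G' : ℕ → Submodule k U)
    (hG : Monotone G) (hG' : Monotone G') (T : ℕ) (hT : G T = ⊤) (hT' : G' T = ⊤)
    (h0 : G 0 = ⊥) (h0' : G' 0 = ⊥)
    (hγ : ∀ t, ((G t).comap φ).map (γ : V →ₗ[k] V) = (G' t).comap φ')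
    (hdim : ∀ t, finrank k (G t) = finrank k (G' t)) :
    ∃ δ : U ≃ₗ[k] U, (∀ v, δ (φ v) = φ' (γ v)) ∧ ∀ t, (G t).map (δ : U →ₗ[k] U) = G' t := by
  have hker : (LinearMap.ker φ).map (γ : V →ₗ[k] V) = LinearMap.ker φ' := by
    have := hγ 0
    rw [h0, h0'] at this
    exact this
  have key : ∀ t : ℕ, ∃ δ : U ≃ₗ[k] U, (∀ v, δ (φ v) = φ' (γ v)) ∧
      ∀ u, u ≤ t → (G u).map (δ : U →ₗ[k] U) = G' u := by
    intro t
    induction t with
    | zero =>
      obtain ⟨δ, hδ⟩ := exists_equiv_comp_eq φ φ' γ hker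
      refine ⟨δ, hδ, fun u hu => ?_⟩
      obtain rfl : u = 0 := Nat.le_zero.1 hu
      rw [h0, h0', Submodule.map_bot]
    | succ t ih =>
      obtain ⟨δ, hδ, hδG⟩ := ih
      have hcomp : (δ : U →ₗ[k] U).comp φ = φ'.comp (γ : V →ₗ[k] V) :=
        LinearMap.ext fun v => hδ v
      have hrange : (LinearMap.range φ).map (δ : U →ₗ[k] U) = LinearMap.range φ' := by
        rw [← LinearMap.range_comp, hcomp, LinearMap.range_comp, LinearMap.range_eq_top.2 γ.surjective,
          Submodule.map_top]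
      have hGt : G t ≤ G (t + 1) := hG (Nat.le_succ t)
      have hGt' : G' t ≤ G' (t + 1) := hG' (Nat.le_succ t)
      have hinter : (LinearMap.range φ ⊓ G (t + 1)).map (δ : U →ₗ[k] U) =
          LinearMap.range φ' ⊓ G' (t + 1) := by
        rw [← Submodule.map_comap_eq, ← Submodule.map_comp, hcomp, Submodule.map_comp, hγ (t + 1),
          Submodule.map_comap_eq]
      have hA : (G t ⊔ LinearMap.range φ).map (δ : U →ₗ[k] U) = G' t ⊔ LinearMap.range φ' := by
        rw [Submodule.map_sup, hδG t le_rfl, hrange]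
      have hAB : ((G t ⊔ LinearMap.range φ) ⊓ G (t + 1)).map (δ : U →ₗ[k] U) =
          (G t ⊔ LinearMap.range φ).map (δ : U →ₗ[k] U) ⊓ G' (t + 1) := by
        rw [hA, sup_inf_assoc_of_le _ hGt, sup_inf_assoc_of_le _ hGt', Submodule.map_sup, hδG t le_rfl,
          hinter]
      obtain ⟨δ', hδ'A, hδ'B⟩ := exists_equiv_agree_map δ (G t ⊔ LinearMap.range φ) (G (t + 1))
        (G' (t + 1)) hAB (hdim (t + 1))
      refine ⟨δ', fun v => ?_, fun u hu => ?_⟩
      · rw [hδ'A (φ v) (Submodule.mem_sup_right (LinearMap.mem_range_self φ v)), hδ v]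
      · rcases Nat.lt_or_ge u (t + 1) with hlt | hge
        · have hut : u ≤ t := Nat.lt_succ_iff.1 hlt
          rw [← hδG u hut]
          apply le_antisymm
          · rintro _ ⟨x, hx, rfl⟩
            exact ⟨x, hx, (hδ'A x (Submodule.mem_sup_left (hG hut hx))).symm⟩
          · rintro _ ⟨x, hx, rfl⟩
            exact ⟨x, hx, hδ'A x (Submodule.mem_sup_left (hG hut hx))⟩
        · obtain rfl : u = t + 1 := le_antisymm hu hge
          exact hδ'B
  obtain ⟨δ, hδ, hδG⟩ := key T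
  refine ⟨δ, hδ, fun t => ?_⟩
  rcases Nat.le_total t T with h | h
  · exact hδG t h
  · have e1 : G t = ⊤ := top_le_iff.1 (hT ▸ hG h)
    have e2 : G' t = ⊤ := top_le_iff.1 (hT' ▸ hG' h)
    rw [e1, e2, Submodule.map_top, LinearMap.range_eq_top.2 δ.surjective]

end

end Groth.Agent.Lib.Helper6.ChainRank
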