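import Groth.Agent.Lib.Helper6.ChainRank1

/-!
# Chains of linear maps `k^{d 0} → k^{d 1} → ⋯`: images and classification (helper6)

* `img F i j`: the image of `k^{d i}` in `k^{d j}` (`⊤` for `i = j`, `⊥` for `j < i`);
* `chain_equiv`: two chains with the same dimensions of the `img F i j` (`1 ≤ i ≤ j ≤ r`)
  are conjugate on the range `1, …, r`.
-/

namespace Groth.Agent.Lib.Helper6.ChainRank

open Module

variable {k : Type*} [Field k] {d : ℕ → ℕ}

/-- The image of `k^{d i}` in `k^{d j}` under the chain `F`. -/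
def img (F : ∀ j, (Fin (d j) → k) →ₗ[k] (Fin (d (j + 1)) → k)) (i : ℕ) :
    (j : ℕ) → Submodule k (Fin (d j) → k)
  | 0 => if i = 0 then ⊤ else ⊥
  | j + 1 => if i = j + 1 then ⊤ else (img F i j).map (F j)

theorem img_zero (F : ∀ j, (Fin (d j) → k) →ₗ[k] (Fin (d (j + 1)) → k)) (i : ℕ) :
    img F i 0 = if i = 0 then ⊤ else ⊥ := rfl

theorem img_succ' (F : ∀ j, (Fin (d j) → k) →ₗ[k] (Fin (d (j + 1)) → k)) (i j : ℕ) :
    img F i (j + 1) = if i = j + 1 then ⊤ else (img F i j).map (F j) := rfl

theorem img_self (F : ∀ j, (Fin (d j) → k) →ₗ[k] (Fin (d (j + 1)) → k)) (i : ℕ) :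
    img F i i = ⊤ := by
  cases i with
  | zero => rw [img_zero, if_pos rfl]
  | succ i => rw [img_succ', if_pos rfl]

theorem img_succ (F : ∀ j, (Fin (d j) → k) →ₗ[k] (Fin (d (j + 1)) → k)) {i j : ℕ}
    (h : i ≤ j) : img F i (j + 1) = (img F i j).map (F j) := by
  rw [img_succ', if_neg (by omega)]

theorem img_of_lt (F : ∀ j, (Fin (d j) → k) →ₗ[k] (Fin (d (j + 1)) → k)) {i j : ℕ}
    (h : j < i) : img F i j = ⊥ := by
  induction j with
  | zero => rw [img_zero, if_neg (by omega)]
  | succ j ih => rw [img_succ', if_neg (by omega), ih (by omega), Submodule.map_bot]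

theorem img_mono_left (F : ∀ j, (Fin (d j) → k) →ₗ[k] (Fin (d (j + 1)) → k)) {i j : ℕ}
    (h : i < j) : img F i j ≤ img F (i + 1) j := by
  induction j with
  | zero => omega
  | succ j ih =>
    rcases Nat.lt_or_ge i j with h1 | h1
    · rw [img_succ F (by omega : i ≤ j), img_succ F (by omega : i + 1 ≤ j)]
      exact Submodule.map_mono (ih h1)
    · have : j = i := by omega
      subst this
      rw [img_self]
      exact le_top

/-- The pulled back flag: `⊥` at `0`, then the preimages. -/
def pullFlag {V U : Type*} [AddCommGroup V] [Module k V] [AddCommGroup U] [Module k U]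
    (φ : V →ₗ[k] U) (G : ℕ → Submodule k U) : ℕ → Submodule k V
  | 0 => ⊥
  | t + 1 => (G t).comap φ

theorem pullFlag_monotone {V U : Type*} [AddCommGroup V] [Module k V] [AddCommGroup U]
    [Module k U] (φ : V →ₗ[k] U) (G : ℕ → Submodule k U) (hG : Monotone G) :
    Monotone (pullFlag φ G) := by
  apply monotone_nat_of_le_succ
  intro t
  cases t with
  | zero => exact bot_le
  | succ t => exact Submodule.comap_mono (hG (Nat.le_succ t))

theorem chain_equiv_aux (r : ℕ) (hr : 1 ≤ r) :
    ∀ (F F' : ∀ j, (Fin (d j) → k) →ₗ[k] (Fin (d (j + 1)) → k))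
      (G G' : ℕ → Submodule k (Fin (d r) → k)) (T : ℕ),
      Monotone G → Monotone G' → G T = ⊤ → G' T = ⊤ → G 0 = ⊥ → G' 0 = ⊥ →
      (∀ i j, 1 ≤ i → i ≤ j → j ≤ r → finrank k (img F i j) = finrank k (img F' i j)) →
      (∀ i t, 1 ≤ i → i ≤ r →
        finrank k (img F i r ⊓ G t : Submodule k (Fin (d r) → k)) =
          finrank k (img F' i r ⊓ G' t : Submodule k (Fin (d r) → k))) →
      ∃ γ : ∀ j, (Fin (d j) → k) ≃ₗ[k] (Fin (d j) → k),
        (∀ j, 1 ≤ j → j + 1 ≤ r → ∀ v, γ (j + 1) (F j v) = F' j (γ j v)) ∧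
        ∀ t, (G t).map ((γ r : (Fin (d r) → k) ≃ₗ[k] (Fin (d r) → k)) :
          (Fin (d r) → k) →ₗ[k] (Fin (d r) → k)) = G' t := by
  induction r, hr using Nat.le_induction with
  | base =>
    intro F F' G G' T hG hG' hT hT' h0 h0' _ hfl
    have hdim : ∀ t, finrank k (G t) = finrank k (G' t) := by
      intro t
      have := hfl 1 t le_rfl le_rfl
      rwa [img_self, img_self, top_inf_eq, top_inf_eq] at this
    obtain ⟨δ, _, hδG⟩ := exists_equiv_flags (0 : (Fin (d 1) → k) →ₗ[k] (Fin (d 1) → k)) 0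
      (LinearEquiv.refl k _) G G' hG hG' T hT hT' h0 h0'
      (fun t => by
        rw [Submodule.comap_zero, Submodule.comap_zero, Submodule.map_top,
          LinearMap.range_eq_top.2 (LinearEquiv.refl k _).surjective]) hdim
    refine ⟨Function.update (fun j => LinearEquiv.refl k _) 1 δ, fun j h1 h2 => by omega, fun t => ?_⟩
    rw [Function.update_self]
    exact hδG t
  | succ r hr ih =>
    intro F F' G G' T hG hG' hT hT' h0 h0' hrk hfl
    -- the pulled back flags
    have hrk' : ∀ i j, 1 ≤ i → i ≤ j → j ≤ r →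
        finrank k (img F i j) = finrank k (img F' i j) :=
      fun i j h1 h2 h3 => hrk i j h1 h2 (by omega)
    have hfl' : ∀ i t, 1 ≤ i → i ≤ r →
        finrank k (img F i r ⊓ pullFlag (F r) G t : Submodule k (Fin (d r) → k)) =
          finrank k (img F' i r ⊓ pullFlag (F' r) G' t : Submodule k (Fin (d r) → k)) := by
      intro i t h1 h2
      cases t with
      | zero =>
        show finrank k (img F i r ⊓ ⊥ : Submodule k (Fin (d r) → k)) =
          finrank k (img F' i r ⊓ ⊥ : Submodule k (Fin (d r) → k))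
        rw [inf_bot_eq, inf_bot_eq]
      | succ t =>
        show finrank k (img F i r ⊓ (G t).comap (F r) : Submodule k (Fin (d r) → k)) =
          finrank k (img F' i r ⊓ (G' t).comap (F' r) : Submodule k (Fin (d r) → k))
        have aux : ∀ (Φ : ∀ j, (Fin (d j) → k) →ₗ[k] (Fin (d (j + 1)) → k))
            (H : Submodule k (Fin (d (r + 1)) → k)),
            finrank k (img Φ i r ⊓ H.comap (Φ r) : Submodule k (Fin (d r) → k)) +
              finrank k (img Φ i (r + 1)) =
            finrank k (img Φ i (r + 1) ⊓ H : Submodule k (Fin (d (r + 1)) → k)) +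
              finrank k (img Φ i r) := by
          intro Φ H
          have e1 := finrank_map_add_finrank_inf_ker (img Φ i r ⊓ H.comap (Φ r)) (Φ r)
          have e2 := finrank_map_add_finrank_inf_ker (img Φ i r) (Φ r)
          rw [map_inf_comap', ← img_succ Φ h2] at e1
          rw [← img_succ Φ h2] at e2
          have e3 : (img Φ i r ⊓ H.comap (Φ r)) ⊓ LinearMap.ker (Φ r) =
              img Φ i r ⊓ LinearMap.ker (Φ r) := by
            rw [inf_assoc, inf_eq_right.2 (LinearMap.ker_le_comap (Φ r))]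
          rw [e3] at e1
          omega
        have a1 := aux F (G t)
        have a2 := aux F' (G' t)
        have b1 := hfl i t h1 (by omega)
        have b2 := hrk i r h1 h2 (by omega)
        have b3 := hrk i (r + 1) h1 (by omega) le_rfl
        omega
    obtain ⟨γ, hγc, hγG⟩ := ih F F' (pullFlag (F r) G) (pullFlag (F' r) G') (T + 1)
      (pullFlag_monotone _ _ hG) (pullFlag_monotone _ _ hG')
      (by show (G T).comap (F r) = ⊤; rw [hT, Submodule.comap_top])
      (by show (G' T).comap (F' r) = ⊤; rw [hT', Submodule.comap_top]) rfl rfl hrk' hfl'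
    have hdim : ∀ t, finrank k (G t) = finrank k (G' t) := by
      intro t
      have := hfl (r + 1) t (by omega) le_rfl
      rwa [img_self, img_self, top_inf_eq, top_inf_eq] at this
    obtain ⟨δ, hδ, hδG⟩ := exists_equiv_flags (F r) (F' r) (γ r) G G' hG hG' T hT hT' h0 h0'
      (fun t => hγG (t + 1)) hdim
    refine ⟨Function.update γ (r + 1) δ, fun j h1 h2 v => ?_, fun t => ?_⟩
    · rcases Nat.lt_or_ge j r with hlt | hge
      · rw [Function.update_of_ne (by omega : j + 1 ≠ r + 1),
          Function.update_of_ne (by omega : j ≠ r + 1)]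
        exact hγc j h1 (by omega) v
      · obtain rfl : j = r := by omega
        rw [Function.update_self, Function.update_of_ne (by omega : j ≠ j + 1)]
        exact hδ v
    · rw [Function.update_self]
      exact hδG t

/-- Two chains whose images have the same dimensions (`1 ≤ i ≤ j ≤ r`) are conjugate on the
range `1, …, r`. -/
theorem chain_equiv (r : ℕ) (F F' : ∀ j, (Fin (d j) → k) →ₗ[k] (Fin (d (j + 1)) → k))
    (hrk : ∀ i j, 1 ≤ i → i ≤ j → j ≤ r → finrank k (img F i j) = finrank k (img F' i j)) :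
    ∃ γ : ∀ j, (Fin (d j) → k) ≃ₗ[k] (Fin (d j) → k),
      ∀ j, 1 ≤ j → j + 1 ≤ r → ∀ v, γ (j + 1) (F j v) = F' j (γ j v) := by
  rcases Nat.eq_zero_or_pos r with h0 | hpos
  · exact ⟨fun j => LinearEquiv.refl k _, fun j h1 h2 => by omega⟩
  · obtain ⟨G0, hG0⟩ : ∃ G0 : ℕ → Submodule k (Fin (d r) → k),
        G0 = fun t => if t = 0 then ⊥ else ⊤ := ⟨_, rfl⟩
    have hz : G0 0 = ⊥ := by rw [hG0]; simp
    have hs : ∀ t, t ≠ 0 → G0 t = ⊤ := fun t ht => by rw [hG0]; simp [ht]
    have hmono : Monotone G0 := by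
      intro s t hst
      by_cases hs0 : s = 0
      · rw [hs0, hz]; exact bot_le
      · rw [hs t (by omega)]; exact le_top
    obtain ⟨γ, hγ, _⟩ := chain_equiv_aux r hpos F F' G0 G0 1 hmono hmono
      (hs 1 one_ne_zero) (hs 1 one_ne_zero) hz hz hrk
      (fun i t h1 h2 => by
        by_cases ht : t = 0
        · rw [ht, hz, inf_bot_eq, inf_bot_eq]
        · rw [hs t ht, inf_top_eq, inf_top_eq]
          exact hrk i r h1 h2 le_rfl)
    exact ⟨γ, hγ⟩

end Groth.Agent.Lib.Helper6.ChainRank
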