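import Groth.Agent.Lib.Helper6.ChainRank2

/-!
# A 0/1 normal form realizing an admissible dimension array (helper6)

For an array `a` satisfying the four admissibility conditions (`H1`–`H4` below, the components of
the prelude's `IsRankArray d r a`), the chain of matrices `NF k d a j` has
`img _ i j = Std k (d j) (a i j)` (a coordinate subspace) for `1 ≤ i ≤ j ≤ r`.
-/

namespace Groth.Agent.Lib.Helper6.ChainRank

open Module

variable {k : Type*} [Field k] {d : ℕ → ℕ}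

/-- `a` with the convention `a 0 j = 0`. -/
def ah (a : ℕ → ℕ → ℕ) (i j : ℕ) : ℕ := if i = 0 then 0 else a i j

theorem ah_zero (a : ℕ → ℕ → ℕ) (j : ℕ) : ah a 0 j = 0 := by rw [ah, if_pos rfl]

theorem ah_pos (a : ℕ → ℕ → ℕ) {i : ℕ} (h : 1 ≤ i) (j : ℕ) : ah a i j = a i j := by
  rw [ah, if_neg (by omega)]

open Classical in
/-- the layer of the coordinate `s` of `k^{d j}`: the least `i ≥ 1` with `s < a i j`. -/
noncomputable def lay (a : ℕ → ℕ → ℕ) (j s : ℕ) : ℕ :=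
  if h : ∃ i, 1 ≤ i ∧ s < a i j then Nat.find h else 0

theorem lay_spec {a : ℕ → ℕ → ℕ} {j s : ℕ} (h : ∃ i, 1 ≤ i ∧ s < a i j) :
    1 ≤ lay a j s ∧ s < a (lay a j s) j := by
  classical
  rw [lay, dif_pos h]
  exact Nat.find_spec h

theorem lay_le {a : ℕ → ℕ → ℕ} {j s i : ℕ} (h1 : 1 ≤ i) (h2 : s < a i j) : lay a j s ≤ i := by
  classical
  rw [lay, dif_pos ⟨i, h1, h2⟩]
  exact Nat.find_min' _ ⟨h1, h2⟩

theorem lay_lower {a : ℕ → ℕ → ℕ} {j s : ℕ} (h : ∃ i, 1 ≤ i ∧ s < a i j) :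
    ah a (lay a j s - 1) j ≤ s := by
  have hsp := lay_spec h
  by_cases h0 : lay a j s - 1 = 0
  · rw [h0, ah_zero]; exact Nat.zero_le _
  · rw [ah_pos a (by omega)]
    by_contra hlt
    have := lay_le (a := a) (j := j) (s := s) (i := lay a j s - 1) (by omega) (by omega)
    omega

theorem lay_eq {a : ℕ → ℕ → ℕ} {j s i : ℕ}
    (hmono : ∀ i', 1 ≤ i' → i' < i → a i' j ≤ a (i - 1) j)
    (h1 : 1 ≤ i) (hlo : ah a (i - 1) j ≤ s) (hhi : s < a i j) : lay a j s = i := by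
  have hle := lay_le h1 hhi
  have hsp := lay_spec ⟨i, h1, hhi⟩
  by_contra hne
  have hlt : lay a j s < i := lt_of_le_of_ne hle hne
  have h2 : a (lay a j s) j ≤ a (i - 1) j := hmono _ hsp.1 hlt
  have h3 : ah a (i - 1) j = a (i - 1) j := ah_pos a (by omega) j
  omega

/-- the target coordinate -/
noncomputable def tgt (a : ℕ → ℕ → ℕ) (j s : ℕ) : ℕ :=
  ah a (lay a j s - 1) (j + 1) + (s - ah a (lay a j s - 1) j)

/-- the coordinate survives -/
def okk (a : ℕ → ℕ → ℕ) (j s : ℕ) : Prop := tgt a j s < a (lay a j s) (j + 1)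

theorem tgt_eq {a : ℕ → ℕ → ℕ} {j s L : ℕ} (h : lay a j s = L) :
    tgt a j s = ah a (L - 1) (j + 1) + (s - ah a (L - 1) j) := by
  rw [tgt, h]

theorem okk_iff {a : ℕ → ℕ → ℕ} {j s L : ℕ} (h : lay a j s = L) :
    okk a j s ↔ ah a (L - 1) (j + 1) + (s - ah a (L - 1) j) < a L (j + 1) := by
  rw [okk, tgt_eq h, h]

open Classical in
/-- the normal form matrices -/
noncomputable def NF (k : Type*) [Field k] (d : ℕ → ℕ) (a : ℕ → ℕ → ℕ) (j : ℕ) :
    Matrix (Fin (d (j + 1))) (Fin (d j)) k :=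
  Matrix.of fun s' s => if okk a j s ∧ (s' : ℕ) = tgt a j s then 1 else 0

open Classical in
theorem NF_apply_single (a : ℕ → ℕ → ℕ) (j : ℕ) (s : Fin (d j)) :
    Matrix.toLin' (NF k d a j) (Pi.single s 1) =
      fun s' : Fin (d (j + 1)) => if okk a j s ∧ (s' : ℕ) = tgt a j s then (1 : k) else 0 := by
  rw [Matrix.toLin'_apply, Matrix.mulVec_single_one]
  rfl

/-- the coordinate subspace spanned by the first `c` basis vectors -/
def Std (k : Type*) [Field k] (n c : ℕ) : Submodule k (Fin n → k) :=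
  Submodule.span k {x | ∃ s : Fin n, (s : ℕ) < c ∧ x = Pi.single s 1}

theorem single_mem_Std {n c : ℕ} (s : Fin n) (h : (s : ℕ) < c) :
    (Pi.single s 1 : Fin n → k) ∈ Std k n c :=
  Submodule.subset_span ⟨s, h, rfl⟩

theorem Std_top (n : ℕ) : Std k n n = ⊤ := by
  rw [eq_top_iff, ← (Pi.basisFun k (Fin n)).span_eq]
  apply Submodule.span_le.2
  rintro _ ⟨s, rfl⟩
  rw [Pi.basisFun_apply]
  exact single_mem_Std s s.2

theorem finrank_Std {n c : ℕ} (hc : c ≤ n) : finrank k (Std k n c) = c := by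
  have hset : {x : Fin n → k | ∃ s : Fin n, (s : ℕ) < c ∧ x = Pi.single s 1} =
      Set.range (fun i : Fin c => (Pi.basisFun k (Fin n)) (Fin.castLE hc i)) := by
    ext x
    constructor
    · rintro ⟨s, hs, rfl⟩
      refine ⟨⟨s, hs⟩, ?_⟩
      beta_reduce
      rw [Pi.basisFun_apply]
      rfl
    · rintro ⟨i, rfl⟩
      refine ⟨Fin.castLE hc i, ?_, ?_⟩
      · simp
      · beta_reduce
        rw [Pi.basisFun_apply]
  have hli : LinearIndependent k (fun i : Fin c => (Pi.basisFun k (Fin n)) (Fin.castLE hc i)) :=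
    (Pi.basisFun k (Fin n)).linearIndependent.comp _ (Fin.castLE_injective hc)
  rw [Std, hset, finrank_span_eq_card hli, Fintype.card_fin]

section main

variable {r : ℕ} {a : ℕ → ℕ → ℕ}

theorem mono_i (H2 : ∀ i j, 1 ≤ i → i < j → j ≤ r → a i j ≤ a (i + 1) j) {i j : ℕ}
    (h1 : 1 ≤ i) (h4 : j ≤ r) : ∀ n, i + n ≤ j → a i j ≤ a (i + n) j := by
  intro n
  induction n with
  | zero => intro _; exact le_rfl
  | succ n ih =>
    intro h
    exact (ih (by omega)).trans (H2 (i + n) j (by omega) (by omega) h4)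

theorem mono_i' (H2 : ∀ i j, 1 ≤ i → i < j → j ≤ r → a i j ≤ a (i + 1) j) {i i' j : ℕ}
    (h1 : 1 ≤ i) (h2 : i ≤ i') (h3 : i' ≤ j) (h4 : j ≤ r) : a i j ≤ a i' j := by
  obtain ⟨n, rfl⟩ := Nat.exists_eq_add_of_le h2
  exact mono_i H2 h1 h4 n h3

theorem le_d (H1 : ∀ j, 1 ≤ j → j ≤ r → a j j = d j)
    (H2 : ∀ i j, 1 ≤ i → i < j → j ≤ r → a i j ≤ a (i + 1) j) {i j : ℕ}
    (h1 : 1 ≤ i) (h2 : i ≤ j) (h4 : j ≤ r) : a i j ≤ d j := by
  rw [← H1 j (by omega) h4]
  exact mono_i' H2 h1 h2 le_rfl h4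

open Classical in
theorem map_Std_NF (H1 : ∀ j, 1 ≤ j → j ≤ r → a j j = d j)
    (H2 : ∀ i j, 1 ≤ i → i < j → j ≤ r → a i j ≤ a (i + 1) j)
    (H3 : ∀ i j, 1 ≤ i → i ≤ j → j < r → a i (j + 1) ≤ a i j)
    (H4 : ∀ i j, 1 < i → i ≤ j → j < r → a i (j + 1) + a (i - 1) j ≤ a i j + a (i - 1) (j + 1))
    {i j : ℕ} (h1 : 1 ≤ i) (h2 : i ≤ j) (h3 : j < r) :
    (Std k (d j) (a i j)).map (Matrix.toLin' (NF k d a j)) = Std k (d (j + 1)) (a i (j + 1)) := by
  apply le_antisymm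
  · rw [Std, Submodule.map_span, Submodule.span_le]
    rintro _ ⟨_, ⟨s, hs, rfl⟩, rfl⟩
    rw [NF_apply_single]
    by_cases hok : okk a j s
    · have hL := lay_spec ⟨i, h1, hs⟩
      have hLi := lay_le h1 hs
      have htl : tgt a j s < a (lay a j s) (j + 1) := hok
      have hmono : a (lay a j s) (j + 1) ≤ a i (j + 1) :=
        mono_i' H2 hL.1 hLi (by omega) (by omega)
      have hd : a i (j + 1) ≤ d (j + 1) := le_d H1 H2 h1 (by omega) (by omega)
      have hfun : (fun s' : Fin (d (j + 1)) =>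
          if okk a j s ∧ (s' : ℕ) = tgt a j s then (1 : k) else 0) =
          Pi.single (⟨tgt a j s, by omega⟩ : Fin (d (j + 1))) 1 := by
        funext s'
        rw [Pi.single_apply]
        simp only [hok, true_and, Fin.ext_iff]
      rw [hfun]
      exact single_mem_Std _ (by simp only; omega)
    · have hfun : (fun s' : Fin (d (j + 1)) =>
          if okk a j s ∧ (s' : ℕ) = tgt a j s then (1 : k) else 0) = 0 := by
        funext s'
        simp [hok]
      rw [hfun]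
      exact Submodule.zero_mem _
  · rw [Std, Submodule.span_le]
    rintro _ ⟨s', hs', rfl⟩
    have hex : ∃ i, 1 ≤ i ∧ (s' : ℕ) < a i (j + 1) := ⟨i, h1, hs'⟩
    obtain ⟨L, hLdef⟩ : ∃ L, L = lay a (j + 1) s' := ⟨_, rfl⟩
    have hL := lay_spec hex
    have hLi := lay_le h1 hs'
    have hlow := lay_lower hex
    rw [← hLdef] at hL hLi hlow
    obtain ⟨s, hsdef⟩ : ∃ s, s = ah a (L - 1) j + ((s' : ℕ) - ah a (L - 1) (j + 1)) := ⟨_, rfl⟩
    have hs_lt : s < a L j := by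
      by_cases hL1 : L = 1
      · rw [hL1] at hsdef hlow hL ⊢
        simp only [Nat.sub_self, ah_zero] at hsdef hlow
        have := H3 1 j le_rfl (by omega) h3
        omega
      · have e1 := ah_pos a (by omega : 1 ≤ L - 1) j
        have e2 := ah_pos a (by omega : 1 ≤ L - 1) (j + 1)
        have := H4 L j (by omega) (by omega) h3
        rw [e1, e2] at hsdef
        rw [e2] at hlow
        omega
    have hs_lo : ah a (L - 1) j ≤ s := by omega
    have hLj : a L j ≤ d j := le_d H1 H2 hL.1 (by omega) (by omega)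
    have hLij : a L j ≤ a i j := mono_i' H2 hL.1 hLi h2 (by omega)
    have hlay : lay a j s = L := by
      apply lay_eq _ hL.1 hs_lo hs_lt
      intro i' hi1 hi2
      exact mono_i' H2 hi1 (by omega) (by omega) (by omega)
    have htgt : tgt a j s = (s' : ℕ) := by
      rw [tgt_eq hlay]; omega
    have hokk : okk a j s := by
      rw [okk, htgt, hlay]; exact hL.2
    refine Submodule.mem_map.2 ⟨Pi.single (⟨s, by omega⟩ : Fin (d j)) 1,
      single_mem_Std _ (by simp only; omega), ?_⟩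
    rw [NF_apply_single]
    funext s''
    rw [Pi.single_apply]
    simp only [hokk, true_and, htgt, Fin.ext_iff]

theorem img_NF (H1 : ∀ j, 1 ≤ j → j ≤ r → a j j = d j)
    (H2 : ∀ i j, 1 ≤ i → i < j → j ≤ r → a i j ≤ a (i + 1) j)
    (H3 : ∀ i j, 1 ≤ i → i ≤ j → j < r → a i (j + 1) ≤ a i j)
    (H4 : ∀ i j, 1 < i → i ≤ j → j < r → a i (j + 1) + a (i - 1) j ≤ a i j + a (i - 1) (j + 1))
    {i : ℕ} (h1 : 1 ≤ i) : ∀ n, i + n ≤ r →
      img (fun j => Matrix.toLin' (NF k d a j)) i (i + n) = Std k (d (i + n)) (a i (i + n)) := by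
  intro n
  induction n with
  | zero =>
    intro h
    rw [Nat.add_zero, img_self, H1 i h1 (by omega), Std_top]
  | succ n ih =>
    intro h
    have e := img_succ (fun j => Matrix.toLin' (NF k d a j)) (Nat.le_add_right i n)
    rw [show i + (n + 1) = i + n + 1 from rfl, e, ih (by omega)]
    exact map_Std_NF H1 H2 H3 H4 h1 (Nat.le_add_right i n) (by omega)

theorem finrank_img_NF (H1 : ∀ j, 1 ≤ j → j ≤ r → a j j = d j)
    (H2 : ∀ i j, 1 ≤ i → i < j → j ≤ r → a i j ≤ a (i + 1) j)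
    (H3 : ∀ i j, 1 ≤ i → i ≤ j → j < r → a i (j + 1) ≤ a i j)
    (H4 : ∀ i j, 1 < i → i ≤ j → j < r → a i (j + 1) + a (i - 1) j ≤ a i j + a (i - 1) (j + 1))
    {i j : ℕ} (h1 : 1 ≤ i) (h2 : i ≤ j) (h3 : j ≤ r) :
    finrank k (img (fun j => Matrix.toLin' (NF k d a j)) i j) = a i j := by
  obtain ⟨n, rfl⟩ := Nat.exists_eq_add_of_le h2
  rw [img_NF H1 H2 H3 H4 h1 n h3]
  exact finrank_Std (le_d H1 H2 h1 h2 h3)

end main

end Groth.Agent.Lib.Helper6.ChainRank
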