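import Groth.Prelude.Def_Conn
import Mathlib.LinearAlgebra.FreeModule.Finite.Basic
import Mathlib.LinearAlgebra.Dual.Basis

set_option autoImplicit false
universe u
open TensorProduct

namespace Groth.Agent.Lib.helper6

section
variable {B Ω N E G : Type u} [CommRing B]
  [AddCommGroup Ω] [Module B Ω] [AddCommGroup N] [Module B N]
  [AddCommGroup E] [Module B E] [AddCommGroup G] [Module B G]

/-- Coordinate expansion of an element of `N ⊗ Ω` along a finite basis of `Ω`. -/
theorem tensor_eq_sum_coord {κ : Type*} [Fintype κ] (bΩ : Module.Basis κ B Ω) (x : N ⊗[B] Ω) :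
    x = ∑ q, (TensorProduct.rid B N (TensorProduct.map LinearMap.id (bΩ.coord q) x)) ⊗ₜ[B] bΩ q := by
  induction x using TensorProduct.induction_on with
  | zero => simp
  | tmul n ω =>
    simp only [TensorProduct.map_tmul, LinearMap.id_apply, TensorProduct.rid_tmul,
      TensorProduct.smul_tmul, Module.Basis.coord_apply]
    rw [← TensorProduct.tmul_sum, bΩ.sum_repr]
  | add x y hx hy =>
    simp only [map_add, TensorProduct.add_tmul, Finset.sum_add_distrib]
    rw [← hx, ← hy]

/-- Two elements of `N ⊗ Ω`, `Ω` with a finite basis, agree iff all their coordinates agree. -/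
theorem tensor_ext_coord {κ : Type*} [Fintype κ] (bΩ : Module.Basis κ B Ω) (x y : N ⊗[B] Ω)
    (h : ∀ q, TensorProduct.rid B N (TensorProduct.map LinearMap.id (bΩ.coord q) x) =
      TensorProduct.rid B N (TensorProduct.map LinearMap.id (bΩ.coord q) y)) : x = y := by
  rw [tensor_eq_sum_coord bΩ x, tensor_eq_sum_coord bΩ y]
  exact Finset.sum_congr rfl fun q _ => by rw [h q]

theorem rid_map_applyₗ (θ : Ω →ₗ[B] B) (m : E) (s : (E →ₗ[B] G) ⊗[B] Ω) :
    (TensorProduct.rid B (E →ₗ[B] G) (TensorProduct.map LinearMap.id θ s)) m =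
      TensorProduct.rid B G (TensorProduct.map LinearMap.id θ
        (TensorProduct.map (LinearMap.applyₗ m) LinearMap.id s)) := by
  induction s using TensorProduct.induction_on with
  | zero => simp
  | tmul ψ ω => simp
  | add x y hx hy => simp only [map_add, LinearMap.add_apply, hx, hy]

/-- For `Ω` finite free, an element of `Hom(E,G) ⊗ Ω` is determined by its evaluations
`(ev_e ⊗ 1)`. -/
theorem hom_tensor_ext [Module.Finite B Ω] [Module.Free B Ω] (x y : (E →ₗ[B] G) ⊗[B] Ω)
    (h : ∀ e : E, TensorProduct.map (LinearMap.applyₗ e) (LinearMap.id : Ω →ₗ[B] Ω) x =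
      TensorProduct.map (LinearMap.applyₗ e) (LinearMap.id : Ω →ₗ[B] Ω) y) : x = y := by
  refine tensor_ext_coord (Module.Free.chooseBasis B Ω) x y fun q => ?_
  ext e
  rw [rid_map_applyₗ, rid_map_applyₗ, h e]

end

end Groth.Agent.Lib.helper6
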