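import Groth.Agent.Lib.Helper22.Coeff
import Groth.Prelude.Def_W4c3ghconstell

/-!
Isotypic components for simple subcoalgebras, subcomodules generated over a coacted algebra, and the
weight bookkeeping for `W4c3ghconstell` (θ-stability of equivariant modules).
Built on helper22's `ComodField`/`Coeff` (slices, dual action, subcoalgebras).
-/

set_option autoImplicit false
universe u v w x
open scoped TensorProduct
open Groth.Agent.Lib.helper22

namespace Groth.Agent.Lib.Helper6.Constell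

section Coalg

variable {k : Type u} [Field k] {A : Type v} [AddCommGroup A] [Module k A] [Coalgebra k A]

theorem isSubcoalg_sup {B B' : Submodule k A} (h : IsSubcoalg B) (h' : IsSubcoalg B') :
    IsSubcoalg (B ⊔ B') := by
  rw [isSubcoalg_iff] at h h' ⊢
  intro b hb f
  obtain ⟨x, hx, y, hy, rfl⟩ := Submodule.mem_sup.mp hb
  simp only [map_add]
  exact ⟨Submodule.add_mem_sup (h x hx f).1 (h' y hy f).1,
    Submodule.add_mem_sup (h x hx f).2 (h' y hy f).2⟩

theorem isSubcoalg_finsetSup {ι : Type*} (s : Finset ι) (B : ι → Submodule k A)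
    (h : ∀ i ∈ s, IsSubcoalg (B i)) : IsSubcoalg (s.sup B) := by
  classical
  induction s using Finset.induction_on with
  | empty =>
    rw [Finset.sup_empty]
    exact isSubcoalg_bot
  | insert i s hi ih =>
    rw [Finset.sup_insert]
    exact isSubcoalg_sup (h i (Finset.mem_insert_self i s))
      (ih (fun j hj => h j (Finset.mem_insert_of_mem hj)))

theorem exists_dual_of_disjoint (D E : Submodule k A) (h : D ⊓ E = ⊥) (φ : Module.Dual k A) :
    ∃ f : Module.Dual k A, (∀ d ∈ D, f d = φ d) ∧ ∀ e ∈ E, f e = 0 := by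
  have hj : LinearMap.ker (E.mkQ ∘ₗ D.subtype) = ⊥ := by
    rw [LinearMap.ker_eq_bot']
    intro d hd
    have h1 : (d : A) ∈ E := by
      have h0 : E.mkQ (d : A) = 0 := hd
      rwa [Submodule.mkQ_apply, Submodule.Quotient.mk_eq_zero] at h0
    have h2 : (d : A) ∈ D ⊓ E := ⟨d.2, h1⟩
    rw [h] at h2
    exact Subtype.ext ((Submodule.mem_bot k).mp h2)
  obtain ⟨r, hr⟩ := LinearMap.exists_leftInverse_of_injective _ hj
  refine ⟨φ ∘ₗ D.subtype ∘ₗ r ∘ₗ E.mkQ, ?_, ?_⟩
  · intro d hd
    have h1 : r (E.mkQ d) = ⟨d, hd⟩ := LinearMap.congr_fun hr ⟨d, hd⟩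
    simp only [LinearMap.comp_apply]
    rw [h1]
    rfl
  · intro e he
    simp only [LinearMap.comp_apply]
    have h0 : E.mkQ e = 0 := by
      rw [Submodule.mkQ_apply, Submodule.Quotient.mk_eq_zero]
      exact he
    rw [h0, map_zero, map_zero, map_zero]

theorem lslice_counit_comul (a : A) :
    lslice (Coalgebra.counit (R := k) (A := A)) (CoalgebraStruct.comul (R := k) a) = a :=
  coeffMap_counit_regular (k := k) a

theorem lslice_zero' {V : Type*} [AddCommGroup V] [Module k V] (x : V ⊗[k] A) :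
    lslice (0 : Module.Dual k V) x = 0 := by
  simp [lslice]

/-- a subcoalgebra inside `E + F` and meeting `E` trivially lies in `F` -/
theorem le_of_le_sup_of_disjoint {D E F : Submodule k A} (hD : IsSubcoalg D) (hE : IsSubcoalg E)
    (hF : IsSubcoalg F) (hle : D ≤ E ⊔ F) (hdis : D ⊓ E = ⊥) : D ≤ F := by
  obtain ⟨f, hfD, hfE⟩ := exists_dual_of_disjoint D E hdis (Coalgebra.counit (R := k) (A := A))
  intro d hd
  obtain ⟨e, he, p, hp, hsum⟩ := Submodule.mem_sup.mp (hle hd)
  have h1 : lslice f (CoalgebraStruct.comul (R := k) d) = d := by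
    obtain ⟨y, hy⟩ := hD.isSubcomod d hd
    have hy' : CoalgebraStruct.comul (R := k) d = D.subtype.rTensor A y := hy.symm
    have hfε : f ∘ₗ D.subtype = Coalgebra.counit (R := k) (A := A) ∘ₗ D.subtype :=
      LinearMap.ext fun x => hfD x.1 x.2
    rw [hy', lslice_rTensor, hfε, ← lslice_rTensor, ← hy']
    exact lslice_counit_comul d
  have h2 : lslice f (CoalgebraStruct.comul (R := k) e) = 0 := by
    obtain ⟨y, hy⟩ := hE.isSubcomod e he
    have hy' : CoalgebraStruct.comul (R := k) e = E.subtype.rTensor A y := hy.symm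
    have hf0 : f ∘ₗ E.subtype = 0 := LinearMap.ext fun x => hfE x.1 x.2
    rw [hy', lslice_rTensor, hf0]
    exact lslice_zero' y
  have h3 : lslice f (CoalgebraStruct.comul (R := k) p) ∈ F :=
    (mem_range_lTensor_iff F _).mp (hF.mem_lTensor hp) f
  have h4 : d = lslice f (CoalgebraStruct.comul (R := k) p) := by
    rw [← h1, ← hsum, map_add, map_add, h2, zero_add]
  rw [h4]
  exact h3

/-- a simple subcoalgebra meets the sum of finitely many other simple subcoalgebras trivially -/
theorem simple_inf_finsetSup_eq_bot (D₁ : W4c3ghconstell.SimpSub k A)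
    (s : Finset (W4c3ghconstell.SimpSub k A)) (h : D₁ ∉ s) :
    D₁.1 ⊓ s.sup (fun D => D.1) = ⊥ := by
  classical
  induction s using Finset.induction_on with
  | empty => rw [Finset.sup_empty, inf_bot_eq]
  | insert D₂ s hD₂ ih =>
    have hD₁s : D₁ ∉ s := fun hh => h (Finset.mem_insert_of_mem hh)
    have hne : D₁ ≠ D₂ := by
      intro hh
      apply h
      rw [hh]
      exact Finset.mem_insert_self _ _
    have ih' := ih hD₁s
    rw [Finset.sup_insert]
    obtain ⟨E, hEdef⟩ : ∃ E : Submodule k A, E = s.sup (fun D => D.1) := ⟨_, rfl⟩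
    rw [← hEdef] at ih' ⊢
    have hE : IsSubcoalg E := by
      rw [hEdef]
      exact isSubcoalg_finsetSup s _ (fun D _ => D.2.2.1)
    have hI : IsSubcoalg (D₁.1 ⊓ (D₂.1 ⊔ E)) :=
      IsSubcoalg.inf D₁.2.2.1 (isSubcoalg_sup D₂.2.2.1 hE)
    rcases D₁.2.2.2 _ inf_le_left hI with h0 | h1
    · exact h0
    · exfalso
      have hle : D₁.1 ≤ E ⊔ D₂.1 := by
        rw [sup_comm]
        exact inf_eq_left.mp h1
      have h2 : D₁.1 ≤ D₂.1 := le_of_le_sup_of_disjoint D₁.2.2.1 hE D₂.2.2.1 hle ih'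
      rcases D₂.2.2.2 D₁.1 h2 D₁.2.2.1 with h3 | h3
      · exact D₁.2.1 h3
      · exact hne (Subtype.ext h3)

end Coalg

section Comod

variable {k : Type u} [Field k] {A : Type v} [AddCommGroup A] [Module k A] [Coalgebra k A]
variable {M : Type w} [AddCommGroup M] [Module k M] [HopfRep.Comod k A M]

theorem mem_isoComp_iff (D : Submodule k A) (m : M) :
    m ∈ W4c3ghconstell.isoComp M D ↔
      HopfRep.Comod.coact (k := k) (A := A) m ∈ LinearMap.range (D.subtype.lTensor M) := Iff.rfl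

theorem actDual_congr_of_mem_isoComp {D : Submodule k A} {m : M}
    (hm : m ∈ W4c3ghconstell.isoComp M D) (f g : Module.Dual k A) (hfg : ∀ d ∈ D, f d = g d) :
    actDual M f m = actDual M g m := by
  obtain ⟨y, hy⟩ := (mem_isoComp_iff D m).mp hm
  have hfg' : f ∘ₗ D.subtype = g ∘ₗ D.subtype := LinearMap.ext fun x => hfg x.1 x.2
  rw [actDual_apply, actDual_apply, ← hy, slice_lTensor, slice_lTensor, hfg']

theorem actDual_zero (m : M) : actDual M (0 : Module.Dual k A) m = 0 := by
  simp [actDual_apply, slice]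

theorem isSubcomod_isoComp {D : Submodule k A} (hD : IsSubcoalg D) :
    HopfRep.IsSubcomod (k := k) (A := A) (W4c3ghconstell.isoComp M D) := by
  rw [isSubcomod_iff]
  intro f m hm
  rw [mem_isoComp_iff, mem_range_lTensor_iff]
  intro g
  have h1 : coeffMap A g m ∈ D := (mem_range_lTensor_iff D _).mp ((mem_isoComp_iff D m).mp hm) g
  have h2 := actDual_comm_of_isComodHom (coeffMap A g) (isComodHom_coeffMap g) f m
  change coeffMap A g (actDual M f m) ∈ D
  rw [h2]
  exact (isSubcomod_iff D).mp hD.isSubcomod f _ h1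

theorem isSubcomod_inf {W W' : Submodule k M} (h : HopfRep.IsSubcomod (k := k) (A := A) W)
    (h' : HopfRep.IsSubcomod (k := k) (A := A) W') :
    HopfRep.IsSubcomod (k := k) (A := A) (W ⊓ W') := by
  rw [isSubcomod_iff] at h h' ⊢
  intro f w hw
  exact ⟨h f w hw.1, h' f w hw.2⟩

theorem isSubcomod_top' : HopfRep.IsSubcomod (k := k) (A := A) (⊤ : Submodule k M) := by
  rw [isSubcomod_iff]
  intro f w _
  exact Submodule.mem_top

theorem mem_of_sum_mem {N : Submodule k M} (hN : HopfRep.IsSubcomod (k := k) (A := A) N)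
    (s : Finset (W4c3ghconstell.SimpSub k A)) (μ : W4c3ghconstell.SimpSub k A → M)
    (hμ : ∀ D ∈ s, μ D ∈ W4c3ghconstell.isoComp M D.1) (hsum : ∑ D ∈ s, μ D ∈ N)
    (D₁ : W4c3ghconstell.SimpSub k A) (hD₁ : D₁ ∈ s) : μ D₁ ∈ N := by
  classical
  have hdis := simple_inf_finsetSup_eq_bot D₁ (s.erase D₁) (Finset.notMem_erase D₁ s)
  obtain ⟨e, heD, heE⟩ := exists_dual_of_disjoint D₁.1 _ hdis (Coalgebra.counit (R := k) (A := A))
  have h1 := (isSubcomod_iff N).mp hN e _ hsum
  rw [← Finset.add_sum_erase s _ hD₁, map_add, map_sum] at h1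
  have h2 : actDual M e (μ D₁) = μ D₁ := by
    rw [actDual_congr_of_mem_isoComp (hμ D₁ hD₁) e _ heD]
    exact actDual_counit (μ D₁)
  have h3 : ∑ D ∈ s.erase D₁, actDual M e (μ D) = 0 := by
    apply Finset.sum_eq_zero
    intro D hD
    have hDs : D ∈ s := Finset.mem_of_mem_erase hD
    have hle : D.1 ≤ (s.erase D₁).sup (fun D => D.1) :=
      Finset.le_sup (f := fun D : W4c3ghconstell.SimpSub k A => D.1) hD
    rw [actDual_congr_of_mem_isoComp (hμ D hDs) e 0
      (fun d hd => by rw [heE d (hle hd)]; rfl)]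
    exact actDual_zero (μ D)
  rw [h2, h3, add_zero] at h1
  exact h1

/-- a nonzero subcomodule of a sum of isotypic components meets one of them -/
theorem exists_inf_isoComp_ne_bot {N : Submodule k M} (hN : HopfRep.IsSubcomod (k := k) (A := A) N)
    (hN0 : N ≠ ⊥)
    (htop : (⨆ D : W4c3ghconstell.SimpSub k A, W4c3ghconstell.isoComp M D.1) = ⊤) :
    ∃ D : W4c3ghconstell.SimpSub k A, N ⊓ W4c3ghconstell.isoComp M D.1 ≠ ⊥ := by
  classical
  obtain ⟨n, hn, hn0⟩ := (Submodule.ne_bot_iff N).mp hN0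
  have hmem : n ∈ ⨆ D : W4c3ghconstell.SimpSub k A, W4c3ghconstell.isoComp M D.1 := by
    rw [htop]
    exact Submodule.mem_top
  obtain ⟨s, hs⟩ := Submodule.exists_finset_of_mem_iSup _ hmem
  rw [Submodule.mem_iSup_finset_iff_exists_sum] at hs
  obtain ⟨μ, hμ⟩ := hs
  have hex : ∃ D₁ ∈ s, (μ D₁ : M) ≠ 0 := by
    by_contra hcon
    simp only [not_exists, not_and, not_not] at hcon
    apply hn0
    rw [← hμ]
    exact Finset.sum_eq_zero hcon
  obtain ⟨D₁, hD₁, hne⟩ := hex
  refine ⟨D₁, ?_⟩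
  have h1 : (μ D₁ : M) ∈ N :=
    mem_of_sum_mem hN s (fun D => (μ D : M)) (fun D _ => (μ D).2) (by rw [hμ]; exact hn) D₁ hD₁
  intro hbot
  have h2 : (μ D₁ : M) ∈ N ⊓ W4c3ghconstell.isoComp M D₁.1 := ⟨h1, (μ D₁).2⟩
  rw [hbot] at h2
  exact hne ((Submodule.mem_bot k).mp h2)

end Comod

section HopfMod

variable {k : Type u} [Field k] {A : Type v} [CommRing A] [Bialgebra k A]
variable {R : Type w} [CommRing R] [Algebra k R] [HopfRep.Comod k A R]
variable {M : Type x} [AddCommGroup M] [Module k M] [Module R M] [IsScalarTower k R M]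
  [HopfRep.Comod k A M] [TameAct.IsHopfMod k A R M]

omit [TameAct.IsHopfMod k A R M] [HopfRep.Comod k A R] [HopfRep.Comod k A M] in
theorem hmSMul_mem (G : Submodule R M) (t : R ⊗[k] A) (y : M ⊗[k] A)
    (hy : y ∈ LinearMap.range ((G.restrictScalars k).subtype.rTensor A)) :
    TameAct.hmSMul k A R M t y ∈ LinearMap.range ((G.restrictScalars k).subtype.rTensor A) := by
  obtain ⟨z, rfl⟩ := hy
  induction t using TensorProduct.induction_on with
  | zero =>
    rw [map_zero, LinearMap.zero_apply]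
    exact zero_mem _
  | add t₁ t₂ h₁ h₂ =>
    rw [map_add, LinearMap.add_apply]
    exact add_mem h₁ h₂
  | tmul r a =>
    induction z using TensorProduct.induction_on with
    | zero =>
      rw [map_zero, map_zero]
      exact zero_mem _
    | add z₁ z₂ h₁ h₂ =>
      rw [map_add, map_add]
      exact add_mem h₁ h₂
    | tmul g b =>
      refine ⟨(⟨r • (g : M), G.smul_mem r g.2⟩ : G.restrictScalars k) ⊗ₜ[k] (a * b), ?_⟩
      rw [LinearMap.rTensor_tmul, LinearMap.rTensor_tmul, TameAct.hmSMul_tmul]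
      rfl

/-- the `R`-span of a set stable (up to the span) under the dual action is a subcomodule -/
theorem isSubcomod_span (s : Set M)
    (hs : ∀ x ∈ s, ∀ f : Module.Dual k A, actDual M f x ∈ Submodule.span R s) :
    HopfRep.IsSubcomod (k := k) (A := A) ((Submodule.span R s).restrictScalars k) := by
  intro w hw
  have hw' : w ∈ Submodule.span R s := hw
  clear hw
  induction hw' using Submodule.span_induction with
  | mem x hx =>
    rw [mem_range_rTensor_iff]
    intro f
    exact hs x hx f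
  | zero =>
    rw [map_zero]
    exact zero_mem _
  | add x y _ _ hx hy =>
    rw [map_add]
    exact add_mem hx hy
  | smul r x _ hx =>
    rw [TameAct.IsHopfMod.coact_smul (k := k) (A := A)]
    exact hmSMul_mem _ _ _ hx

omit [TameAct.IsHopfMod k A R M] [HopfRep.Comod k A R] in
theorem genIn_le (S : Set (W4c3ghconstell.SimpSub k A)) (N : Submodule R M) :
    W4c3ghconstell.genIn k A R M S N ≤ N := by
  unfold W4c3ghconstell.genIn
  apply Submodule.span_le.mpr
  intro x hx
  simp only [Set.mem_iUnion] at hx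
  obtain ⟨D, _, hxD⟩ := hx
  exact (Submodule.mem_inf.mp hxD).1

omit [TameAct.IsHopfMod k A R M] [HopfRep.Comod k A R] in
theorem inf_isoComp_le_genIn {S : Set (W4c3ghconstell.SimpSub k A)} (N : Submodule R M)
    {D : W4c3ghconstell.SimpSub k A} (hD : D ∈ S) :
    N.restrictScalars k ⊓ W4c3ghconstell.isoComp M D.1 ≤
      (W4c3ghconstell.genIn k A R M S N).restrictScalars k := by
  intro x hx
  unfold W4c3ghconstell.genIn
  rw [Submodule.restrictScalars_mem]
  apply Submodule.subset_span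
  simp only [Set.mem_iUnion]
  exact ⟨D, hD, hx⟩

omit [TameAct.IsHopfMod k A R M] [HopfRep.Comod k A R] in
theorem genIn_le_of (S : Set (W4c3ghconstell.SimpSub k A)) (N G : Submodule R M)
    (h : ∀ D ∈ S, N.restrictScalars k ⊓ W4c3ghconstell.isoComp M D.1 ≤ G.restrictScalars k) :
    W4c3ghconstell.genIn k A R M S N ≤ G := by
  unfold W4c3ghconstell.genIn
  apply Submodule.span_le.mpr
  intro x hx
  simp only [Set.mem_iUnion] at hx
  obtain ⟨D, hD, hxD⟩ := hx
  exact h D hD hxD

theorem isSubcomod_genIn (S : Set (W4c3ghconstell.SimpSub k A)) (N : Submodule R M)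
    (hN : HopfRep.IsSubcomod (k := k) (A := A) (N.restrictScalars k)) :
    HopfRep.IsSubcomod (k := k) (A := A)
      ((W4c3ghconstell.genIn k A R M S N).restrictScalars k) := by
  unfold W4c3ghconstell.genIn
  apply isSubcomod_span
  intro x hx f
  simp only [Set.mem_iUnion] at hx
  obtain ⟨D, hD, hxD⟩ := hx
  apply Submodule.subset_span
  simp only [Set.mem_iUnion]
  refine ⟨D, hD, ?_⟩
  exact (isSubcomod_iff _).mp (isSubcomod_inf hN (isSubcomod_isoComp D.2.2.1)) f x hxD

omit [TameAct.IsHopfMod k A R M] [HopfRep.Comod k A R] in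
theorem genIn_genIn (S : Set (W4c3ghconstell.SimpSub k A)) (N : Submodule R M) :
    W4c3ghconstell.genIn k A R M S (W4c3ghconstell.genIn k A R M S N) =
      W4c3ghconstell.genIn k A R M S N := by
  apply le_antisymm (genIn_le S _)
  apply genIn_le_of
  intro D hD x hx
  have h1 : x ∈ (W4c3ghconstell.genIn k A R M S N).restrictScalars k ⊓
      W4c3ghconstell.isoComp M D.1 := ⟨inf_isoComp_le_genIn N hD hx, hx.2⟩
  exact inf_isoComp_le_genIn (W4c3ghconstell.genIn k A R M S N) hD h1

omit [TameAct.IsHopfMod k A R M] [HopfRep.Comod k A R] in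
theorem inf_isoComp_genIn {S : Set (W4c3ghconstell.SimpSub k A)} (N : Submodule R M)
    {D : W4c3ghconstell.SimpSub k A} (hD : D ∈ S) :
    (W4c3ghconstell.genIn k A R M S N).restrictScalars k ⊓ W4c3ghconstell.isoComp M D.1 =
      N.restrictScalars k ⊓ W4c3ghconstell.isoComp M D.1 := by
  apply le_antisymm
  · exact inf_le_inf_right _ (fun x hx => genIn_le S N hx)
  · exact le_inf (inf_isoComp_le_genIn N hD) inf_le_right

end HopfMod

section Theta

variable {k : Type u} [Field k] {A : Type v} [AddCommGroup A] [Module k A] [Coalgebra k A]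
variable {M : Type x} [AddCommGroup M] [Module k M] [HopfRep.Comod k A M]
variable {h : W4c3ghconstell.SimpSub k A → ℕ} {θ : W4c3ghconstell.SimpSub k A → ℚ}

theorem hilbAt_le
    (hfinM : ∀ D : W4c3ghconstell.SimpSub k A, Module.Finite k ↥(W4c3ghconstell.isoComp M D.1))
    (hrank : ∀ D : W4c3ghconstell.SimpSub k A,
      Module.finrank k ↥(W4c3ghconstell.isoComp M D.1) = h D)
    (P : Submodule k M) (D : W4c3ghconstell.SimpSub k A) :
    W4c3ghconstell.hilbAt M P D ≤ h D := by
  haveI := hfinM D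
  rw [← hrank D]
  exact Submodule.finrank_mono inf_le_right

theorem hilbAt_mono
    (hfinM : ∀ D : W4c3ghconstell.SimpSub k A, Module.Finite k ↥(W4c3ghconstell.isoComp M D.1))
    {P Q : Submodule k M} (hPQ : P ≤ Q) (D : W4c3ghconstell.SimpSub k A) :
    W4c3ghconstell.hilbAt M P D ≤ W4c3ghconstell.hilbAt M Q D := by
  haveI := hfinM D
  exact Submodule.finrank_mono (inf_le_inf_right _ hPQ)

theorem hilbAt_top
    (hrank : ∀ D : W4c3ghconstell.SimpSub k A,
      Module.finrank k ↥(W4c3ghconstell.isoComp M D.1) = h D)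
    (D : W4c3ghconstell.SimpSub k A) :
    W4c3ghconstell.hilbAt M (⊤ : Submodule k M) D = h D := by
  unfold W4c3ghconstell.hilbAt
  rw [top_inf_eq]
  exact hrank D

theorem hilbAt_eq_zero {P : Submodule k M} {D : W4c3ghconstell.SimpSub k A}
    (hP : P ⊓ W4c3ghconstell.isoComp M D.1 = ⊥) : W4c3ghconstell.hilbAt M P D = 0 := by
  unfold W4c3ghconstell.hilbAt
  rw [hP]
  exact finrank_bot k M

theorem hilbAt_pos
    (hfinM : ∀ D : W4c3ghconstell.SimpSub k A, Module.Finite k ↥(W4c3ghconstell.isoComp M D.1))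
    {P : Submodule k M} {D : W4c3ghconstell.SimpSub k A}
    (hP : P ⊓ W4c3ghconstell.isoComp M D.1 ≠ ⊥) : 0 < W4c3ghconstell.hilbAt M P D := by
  haveI := hfinM D
  unfold W4c3ghconstell.hilbAt
  haveI : Nontrivial ↥(P ⊓ W4c3ghconstell.isoComp M D.1) :=
    (Submodule.nontrivial_iff_ne_bot).mpr hP
  exact Module.finrank_pos

theorem summable_abs (hfin : {D | θ D < 0}.Finite)
    (hsum : HasSum (fun D => (θ D : ℝ) * (h D : ℝ)) 0) :
    Summable (fun D => |(θ D : ℝ)| * (h D : ℝ)) := by
  have hg : Summable (fun D => (|(θ D : ℝ)| - (θ D : ℝ)) * (h D : ℝ)) := by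
    apply summable_of_hasFiniteSupport
    apply hfin.subset
    intro D hD
    rw [Function.mem_support] at hD
    by_contra hcon
    apply hD
    have h0 : (0 : ℝ) ≤ (θ D : ℝ) := by
      have h00 : ¬ θ D < 0 := hcon
      exact_mod_cast not_lt.mp h00
    rw [abs_of_nonneg h0, sub_self, zero_mul]
  refine (hsum.summable.add hg).congr (fun D => ?_)
  ring

theorem summable_theta
    (hfinM : ∀ D : W4c3ghconstell.SimpSub k A, Module.Finite k ↥(W4c3ghconstell.isoComp M D.1))
    (hrank : ∀ D : W4c3ghconstell.SimpSub k A,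
      Module.finrank k ↥(W4c3ghconstell.isoComp M D.1) = h D)
    (hfin : {D | θ D < 0}.Finite)
    (hsum : HasSum (fun D => (θ D : ℝ) * (h D : ℝ)) 0) (P : Submodule k M) :
    Summable (fun D => (θ D : ℝ) * (W4c3ghconstell.hilbAt M P D : ℝ)) := by
  refine Summable.of_norm_bounded (summable_abs hfin hsum) (fun D => ?_)
  rw [Real.norm_eq_abs, abs_mul, Nat.abs_cast]
  exact mul_le_mul_of_nonneg_left (Nat.cast_le.mpr (hilbAt_le hfinM hrank P D)) (abs_nonneg _)

theorem theta_le_theta
    (hfinM : ∀ D : W4c3ghconstell.SimpSub k A, Module.Finite k ↥(W4c3ghconstell.isoComp M D.1))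
    (hrank : ∀ D : W4c3ghconstell.SimpSub k A,
      Module.finrank k ↥(W4c3ghconstell.isoComp M D.1) = h D)
    (hfin : {D | θ D < 0}.Finite)
    (hsum : HasSum (fun D => (θ D : ℝ) * (h D : ℝ)) 0) {P Q : Submodule k M} (hPQ : P ≤ Q)
    (hneg : ∀ D, θ D < 0 →
      P ⊓ W4c3ghconstell.isoComp M D.1 = Q ⊓ W4c3ghconstell.isoComp M D.1) :
    W4c3ghconstell.theta M θ P ≤ W4c3ghconstell.theta M θ Q := by
  unfold W4c3ghconstell.theta
  refine Summable.tsum_le_tsum (fun D => ?_) (summable_theta hfinM hrank hfin hsum P)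
    (summable_theta hfinM hrank hfin hsum Q)
  by_cases hD : θ D < 0
  · have h1 : W4c3ghconstell.hilbAt M P D = W4c3ghconstell.hilbAt M Q D := by
      unfold W4c3ghconstell.hilbAt
      rw [hneg D hD]
    rw [h1]
  · have h0 : (0 : ℝ) ≤ (θ D : ℝ) := by exact_mod_cast not_lt.mp hD
    exact mul_le_mul_of_nonneg_left (Nat.cast_le.mpr (hilbAt_mono hfinM hPQ D)) h0

theorem term_nonneg {P : Submodule k M}
    (hP : ∀ D, θ D < 0 → P ⊓ W4c3ghconstell.isoComp M D.1 = ⊥) (D : W4c3ghconstell.SimpSub k A) :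
    0 ≤ (θ D : ℝ) * (W4c3ghconstell.hilbAt M P D : ℝ) := by
  by_cases hD : θ D < 0
  · rw [hilbAt_eq_zero (hP D hD), Nat.cast_zero, mul_zero]
  · have h0 : (0 : ℝ) ≤ (θ D : ℝ) := by exact_mod_cast not_lt.mp hD
    exact mul_nonneg h0 (Nat.cast_nonneg _)

theorem theta_nonneg_of {P : Submodule k M}
    (hP : ∀ D, θ D < 0 → P ⊓ W4c3ghconstell.isoComp M D.1 = ⊥) :
    0 ≤ W4c3ghconstell.theta M θ P := by
  unfold W4c3ghconstell.theta
  exact tsum_nonneg (term_nonneg hP)

theorem theta_pos_of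
    (hfinM : ∀ D : W4c3ghconstell.SimpSub k A, Module.Finite k ↥(W4c3ghconstell.isoComp M D.1))
    (hrank : ∀ D : W4c3ghconstell.SimpSub k A,
      Module.finrank k ↥(W4c3ghconstell.isoComp M D.1) = h D)
    (hfin : {D | θ D < 0}.Finite)
    (hsum : HasSum (fun D => (θ D : ℝ) * (h D : ℝ)) 0) {P : Submodule k M}
    (hP : ∀ D, θ D < 0 → P ⊓ W4c3ghconstell.isoComp M D.1 = ⊥)
    (D₁ : W4c3ghconstell.SimpSub k A) (hD₁ : 0 < θ D₁)
    (hne : P ⊓ W4c3ghconstell.isoComp M D₁.1 ≠ ⊥) :
    0 < W4c3ghconstell.theta M θ P := by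
  unfold W4c3ghconstell.theta
  refine Summable.tsum_pos (summable_theta hfinM hrank hfin hsum P) (term_nonneg hP) D₁ ?_
  have h0 : (0 : ℝ) < (θ D₁ : ℝ) := by exact_mod_cast hD₁
  exact mul_pos h0 (Nat.cast_pos.mpr (hilbAt_pos hfinM hne))

theorem theta_top
    (hrank : ∀ D : W4c3ghconstell.SimpSub k A,
      Module.finrank k ↥(W4c3ghconstell.isoComp M D.1) = h D)
    (hsum : HasSum (fun D => (θ D : ℝ) * (h D : ℝ)) 0) :
    W4c3ghconstell.theta M θ (⊤ : Submodule k M) = 0 := by
  unfold W4c3ghconstell.theta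
  have h1 : (fun D => (θ D : ℝ) * (W4c3ghconstell.hilbAt M (⊤ : Submodule k M) D : ℝ)) =
      fun D => (θ D : ℝ) * (h D : ℝ) := by
    funext D
    rw [hilbAt_top hrank D]
  rw [h1]
  exact hsum.tsum_eq

end Theta

end Groth.Agent.Lib.Helper6.Constell
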