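import Groth.Agent.Lib.Helper6.Constell

/-!
The five `W4c3ghconstell` stability statements (S16010–S16013, S16018), with the hypotheses they use.
-/

set_option autoImplicit false
universe u v w x
open scoped TensorProduct
open Groth.Agent.Lib.helper22

namespace Groth.Agent.Lib.Helper6.Constell

section Pos

variable {k : Type u} [Field k] {A : Type v} [AddCommGroup A] [Module k A] [Coalgebra k A]
variable {M : Type x} [AddCommGroup M] [Module k M] [HopfRep.Comod k A M]
variable {h : W4c3ghconstell.SimpSub k A → ℕ} {θ : W4c3ghconstell.SimpSub k A → ℚ}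

theorem theta_pos_of_neg_parts_bot
    (hfinM : ∀ D : W4c3ghconstell.SimpSub k A, Module.Finite k ↥(W4c3ghconstell.isoComp M D.1))
    (hrank : ∀ D : W4c3ghconstell.SimpSub k A,
      Module.finrank k ↥(W4c3ghconstell.isoComp M D.1) = h D)
    (htop : (⨆ D : W4c3ghconstell.SimpSub k A, W4c3ghconstell.isoComp M D.1) = ⊤)
    (hfin : {D | θ D < 0}.Finite)
    (hsum : HasSum (fun D => (θ D : ℝ) * (h D : ℝ)) 0)
    (hθ : ∀ D, h D ≠ 0 → θ D ≠ 0)
    {P : Submodule k M} (hPsub : HopfRep.IsSubcomod (k := k) (A := A) P) (hP0 : P ≠ ⊥)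
    (hP : ∀ D, θ D < 0 → P ⊓ W4c3ghconstell.isoComp M D.1 = ⊥) :
    0 < W4c3ghconstell.theta M θ P := by
  obtain ⟨D₁, hD₁⟩ := exists_inf_isoComp_ne_bot hPsub hP0 htop
  have hnotneg : ¬ θ D₁ < 0 := fun hh => hD₁ (hP D₁ hh)
  have hpos := hilbAt_pos hfinM hD₁
  have hle := hilbAt_le hfinM hrank P D₁
  have hh : h D₁ ≠ 0 := by omega
  have hθ1 := hθ D₁ hh
  have hθpos : 0 < θ D₁ := lt_of_le_of_ne (not_lt.mp hnotneg) (Ne.symm hθ1)
  exact theta_pos_of hfinM hrank hfin hsum hP D₁ hθpos hD₁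

end Pos

section Main

variable {k : Type u} [Field k] {A : Type v} [CommRing A] [Bialgebra k A]
variable {R : Type w} [CommRing R] [Algebra k R] [HopfRep.Comod k A R]
variable {M : Type x} [AddCommGroup M] [Module k M] [Module R M] [IsScalarTower k R M]
  [HopfRep.Comod k A M] [TameAct.IsHopfMod k A R M]
variable {h : W4c3ghconstell.SimpSub k A → ℕ} {θ : W4c3ghconstell.SimpSub k A → ℚ}

theorem isSubcomod_genIn_top (S : Set (W4c3ghconstell.SimpSub k A)) :
    HopfRep.IsSubcomod (k := k) (A := A)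
      ((W4c3ghconstell.genIn k A R M S ⊤).restrictScalars k) := by
  apply isSubcomod_genIn
  rw [Submodule.restrictScalars_top]
  exact isSubcomod_top'

omit [TameAct.IsHopfMod k A R M] [HopfRep.Comod k A R] in
theorem isoComp_le_genIn_top {S : Set (W4c3ghconstell.SimpSub k A)}
    {D : W4c3ghconstell.SimpSub k A} (hD : D ∈ S) :
    W4c3ghconstell.isoComp M D.1 ≤ (W4c3ghconstell.genIn k A R M S ⊤).restrictScalars k := by
  refine le_trans ?_ (inf_isoComp_le_genIn (S := S) (⊤ : Submodule R M) hD)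
  rw [Submodule.restrictScalars_top, top_inf_eq]

/-- S16010 -/
theorem genIn_neg_eq_top_of_isThetaStable
    (hfin : {D | θ D < 0}.Finite) (hsum : HasSum (fun D => (θ D : ℝ) * (h D : ℝ)) 0)
    (hne : ∃ D, θ D ≠ 0 ∧ h D ≠ 0)
    (hM : W4c3ghconstell.IsConstellation k A R M h)
    (hst : W4c3ghconstell.IsThetaStable k A R M θ) :
    W4c3ghconstell.genIn k A R M {D | θ D < 0} ⊤ = ⊤ := by
  have hfinM := fun D => (hM.2.2 D).1
  have hrank := fun D => (hM.2.2 D).2
  obtain ⟨N, hNdef⟩ : ∃ N : Submodule R M,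
      N = W4c3ghconstell.genIn k A R M {D | θ D < 0} ⊤ := ⟨_, rfl⟩
  rw [← hNdef]
  have hNsub : HopfRep.IsSubcomod (k := k) (A := A) (N.restrictScalars k) := by
    rw [hNdef]
    exact isSubcomod_genIn_top _
  have hMD : ∀ D, θ D < 0 → W4c3ghconstell.isoComp M D.1 ≤ N.restrictScalars k := by
    intro D hD
    rw [hNdef]
    exact isoComp_le_genIn_top (S := {D | θ D < 0}) hD
  have hle : W4c3ghconstell.theta M θ (N.restrictScalars k) ≤ W4c3ghconstell.theta M θ ⊤ :=
    theta_le_theta hfinM hrank hfin hsum le_top (fun D hD => by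
      rw [top_inf_eq]
      exact inf_eq_right.mpr (hMD D hD))
  by_contra hN
  by_cases hbot : N = ⊥
  · have hzero : ∀ D, θ D < 0 → h D = 0 := by
      intro D hD
      have h1 : W4c3ghconstell.isoComp M D.1 = ⊥ := by
        rw [eq_bot_iff]
        have h2 := hMD D hD
        rw [hbot, Submodule.restrictScalars_bot] at h2
        exact h2
      rw [← hrank D, h1]
      exact finrank_bot k M
    have hnn : ∀ D, 0 ≤ (θ D : ℝ) * (h D : ℝ) := by
      intro D
      by_cases hD : θ D < 0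
      · rw [hzero D hD, Nat.cast_zero, mul_zero]
      · have h0 : (0 : ℝ) ≤ (θ D : ℝ) := by exact_mod_cast not_lt.mp hD
        exact mul_nonneg h0 (Nat.cast_nonneg _)
    have hall := (hasSum_zero_iff_of_nonneg hnn).mp hsum
    obtain ⟨D, hθD, hhD⟩ := hne
    have h3 := congrFun hall D
    simp only [Pi.zero_apply, mul_eq_zero, Rat.cast_eq_zero, Nat.cast_eq_zero] at h3
    rcases h3 with h1 | h1
    · exact hθD h1
    · exact hhD h1
  · have hpos := hst.2 N hNsub hbot hN
    have htop0 := hst.1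
    linarith

/-- S16018 -/
theorem genIn_neg_eq_top_of_isThetaSemistable
    (hfin : {D | θ D < 0}.Finite) (hsum : HasSum (fun D => (θ D : ℝ) * (h D : ℝ)) 0)
    (hM : W4c3ghconstell.IsConstellation k A R M h)
    (hθ : ∀ D, θ D ≠ 0)
    (hss : W4c3ghconstell.IsThetaSemistable k A R M θ) :
    W4c3ghconstell.genIn k A R M {D | θ D < 0} ⊤ = ⊤ := by
  have hfinM := fun D => (hM.2.2 D).1
  have hrank := fun D => (hM.2.2 D).2
  obtain ⟨N, hNdef⟩ : ∃ N : Submodule R M,
      N = W4c3ghconstell.genIn k A R M {D | θ D < 0} ⊤ := ⟨_, rfl⟩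
  rw [← hNdef]
  have hNsub : HopfRep.IsSubcomod (k := k) (A := A) (N.restrictScalars k) := by
    rw [hNdef]
    exact isSubcomod_genIn_top _
  have hMD : ∀ D, θ D < 0 → W4c3ghconstell.isoComp M D.1 ≤ N.restrictScalars k := by
    intro D hD
    rw [hNdef]
    exact isoComp_le_genIn_top (S := {D | θ D < 0}) hD
  have hle : W4c3ghconstell.theta M θ (N.restrictScalars k) ≤ W4c3ghconstell.theta M θ ⊤ :=
    theta_le_theta hfinM hrank hfin hsum le_top (fun D hD => by
      rw [top_inf_eq]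
      exact inf_eq_right.mpr (hMD D hD))
  have h1 := hss.2 N hNsub
  have h2 := hss.1
  have hN0 : W4c3ghconstell.theta M θ (N.restrictScalars k) = 0 := by
    rw [h2] at hle
    exact le_antisymm hle h1
  have hsN := summable_theta hfinM hrank hfin hsum (N.restrictScalars k)
  have hg : HasSum (fun D => (θ D : ℝ) * (h D : ℝ) -
      (θ D : ℝ) * (W4c3ghconstell.hilbAt M (N.restrictScalars k) D : ℝ)) 0 := by
    have h3 := hsum.sub hsN.hasSum
    have h4 : (∑' D, (θ D : ℝ) * (W4c3ghconstell.hilbAt M (N.restrictScalars k) D : ℝ)) = 0 := hN0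
    rw [h4, sub_zero] at h3
    exact h3
  have hnn : ∀ D, 0 ≤ (θ D : ℝ) * (h D : ℝ) -
      (θ D : ℝ) * (W4c3ghconstell.hilbAt M (N.restrictScalars k) D : ℝ) := by
    intro D
    rw [sub_nonneg]
    by_cases hD : θ D < 0
    · have h5 : W4c3ghconstell.hilbAt M (N.restrictScalars k) D = h D := by
        unfold W4c3ghconstell.hilbAt
        rw [inf_eq_right.mpr (hMD D hD)]
        exact hrank D
      rw [h5]
    · have h0 : (0 : ℝ) ≤ (θ D : ℝ) := by exact_mod_cast not_lt.mp hD
      exact mul_le_mul_of_nonneg_left (Nat.cast_le.mpr (hilbAt_le hfinM hrank _ D)) h0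
  have hall := (hasSum_zero_iff_of_nonneg hnn).mp hg
  have hMDall : ∀ D : W4c3ghconstell.SimpSub k A,
      W4c3ghconstell.isoComp M D.1 ≤ N.restrictScalars k := by
    intro D
    have h4 := congrFun hall D
    simp only [Pi.zero_apply] at h4
    have h5 : (θ D : ℝ) * ((h D : ℝ) -
        (W4c3ghconstell.hilbAt M (N.restrictScalars k) D : ℝ)) = 0 := by
      rw [mul_sub]
      exact h4
    have hθD : (θ D : ℝ) ≠ 0 := by exact_mod_cast hθ D
    have h6 : (W4c3ghconstell.hilbAt M (N.restrictScalars k) D : ℝ) = (h D : ℝ) := by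
      have h60 := (mul_eq_zero.mp h5).resolve_left hθD
      linarith
    have h7 : W4c3ghconstell.hilbAt M (N.restrictScalars k) D = h D := by exact_mod_cast h6
    haveI := hfinM D
    have h8 : N.restrictScalars k ⊓ W4c3ghconstell.isoComp M D.1 =
        W4c3ghconstell.isoComp M D.1 :=
      Submodule.eq_of_le_of_finrank_eq inf_le_right (by rw [hrank D]; exact h7)
    exact inf_eq_right.mp h8
  rw [eq_top_iff]
  intro x _
  have hx : x ∈ ⨆ D : W4c3ghconstell.SimpSub k A, W4c3ghconstell.isoComp M D.1 := by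
    rw [hM.2.1]
    exact Submodule.mem_top
  exact (iSup_le hMDall) hx

/-- S16011 -/
theorem isThetaSemistable_of_forall_genIn_neg
    (hfin : {D | θ D < 0}.Finite) (hsum : HasSum (fun D => (θ D : ℝ) * (h D : ℝ)) 0)
    (hM : W4c3ghconstell.IsConstellation k A R M h)
    (h0 : W4c3ghconstell.theta M θ ⊤ = 0)
    (hss : ∀ N : Submodule R M, HopfRep.IsSubcomod (k := k) (A := A) (N.restrictScalars k) →
      N ≠ ⊥ → N ≠ ⊤ → W4c3ghconstell.genIn k A R M {D | θ D < 0} N = N →
      0 ≤ W4c3ghconstell.theta M θ (N.restrictScalars k)) :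
    W4c3ghconstell.IsThetaSemistable k A R M θ := by
  have hfinM := fun D => (hM.2.2 D).1
  have hrank := fun D => (hM.2.2 D).2
  refine ⟨h0, ?_⟩
  intro N hN
  obtain ⟨N', hN'def⟩ : ∃ N' : Submodule R M,
      N' = W4c3ghconstell.genIn k A R M {D | θ D < 0} N := ⟨_, rfl⟩
  have hN'le : N' ≤ N := by
    rw [hN'def]
    exact genIn_le _ _
  by_cases hbot : N' = ⊥
  · apply theta_nonneg_of
    intro D hD
    rw [eq_bot_iff]
    have h1 := inf_isoComp_le_genIn (S := {D | θ D < 0}) N hD
    rw [← hN'def, hbot, Submodule.restrictScalars_bot] at h1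
    exact h1
  by_cases htop : N' = ⊤
  · rw [htop] at hN'le
    have h1 : N = ⊤ := top_le_iff.mp hN'le
    rw [h1, Submodule.restrictScalars_top, h0]
  have h1 := hss N' (by rw [hN'def]; exact isSubcomod_genIn _ _ hN) hbot htop
    (by rw [hN'def]; exact genIn_genIn _ _)
  have h2 : W4c3ghconstell.theta M θ (N'.restrictScalars k) ≤
      W4c3ghconstell.theta M θ (N.restrictScalars k) :=
    theta_le_theta hfinM hrank hfin hsum (fun x hx => hN'le hx)
      (fun D hD => by rw [hN'def]; exact inf_isoComp_genIn N hD)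
  exact le_trans h1 h2

/-- S16012 -/
theorem isThetaStable_of_forall_genIn_neg
    (hfin : {D | θ D < 0}.Finite) (hsum : HasSum (fun D => (θ D : ℝ) * (h D : ℝ)) 0)
    (hM : W4c3ghconstell.IsConstellation k A R M h)
    (hθ : ∀ D, h D ≠ 0 → θ D ≠ 0)
    (h0 : W4c3ghconstell.theta M θ ⊤ = 0)
    (hs : ∀ N : Submodule R M, HopfRep.IsSubcomod (k := k) (A := A) (N.restrictScalars k) →
      N ≠ ⊥ → N ≠ ⊤ → W4c3ghconstell.genIn k A R M {D | θ D < 0} N = N →
      0 < W4c3ghconstell.theta M θ (N.restrictScalars k)) :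
    W4c3ghconstell.IsThetaStable k A R M θ := by
  have hfinM := fun D => (hM.2.2 D).1
  have hrank := fun D => (hM.2.2 D).2
  refine ⟨h0, ?_⟩
  intro N hN hNbot hNtop
  obtain ⟨N', hN'def⟩ : ∃ N' : Submodule R M,
      N' = W4c3ghconstell.genIn k A R M {D | θ D < 0} N := ⟨_, rfl⟩
  have hN'le : N' ≤ N := by
    rw [hN'def]
    exact genIn_le _ _
  by_cases hbot : N' = ⊥
  · have hP : ∀ D, θ D < 0 →
        N.restrictScalars k ⊓ W4c3ghconstell.isoComp M D.1 = ⊥ := by
      intro D hD
      rw [eq_bot_iff]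
      have h1 := inf_isoComp_le_genIn (S := {D | θ D < 0}) N hD
      rw [← hN'def, hbot, Submodule.restrictScalars_bot] at h1
      exact h1
    have hNk0 : N.restrictScalars k ≠ ⊥ :=
      fun hh => hNbot ((Submodule.restrictScalars_eq_bot_iff k R M).mp hh)
    exact theta_pos_of_neg_parts_bot hfinM hrank hM.2.1 hfin hsum hθ hN hNk0 hP
  by_cases htop : N' = ⊤
  · exfalso
    apply hNtop
    rw [htop] at hN'le
    exact top_le_iff.mp hN'le
  have h1 := hs N' (by rw [hN'def]; exact isSubcomod_genIn _ _ hN) hbot htop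
    (by rw [hN'def]; exact genIn_genIn _ _)
  have h2 : W4c3ghconstell.theta M θ (N'.restrictScalars k) ≤
      W4c3ghconstell.theta M θ (N.restrictScalars k) :=
    theta_le_theta hfinM hrank hfin hsum (fun x hx => hN'le hx)
      (fun D hD => by rw [hN'def]; exact inf_isoComp_genIn N hD)
  exact lt_of_lt_of_le h1 h2

omit [TameAct.IsHopfMod k A R M] [HopfRep.Comod k A R] in
/-- S16013 -/
theorem isThetaStable_of_genIn_unit
    (hfin : {D | θ D < 0}.Finite) (hsum : HasSum (fun D => (θ D : ℝ) * (h D : ℝ)) 0)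
    (hM : W4c3ghconstell.IsConstellation k A R M h)
    (D₀ : W4c3ghconstell.SimpSub k A) (h1 : h D₀ = 1) (hneg : ∀ D, θ D < 0 ↔ D = D₀)
    (hθ : ∀ D, h D ≠ 0 → θ D ≠ 0)
    (hgen : W4c3ghconstell.genIn k A R M {D₀} ⊤ = ⊤) :
    W4c3ghconstell.IsThetaStable k A R M θ := by
  have hfinM := fun D => (hM.2.2 D).1
  have hrank := fun D => (hM.2.2 D).2
  refine ⟨theta_top hrank hsum, ?_⟩
  intro N hN hNbot hNtop
  have hD₀ : N.restrictScalars k ⊓ W4c3ghconstell.isoComp M D₀.1 = ⊥ := by
    by_contra hne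
    apply hNtop
    have hpos := hilbAt_pos hfinM hne
    haveI := hfinM D₀
    have heq : N.restrictScalars k ⊓ W4c3ghconstell.isoComp M D₀.1 =
        W4c3ghconstell.isoComp M D₀.1 :=
      Submodule.eq_of_le_of_finrank_le inf_le_right (by rw [hrank D₀, h1]; exact hpos)
    have hle : W4c3ghconstell.isoComp M D₀.1 ≤ N.restrictScalars k := inf_eq_right.mp heq
    rw [eq_top_iff, ← hgen]
    apply genIn_le_of
    intro D hD
    rw [Set.mem_singleton_iff] at hD
    rw [hD, Submodule.restrictScalars_top, top_inf_eq]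
    exact hle
  have hP : ∀ D, θ D < 0 →
      N.restrictScalars k ⊓ W4c3ghconstell.isoComp M D.1 = ⊥ := by
    intro D hD
    rw [(hneg D).mp hD]
    exact hD₀
  have hNk0 : N.restrictScalars k ≠ ⊥ :=
    fun hh => hNbot ((Submodule.restrictScalars_eq_bot_iff k R M).mp hh)
  exact theta_pos_of_neg_parts_bot hfinM hrank hM.2.1 hfin hsum hθ hN hNk0 hP

end Main

end Groth.Agent.Lib.Helper6.Constell
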