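/-
Crimps of a double cover of a DVR with basis `1, y`, `y^2 = u` (helper6).
Used by S13880, S13881.
-/
import Mathlib

set_option autoImplicit false
universe u v

namespace Groth.Agent.Lib.helper6.Crimp

open Module

open Pointwise in
theorem crimp_general {R : Type u} [CommRing R] [IsDomain R] [IsDiscreteValuationRing R]
    (t : R) (ht : Irreducible t) (h2 : IsUnit (2 : R))
    {S' : Type v} [CommRing S'] [Algebra R S'] (β : Basis (Fin 2) R S') (hβ0 : β 0 = 1)
    (u : R) (hy : β 1 * β 1 = algebraMap R S' u) (c : ℕ) (hu : Associated u (t ^ c))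
    (b : ℕ) (S : Subalgebra R S') :
    ((∃ bS : Basis (Fin 2) R S,
        Ideal.span {Algebra.discr R ⇑bS} = Ideal.span {t ^ b}) ↔
      ∃ n : ℕ, b = 2 * n + c ∧
        Subalgebra.toSubmodule S = Submodule.span R {(1 : S')} ⊔
          Ideal.span {t ^ n} • (⊤ : Submodule R S')) ∧
    (∀ n : ℕ, ∀ w : R, w = u * t ^ (2 * n) →
      Subalgebra.toSubmodule S = Submodule.span R {(1 : S')} ⊔
          Ideal.span {t ^ n} • (⊤ : Submodule R S') →
      Nonempty (S ≃ₐ[R] AdjoinRoot (Polynomial.X ^ 2 - Polynomial.C w))) := by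
  classical
  have hdecomp : ∀ s : S', s = β.repr s 0 • (1 : S') + β.repr s 1 • β 1 := by
    intro s
    conv_lhs => rw [← β.sum_repr s, Fin.sum_univ_two, hβ0]
  have hrepr0 : ∀ a d : R, β.repr (a • (1 : S') + d • β 1) 0 = a := by
    intro a d
    rw [← hβ0, map_add, map_smul, map_smul, Basis.repr_self, Basis.repr_self]
    simp
  have hrepr1 : ∀ a d : R, β.repr (a • (1 : S') + d • β 1) 1 = d := by
    intro a d
    rw [← hβ0, map_add, map_smul, map_smul, Basis.repr_self, Basis.repr_self]
    simp [Finsupp.single_apply]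
  have hone1 : β.repr (1 : S') 1 = 0 := by
    rw [← hβ0, Basis.repr_self]; simp
  have hT : ∀ (n : ℕ) (s : S'), s ∈ Submodule.span R {(1 : S')} ⊔
      Ideal.span {t ^ n} • (⊤ : Submodule R S') ↔ t ^ n ∣ β.repr s 1 := by
    intro n s
    rw [Submodule.ideal_span_singleton_smul]
    constructor
    · intro hs
      rw [Submodule.mem_sup] at hs
      obtain ⟨x, hx, z, hz, rfl⟩ := hs
      rw [Submodule.mem_span_singleton] at hx
      obtain ⟨a, rfl⟩ := hx
      rw [Submodule.mem_smul_pointwise_iff_exists] at hz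
      obtain ⟨z', -, rfl⟩ := hz
      rw [map_add, Finsupp.add_apply, map_smul, map_smul, Finsupp.smul_apply, Finsupp.smul_apply,
        hone1, smul_zero, zero_add, smul_eq_mul]
      exact Dvd.intro _ rfl
    · rintro ⟨q, hq⟩
      rw [hdecomp s, hq]
      apply Submodule.add_mem_sup
      · exact Submodule.smul_mem _ _ (Submodule.mem_span_singleton_self 1)
      · rw [Submodule.mem_smul_pointwise_iff_exists]
        exact ⟨q • β 1, Submodule.mem_top, by rw [smul_smul]⟩
  -- standard basis
  have hstd : ∀ n : ℕ, Subalgebra.toSubmodule S = Submodule.span R {(1 : S')} ⊔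
      Ideal.span {t ^ n} • (⊤ : Submodule R S') →
      ∃ v : Basis (Fin 2) R S, v 0 = 1 ∧ ((v 1 : S) : S') = t ^ n • β 1 := by
    intro n hS
    have hz : t ^ n • β 1 ∈ S := by
      have h' : t ^ n • β 1 ∈ Subalgebra.toSubmodule S := by
        rw [hS, hT]
        have h1 := hrepr1 0 (t ^ n)
        rw [zero_smul, zero_add] at h1
        rw [h1]
      exact h'
    obtain ⟨vf, hvf0, hvf1⟩ : ∃ vf : Fin 2 → S, vf 0 = 1 ∧ vf 1 = ⟨t ^ n • β 1, hz⟩ :=
      ⟨![1, ⟨t ^ n • β 1, hz⟩], rfl, rfl⟩
    have hli : LinearIndependent R vf := by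
      rw [Fintype.linearIndependent_iff]
      intro g hg
      rw [Fin.sum_univ_two, hvf0, hvf1] at hg
      have hg' := congrArg (Subtype.val) hg
      have hg'' : g 0 • (1 : S') + (g 1 * t ^ n) • β 1 = 0 := by
        rw [← smul_smul]
        simpa using hg'
      have e0 : g 0 = 0 := by
        have h := hrepr0 (g 0) (g 1 * t ^ n)
        rw [hg''] at h
        simpa using h.symm
      have e1 : g 1 * t ^ n = 0 := by
        have h := hrepr1 (g 0) (g 1 * t ^ n)
        rw [hg''] at h
        simpa using h.symm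
      intro i
      fin_cases i
      · exact e0
      · rcases mul_eq_zero.mp e1 with h | h
        · exact h
        · exact absurd h (pow_ne_zero _ ht.ne_zero)
    have hsp : ⊤ ≤ Submodule.span R (Set.range vf) := by
      rintro ⟨s, hs⟩ -
      have hs' : s ∈ Subalgebra.toSubmodule S := hs
      rw [hS, hT] at hs'
      obtain ⟨q, hq⟩ := hs'
      have hrw : (⟨s, hs⟩ : S) = β.repr s 0 • vf 0 + q • vf 1 := by
        apply Subtype.ext
        rw [hvf0, hvf1]
        simp only [Subalgebra.coe_add, Subalgebra.coe_smul, Subalgebra.coe_one]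
        rw [smul_smul, mul_comm, ← hq]
        exact hdecomp s
      rw [hrw]
      exact Submodule.add_mem _ (Submodule.smul_mem _ _ (Submodule.subset_span ⟨0, rfl⟩))
        (Submodule.smul_mem _ _ (Submodule.subset_span ⟨1, rfl⟩))
    refine ⟨Basis.mk hli hsp, ?_, ?_⟩
    · rw [Basis.mk_apply, hvf0]
    · rw [Basis.mk_apply, hvf1]
  have hsq : ∀ (n : ℕ) (v : Basis (Fin 2) R S), ((v 1 : S) : S') = t ^ n • β 1 →
      v 1 * v 1 = (u * t ^ (2 * n)) • (1 : S) := by
    intro n v hv1
    apply Subtype.ext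
    rw [Subalgebra.coe_mul, hv1, Subalgebra.coe_smul, Subalgebra.coe_one, smul_mul_smul_comm, hy,
      Algebra.algebraMap_eq_smul_one, smul_smul]
    congr 1; ring
  have hdiscr : ∀ (n : ℕ) (v : Basis (Fin 2) R S), v 0 = 1 →
      ((v 1 : S) : S') = t ^ n • β 1 →
      Algebra.discr R ⇑v = 4 * (u * t ^ (2 * n)) := by
    intro n v hv0 hv1
    have hsq' := hsq n v hv1
    have htr : ∀ (s : S) (a00 a10 a01 a11 : R), s * v 0 = a00 • v 0 + a10 • v 1 →
        s * v 1 = a01 • v 0 + a11 • v 1 → Algebra.trace R S s = a00 + a11 := by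
      intro s a00 a10 a01 a11 h0 h1
      rw [Algebra.trace_eq_matrix_trace v, Matrix.trace_fin_two,
        Algebra.leftMulMatrix_eq_repr_mul, Algebra.leftMulMatrix_eq_repr_mul, h0, h1]
      simp [Finsupp.single_apply]
    rw [Algebra.discr_def, Matrix.det_fin_two]
    simp only [Algebra.traceMatrix_apply, Algebra.traceForm_apply]
    rw [htr (v 0 * v 0) 1 0 0 1 (by rw [hv0]; simp) (by rw [hv0]; simp),
      htr (v 0 * v 1) 0 1 (u * t ^ (2 * n)) 0 (by rw [hv0]; simp)
        (by rw [hv0, one_mul, hsq']; simp),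
      htr (v 1 * v 0) 0 1 (u * t ^ (2 * n)) 0 (by rw [hv0]; simp)
        (by rw [hv0, mul_one, hsq']; simp),
      htr (v 1 * v 1) (u * t ^ (2 * n)) 0 0 (u * t ^ (2 * n)) (by rw [hsq', hv0]; simp)
        (by rw [hsq']; simp)]
    ring
  have h4 : IsUnit (4 : R) := by
    have h : (4 : R) = 2 * 2 := by norm_num
    rw [h]; exact h2.mul h2
  have hassoc : ∀ n : ℕ, Associated (4 * (u * t ^ (2 * n))) (t ^ (2 * n + c)) := by
    intro n
    rw [associated_isUnit_mul_left_iff h4, pow_add, mul_comm (t ^ (2 * n))]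
    exact hu.mul_right _
  have hpowinj : ∀ a b' : ℕ, Associated (t ^ a) (t ^ b') → a = b' := by
    intro a b' h
    have h1 := (pow_dvd_pow_iff ht.ne_zero ht.not_isUnit).mp h.dvd
    have h2 := (pow_dvd_pow_iff ht.ne_zero ht.not_isUnit).mp h.symm.dvd
    omega
  refine ⟨⟨?_, ?_⟩, ?_⟩
  · rintro ⟨bS, hbS⟩
    obtain ⟨D, hDdef⟩ : ∃ D : Ideal R, D = Submodule.map (β.coord 1) (Subalgebra.toSubmodule S) :=
      ⟨_, rfl⟩
    have hDmem : ∀ s : S', s ∈ Subalgebra.toSubmodule S → β.repr s 1 ∈ D := by
      intro s hs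
      rw [hDdef]
      exact Submodule.mem_map_of_mem (f := β.coord 1) hs
    have hD : D ≠ ⊥ := by
      intro hbot
      have hform : ∀ s : S, ∃ a : R, (s : S') = a • (1 : S') := by
        intro s
        have h1 : β.repr (s : S') 1 = 0 := by
          have := hDmem s s.2
          rw [hbot, Submodule.mem_bot] at this
          exact this
        have h2 := hdecomp (s : S')
        rw [h1, zero_smul, add_zero] at h2
        exact ⟨_, h2⟩
      obtain ⟨a, ha⟩ := hform (bS 0)
      obtain ⟨c', hc⟩ := hform (bS 1)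
      have hrel : c' • bS 0 + (-a) • bS 1 = 0 := by
        apply Subtype.ext
        simp only [Subalgebra.coe_add, Subalgebra.coe_smul, Subalgebra.coe_zero]
        rw [ha, hc, smul_smul, smul_smul, ← add_smul]
        have h0 : c' * a + -a * c' = 0 := by ring
        rw [h0, zero_smul]
      have hli := Fintype.linearIndependent_iff.mp bS.linearIndependent ![c', -a]
        (by rw [Fin.sum_univ_two]; simpa using hrel)
      have hc0 : c' = 0 := by simpa using hli 0
      have ha0 : a = 0 := by simpa using hli 1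
      have hb0 : bS 0 = 0 := by
        apply Subtype.ext
        rw [ha, ha0, zero_smul]; rfl
      exact bS.ne_zero 0 hb0
    obtain ⟨n, hn⟩ := IsDiscreteValuationRing.ideal_eq_span_pow_irreducible hD ht
    have hS : Subalgebra.toSubmodule S = Submodule.span R {(1 : S')} ⊔
        Ideal.span {t ^ n} • (⊤ : Submodule R S') := by
      apply le_antisymm
      · intro s hs
        rw [hT]
        have := hDmem s hs
        rw [hn, Ideal.mem_span_singleton] at this
        exact this
      · intro s hs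
        rw [hT] at hs
        obtain ⟨q, hq⟩ := hs
        have htn : t ^ n ∈ D := by rw [hn]; exact Ideal.mem_span_singleton_self _
        rw [hDdef] at htn
        obtain ⟨s₀, hs₀, hs₀'⟩ := Submodule.mem_map.mp htn
        have hs₀'' : β.repr s₀ 1 = t ^ n := hs₀'
        have he : t ^ n • β 1 ∈ Subalgebra.toSubmodule S := by
          have h1 : s₀ - β.repr s₀ 0 • (1 : S') = t ^ n • β 1 := by
            have h2 := hdecomp s₀
            rw [hs₀''] at h2
            rw [sub_eq_iff_eq_add, add_comm]; exact h2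
          rw [← h1]
          exact Submodule.sub_mem _ hs₀ (Submodule.smul_mem _ _ S.one_mem)
        rw [hdecomp s, hq, mul_comm, ← smul_smul]
        exact Submodule.add_mem _ (Submodule.smul_mem _ _ S.one_mem)
          (Submodule.smul_mem _ _ he)
    obtain ⟨v, hv0, hv1⟩ := hstd n hS
    have hdv := hdiscr n v hv0 hv1
    have hchange : Algebra.discr R ⇑bS = (v.toMatrix ⇑bS).det ^ 2 * Algebra.discr R ⇑v := by
      rw [← Algebra.discr_of_matrix_vecMul, Basis.toMatrix_map_vecMul]
    have hunit : IsUnit (v.toMatrix ⇑bS).det := by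
      have := v.invertibleToMatrix bS
      exact Matrix.isUnit_det_of_invertible _
    have hA1 : Associated (Algebra.discr R ⇑bS) (t ^ b) :=
      Ideal.span_singleton_eq_span_singleton.mp hbS
    have hA2 : Associated (Algebra.discr R ⇑bS) (t ^ (2 * n + c)) := by
      rw [hchange, hdv]
      exact (associated_isUnit_mul_left_iff (hunit.pow 2)).mpr (hassoc n)
    exact ⟨n, hpowinj _ _ (hA1.symm.trans hA2), hS⟩
  · rintro ⟨n, hb, hS⟩
    obtain ⟨v, hv0, hv1⟩ := hstd n hS
    refine ⟨v, ?_⟩
    rw [Ideal.span_singleton_eq_span_singleton, hdiscr n v hv0 hv1, hb]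
    exact hassoc n
  · intro n w hw hS
    obtain ⟨v, hv0, hv1⟩ := hstd n hS
    have hsq' : v 1 * v 1 = w • (1 : S) := by rw [hw]; exact hsq n v hv1
    obtain ⟨φ, hφof, hφroot, hφmk⟩ : ∃ φ : AdjoinRoot (Polynomial.X ^ 2 - Polynomial.C w) →ₐ[R] S,
        (∀ a : R, φ (AdjoinRoot.of _ a) = algebraMap R S a) ∧ φ (AdjoinRoot.root _) = v 1 ∧
        (∀ a d : R, φ (AdjoinRoot.mk _ (Polynomial.C a * Polynomial.X + Polynomial.C d)) =
          a • v 1 + d • (1 : S)) := by
      refine ⟨AdjoinRoot.liftAlgHom _ (Algebra.ofId R S) (v 1) ?_, ?_, ?_, ?_⟩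
      · rw [Polynomial.eval₂_sub, Polynomial.eval₂_pow, Polynomial.eval₂_X, Polynomial.eval₂_C,
          pow_two, hsq']
        simp [Algebra.algebraMap_eq_smul_one]
      · intro a
        rw [AdjoinRoot.liftAlgHom_of]; rfl
      · rw [AdjoinRoot.liftAlgHom_root]
      · intro a d
        rw [AdjoinRoot.liftAlgHom_mk, Polynomial.eval₂_add, Polynomial.eval₂_mul,
          Polynomial.eval₂_C, Polynomial.eval₂_X, Polynomial.eval₂_C]
        simp [Algebra.smul_def]
    have hsurj : Function.Surjective φ := by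
      intro s
      refine ⟨AdjoinRoot.of _ (v.repr s 0) + AdjoinRoot.of _ (v.repr s 1) * AdjoinRoot.root _, ?_⟩
      rw [map_add, map_mul, hφof, hφof, hφroot]
      conv_rhs => rw [← v.sum_repr s, Fin.sum_univ_two, hv0]
      simp [Algebra.smul_def]
    have hmonic : (Polynomial.X ^ 2 - Polynomial.C w : Polynomial R).Monic :=
      Polynomial.monic_X_pow_sub_C w (by norm_num)
    have hne1 : (Polynomial.X ^ 2 - Polynomial.C w : Polynomial R) ≠ 1 := by
      intro h
      have := congrArg Polynomial.natDegree h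
      rw [Polynomial.natDegree_X_pow_sub_C, Polynomial.natDegree_one] at this
      omega
    have hinj : Function.Injective φ := by
      rw [injective_iff_map_eq_zero]
      intro z hz
      obtain ⟨p, rfl⟩ := AdjoinRoot.mk_surjective z
      obtain ⟨r, hr⟩ : ∃ r, r = p %ₘ (Polynomial.X ^ 2 - Polynomial.C w) := ⟨_, rfl⟩
      have hpr : AdjoinRoot.mk (Polynomial.X ^ 2 - Polynomial.C w) p =
          AdjoinRoot.mk (Polynomial.X ^ 2 - Polynomial.C w) r := by
        rw [AdjoinRoot.mk_eq_mk, hr]
        exact Dvd.intro _ (sub_eq_of_eq_add' (Polynomial.modByMonic_add_div p _).symm).symm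
      have hdeg : r.natDegree ≤ 1 := by
        have := Polynomial.natDegree_modByMonic_lt p hmonic hne1
        rw [Polynomial.natDegree_X_pow_sub_C, ← hr] at this
        omega
      have hr' := Polynomial.eq_X_add_C_of_natDegree_le_one hdeg
      rw [hpr] at hz ⊢
      rw [hr'] at hz ⊢
      rw [hφmk] at hz
      have hli := Fintype.linearIndependent_iff.mp v.linearIndependent ![r.coeff 0, r.coeff 1]
        (by rw [Fin.sum_univ_two, hv0]; simpa [add_comm] using hz)
      have h0 : r.coeff 0 = 0 := by simpa using hli 0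
      have h1 : r.coeff 1 = 0 := by simpa using hli 1
      rw [h0, h1]; simp
    exact ⟨(AlgEquiv.ofBijective φ ⟨hinj, hsurj⟩).symm⟩

end Groth.Agent.Lib.helper6.Crimp
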