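import Mathlib
import Groth.Prelude.Def_W4c3severiratdpLat

/-!
# Weyl-group moves on the Picard lattice of a blown-up plane (helper6)

Bilinearity of the intersection form, reflections in roots as Weyl elements, the relation
`Rel fz v w` (some Weyl element fixing the set `fz` pointwise carries `v` to `w`), negative
definiteness of `K^⊥` for `δ ≤ 8`, Noether's inequality and the resulting descent for exceptional
classes.
-/

set_option autoImplicit false
set_option linter.unusedVariables false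
set_option linter.unusedSectionVars false

namespace Groth.Agent.Lib.helper6.DPWeyl

open W4c3severiratdp

noncomputable section

variable {δ : ℕ}

/-! ## Bilinearity -/

lemma form_add_left (v w u : DP δ) : form (v + w) u = form v u + form w u := by
  unfold form
  simp only [Pi.add_apply, add_mul, Finset.sum_add_distrib]
  ring

lemma form_neg_left (v u : DP δ) : form (-v) u = -form v u := by
  unfold form
  simp only [Pi.neg_apply, neg_mul, Finset.sum_neg_distrib]
  ring

lemma form_sub_left (v w u : DP δ) : form (v - w) u = form v u - form w u := by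
  rw [sub_eq_add_neg, form_add_left, form_neg_left, ← sub_eq_add_neg]

lemma smul_apply' (c : ℤ) (v : DP δ) (i : Fin (δ + 1)) : (c • v) i = c * v i := by simp

lemma form_smul_left (c : ℤ) (v u : DP δ) : form (c • v) u = c * form v u := by
  unfold form
  simp only [smul_apply']
  rw [mul_sub, Finset.mul_sum]
  congr 1
  · ring
  · exact Finset.sum_congr rfl fun i _ => by ring

lemma form_comm (v w : DP δ) : form v w = form w v := by
  unfold form
  rw [mul_comm (v 0) (w 0)]
  congr 1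
  exact Finset.sum_congr rfl fun i _ => mul_comm _ _

lemma form_add_right (u v w : DP δ) : form u (v + w) = form u v + form u w := by
  rw [form_comm u (v + w), form_add_left, form_comm v u, form_comm w u]

lemma form_neg_right (u v : DP δ) : form u (-v) = -form u v := by
  rw [form_comm u (-v), form_neg_left, form_comm v u]

lemma form_sub_right (u v w : DP δ) : form u (v - w) = form u v - form u w := by
  rw [form_comm u (v - w), form_sub_left, form_comm v u, form_comm w u]

lemma form_smul_right (c : ℤ) (u v : DP δ) : form u (c • v) = c * form u v := by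
  rw [form_comm u (c • v), form_smul_left, form_comm v u]

/-! ## Reflections -/

/-- `v ↦ v·β` as a linear functional -/
def formL (β : DP δ) : DP δ →ₗ[ℤ] ℤ where
  toFun v := form v β
  map_add' v w := form_add_left v w β
  map_smul' c v := (form_smul_left c v β).trans rfl

/-- the reflection `v ↦ v + (v·β) β` as a linear map -/
def reflL (β : DP δ) : DP δ →ₗ[ℤ] DP δ := LinearMap.id + (formL β).smulRight β

lemma reflL_apply (β v : DP δ) : reflL β v = v + form v β • β := rfl

lemma reflL_invol (β : DP δ) (hβ : form β β = -2) : Function.Involutive (reflL β) := by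
  intro v
  rw [reflL_apply, reflL_apply, form_add_left, form_smul_left, hβ]
  have h : form v β + form v β * -2 = -form v β := by ring
  rw [h, neg_smul, add_neg_cancel_right]

/-- the reflection in a root `β` -/
def refl (β : DP δ) (hβ : form β β = -2) : DP δ ≃ₗ[ℤ] DP δ :=
  LinearEquiv.ofInvolutive (reflL β) (reflL_invol β hβ)

lemma refl_apply (β : DP δ) (hβ : form β β = -2) (v : DP δ) :
    refl β hβ v = v + form v β • β := rfl

lemma isWeyl_refl (β : DP δ) (hβ : form β β = -2) (hK : form (canon δ) β = 0) :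
    IsWeyl (refl β hβ) := by
  refine ⟨fun v w => ?_, ?_⟩
  · rw [refl_apply, refl_apply]
    simp only [form_add_left, form_add_right, form_smul_left, form_smul_right, hβ,
      form_comm β w]
    ring
  · rw [refl_apply, hK, zero_smul, add_zero]

lemma isWeyl_one : IsWeyl (LinearEquiv.refl ℤ (DP δ)) := ⟨fun _ _ => rfl, rfl⟩

lemma isWeyl_trans {g h : DP δ ≃ₗ[ℤ] DP δ} (hg : IsWeyl g) (hh : IsWeyl h) :
    IsWeyl (g.trans h) :=
  ⟨fun v w => by rw [LinearEquiv.trans_apply, LinearEquiv.trans_apply, hh.1, hg.1],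
    by rw [LinearEquiv.trans_apply, hg.2, hh.2]⟩

lemma isWeyl_symm {g : DP δ ≃ₗ[ℤ] DP δ} (hg : IsWeyl g) : IsWeyl g.symm :=
  ⟨fun v w => by
      rw [← hg.1 (g.symm v) (g.symm w), LinearEquiv.apply_symm_apply,
        LinearEquiv.apply_symm_apply],
    by
      rw [LinearEquiv.symm_apply_eq]
      exact hg.2.symm⟩

lemma weyl_isExc {g : DP δ ≃ₗ[ℤ] DP δ} (hg : IsWeyl g) {v : DP δ} (hv : IsExc v) :
    IsExc (g v) := by
  refine ⟨by rw [hg.1]; exact hv.1, ?_⟩
  have h : form (canon δ) (g v) = form (g (canon δ)) (g v) := by rw [hg.2]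
  rw [h, hg.1]
  exact hv.2

lemma weyl_isConic {g : DP δ ≃ₗ[ℤ] DP δ} (hg : IsWeyl g) {v : DP δ} (hv : IsConic v) :
    IsConic (g v) := by
  refine ⟨by rw [hg.1]; exact hv.1, ?_⟩
  have h : form (canon δ) (g v) = form (g (canon δ)) (g v) := by rw [hg.2]
  rw [h, hg.1]
  exact hv.2

/-! ## The orbit relation with a pointwise fixed set -/

/-- some Weyl element fixing `fz` pointwise carries `v` to `w` -/
def Rel (fz : Set (DP δ)) (v w : DP δ) : Prop :=
  ∃ g : DP δ ≃ₗ[ℤ] DP δ, IsWeyl g ∧ (∀ f ∈ fz, g f = f) ∧ g v = w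

lemma Rel.rfl' (fz : Set (DP δ)) (v : DP δ) : Rel fz v v :=
  ⟨LinearEquiv.refl ℤ _, isWeyl_one, fun _ _ => rfl, rfl⟩

lemma Rel.symm' {fz : Set (DP δ)} {v w : DP δ} (h : Rel fz v w) : Rel fz w v := by
  obtain ⟨g, hg, hf, hv⟩ := h
  refine ⟨g.symm, isWeyl_symm hg, fun f hf' => ?_, ?_⟩
  · rw [LinearEquiv.symm_apply_eq]
    exact (hf f hf').symm
  · rw [LinearEquiv.symm_apply_eq]
    exact hv.symm

lemma Rel.trans' {fz : Set (DP δ)} {u v w : DP δ} (h1 : Rel fz u v) (h2 : Rel fz v w) :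
    Rel fz u w := by
  obtain ⟨g, hg, hf, hv⟩ := h1
  obtain ⟨g', hg', hf', hv'⟩ := h2
  refine ⟨g.trans g', isWeyl_trans hg hg', fun f hff => ?_, ?_⟩
  · rw [LinearEquiv.trans_apply, hf f hff, hf' f hff]
  · rw [LinearEquiv.trans_apply, hv, hv']

lemma Rel.isExc {fz : Set (DP δ)} {v w : DP δ} (h : Rel fz v w) (hv : IsExc v) : IsExc w := by
  obtain ⟨g, hg, -, rfl⟩ := h
  exact weyl_isExc hg hv

lemma Rel.isConic {fz : Set (DP δ)} {v w : DP δ} (h : Rel fz v w) (hv : IsConic v) :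
    IsConic w := by
  obtain ⟨g, hg, -, rfl⟩ := h
  exact weyl_isConic hg hv

lemma rel_refl_root (fz : Set (DP δ)) (β : DP δ) (hβ : form β β = -2)
    (hK : form (canon δ) β = 0) (hfz : ∀ f ∈ fz, form f β = 0) (v : DP δ) :
    Rel fz v (v + form v β • β) :=
  ⟨refl β hβ, isWeyl_refl β hβ hK,
    fun f hf => by rw [refl_apply, hfz f hf, zero_smul, add_zero], refl_apply β hβ v⟩

/-! ## Standard vectors -/

/-- the class `e_j` : the vector with `b_j = -1` -/
def eV (j : Fin δ) : DP δ := fun t => if t = j.succ then -1 else 0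

/-- the class `ℓ` -/
def ell : DP δ := fun t => if t = 0 then 1 else 0

lemma eV_zero (j : Fin δ) : (eV j : DP δ) 0 = 0 := by
  unfold eV
  exact if_neg (Fin.succ_ne_zero j).symm

lemma eV_succ (j i : Fin δ) : (eV j : DP δ) i.succ = if i = j then -1 else 0 := by
  unfold eV
  by_cases h : i = j
  · rw [if_pos h]
    exact if_pos (congrArg Fin.succ h)
  · rw [if_neg h]
    exact if_neg (fun h' => h (Fin.succ_injective _ h'))

lemma eV_self (j : Fin δ) : (eV j : DP δ) j.succ = -1 := by rw [eV_succ, if_pos rfl]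

lemma eV_ne {i j : Fin δ} (h : i ≠ j) : (eV j : DP δ) i.succ = 0 := by rw [eV_succ, if_neg h]

lemma ell_zero : (ell : DP δ) 0 = 1 := by
  unfold ell
  exact if_pos rfl

lemma ell_succ (i : Fin δ) : (ell : DP δ) i.succ = 0 := by
  unfold ell
  exact if_neg (Fin.succ_ne_zero i)

lemma form_eV_right (v : DP δ) (j : Fin δ) : form v (eV j) = v j.succ := by
  unfold form
  rw [eV_zero, mul_zero, zero_sub, Finset.sum_eq_single j]
  · rw [eV_self]
    ring
  · intro b _ hb
    rw [eV_ne hb, mul_zero]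
  · intro h
    exact absurd (Finset.mem_univ j) h

lemma form_ell_right (v : DP δ) : form v ell = v 0 := by
  unfold form
  have h : ∑ i : Fin δ, v i.succ * (ell : DP δ) i.succ = 0 :=
    Finset.sum_eq_zero fun i _ => by rw [ell_succ, mul_zero]
  rw [ell_zero, mul_one, h, sub_zero]

lemma canon_zero : canon δ 0 = -3 := by simp only [canon, Fin.cases_zero]

lemma canon_succ (i : Fin δ) : canon δ i.succ = -1 := by simp only [canon, Fin.cases_succ]

lemma form_canon_left (v : DP δ) : form (canon δ) v = -3 * v 0 + ∑ i : Fin δ, v i.succ := by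
  unfold form
  simp only [canon_zero, canon_succ, neg_one_mul, Finset.sum_neg_distrib]
  ring

lemma form_canon_canon : form (canon δ) (canon δ) = 9 - (δ : ℤ) := by
  rw [form_canon_left]
  simp only [canon_zero, canon_succ, Finset.sum_const, Finset.card_univ, Fintype.card_fin,
    nsmul_eq_mul]
  ring

lemma isExc_eV (j : Fin δ) : IsExc (eV j : DP δ) := by
  refine ⟨?_, ?_⟩
  · rw [form_eV_right, eV_self]
  · rw [form_eV_right, canon_succ]

/-- the root `ℓ - e_i - e_j - e_k` -/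
def crV (i j k : Fin δ) : DP δ := ell - eV i - eV j - eV k

/-- the root `e_i - e_j` -/
def trV (i j : Fin δ) : DP δ := eV i - eV j

lemma form_crV_right (v : DP δ) (i j k : Fin δ) :
    form v (crV i j k) = v 0 - v i.succ - v j.succ - v k.succ := by
  unfold crV
  rw [form_sub_right, form_sub_right, form_sub_right, form_ell_right, form_eV_right,
    form_eV_right, form_eV_right]

lemma form_trV_right (v : DP δ) (i j : Fin δ) : form v (trV i j) = v i.succ - v j.succ := by
  unfold trV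
  rw [form_sub_right, form_eV_right, form_eV_right]

lemma crV_zero (i j k : Fin δ) : (crV i j k : DP δ) 0 = 1 := by
  unfold crV
  simp only [Pi.sub_apply, ell_zero, eV_zero]
  norm_num

lemma crV_succ (i j k t : Fin δ) :
    (crV i j k : DP δ) t.succ =
      -(eV i : DP δ) t.succ - (eV j : DP δ) t.succ - (eV k : DP δ) t.succ := by
  unfold crV
  simp only [Pi.sub_apply, ell_succ]
  ring

lemma trV_succ (i j t : Fin δ) :
    (trV i j : DP δ) t.succ = (eV i : DP δ) t.succ - (eV j : DP δ) t.succ := rfl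

lemma form_crV_self {i j k : Fin δ} (hij : i ≠ j) (hik : i ≠ k) (hjk : j ≠ k) :
    form (crV i j k : DP δ) (crV i j k) = -2 := by
  rw [form_crV_right, crV_zero, crV_succ, crV_succ, crV_succ]
  simp [eV_succ, hij, hik, hjk, hij.symm, hik.symm, hjk.symm]

lemma form_canon_crV (i j k : Fin δ) : form (canon δ) (crV i j k) = 0 := by
  rw [form_crV_right, canon_zero, canon_succ, canon_succ, canon_succ]
  norm_num

lemma form_trV_self {i j : Fin δ} (hij : i ≠ j) : form (trV i j : DP δ) (trV i j) = -2 := by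
  rw [form_trV_right, trV_succ, trV_succ]
  simp [eV_succ, hij, hij.symm]

lemma form_canon_trV (i j : Fin δ) : form (canon δ) (trV i j) = 0 := by
  rw [form_trV_right, canon_succ, canon_succ]
  norm_num

/-- the vectors `e_m`, `m ∉ S` -/
def fzS (S : Finset (Fin δ)) : Set (DP δ) := {f | ∃ m, m ∉ S ∧ f = eV m}

lemma rel_cr (S : Finset (Fin δ)) (v : DP δ) {i j k : Fin δ} (hi : i ∈ S) (hj : j ∈ S)
    (hk : k ∈ S) (hij : i ≠ j) (hik : i ≠ k) (hjk : j ≠ k) :
    Rel (fzS S) v (v + form v (crV i j k) • crV i j k) := by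
  refine rel_refl_root _ _ (form_crV_self hij hik hjk) (form_canon_crV i j k) ?_ v
  rintro f ⟨m, hm, rfl⟩
  have hmi : i ≠ m := fun h => hm (h ▸ hi)
  have hmj : j ≠ m := fun h => hm (h ▸ hj)
  have hmk : k ≠ m := fun h => hm (h ▸ hk)
  rw [form_crV_right, eV_zero, eV_ne hmi, eV_ne hmj, eV_ne hmk]
  norm_num

lemma rel_tr (S : Finset (Fin δ)) (v : DP δ) {i j : Fin δ} (hi : i ∈ S) (hj : j ∈ S)
    (hij : i ≠ j) : Rel (fzS S) v (v + form v (trV i j) • trV i j) := by
  refine rel_refl_root _ _ (form_trV_self hij) (form_canon_trV i j) ?_ v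
  rintro f ⟨m, hm, rfl⟩
  have hmi : i ≠ m := fun h => hm (h ▸ hi)
  have hmj : j ≠ m := fun h => hm (h ▸ hj)
  rw [form_trV_right, eV_ne hmi, eV_ne hmj]
  norm_num

lemma Rel.coord {S : Finset (Fin δ)} {v w : DP δ} (h : Rel (fzS S) v w) {m : Fin δ}
    (hm : m ∉ S) : w m.succ = v m.succ := by
  obtain ⟨g, hg, hf, rfl⟩ := h
  have h1 : g (eV m) = eV m := hf (eV m) ⟨m, hm, rfl⟩
  rw [← form_eV_right (g v) m, ← form_eV_right v m]
  calc form (g v) (eV m) = form (g v) (g (eV m)) := by rw [h1]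
    _ = form v (eV m) := hg.1 v (eV m)

lemma rel_eV_swap (S : Finset (Fin δ)) {i j : Fin δ} (hi : i ∈ S) (hj : j ∈ S) :
    Rel (fzS S) (eV i : DP δ) (eV j) := by
  by_cases hij : i = j
  · subst hij
    exact Rel.rfl' _ _
  · have h := rel_tr S (eV i : DP δ) hi hj hij
    have e : (eV i : DP δ) + form (eV i : DP δ) (trV i j) • trV i j = eV j := by
      rw [form_trV_right, eV_self, eV_ne (Ne.symm hij)]
      unfold trV
      have h1 : (-1 - 0 : ℤ) = -1 := by norm_num
      rw [h1, neg_one_smul]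
      abel
    rw [e] at h
    exact h

lemma rel_cV_swap (S : Finset (Fin δ)) {i j l : Fin δ} (hi : i ∈ S) (hj : j ∈ S) (hl : l ∉ S) :
    Rel (fzS S) (ell - eV i - eV l : DP δ) (ell - eV j - eV l) := by
  by_cases hij : i = j
  · subst hij
    exact Rel.rfl' _ _
  · have hil : i ≠ l := fun h => hl (h ▸ hi)
    have hjl : j ≠ l := fun h => hl (h ▸ hj)
    have h := rel_tr S (ell - eV i - eV l : DP δ) hi hj hij
    have e : (ell - eV i - eV l : DP δ) + form (ell - eV i - eV l : DP δ) (trV i j) • trV i j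
        = ell - eV j - eV l := by
      have hc : form (ell - eV i - eV l : DP δ) (trV i j) = 1 := by
        rw [form_trV_right]
        simp only [Pi.sub_apply, ell_succ, eV_self, eV_ne hil, eV_ne (Ne.symm hij), eV_ne hjl]
        norm_num
      rw [hc, one_smul]
      unfold trV
      abel
    rw [e] at h
    exact h

/-! ## Negative definiteness of `K^⊥` -/

lemma cs_ineq (b : Fin δ → ℤ) : (∑ i, b i) * (∑ i, b i) ≤ (δ : ℤ) * ∑ i, b i * b i := by
  have hcs := sq_sum_le_card_mul_sum_sq (s := (Finset.univ : Finset (Fin δ))) (f := b)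
  rw [Finset.card_univ, Fintype.card_fin, sq] at hcs
  have h3 : ∑ i, b i ^ 2 = ∑ i, b i * b i := Finset.sum_congr rfl (fun i _ => sq (b i))
  rw [h3] at hcs
  exact hcs

lemma nd (hδ : δ ≤ 8) (x : DP δ) (hx : form (canon δ) x = 0) :
    form x x ≤ 0 ∧ (form x x = 0 → x = 0) := by
  rw [form_canon_left] at hx
  have hsum : ∑ i : Fin δ, x i.succ = 3 * x 0 := by linarith
  have hcs := cs_ineq (fun i : Fin δ => x i.succ)
  rw [hsum] at hcs
  have hB : 0 ≤ ∑ i : Fin δ, x i.succ * x i.succ :=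
    Finset.sum_nonneg fun i _ => mul_self_nonneg _
  have hδ' : (δ : ℤ) ≤ 8 := by exact_mod_cast hδ
  have h8 : 9 * (x 0 * x 0) ≤ 8 * ∑ i : Fin δ, x i.succ * x i.succ := by
    have := mul_le_mul_of_nonneg_right hδ' hB
    nlinarith [this, hcs]
  have hform : form x x = x 0 * x 0 - ∑ i : Fin δ, x i.succ * x i.succ := rfl
  constructor
  · rw [hform]
    linarith
  · intro h0
    rw [hform] at h0
    have hB0 : ∑ i : Fin δ, x i.succ * x i.succ = 0 := by linarith
    have ha0 : x 0 * x 0 = 0 := by linarith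
    have hb : ∀ i : Fin δ, x i.succ = 0 := by
      intro i
      have := (Finset.sum_eq_zero_iff_of_nonneg
        (fun i _ => mul_self_nonneg (x i.succ))).mp hB0 i (Finset.mem_univ i)
      exact mul_self_eq_zero.mp this
    funext t
    refine Fin.cases ?_ (fun i => ?_) t
    · exact mul_self_eq_zero.mp ha0
    · exact hb i

/-! ## Exceptional classes -/

lemma exc_form_ge (hδ : δ ≤ 8) {E E' : DP δ} (hE : IsExc E) (hE' : IsExc E') :
    -1 ≤ form E E' ∧ (form E E' = -1 → E = E') := by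
  have hx : form (canon δ) (E - E') = 0 := by
    rw [form_sub_right, hE.2, hE'.2]
    ring
  have hxx : form (E - E') (E - E') = -2 - 2 * form E E' := by
    rw [form_sub_left, form_sub_right, form_sub_right, hE.1, hE'.1, form_comm E' E]
    ring
  obtain ⟨h1, h2⟩ := nd hδ (E - E') hx
  rw [hxx] at h1 h2
  refine ⟨by linarith, fun h => ?_⟩
  have := h2 (by rw [h]; ring)
  exact sub_eq_zero.mp this

lemma exc_coord_nonneg (hδ : δ ≤ 8) {E : DP δ} (hE : IsExc E) (j : Fin δ) (hne : E ≠ eV j) :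
    0 ≤ E j.succ := by
  obtain ⟨h1, h2⟩ := exc_form_ge hδ hE (isExc_eV j)
  rw [form_eV_right] at h1 h2
  by_contra hcon
  exact hne (h2 (by omega))

lemma exc_sum {v : DP δ} (hv : IsExc v) : ∑ i : Fin δ, v i.succ = 3 * v 0 - 1 := by
  have := hv.2
  rw [form_canon_left] at this
  linarith

lemma exc_sumsq {v : DP δ} (hv : IsExc v) :
    ∑ i : Fin δ, v i.succ * v i.succ = v 0 * v 0 + 1 := by
  have := hv.1
  unfold form at this
  linarith

/-! ## Noether's inequality -/

lemma noether {ι : Type*} [DecidableEq ι] (S : Finset ι) (x : ι → ℤ) (a c d : ℤ)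
    (hcard : 3 ≤ S.card) (hx : ∀ m ∈ S, 0 ≤ x m)
    (h1 : ∑ m ∈ S, x m = 3 * a - c) (h2 : ∑ m ∈ S, x m * x m = a * a - d) :
    ∃ i ∈ S, ∃ j ∈ S, ∃ k ∈ S, i ≠ j ∧ i ≠ k ∧ j ≠ k ∧ x k ≤ x j ∧ x j ≤ x i ∧
      (∀ m ∈ S, m ≠ i → m ≠ j → m ≠ k → x m ≤ x k) ∧
      2 * (x i * x j - x k * x k) + (a - x i - x j - x k) * (a - x i - x j - x k)
        + (a - x i - x j - x k) * (2 * x i + 2 * x j - x k) + c * x k ≤ d := by
  have hne : S.Nonempty := Finset.card_pos.mp (by omega)
  obtain ⟨i, hi, hmi⟩ := Finset.exists_max_image S x hne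
  have hc1 : (S.erase i).card = S.card - 1 := Finset.card_erase_of_mem hi
  have hne1 : (S.erase i).Nonempty := Finset.card_pos.mp (by omega)
  obtain ⟨j, hj, hmj⟩ := Finset.exists_max_image (S.erase i) x hne1
  have hc2 : ((S.erase i).erase j).card = (S.erase i).card - 1 := Finset.card_erase_of_mem hj
  have hne2 : ((S.erase i).erase j).Nonempty := Finset.card_pos.mp (by omega)
  obtain ⟨k, hk, hmk⟩ := Finset.exists_max_image ((S.erase i).erase j) x hne2
  have hjS : j ∈ S := Finset.mem_of_mem_erase hj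
  have hji : j ≠ i := Finset.ne_of_mem_erase hj
  have hk1 : k ∈ S.erase i := Finset.mem_of_mem_erase hk
  have hkj : k ≠ j := Finset.ne_of_mem_erase hk
  have hkS : k ∈ S := Finset.mem_of_mem_erase hk1
  have hki : k ≠ i := Finset.ne_of_mem_erase hk1
  have hrest : ∀ m ∈ S, m ≠ i → m ≠ j → m ≠ k → x m ≤ x k := fun m hm h1 h2 _ =>
    hmk m (Finset.mem_erase.mpr ⟨h2, Finset.mem_erase.mpr ⟨h1, hm⟩⟩)
  have hkj' : x k ≤ x j := hmj k hk1
  have hji' : x j ≤ x i := hmi j hjS
  refine ⟨i, hi, j, hjS, k, hkS, hji.symm, hki.symm, hkj.symm, hkj', hji', hrest, ?_⟩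
  obtain ⟨f, hf⟩ : ∃ f : ι → ℤ, ∀ m, f m = x m * (x m - x k) := ⟨_, fun _ => rfl⟩
  have hsum : ∑ m ∈ S, f m = (a * a - d) - x k * (3 * a - c) := by
    rw [← h1, ← h2, Finset.mul_sum, ← Finset.sum_sub_distrib]
    exact Finset.sum_congr rfl fun m _ => by rw [hf]; ring
  have hdec : ∑ m ∈ S, f m =
      f i + (f j + (f k + ∑ m ∈ ((S.erase i).erase j).erase k, f m)) := by
    rw [Finset.add_sum_erase _ f hk, Finset.add_sum_erase _ f hj, Finset.add_sum_erase _ f hi]
  have hfk : f k = 0 := by rw [hf]; ring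
  have hrest' : ∑ m ∈ ((S.erase i).erase j).erase k, f m ≤ 0 := by
    refine Finset.sum_nonpos fun m hm => ?_
    have hm2 : m ∈ (S.erase i).erase j := Finset.mem_of_mem_erase hm
    have hm1 : m ∈ S.erase i := Finset.mem_of_mem_erase hm2
    have hmS : m ∈ S := Finset.mem_of_mem_erase hm1
    have h0 : 0 ≤ x m := hx m hmS
    have hle : x m ≤ x k := hmk m hm2
    have hp := mul_nonneg h0 (sub_nonneg.mpr hle)
    rw [hf]
    nlinarith [hp]
  have key : (a * a - d) - x k * (3 * a - c) ≤ x i * (x i - x k) + x j * (x j - x k) := by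
    rw [← hsum, hdec, hfk, hf i, hf j]
    linarith
  nlinarith [key]

/-! ## The descent -/

lemma cr_move (S : Finset (Fin δ)) (v : DP δ) {i j k : Fin δ} (hi : i ∈ S) (hj : j ∈ S)
    (hk : k ∈ S) (hij : i ≠ j) (hik : i ≠ k) (hjk : j ≠ k)
    (hlt : v 0 < v i.succ + v j.succ + v k.succ) :
    ∃ v' : DP δ, v' 0 < v 0 ∧ Rel (fzS S) v v' := by
  refine ⟨v + form v (crV i j k) • crV i j k, ?_, rel_cr S v hi hj hk hij hik hjk⟩
  rw [form_crV_right]
  show v 0 + ((v 0 - v i.succ - v j.succ - v k.succ) • (crV i j k : DP δ)) 0 < v 0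
  rw [smul_apply', crV_zero]
  linarith

lemma descent_gen (fz : Set (DP δ)) (P : DP δ → Prop) (T : DP δ → Prop)
    (hP : ∀ v v', P v → Rel fz v v' → P v')
    (hstep : ∀ v, P v → ¬ T v → 1 ≤ v 0 ∧ ∃ v', v' 0 < v 0 ∧ Rel fz v v') :
    ∀ (n : ℕ) (v : DP δ), P v → v 0 ≤ (n : ℤ) → ∃ w, T w ∧ Rel fz v w := by
  intro n
  induction n with
  | zero =>
    intro v hv hn
    by_cases hT : T v
    · exact ⟨v, hT, Rel.rfl' _ _⟩
    · exfalso
      have := (hstep v hv hT).1
      omega
  | succ n ih =>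
    intro v hv hn
    by_cases hT : T v
    · exact ⟨v, hT, Rel.rfl' _ _⟩
    · obtain ⟨_, v', hlt, hrel⟩ := hstep v hv hT
      have hn' : v' 0 ≤ (n : ℤ) := by omega
      obtain ⟨w, hw, hrel'⟩ := ih v' (hP v v' hv hrel) hn'
      exact ⟨w, hw, hrel.trans' hrel'⟩

lemma exc_step (hδ : δ ≤ 8) (S : Finset (Fin δ)) (hS : 3 ≤ S.card) (v : DP δ) (hv : IsExc v)
    (hz : ∀ m, m ∉ S → v m.succ = 0) (hE : ¬ ∃ j ∈ S, v = eV j) :
    1 ≤ v 0 ∧ ∃ v' : DP δ, v' 0 < v 0 ∧ Rel (fzS S) v v' := by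
  have hnn : ∀ m ∈ S, 0 ≤ v m.succ := fun m hm =>
    exc_coord_nonneg hδ hv m (fun h => hE ⟨m, hm, h⟩)
  have hsum : ∑ m ∈ S, v m.succ = 3 * v 0 - 1 :=
    (Finset.sum_subset (Finset.subset_univ S) (fun m _ hm => hz m hm)).trans (exc_sum hv)
  have hsq : ∑ m ∈ S, v m.succ * v m.succ = v 0 * v 0 - (-1) := by
    rw [Finset.sum_subset (Finset.subset_univ S)
      (fun m _ hm => by rw [hz m hm, mul_zero]), exc_sumsq hv]
    ring
  have ha : 1 ≤ v 0 := by
    have := Finset.sum_nonneg hnn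
    rw [hsum] at this
    omega
  refine ⟨ha, ?_⟩
  obtain ⟨i, hi, j, hj, k, hk, hij, hik, hjk, hkj, hji, hrest, hineq⟩ :=
    noether S (fun m => v m.succ) (v 0) 1 (-1) hS hnn hsum hsq
  have hk0 : 0 ≤ v k.succ := hnn k hk
  refine cr_move S v hi hj hk hij hik hjk ?_
  by_contra hcon
  have hs : 0 ≤ v 0 - v i.succ - v j.succ - v k.succ := by linarith
  have hki : v k.succ ≤ v i.succ := le_trans hkj hji
  nlinarith [mul_nonneg (sub_nonneg.2 hki) (sub_nonneg.2 hkj), mul_nonneg hk0 (sub_nonneg.2 hki),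
    mul_nonneg hk0 (sub_nonneg.2 hkj),
    mul_nonneg hs (by linarith : 0 ≤ 2 * v i.succ + 2 * v j.succ - v k.succ),
    mul_self_nonneg (v 0 - v i.succ - v j.succ - v k.succ)]

lemma descent_exc (hδ : δ ≤ 8) (S : Finset (Fin δ)) (hS : 3 ≤ S.card) (v : DP δ) (hv : IsExc v)
    (hz : ∀ m, m ∉ S → v m.succ = 0) : ∃ j ∈ S, Rel (fzS S) v (eV j) := by
  have hgen := descent_gen (fzS S) (fun v => IsExc v ∧ ∀ m, m ∉ S → v m.succ = 0)
    (fun v => ∃ j ∈ S, v = eV j)
    (fun v v' hP hrel => ⟨hrel.isExc hP.1, fun m hm => by rw [hrel.coord hm]; exact hP.2 m hm⟩)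
    (fun v hP hT => exc_step hδ S hS v hP.1 hP.2 hT)
    (v 0).toNat v ⟨hv, hz⟩ (Int.self_le_toNat _)
  obtain ⟨w, ⟨j, hj, rfl⟩, hrel⟩ := hgen
  exact ⟨j, hj, hrel⟩

lemma con_step (hδ : δ ≤ 8) (l : Fin δ) (hS : 3 ≤ (Finset.univ.erase l).card) (v : DP δ)
    (hv : IsExc v) (hl : v l.succ = 1) (hT : ¬ ∃ j, j ≠ l ∧ v = ell - eV j - eV l) :
    1 ≤ v 0 ∧ ∃ v' : DP δ, v' 0 < v 0 ∧ Rel (fzS (Finset.univ.erase l)) v v' := by
  have hmem : ∀ m, m ∈ Finset.univ.erase l ↔ m ≠ l := fun m => by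
    rw [Finset.mem_erase]
    exact ⟨fun h => h.1, fun h => ⟨h, Finset.mem_univ m⟩⟩
  have hnn : ∀ m ∈ Finset.univ.erase l, 0 ≤ v m.succ := by
    intro m hm
    have hml : m ≠ l := (hmem m).mp hm
    refine exc_coord_nonneg hδ hv m (fun h => ?_)
    have h0 : v l.succ = 0 := by rw [h, eV_ne (Ne.symm hml)]
    omega
  have hsum : ∑ m ∈ Finset.univ.erase l, v m.succ = 3 * v 0 - 2 := by
    have h1 := Finset.add_sum_erase Finset.univ (fun m => v m.succ) (Finset.mem_univ l)
    have h2 := exc_sum hv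
    linarith
  have hsq : ∑ m ∈ Finset.univ.erase l, v m.succ * v m.succ = v 0 * v 0 - 0 := by
    have h1 := Finset.add_sum_erase Finset.univ (fun m => v m.succ * v m.succ)
      (Finset.mem_univ l)
    have h2 := exc_sumsq hv
    rw [hl] at h1
    linarith
  have ha : 1 ≤ v 0 := by
    have := Finset.sum_nonneg hnn
    rw [hsum] at this
    omega
  refine ⟨ha, ?_⟩
  obtain ⟨i, hi, j, hj, k, hk, hij, hik, hjk, hkj, hji, hrest, hineq⟩ :=
    noether (Finset.univ.erase l) (fun m => v m.succ) (v 0) 2 0 hS hnn hsum hsq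
  have hk0 : 0 ≤ v k.succ := hnn k hk
  have hki : v k.succ ≤ v i.succ := le_trans hkj hji
  by_cases hlt : v 0 < v i.succ + v j.succ + v k.succ
  · exact cr_move _ v hi hj hk hij hik hjk hlt
  · exfalso
    have hs : 0 ≤ v 0 - v i.succ - v j.succ - v k.succ := by linarith
    have p1 := mul_nonneg (sub_nonneg.2 hki) (sub_nonneg.2 hkj)
    have p2 := mul_nonneg hk0 (sub_nonneg.2 hki)
    have p3 := mul_nonneg hk0 (sub_nonneg.2 hkj)
    have p4 := mul_nonneg hs (by linarith : 0 ≤ 2 * v i.succ + 2 * v j.succ - v k.succ)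
    have p5 := mul_self_nonneg (v 0 - v i.succ - v j.succ - v k.succ)
    have hk00 : v k.succ = 0 := by nlinarith [p1, p2, p3, p4, p5]
    have hss : (v 0 - v i.succ - v j.succ - v k.succ) * (v 0 - v i.succ - v j.succ - v k.succ)
        ≤ 0 := by nlinarith [p1, p2, p3, p4, p5]
    have hs0 : v 0 - v i.succ - v j.succ - v k.succ = 0 :=
      mul_self_eq_zero.mp (le_antisymm hss p5)
    have hijz : v i.succ * v j.succ ≤ 0 := by nlinarith [p1, p2, p3, p4, p5]
    have hj0 : v j.succ = 0 := by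
      by_contra hne
      have h1 : 1 ≤ v j.succ := by omega
      have h2 : 1 ≤ v i.succ := le_trans h1 hji
      nlinarith [mul_pos (by linarith : 0 < v i.succ) (by linarith : 0 < v j.succ)]
    have hothers : ∀ m ∈ Finset.univ.erase l, m ≠ i → v m.succ = 0 := by
      intro m hm hmi
      by_cases hmj : m = j
      · rw [hmj]; exact hj0
      · by_cases hmk : m = k
        · rw [hmk]; exact hk00
        · have := hrest m hm hmi hmj hmk
          have := hnn m hm
          omega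
    have hsi : ∑ m ∈ Finset.univ.erase l, v m.succ = v i.succ :=
      Finset.sum_eq_single_of_mem i hi (fun m hm hmi => hothers m hm hmi)
    have hi1 : v i.succ = 1 := by
      rw [hsum] at hsi
      omega
    have ha1 : v 0 = 1 := by omega
    have hil : i ≠ l := (hmem i).mp hi
    apply hT
    refine ⟨i, hil, ?_⟩
    funext t
    refine Fin.cases ?_ (fun m => ?_) t
    · simp only [Pi.sub_apply, ell_zero, eV_zero]
      rw [ha1]
      norm_num
    · simp only [Pi.sub_apply, ell_succ]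
      by_cases hml : m = l
      · rw [hml, hl, eV_self, eV_ne (Ne.symm hil)]
        norm_num
      · by_cases hmi : m = i
        · rw [hmi, hi1, eV_self, eV_ne hil]
          norm_num
        · rw [hothers m ((hmem m).mpr hml) hmi, eV_ne hmi, eV_ne hml]
          norm_num

lemma descent_con (hδ : δ ≤ 8) (l : Fin δ) (hS : 3 ≤ (Finset.univ.erase l).card) (v : DP δ)
    (hv : IsExc v) (hl : v l.succ = 1) :
    ∃ j, j ≠ l ∧ Rel (fzS (Finset.univ.erase l)) v (ell - eV j - eV l) := by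
  have hgen := descent_gen (fzS (Finset.univ.erase l)) (fun v => IsExc v ∧ v l.succ = 1)
    (fun v => ∃ j, j ≠ l ∧ v = ell - eV j - eV l)
    (fun v v' hP hrel => ⟨hrel.isExc hP.1, by
      rw [hrel.coord (Finset.notMem_erase l _)]; exact hP.2⟩)
    (fun v hP hT => con_step hδ l hS v hP.1 hP.2 hT)
    (v 0).toNat v ⟨hv, hl⟩ (Int.self_le_toNat _)
  obtain ⟨w, ⟨j, hj, rfl⟩, hrel⟩ := hgen
  exact ⟨j, hj, hrel⟩

/-! ## Additions (generalised conic-type descent) -/

lemma isExc_lam {i l : Fin δ} (hil : i ≠ l) : IsExc (ell - eV i - eV l : DP δ) := by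
  refine ⟨?_, ?_⟩
  · simp only [form_sub_left, form_sub_right, form_ell_right, form_eV_right, Pi.sub_apply,
      ell_zero, ell_succ, eV_zero, eV_self, eV_ne hil, eV_ne hil.symm]
    norm_num
  · simp only [form_sub_right, form_ell_right, form_eV_right, canon_zero, canon_succ]
    norm_num

lemma con_step' (hδ : δ ≤ 8) (S : Finset (Fin δ)) (hS : 3 ≤ S.card) (v : DP δ) (hv : IsExc v)
    (hne : ∀ m ∈ S, v ≠ eV m)
    (hsum : ∑ m ∈ S, v m.succ = 3 * v 0 - 2)
    (hsq : ∑ m ∈ S, v m.succ * v m.succ = v 0 * v 0 - 0)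
    (hT : ¬ ∃ i ∈ S, v 0 = 1 ∧ v i.succ = 1 ∧ ∀ m ∈ S, m ≠ i → v m.succ = 0) :
    1 ≤ v 0 ∧ ∃ v' : DP δ, v' 0 < v 0 ∧ Rel (fzS S) v v' := by
  have hnn : ∀ m ∈ S, 0 ≤ v m.succ := fun m hm => exc_coord_nonneg hδ hv m (hne m hm)
  have ha : 1 ≤ v 0 := by
    have := Finset.sum_nonneg hnn
    rw [hsum] at this
    omega
  refine ⟨ha, ?_⟩
  obtain ⟨i, hi, j, hj, k, hk, hij, hik, hjk, hkj, hji, hrest, hineq⟩ :=
    noether S (fun m => v m.succ) (v 0) 2 0 hS hnn hsum hsq
  have hk0 : 0 ≤ v k.succ := hnn k hk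
  have hki : v k.succ ≤ v i.succ := le_trans hkj hji
  by_cases hlt : v 0 < v i.succ + v j.succ + v k.succ
  · exact cr_move _ v hi hj hk hij hik hjk hlt
  · exfalso
    have hs : 0 ≤ v 0 - v i.succ - v j.succ - v k.succ := by linarith
    have p1 := mul_nonneg (sub_nonneg.2 hki) (sub_nonneg.2 hkj)
    have p2 := mul_nonneg hk0 (sub_nonneg.2 hki)
    have p3 := mul_nonneg hk0 (sub_nonneg.2 hkj)
    have p4 := mul_nonneg hs (by linarith : 0 ≤ 2 * v i.succ + 2 * v j.succ - v k.succ)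
    have p5 := mul_self_nonneg (v 0 - v i.succ - v j.succ - v k.succ)
    have hk00 : v k.succ = 0 := by nlinarith [p1, p2, p3, p4, p5]
    have hss : (v 0 - v i.succ - v j.succ - v k.succ) * (v 0 - v i.succ - v j.succ - v k.succ)
        ≤ 0 := by nlinarith [p1, p2, p3, p4, p5]
    have hs0 : v 0 - v i.succ - v j.succ - v k.succ = 0 :=
      mul_self_eq_zero.mp (le_antisymm hss p5)
    have hijz : v i.succ * v j.succ ≤ 0 := by nlinarith [p1, p2, p3, p4, p5]
    have hj0 : v j.succ = 0 := by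
      by_contra hne'
      have h1 : 1 ≤ v j.succ := by omega
      have h2 : 1 ≤ v i.succ := le_trans h1 hji
      nlinarith [mul_pos (by linarith : 0 < v i.succ) (by linarith : 0 < v j.succ)]
    have hothers : ∀ m ∈ S, m ≠ i → v m.succ = 0 := by
      intro m hm hmi
      by_cases hmj : m = j
      · rw [hmj]; exact hj0
      · by_cases hmk : m = k
        · rw [hmk]; exact hk00
        · have := hrest m hm hmi hmj hmk
          have := hnn m hm
          omega
    have hsi : ∑ m ∈ S, v m.succ = v i.succ :=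
      Finset.sum_eq_single_of_mem i hi (fun m hm hmi => hothers m hm hmi)
    have hi1 : v i.succ = 1 := by
      rw [hsum] at hsi
      omega
    have ha1 : v 0 = 1 := by omega
    exact hT ⟨i, hi, ha1, hi1, hothers⟩

lemma descent_con' (hδ : δ ≤ 8) (S : Finset (Fin δ)) (hS : 3 ≤ S.card) (c : Fin δ → ℤ)
    (hc1 : ∑ m ∈ Sᶜ, c m = 1) (hc2 : ∑ m ∈ Sᶜ, c m * c m = 1) (v : DP δ) (hv : IsExc v)
    (hvc : ∀ m, m ∉ S → v m.succ = c m) :
    ∃ w : DP δ, Rel (fzS S) v w ∧
      ∃ i ∈ S, w 0 = 1 ∧ w i.succ = 1 ∧ ∀ m ∈ S, m ≠ i → w m.succ = 0 := by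
  have hstep : ∀ v : DP δ, (IsExc v ∧ ∀ m, m ∉ S → v m.succ = c m) →
      ¬ (∃ i ∈ S, v 0 = 1 ∧ v i.succ = 1 ∧ ∀ m ∈ S, m ≠ i → v m.succ = 0) →
      1 ≤ v 0 ∧ ∃ v', v' 0 < v 0 ∧ Rel (fzS S) v v' := by
    intro v hP hT
    obtain ⟨hv, hvc⟩ := hP
    have hcs : ∑ m ∈ Sᶜ, v m.succ = ∑ m ∈ Sᶜ, c m :=
      Finset.sum_congr rfl fun m hm => hvc m (Finset.mem_compl.mp hm)
    have hcq : ∑ m ∈ Sᶜ, v m.succ * v m.succ = ∑ m ∈ Sᶜ, c m * c m :=
      Finset.sum_congr rfl fun m hm => by rw [hvc m (Finset.mem_compl.mp hm)]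
    have hsum : ∑ m ∈ S, v m.succ = 3 * v 0 - 2 := by
      have h1 := Finset.sum_add_sum_compl S (fun m => v m.succ)
      have h2 := exc_sum hv
      linarith
    have hsq : ∑ m ∈ S, v m.succ * v m.succ = v 0 * v 0 - 0 := by
      have h1 := Finset.sum_add_sum_compl S (fun m => v m.succ * v m.succ)
      have h2 := exc_sumsq hv
      linarith
    have hne : ∀ m ∈ S, v ≠ eV m := by
      intro m hm hvm
      have hex : ∃ m' ∈ Sᶜ, c m' ≠ 0 := by
        by_contra hcon
        push Not at hcon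
        have : ∑ m ∈ Sᶜ, c m = 0 := Finset.sum_eq_zero hcon
        omega
      obtain ⟨m', hm', hcm'⟩ := hex
      have hm'S : m' ∉ S := Finset.mem_compl.mp hm'
      have hmm' : m' ≠ m := fun h => hm'S (h ▸ hm)
      apply hcm'
      rw [← hvc m' hm'S, hvm, eV_ne hmm']
    exact con_step' hδ S hS v hv hne hsum hsq hT
  have hgen := descent_gen (fzS S) (fun v => IsExc v ∧ ∀ m, m ∉ S → v m.succ = c m)
    (fun v => ∃ i ∈ S, v 0 = 1 ∧ v i.succ = 1 ∧ ∀ m ∈ S, m ≠ i → v m.succ = 0)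
    (fun v v' hP hrel => ⟨hrel.isExc hP.1, fun m hm => by rw [hrel.coord hm]; exact hP.2 m hm⟩)
    hstep (v 0).toNat v ⟨hv, hvc⟩ (Int.self_le_toNat _)
  obtain ⟨w, hw, hrel⟩ := hgen
  exact ⟨w, hrel, hw⟩

end

end Groth.Agent.Lib.helper6.DPWeyl
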