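import Mathlib
import Groth.Prelude.Def_W4c3severiratdpLat
import Groth.Agent.Lib.Helper6.DPWeyl

/-!
# Pairs of conic classes on the Picard lattice of a blown-up plane (helper6)

Conic classes meet exceptional classes non-negatively; every conic class is Weyl-equivalent to
`ℓ - e_0`; relative descent of a second conic class with respect to `ℓ - e_0`; sorting by a
permutation Weyl element; classification of the reduced sorted forms; normal forms of ordered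
pairs of conic classes and their uniqueness.
-/

set_option autoImplicit false
set_option linter.unusedVariables false
set_option linter.unusedSectionVars false
set_option linter.unnecessarySeqFocus false

namespace Groth.Agent.Lib.helper6.DPConic

open W4c3severiratdp
open Groth.Agent.Lib.helper6.DPWeyl

noncomputable section

variable {δ : ℕ}

/-! ## Conic basics -/

lemma form_zero_left (v : DP δ) : form (0 : DP δ) v = 0 := by
  unfold form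
  simp

lemma conic_exc_nonneg (hδ : δ ≤ 8) {Q E : DP δ} (hQ : IsConic Q) (hE : IsExc E) :
    0 ≤ form Q E := by
  have hx : form (canon δ) (Q - E - E) = 0 := by
    rw [form_sub_right, form_sub_right, hQ.2, hE.2]
    ring
  have hxx : form (Q - E - E) (Q - E - E) = -4 - 4 * form Q E := by
    simp only [form_sub_left, form_sub_right, hQ.1, hE.1, form_comm E Q]
    ring
  obtain ⟨h1, h2⟩ := nd hδ (Q - E - E) hx
  rw [hxx] at h1 h2
  by_contra hneg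
  have hm1 : form Q E = -1 := by omega
  have h0 : Q - E - E = 0 := h2 (by rw [hm1]; norm_num)
  have h3 : form (Q - E - E) Q = 0 := by rw [h0, form_zero_left]
  rw [form_sub_left, form_sub_left, hQ.1, form_comm E Q, hm1] at h3
  omega

lemma conic_coord_nonneg (hδ : δ ≤ 8) {Q : DP δ} (hQ : IsConic Q) (j : Fin δ) :
    0 ≤ Q j.succ := by
  rw [← form_eV_right Q j]
  exact conic_exc_nonneg hδ hQ (isExc_eV j)

lemma conic_sum {v : DP δ} (hv : IsConic v) : ∑ i : Fin δ, v i.succ = 3 * v 0 - 2 := by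
  have := hv.2
  rw [form_canon_left] at this
  linarith

lemma conic_sumsq {v : DP δ} (hv : IsConic v) :
    ∑ i : Fin δ, v i.succ * v i.succ = v 0 * v 0 := by
  have := hv.1
  unfold form at this
  linarith

/-! ## Descent of a conic class to `ℓ - e_i` -/

lemma con_step2 (S : Finset (Fin δ)) (hS : 3 ≤ S.card) (v : DP δ)
    (hnn : ∀ m ∈ S, 0 ≤ v m.succ)
    (hsum : ∑ m ∈ S, v m.succ = 3 * v 0 - 2)
    (hsq : ∑ m ∈ S, v m.succ * v m.succ = v 0 * v 0 - 0)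
    (hT : ¬ ∃ i ∈ S, v 0 = 1 ∧ v i.succ = 1 ∧ ∀ m ∈ S, m ≠ i → v m.succ = 0) :
    1 ≤ v 0 ∧ ∃ v' : DP δ, v' 0 < v 0 ∧ Rel (fzS S) v v' := by
  have ha : 1 ≤ v 0 := by
    have := Finset.sum_nonneg hnn
    rw [hsum] at this
    omega
  refine ⟨ha, ?_⟩
  obtain ⟨i, hi, j, hj, k, hk, hij, hik, hjk, hkj, hji, hrest, hineq⟩ :=
    noether S (fun m => v m.succ) (v 0) 2 0 hS hnn hsum hsq
  have hk0 : 0 ≤ v k.succ := hnn k hk
  have hki : v k.succ ≤ v i.succ := le_trans hkj hji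
  by_cases hlt : v 0 < v i.succ + v j.succ + v k.succ
  · exact cr_move _ v hi hj hk hij hik hjk hlt
  · exfalso
    have hs : 0 ≤ v 0 - v i.succ - v j.succ - v k.succ := by linarith
    have p1 := mul_nonneg (sub_nonneg.2 hki) (sub_nonneg.2 hkj)
    have p2 := mul_nonneg hk0 (sub_nonneg.2 hki)
    have p3 := mul_nonneg hk0 (sub_nonneg.2 hkj)
    have p4 := mul_nonneg hs (by linarith : 0 ≤ 2 * v i.succ + 2 * v j.succ - v k.succ)
    have p5 := mul_self_nonneg (v 0 - v i.succ - v j.succ - v k.succ)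
    have hk00 : v k.succ = 0 := by nlinarith [p1, p2, p3, p4, p5]
    have hss : (v 0 - v i.succ - v j.succ - v k.succ) * (v 0 - v i.succ - v j.succ - v k.succ)
        ≤ 0 := by nlinarith [p1, p2, p3, p4, p5]
    have hs0 : v 0 - v i.succ - v j.succ - v k.succ = 0 :=
      mul_self_eq_zero.mp (le_antisymm hss p5)
    have hijz : v i.succ * v j.succ ≤ 0 := by nlinarith [p1, p2, p3, p4, p5]
    have hj0 : v j.succ = 0 := by
      by_contra hne'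
      have h1 : 1 ≤ v j.succ := by omega
      have h2 : 1 ≤ v i.succ := le_trans h1 hji
      nlinarith [mul_pos (by linarith : 0 < v i.succ) (by linarith : 0 < v j.succ)]
    have hothers : ∀ m ∈ S, m ≠ i → v m.succ = 0 := by
      intro m hm hmi
      by_cases hmj : m = j
      · rw [hmj]; exact hj0
      · by_cases hmk : m = k
        · rw [hmk]; exact hk00
        · have := hrest m hm hmi hmj hmk
          have := hnn m hm
          omega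
    have hsi : ∑ m ∈ S, v m.succ = v i.succ :=
      Finset.sum_eq_single_of_mem i hi (fun m hm hmi => hothers m hm hmi)
    have hi1 : v i.succ = 1 := by
      rw [hsum] at hsi
      omega
    have ha1 : v 0 = 1 := by omega
    exact hT ⟨i, hi, ha1, hi1, hothers⟩

lemma conic_descent (hδ : δ ≤ 8) (h3 : 3 ≤ δ) (v : DP δ) (hv : IsConic v) :
    ∃ w : DP δ, Rel (fzS Finset.univ) v w ∧
      ∃ i : Fin δ, w 0 = 1 ∧ w i.succ = 1 ∧ ∀ m, m ≠ i → w m.succ = 0 := by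
  have hcard : 3 ≤ (Finset.univ : Finset (Fin δ)).card := by
    rw [Finset.card_univ, Fintype.card_fin]
    exact h3
  have hstep : ∀ v : DP δ, IsConic v →
      ¬ (∃ i ∈ (Finset.univ : Finset (Fin δ)), v 0 = 1 ∧ v i.succ = 1 ∧
          ∀ m ∈ (Finset.univ : Finset (Fin δ)), m ≠ i → v m.succ = 0) →
      1 ≤ v 0 ∧ ∃ v', v' 0 < v 0 ∧ Rel (fzS Finset.univ) v v' := by
    intro v hv hT
    refine con_step2 Finset.univ hcard v (fun m _ => conic_coord_nonneg hδ hv m)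
      (conic_sum hv) ?_ hT
    rw [conic_sumsq hv, sub_zero]
  obtain ⟨w, hw, hrel⟩ := descent_gen (fzS Finset.univ) (fun v => IsConic v)
    (fun v => ∃ i ∈ (Finset.univ : Finset (Fin δ)), v 0 = 1 ∧ v i.succ = 1 ∧
          ∀ m ∈ (Finset.univ : Finset (Fin δ)), m ≠ i → v m.succ = 0)
    (fun v v' hP hrel => hrel.isConic hP) hstep (v 0).toNat v hv (Int.self_le_toNat _)
  obtain ⟨i, -, h0, h1, h2⟩ := hw
  exact ⟨w, hrel, i, h0, h1, fun m hm => h2 m (Finset.mem_univ m) hm⟩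

lemma fin2 : ∀ m : Fin 2, m = 0 ∨ m = 1 := by decide

lemma conic_two (v : DP 2) (hv : IsConic v) :
    ∃ i : Fin 2, v 0 = 1 ∧ v i.succ = 1 ∧ ∀ m, m ≠ i → v m.succ = 0 := by
  have hs := conic_sum hv
  have hq := conic_sumsq hv
  rw [Fin.sum_univ_two] at hs hq
  have hx := conic_coord_nonneg (by norm_num : 2 ≤ 8) hv 0
  have hy := conic_coord_nonneg (by norm_num : 2 ≤ 8) hv 1
  obtain ⟨a, ha⟩ : ∃ a, a = v 0 := ⟨_, rfl⟩
  obtain ⟨x, hxd⟩ : ∃ x, x = v (0 : Fin 2).succ := ⟨_, rfl⟩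
  obtain ⟨y, hyd⟩ : ∃ y, y = v (1 : Fin 2).succ := ⟨_, rfl⟩
  rw [← ha, ← hxd, ← hyd] at hs hq
  rw [← hxd] at hx
  rw [← hyd] at hy
  have e : (x + y) * (x + y) = (3 * a - 2) * (3 * a - 2) := by rw [hs]
  have h7 : 7 * (a * a) - 12 * a + 4 ≤ 0 := by nlinarith [mul_self_nonneg (x - y), e]
  have ha1 : 1 ≤ a := by nlinarith [mul_self_nonneg a]
  have ha2 : a ≤ 1 := by
    by_contra hcon
    have h2 : 2 ≤ a := by omega
    nlinarith [mul_nonneg (by linarith : (0:ℤ) ≤ a) (by linarith : (0:ℤ) ≤ a - 2)]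
  have hae : a = 1 := le_antisymm ha2 ha1
  subst hae
  have hx01 : x = 0 ∨ x = 1 := by omega
  rcases hx01 with h | h
  · refine ⟨1, ha.symm, ?_, ?_⟩
    · rw [← hyd]; omega
    · intro m hm
      rcases fin2 m with rfl | rfl
      · rw [← hxd]; exact h
      · exact absurd rfl hm
  · refine ⟨0, ha.symm, ?_, ?_⟩
    · rw [← hxd]; exact h
    · intro m hm
      rcases fin2 m with rfl | rfl
      · exact absurd rfl hm
      · rw [← hyd]; omega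

lemma eq_Fc_of_coords {v : DP δ} {i : Fin δ} (h0 : v 0 = 1) (h1 : v i.succ = 1)
    (h2 : ∀ m, m ≠ i → v m.succ = 0) : v = ell - eV i := by
  funext t
  refine Fin.cases ?_ (fun m => ?_) t
  · simp only [Pi.sub_apply, ell_zero, eV_zero]
    rw [h0]
    norm_num
  · simp only [Pi.sub_apply, ell_succ]
    by_cases hmi : m = i
    · rw [hmi, h1, eV_self]
      norm_num
    · rw [h2 m hmi, eV_ne hmi]
      norm_num

lemma rel_Fc_swap (i j : Fin δ) :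
    Rel (fzS Finset.univ) (ell - eV i : DP δ) (ell - eV j) := by
  by_cases hij : i = j
  · subst hij
    exact Rel.rfl' _ _
  · have h := rel_tr Finset.univ (ell - eV i : DP δ) (Finset.mem_univ i) (Finset.mem_univ j) hij
    have e : (ell - eV i : DP δ) + form (ell - eV i : DP δ) (trV i j) • trV i j
        = ell - eV j := by
      have hc : form (ell - eV i : DP δ) (trV i j) = 1 := by
        rw [form_trV_right]
        simp only [Pi.sub_apply, ell_succ, eV_self, eV_ne (Ne.symm hij)]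
        norm_num
      rw [hc, one_smul]
      unfold trV
      abel
    rw [e] at h
    exact h

lemma conic_rel_Fc (hδ : δ ≤ 8) (h2 : 2 ≤ δ) (i0 : Fin δ) (v : DP δ) (hv : IsConic v) :
    Rel (fzS Finset.univ) v (ell - eV i0) := by
  have key : ∃ w : DP δ, Rel (fzS Finset.univ) v w ∧
      ∃ i : Fin δ, w 0 = 1 ∧ w i.succ = 1 ∧ ∀ m, m ≠ i → w m.succ = 0 := by
    rcases (by omega : δ = 2 ∨ 3 ≤ δ) with h | h3
    · subst h
      exact ⟨v, Rel.rfl' _ _, conic_two v hv⟩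
    · exact conic_descent hδ h3 v hv
  obtain ⟨w, hrel, i, h0, h1, h2'⟩ := key
  rw [eq_Fc_of_coords h0 h1 h2'] at hrel
  exact hrel.trans' (rel_Fc_swap i i0)

/-! ## Relative descent with respect to `F = ℓ - e_{i0}` -/

/-- the conic class `ℓ - e_{i0}` -/
def Fc (i0 : Fin δ) : DP δ := ell - eV i0

lemma Fc_zero (i0 : Fin δ) : (Fc i0 : DP δ) 0 = 1 := by
  unfold Fc
  simp only [Pi.sub_apply, ell_zero, eV_zero]
  norm_num

lemma Fc_succ (i0 m : Fin δ) : (Fc i0 : DP δ) m.succ = if m = i0 then 1 else 0 := by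
  unfold Fc
  simp only [Pi.sub_apply, ell_succ, eV_succ]
  split_ifs <;> norm_num

lemma form_Fc_right (v : DP δ) (i0 : Fin δ) : form v (Fc i0) = v 0 - v i0.succ := by
  unfold Fc
  rw [form_sub_right, form_ell_right, form_eV_right]

lemma form_Fc_left (v : DP δ) (i0 : Fin δ) : form (Fc i0) v = v 0 - v i0.succ := by
  rw [form_comm, form_Fc_right]

lemma isConic_Fc (i0 : Fin δ) : IsConic (Fc i0 : DP δ) := by
  refine ⟨?_, ?_⟩
  · rw [form_Fc_right, Fc_zero, Fc_succ, if_pos rfl]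
    norm_num
  · rw [form_Fc_right, canon_zero, canon_succ]
    norm_num

lemma rel_crF (i0 : Fin δ) {i j : Fin δ} (hi : i ≠ i0) (hj : j ≠ i0) (hij : i ≠ j) (v : DP δ) :
    Rel ({Fc i0} : Set (DP δ)) v (v + form v (crV i0 i j) • crV i0 i j) := by
  refine rel_refl_root _ _ (form_crV_self (Ne.symm hi) (Ne.symm hj) hij)
    (form_canon_crV i0 i j) ?_ v
  intro f hf
  rw [Set.mem_singleton_iff] at hf
  rw [hf, form_crV_right, Fc_zero, Fc_succ, Fc_succ, Fc_succ, if_pos rfl, if_neg hi, if_neg hj]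
  norm_num

lemma rel_form_fixed {F v w : DP δ} (h : Rel ({F} : Set (DP δ)) v w) :
    form F w = form F v := by
  obtain ⟨g, hg, hf, rfl⟩ := h
  have h1 : g F = F := hf F (Set.mem_singleton F)
  calc form F (g v) = form (g F) (g v) := by rw [h1]
    _ = form F v := hg.1 F v

lemma rel_descent (hδ : δ ≤ 8) (i0 : Fin δ) (k : ℤ) (v : DP δ) (hv : IsConic v)
    (hk : form (Fc i0) v = k) :
    ∃ w : DP δ, Rel ({Fc i0} : Set (DP δ)) v w ∧
      ∀ i j : Fin δ, i ≠ i0 → j ≠ i0 → i ≠ j → w i.succ + w j.succ ≤ k := by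
  have hstep : ∀ v : DP δ, (IsConic v ∧ form (Fc i0) v = k) →
      ¬ (∀ i j : Fin δ, i ≠ i0 → j ≠ i0 → i ≠ j → v i.succ + v j.succ ≤ k) →
      1 ≤ v 0 ∧ ∃ v', v' 0 < v 0 ∧ Rel ({Fc i0} : Set (DP δ)) v v' := by
    intro v hP hT
    obtain ⟨hv, hk⟩ := hP
    have ha : 1 ≤ v 0 := by
      have h1 : 0 ≤ ∑ i : Fin δ, v i.succ :=
        Finset.sum_nonneg fun m _ => conic_coord_nonneg hδ hv m
      rw [conic_sum hv] at h1
      omega
    refine ⟨ha, ?_⟩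
    push Not at hT
    obtain ⟨i, j, hi, hj, hij, hlt⟩ := hT
    refine ⟨v + form v (crV i0 i j) • crV i0 i j, ?_, rel_crF i0 hi hj hij v⟩
    rw [form_Fc_left] at hk
    rw [form_crV_right]
    show v 0 + ((v 0 - v i0.succ - v i.succ - v j.succ) • (crV i0 i j : DP δ)) 0 < v 0
    rw [smul_apply', crV_zero]
    linarith
  obtain ⟨w, hw, hrel⟩ := descent_gen ({Fc i0} : Set (DP δ))
    (fun v => IsConic v ∧ form (Fc i0) v = k)
    (fun v => ∀ i j : Fin δ, i ≠ i0 → j ≠ i0 → i ≠ j → v i.succ + v j.succ ≤ k)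
    (fun v v' hP hrel => ⟨hrel.isConic hP.1, (rel_form_fixed hrel).trans hP.2⟩)
    hstep (v 0).toNat v ⟨hv, hk⟩ (Int.self_le_toNat _)
  exact ⟨w, hrel, hw⟩

/-! ## Permutation Weyl elements fixing `e_0` -/

variable {n : ℕ}

/-- extend a self-map of `Fin n` to `Fin (n+2)`, fixing the first two indices -/
def idx (σ : Fin n → Fin n) : Fin (n + 1 + 1) → Fin (n + 1 + 1) :=
  @Fin.cases (n + 1) (fun _ => Fin (n + 1 + 1)) 0
    (fun i => Fin.succ (@Fin.cases n (fun _ => Fin (n + 1)) 0 (fun m => Fin.succ (σ m)) i))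

lemma idx_zero (σ : Fin n → Fin n) : idx σ 0 = 0 := by
  simp only [idx, Fin.cases_zero]

lemma idx_one (σ : Fin n → Fin n) : idx σ (Fin.succ 0) = Fin.succ 0 := by
  simp only [idx, Fin.cases_zero, Fin.cases_succ]

lemma idx_succ2 (σ : Fin n → Fin n) (m : Fin n) :
    idx σ (Fin.succ (Fin.succ m)) = Fin.succ (Fin.succ (σ m)) := by
  simp only [idx, Fin.cases_succ]

lemma idx_comp (σ τ : Fin n → Fin n) (h : ∀ m, σ (τ m) = m) (t : Fin (n + 1 + 1)) :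
    idx σ (idx τ t) = t := by
  refine Fin.cases ?_ (fun i => ?_) t
  · rw [idx_zero, idx_zero]
  · refine Fin.cases ?_ (fun m => ?_) i
    · rw [idx_one, idx_one]
    · rw [idx_succ2, idx_succ2, h]

/-- the Weyl element permuting the classes `e_1, …, e_n` (and fixing `ℓ` and `e_0`) -/
def permL (σ : Equiv.Perm (Fin n)) : DP (n + 1) ≃ₗ[ℤ] DP (n + 1) where
  toFun v := fun t => v (idx σ t)
  map_add' v w := rfl
  map_smul' c v := rfl
  invFun v := fun t => v (idx σ.symm t)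
  left_inv v := by
    funext t
    show v (idx σ (idx σ.symm t)) = v t
    rw [idx_comp σ σ.symm (fun m => σ.apply_symm_apply m)]
  right_inv v := by
    funext t
    show v (idx σ.symm (idx σ t)) = v t
    rw [idx_comp σ.symm σ (fun m => σ.symm_apply_apply m)]

lemma permL_apply (σ : Equiv.Perm (Fin n)) (v : DP (n + 1)) (t : Fin (n + 1 + 1)) :
    permL σ v t = v (idx σ t) := rfl

lemma form_split (v w : DP (n + 1)) :
    form v w = v 0 * w 0 - v (Fin.succ 0) * w (Fin.succ 0)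
      - ∑ m : Fin n, v m.succ.succ * w m.succ.succ := by
  unfold form
  rw [Fin.sum_univ_succ]
  ring

lemma isWeyl_permL (σ : Equiv.Perm (Fin n)) : IsWeyl (permL σ) := by
  refine ⟨fun v w => ?_, ?_⟩
  · rw [form_split, form_split]
    simp only [permL_apply, idx_zero, idx_one, idx_succ2]
    have h : ∑ m : Fin n, v (σ m).succ.succ * w (σ m).succ.succ
        = ∑ m : Fin n, v m.succ.succ * w m.succ.succ :=
      Equiv.sum_comp σ (fun m => v m.succ.succ * w m.succ.succ)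
    rw [h]
  · funext t
    rw [permL_apply]
    refine Fin.cases ?_ (fun i => ?_) t
    · rw [idx_zero]
    · refine Fin.cases ?_ (fun m => ?_) i
      · rw [idx_one]
      · rw [idx_succ2, canon_succ, canon_succ]

lemma permL_Fc (σ : Equiv.Perm (Fin n)) : permL σ (Fc (0 : Fin (n + 1))) = Fc 0 := by
  funext t
  rw [permL_apply]
  refine Fin.cases ?_ (fun i => ?_) t
  · rw [idx_zero]
  · refine Fin.cases ?_ (fun m => ?_) i
    · rw [idx_one]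
    · rw [idx_succ2, Fc_succ, Fc_succ, if_neg (Fin.succ_ne_zero _), if_neg (Fin.succ_ne_zero _)]

lemma exists_sort (v : DP (n + 1)) :
    ∃ σ : Equiv.Perm (Fin n), ∀ m m' : Fin n, m ≤ m' →
      (permL σ v) m'.succ.succ ≤ (permL σ v) m.succ.succ := by
  refine ⟨Tuple.sort (fun m : Fin n => - v m.succ.succ), fun m m' hmm => ?_⟩
  have hmono := Tuple.monotone_sort (fun m : Fin n => - v m.succ.succ)
  have h := hmono hmm
  simp only [Function.comp_apply] at h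
  rw [permL_apply, permL_apply, idx_succ2, idx_succ2]
  linarith

/-! ## Normal forms of ordered pairs of conic classes -/

/-- normal form of a conic class relative to `F = ℓ - e_0` -/
def IsNF (k : ℤ) (Q : DP (n + 1)) : Prop :=
  IsConic Q ∧ form (Fc (0 : Fin (n + 1))) Q = k ∧
    (∀ m m' : Fin n, m ≤ m' → Q m'.succ.succ ≤ Q m.succ.succ) ∧
    (∀ m m' : Fin n, m ≠ m' → Q m.succ.succ + Q m'.succ.succ ≤ k)

theorem exists_nf (hn : n + 1 ≤ 8) (hn1 : 1 ≤ n) (Q1 Q2 : DP (n + 1)) (h1 : IsConic Q1)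
    (h2 : IsConic Q2) :
    ∃ g : DP (n + 1) ≃ₗ[ℤ] DP (n + 1), IsWeyl g ∧ g Q1 = Fc 0 ∧
      IsNF (form Q1 Q2) (g Q2) := by
  obtain ⟨g1, hg1, -, hg1Q⟩ := conic_rel_Fc hn (by omega) (0 : Fin (n + 1)) Q1 h1
  have hF : g1 Q1 = Fc (0 : Fin (n + 1)) := hg1Q
  have hc2 : IsConic (g1 Q2) := weyl_isConic hg1 h2
  have hk2 : form (Fc (0 : Fin (n + 1))) (g1 Q2) = form Q1 Q2 := by
    rw [← hF]
    exact hg1.1 Q1 Q2
  obtain ⟨w, ⟨g2, hg2, hg2F, hg2Q⟩, hT⟩ :=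
    rel_descent hn (0 : Fin (n + 1)) (form Q1 Q2) (g1 Q2) hc2 hk2
  have hg2F' : g2 (Fc (0 : Fin (n + 1))) = Fc 0 := hg2F _ (Set.mem_singleton _)
  obtain ⟨σ, hσ⟩ := exists_sort w
  have hcw : IsConic w := by
    rw [← hg2Q]
    exact weyl_isConic hg2 hc2
  have hkw : form (Fc (0 : Fin (n + 1))) w = form Q1 Q2 := by
    calc form (Fc (0 : Fin (n + 1))) w = form (g2 (Fc 0)) (g2 (g1 Q2)) := by rw [hg2F', hg2Q]
      _ = form (Fc 0) (g1 Q2) := hg2.1 _ _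
      _ = form Q1 Q2 := hk2
  refine ⟨g1.trans (g2.trans (permL σ)),
    isWeyl_trans hg1 (isWeyl_trans hg2 (isWeyl_permL σ)), ?_, ?_⟩
  · rw [LinearEquiv.trans_apply, LinearEquiv.trans_apply, hF, hg2F', permL_Fc]
  · rw [LinearEquiv.trans_apply, LinearEquiv.trans_apply, hg2Q]
    refine ⟨weyl_isConic (isWeyl_permL σ) hcw, ?_, hσ, ?_⟩
    · calc form (Fc (0 : Fin (n + 1))) (permL σ w)
          = form (permL σ (Fc 0)) (permL σ w) := by rw [permL_Fc]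
        _ = form (Fc 0) w := (isWeyl_permL σ).1 _ _
        _ = form Q1 Q2 := hkw
    · intro m m' hmm
      rw [permL_apply, permL_apply, idx_succ2, idx_succ2]
      exact hT _ _ (Fin.succ_ne_zero _) (Fin.succ_ne_zero _)
        (fun h => hmm (σ.injective (Fin.succ_injective _ h)))

/-! ## Padding and the classification of reduced sorted forms -/

/-- pad a tuple by zeros -/
def padF (g : Fin n → ℤ) (j : ℕ) : ℤ := if h : j < n then g ⟨j, h⟩ else 0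

lemma padF_lt (g : Fin n → ℤ) {j : ℕ} (h : j < n) : padF g j = g ⟨j, h⟩ := by
  unfold padF
  rw [dif_pos h]

lemma padF_ge (g : Fin n → ℤ) {j : ℕ} (h : ¬ j < n) : padF g j = 0 := by
  unfold padF
  rw [dif_neg h]

lemma padF_val (g : Fin n → ℤ) (m : Fin n) : padF g m.val = g m := padF_lt g m.isLt

lemma sum_pad {N : ℕ} (hN : n ≤ N) (g : Fin n → ℤ) (φ : ℤ → ℤ) (h0 : φ 0 = 0) :
    ∑ j ∈ Finset.range N, φ (padF g j) = ∑ m : Fin n, φ (g m) := by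
  have h1 : ∑ j ∈ Finset.range n, φ (padF g j) = ∑ j ∈ Finset.range N, φ (padF g j) := by
    apply Finset.sum_subset (Finset.range_mono hN)
    intro j _ hj
    rw [Finset.mem_range] at hj
    rw [padF_ge g hj, h0]
  have h2 : ∑ m : Fin n, φ (padF g m.val) = ∑ j ∈ Finset.range n, φ (padF g j) :=
    Fin.sum_univ_eq_sum_range (fun j => φ (padF g j)) n
  rw [← h1, ← h2]
  exact Finset.sum_congr rfl fun m _ => by rw [padF_val]

lemma sum_range7 (f : ℕ → ℤ) :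
    ∑ j ∈ Finset.range 7, f j = f 0 + f 1 + f 2 + f 3 + f 4 + f 5 + f 6 := by
  simp only [Finset.sum_range_succ, Finset.sum_range_zero, zero_add]

/-- the list of reduced sorted forms -/
def Cls (k b c0 c1 c2 c3 c4 c5 c6 : ℤ) : Prop :=
    (k = 0 ∧ b = 1 ∧ c0 = 0 ∧ c1 = 0 ∧ c2 = 0 ∧ c3 = 0 ∧ c4 = 0 ∧ c5 = 0 ∧ c6 = 0) ∨
    (k = 1 ∧ b = 0 ∧ c0 = 1 ∧ c1 = 0 ∧ c2 = 0 ∧ c3 = 0 ∧ c4 = 0 ∧ c5 = 0 ∧ c6 = 0) ∨
    (k = 2 ∧ b = 0 ∧ c0 = 1 ∧ c1 = 1 ∧ c2 = 1 ∧ c3 = 1 ∧ c4 = 0 ∧ c5 = 0 ∧ c6 = 0) ∨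
    (k = 3 ∧ b = 0 ∧ c0 = 2 ∧ c1 = 1 ∧ c2 = 1 ∧ c3 = 1 ∧ c4 = 1 ∧ c5 = 1 ∧ c6 = 0) ∨
    (k = 4 ∧ b = 0 ∧ c0 = 2 ∧ c1 = 2 ∧ c2 = 2 ∧ c3 = 1 ∧ c4 = 1 ∧ c5 = 1 ∧ c6 = 1) ∨
    (k = 4 ∧ b = 1 ∧ c0 = 2 ∧ c1 = 2 ∧ c2 = 2 ∧ c3 = 2 ∧ c4 = 2 ∧ c5 = 2 ∧ c6 = 0) ∨
    (k = 5 ∧ b = 0 ∧ c0 = 2 ∧ c1 = 2 ∧ c2 = 2 ∧ c3 = 2 ∧ c4 = 2 ∧ c5 = 2 ∧ c6 = 1) ∨
    (k = 6 ∧ b = 1 ∧ c0 = 3 ∧ c1 = 3 ∧ c2 = 3 ∧ c3 = 3 ∧ c4 = 2 ∧ c5 = 2 ∧ c6 = 2) ∨
    (k = 7 ∧ b = 1 ∧ c0 = 3 ∧ c1 = 3 ∧ c2 = 3 ∧ c3 = 3 ∧ c4 = 3 ∧ c5 = 3 ∧ c6 = 3) ∨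
    (k = 8 ∧ b = 3 ∧ c0 = 4 ∧ c1 = 4 ∧ c2 = 4 ∧ c3 = 4 ∧ c4 = 4 ∧ c5 = 4 ∧ c6 = 4)

lemma lin2 (c L : ℤ) (h1 : L ≤ c) (h2 : c ≤ L + 1) :
    c * c = (2 * L + 1) * c - L * (L + 1) := by
  have h : c = L ∨ c = L + 1 := by omega
  rcases h with h | h <;> subst h <;> ring

lemma cls0 (b c0 c1 c2 c3 c4 c5 c6 : ℤ) (hb : 0 ≤ b)
    (h10 : c1 ≤ c0) (h21 : c2 ≤ c1) (h32 : c3 ≤ c2) (h43 : c4 ≤ c3) (h54 : c5 ≤ c4)
    (h65 : c6 ≤ c5) (h6 : 0 ≤ c6) (hp : c0 + c1 ≤ 0)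
    (hs : c0 + c1 + c2 + c3 + c4 + c5 + c6 = 2 * b + 3 * 0 - 2)
    (hq : c0 * c0 + c1 * c1 + c2 * c2 + c3 * c3 + c4 * c4 + c5 * c5 + c6 * c6
      = 0 * 0 + 2 * 0 * b) :
    b = 1 ∧ c0 = 0 ∧ c1 = 0 ∧ c2 = 0 ∧ c3 = 0 ∧ c4 = 0 ∧ c5 = 0 ∧ c6 = 0 := by
  have e1 := lin2 c1 0 (by omega) (by omega)
  have e2 := lin2 c2 0 (by omega) (by omega)
  have e3 := lin2 c3 0 (by omega) (by omega)
  have e4 := lin2 c4 0 (by omega) (by omega)
  have e5 := lin2 c5 0 (by omega) (by omega)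
  have e6 := lin2 c6 0 (by omega) (by omega)
  have e0 := lin2 c0 0 (by omega) (by omega)
  omega

lemma cls1 (b c0 c1 c2 c3 c4 c5 c6 : ℤ) (hb : 0 ≤ b)
    (h10 : c1 ≤ c0) (h21 : c2 ≤ c1) (h32 : c3 ≤ c2) (h43 : c4 ≤ c3) (h54 : c5 ≤ c4)
    (h65 : c6 ≤ c5) (h6 : 0 ≤ c6) (hp : c0 + c1 ≤ 1)
    (hs : c0 + c1 + c2 + c3 + c4 + c5 + c6 = 2 * b + 3 * 1 - 2)
    (hq : c0 * c0 + c1 * c1 + c2 * c2 + c3 * c3 + c4 * c4 + c5 * c5 + c6 * c6
      = 1 * 1 + 2 * 1 * b) :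
    b = 0 ∧ c0 = 1 ∧ c1 = 0 ∧ c2 = 0 ∧ c3 = 0 ∧ c4 = 0 ∧ c5 = 0 ∧ c6 = 0 := by
  have e1 := lin2 c1 0 (by omega) (by omega)
  have e2 := lin2 c2 0 (by omega) (by omega)
  have e3 := lin2 c3 0 (by omega) (by omega)
  have e4 := lin2 c4 0 (by omega) (by omega)
  have e5 := lin2 c5 0 (by omega) (by omega)
  have e6 := lin2 c6 0 (by omega) (by omega)
  have e0 := lin2 c0 0 (by omega) (by omega)
  omega

lemma cls2 (b c0 c1 c2 c3 c4 c5 c6 : ℤ) (hb : 0 ≤ b)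
    (h10 : c1 ≤ c0) (h21 : c2 ≤ c1) (h32 : c3 ≤ c2) (h43 : c4 ≤ c3) (h54 : c5 ≤ c4)
    (h65 : c6 ≤ c5) (h6 : 0 ≤ c6) (hp : c0 + c1 ≤ 2)
    (hs : c0 + c1 + c2 + c3 + c4 + c5 + c6 = 2 * b + 3 * 2 - 2)
    (hq : c0 * c0 + c1 * c1 + c2 * c2 + c3 * c3 + c4 * c4 + c5 * c5 + c6 * c6
      = 2 * 2 + 2 * 2 * b) :
    b = 0 ∧ c0 = 1 ∧ c1 = 1 ∧ c2 = 1 ∧ c3 = 1 ∧ c4 = 0 ∧ c5 = 0 ∧ c6 = 0 := by
  have e1 := lin2 c1 0 (by omega) (by omega)
  have e2 := lin2 c2 0 (by omega) (by omega)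
  have e3 := lin2 c3 0 (by omega) (by omega)
  have e4 := lin2 c4 0 (by omega) (by omega)
  have e5 := lin2 c5 0 (by omega) (by omega)
  have e6 := lin2 c6 0 (by omega) (by omega)
  have l0 : 0 ≤ c0 := by omega
  have u0 : c0 ≤ 2 := by omega
  interval_cases c0 <;> omega

lemma cls3 (b c0 c1 c2 c3 c4 c5 c6 : ℤ) (hb : 0 ≤ b)
    (h10 : c1 ≤ c0) (h21 : c2 ≤ c1) (h32 : c3 ≤ c2) (h43 : c4 ≤ c3) (h54 : c5 ≤ c4)
    (h65 : c6 ≤ c5) (h6 : 0 ≤ c6) (hp : c0 + c1 ≤ 3)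
    (hs : c0 + c1 + c2 + c3 + c4 + c5 + c6 = 2 * b + 3 * 3 - 2)
    (hq : c0 * c0 + c1 * c1 + c2 * c2 + c3 * c3 + c4 * c4 + c5 * c5 + c6 * c6
      = 3 * 3 + 2 * 3 * b) :
    b = 0 ∧ c0 = 2 ∧ c1 = 1 ∧ c2 = 1 ∧ c3 = 1 ∧ c4 = 1 ∧ c5 = 1 ∧ c6 = 0 := by
  have e1 := lin2 c1 0 (by omega) (by omega)
  have e2 := lin2 c2 0 (by omega) (by omega)
  have e3 := lin2 c3 0 (by omega) (by omega)
  have e4 := lin2 c4 0 (by omega) (by omega)
  have e5 := lin2 c5 0 (by omega) (by omega)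
  have e6 := lin2 c6 0 (by omega) (by omega)
  have l0 : 0 ≤ c0 := by omega
  have u0 : c0 ≤ 3 := by omega
  interval_cases c0 <;> omega

lemma cls5 (b c0 c1 c2 c3 c4 c5 c6 : ℤ) (hb : 0 ≤ b)
    (h10 : c1 ≤ c0) (h21 : c2 ≤ c1) (h32 : c3 ≤ c2) (h43 : c4 ≤ c3) (h54 : c5 ≤ c4)
    (h65 : c6 ≤ c5) (h6 : 0 ≤ c6) (hp : c0 + c1 ≤ 5)
    (hs : c0 + c1 + c2 + c3 + c4 + c5 + c6 = 2 * b + 3 * 5 - 2)
    (hq : c0 * c0 + c1 * c1 + c2 * c2 + c3 * c3 + c4 * c4 + c5 * c5 + c6 * c6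
      = 5 * 5 + 2 * 5 * b) :
    b = 0 ∧ c0 = 2 ∧ c1 = 2 ∧ c2 = 2 ∧ c3 = 2 ∧ c4 = 2 ∧ c5 = 2 ∧ c6 = 1 := by
  have q : (2*c6-5)*(2*c6-5) ≤ 15 := by
    nlinarith [mul_self_nonneg (2*c0-5), mul_self_nonneg (2*c1-5), mul_self_nonneg (2*c2-5), mul_self_nonneg (2*c3-5), mul_self_nonneg (2*c4-5), mul_self_nonneg (2*c5-5)]
  have l6 : 1 ≤ c6 := by
    by_contra hc
    have hc' : c6 ≤ 0 := by omega
    interval_cases c6 <;> norm_num at q
  have e1 := lin2 c1 1 (by omega) (by omega)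
  have e2 := lin2 c2 1 (by omega) (by omega)
  have e3 := lin2 c3 1 (by omega) (by omega)
  have e4 := lin2 c4 1 (by omega) (by omega)
  have e5 := lin2 c5 1 (by omega) (by omega)
  have e6 := lin2 c6 1 (by omega) (by omega)
  have l0 : 1 ≤ c0 := by omega
  have u0 : c0 ≤ 4 := by omega
  interval_cases c0 <;> omega

lemma cls6 (b c0 c1 c2 c3 c4 c5 c6 : ℤ) (hb : 0 ≤ b)
    (h10 : c1 ≤ c0) (h21 : c2 ≤ c1) (h32 : c3 ≤ c2) (h43 : c4 ≤ c3) (h54 : c5 ≤ c4)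
    (h65 : c6 ≤ c5) (h6 : 0 ≤ c6) (hp : c0 + c1 ≤ 6)
    (hs : c0 + c1 + c2 + c3 + c4 + c5 + c6 = 2 * b + 3 * 6 - 2)
    (hq : c0 * c0 + c1 * c1 + c2 * c2 + c3 * c3 + c4 * c4 + c5 * c5 + c6 * c6
      = 6 * 6 + 2 * 6 * b) :
    b = 1 ∧ c0 = 3 ∧ c1 = 3 ∧ c2 = 3 ∧ c3 = 3 ∧ c4 = 2 ∧ c5 = 2 ∧ c6 = 2 := by
  have q : (2*c6-6)*(2*c6-6) ≤ 12 := by
    nlinarith [mul_self_nonneg (2*c0-6), mul_self_nonneg (2*c1-6), mul_self_nonneg (2*c2-6), mul_self_nonneg (2*c3-6), mul_self_nonneg (2*c4-6), mul_self_nonneg (2*c5-6)]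
  have l6 : 2 ≤ c6 := by
    by_contra hc
    have hc' : c6 ≤ 1 := by omega
    interval_cases c6 <;> norm_num at q
  have e1 := lin2 c1 2 (by omega) (by omega)
  have e2 := lin2 c2 2 (by omega) (by omega)
  have e3 := lin2 c3 2 (by omega) (by omega)
  have e4 := lin2 c4 2 (by omega) (by omega)
  have e5 := lin2 c5 2 (by omega) (by omega)
  have e6 := lin2 c6 2 (by omega) (by omega)
  have l0 : 2 ≤ c0 := by omega
  have u0 : c0 ≤ 4 := by omega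
  interval_cases c0 <;> omega

lemma cls7 (b c0 c1 c2 c3 c4 c5 c6 : ℤ) (hb : 0 ≤ b)
    (h10 : c1 ≤ c0) (h21 : c2 ≤ c1) (h32 : c3 ≤ c2) (h43 : c4 ≤ c3) (h54 : c5 ≤ c4)
    (h65 : c6 ≤ c5) (h6 : 0 ≤ c6) (hp : c0 + c1 ≤ 7)
    (hs : c0 + c1 + c2 + c3 + c4 + c5 + c6 = 2 * b + 3 * 7 - 2)
    (hq : c0 * c0 + c1 * c1 + c2 * c2 + c3 * c3 + c4 * c4 + c5 * c5 + c6 * c6
      = 7 * 7 + 2 * 7 * b) :
    b = 1 ∧ c0 = 3 ∧ c1 = 3 ∧ c2 = 3 ∧ c3 = 3 ∧ c4 = 3 ∧ c5 = 3 ∧ c6 = 3 := by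
  have q : (2*c6-7)*(2*c6-7) ≤ 7 := by
    nlinarith [mul_self_nonneg (2*c0-7), mul_self_nonneg (2*c1-7), mul_self_nonneg (2*c2-7), mul_self_nonneg (2*c3-7), mul_self_nonneg (2*c4-7), mul_self_nonneg (2*c5-7)]
  have l6 : 3 ≤ c6 := by
    by_contra hc
    have hc' : c6 ≤ 2 := by omega
    interval_cases c6 <;> norm_num at q
  have e1 := lin2 c1 3 (by omega) (by omega)
  have e2 := lin2 c2 3 (by omega) (by omega)
  have e3 := lin2 c3 3 (by omega) (by omega)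
  have e4 := lin2 c4 3 (by omega) (by omega)
  have e5 := lin2 c5 3 (by omega) (by omega)
  have e6 := lin2 c6 3 (by omega) (by omega)
  have e0 := lin2 c0 3 (by omega) (by omega)
  omega

lemma cls8 (b c0 c1 c2 c3 c4 c5 c6 : ℤ) (hb : 0 ≤ b)
    (h10 : c1 ≤ c0) (h21 : c2 ≤ c1) (h32 : c3 ≤ c2) (h43 : c4 ≤ c3) (h54 : c5 ≤ c4)
    (h65 : c6 ≤ c5) (h6 : 0 ≤ c6) (hp : c0 + c1 ≤ 8)
    (hs : c0 + c1 + c2 + c3 + c4 + c5 + c6 = 2 * b + 3 * 8 - 2)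
    (hq : c0 * c0 + c1 * c1 + c2 * c2 + c3 * c3 + c4 * c4 + c5 * c5 + c6 * c6
      = 8 * 8 + 2 * 8 * b) :
    b = 3 ∧ c0 = 4 ∧ c1 = 4 ∧ c2 = 4 ∧ c3 = 4 ∧ c4 = 4 ∧ c5 = 4 ∧ c6 = 4 := by
  have q : (2*c6-8)*(2*c6-8) ≤ 0 := by
    nlinarith [mul_self_nonneg (2*c0-8), mul_self_nonneg (2*c1-8), mul_self_nonneg (2*c2-8), mul_self_nonneg (2*c3-8), mul_self_nonneg (2*c4-8), mul_self_nonneg (2*c5-8)]
  have l6 : 4 ≤ c6 := by
    by_contra hc
    have hc' : c6 ≤ 3 := by omega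
    interval_cases c6 <;> norm_num at q
  have e1 := lin2 c1 4 (by omega) (by omega)
  have e2 := lin2 c2 4 (by omega) (by omega)
  have e3 := lin2 c3 4 (by omega) (by omega)
  have e4 := lin2 c4 4 (by omega) (by omega)
  have e5 := lin2 c5 4 (by omega) (by omega)
  have e6 := lin2 c6 4 (by omega) (by omega)
  have e0 := lin2 c0 4 (by omega) (by omega)
  omega

lemma cls4 (b c0 c1 c2 c3 c4 c5 c6 : ℤ) (hb : 0 ≤ b)
    (h10 : c1 ≤ c0) (h21 : c2 ≤ c1) (h32 : c3 ≤ c2) (h43 : c4 ≤ c3) (h54 : c5 ≤ c4)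
    (h65 : c6 ≤ c5) (h6 : 0 ≤ c6) (hp : c0 + c1 ≤ 4)
    (hs : c0 + c1 + c2 + c3 + c4 + c5 + c6 = 2 * b + 3 * 4 - 2)
    (hq : c0 * c0 + c1 * c1 + c2 * c2 + c3 * c3 + c4 * c4 + c5 * c5 + c6 * c6
      = 4 * 4 + 2 * 4 * b) :
    (b = 0 ∧ c0 = 2 ∧ c1 = 2 ∧ c2 = 2 ∧ c3 = 1 ∧ c4 = 1 ∧ c5 = 1 ∧ c6 = 1) ∨
    (b = 1 ∧ c0 = 2 ∧ c1 = 2 ∧ c2 = 2 ∧ c3 = 2 ∧ c4 = 2 ∧ c5 = 2 ∧ c6 = 0) := by
  rcases (by omega : c1 ≤ 1 ∨ 2 ≤ c1) with hA | hA
  · exfalso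
    have e1 := lin2 c1 0 (by omega) (by omega)
    have e2 := lin2 c2 0 (by omega) (by omega)
    have e3 := lin2 c3 0 (by omega) (by omega)
    have e4 := lin2 c4 0 (by omega) (by omega)
    have e5 := lin2 c5 0 (by omega) (by omega)
    have e6 := lin2 c6 0 (by omega) (by omega)
    have l0 : 0 ≤ c0 := by omega
    have u0 : c0 ≤ 4 := by omega
    interval_cases c0 <;> omega
  · have e0 := lin2 c0 1 (by omega) (by omega)
    have e1 := lin2 c1 1 (by omega) (by omega)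
    rcases (by omega : c2 ≤ 1 ∨ (2 ≤ c2 ∧ c3 ≤ 1) ∨ (2 ≤ c3 ∧ c4 ≤ 1) ∨ (2 ≤ c4 ∧ c5 ≤ 1) ∨ (2 ≤ c5 ∧ c6 ≤ 1) ∨ 2 ≤ c6) with hB | hB | hB | hB | hB | hB
    · have e2 := lin2 c2 0 (by omega) (by omega)
      have e3 := lin2 c3 0 (by omega) (by omega)
      have e4 := lin2 c4 0 (by omega) (by omega)
      have e5 := lin2 c5 0 (by omega) (by omega)
      have e6 := lin2 c6 0 (by omega) (by omega)
      exfalso
      omega
    · have e2 := lin2 c2 1 (by omega) (by omega)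
      have e3 := lin2 c3 0 (by omega) (by omega)
      have e4 := lin2 c4 0 (by omega) (by omega)
      have e5 := lin2 c5 0 (by omega) (by omega)
      have e6 := lin2 c6 0 (by omega) (by omega)
      left
      omega
    · have e2 := lin2 c2 1 (by omega) (by omega)
      have e3 := lin2 c3 1 (by omega) (by omega)
      have e4 := lin2 c4 0 (by omega) (by omega)
      have e5 := lin2 c5 0 (by omega) (by omega)
      have e6 := lin2 c6 0 (by omega) (by omega)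
      exfalso
      omega
    · have e2 := lin2 c2 1 (by omega) (by omega)
      have e3 := lin2 c3 1 (by omega) (by omega)
      have e4 := lin2 c4 1 (by omega) (by omega)
      have e5 := lin2 c5 0 (by omega) (by omega)
      have e6 := lin2 c6 0 (by omega) (by omega)
      exfalso
      omega
    · have e2 := lin2 c2 1 (by omega) (by omega)
      have e3 := lin2 c3 1 (by omega) (by omega)
      have e4 := lin2 c4 1 (by omega) (by omega)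
      have e5 := lin2 c5 1 (by omega) (by omega)
      have e6 := lin2 c6 0 (by omega) (by omega)
      right
      omega
    · have e2 := lin2 c2 1 (by omega) (by omega)
      have e3 := lin2 c3 1 (by omega) (by omega)
      have e4 := lin2 c4 1 (by omega) (by omega)
      have e5 := lin2 c5 1 (by omega) (by omega)
      have e6 := lin2 c6 1 (by omega) (by omega)
      exfalso
      omega

theorem classify (k b c0 c1 c2 c3 c4 c5 c6 : ℤ) (hb : 0 ≤ b)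
    (h10 : c1 ≤ c0) (h21 : c2 ≤ c1) (h32 : c3 ≤ c2) (h43 : c4 ≤ c3) (h54 : c5 ≤ c4)
    (h65 : c6 ≤ c5) (h6 : 0 ≤ c6) (hp : c0 + c1 ≤ k)
    (hs : c0 + c1 + c2 + c3 + c4 + c5 + c6 = 2 * b + 3 * k - 2)
    (hq : c0 * c0 + c1 * c1 + c2 * c2 + c3 * c3 + c4 * c4 + c5 * c5 + c6 * c6
      = k * k + 2 * k * b) :
    Cls k b c0 c1 c2 c3 c4 c5 c6 := by
  unfold Cls
  have hid : (2*c0-k)*(2*c0-k) + (2*c1-k)*(2*c1-k) + (2*c2-k)*(2*c2-k) + (2*c3-k)*(2*c3-k)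
      + (2*c4-k)*(2*c4-k) + (2*c5-k)*(2*c5-k) + (2*c6-k)*(2*c6-k) = k * (8 - k) := by
    linear_combination 4 * hq - 4 * k * hs
  have p0 := mul_self_nonneg (2*c0-k)
  have p1 := mul_self_nonneg (2*c1-k)
  have p2 := mul_self_nonneg (2*c2-k)
  have p3 := mul_self_nonneg (2*c3-k)
  have p4 := mul_self_nonneg (2*c4-k)
  have p5 := mul_self_nonneg (2*c5-k)
  have p6 := mul_self_nonneg (2*c6-k)
  have hk0 : 0 ≤ k := by linarith
  have hk8 : k ≤ 8 := by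
    by_contra hcon
    have h9 : 9 ≤ k := by omega
    nlinarith [mul_nonneg hk0 (by linarith : (0:ℤ) ≤ k - 9)]
  clear hid p0 p1 p2 p3 p4 p5 p6
  rcases (by omega : k = 0 ∨ k = 1 ∨ k = 2 ∨ k = 3 ∨ k = 4 ∨ k = 5 ∨ k = 6 ∨ k = 7 ∨ k = 8)
    with rfl | rfl | rfl | rfl | rfl | rfl | rfl | rfl | rfl
  · exact Or.inl ⟨rfl, cls0 b c0 c1 c2 c3 c4 c5 c6 hb h10 h21 h32 h43 h54 h65 h6 hp hs hq⟩
  · exact Or.inr (Or.inl ⟨rfl, cls1 b c0 c1 c2 c3 c4 c5 c6 hb h10 h21 h32 h43 h54 h65 h6 hp hs hq⟩)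
  · exact Or.inr (Or.inr (Or.inl ⟨rfl, cls2 b c0 c1 c2 c3 c4 c5 c6 hb h10 h21 h32 h43 h54 h65 h6 hp hs hq⟩))
  · exact Or.inr (Or.inr (Or.inr (Or.inl ⟨rfl, cls3 b c0 c1 c2 c3 c4 c5 c6 hb h10 h21 h32 h43 h54 h65 h6 hp hs hq⟩)))
  · rcases cls4 b c0 c1 c2 c3 c4 c5 c6 hb h10 h21 h32 h43 h54 h65 h6 hp hs hq with h | h
    · exact Or.inr (Or.inr (Or.inr (Or.inr (Or.inl ⟨rfl, h⟩))))
    · exact Or.inr (Or.inr (Or.inr (Or.inr (Or.inr (Or.inl ⟨rfl, h⟩)))))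
  · exact Or.inr (Or.inr (Or.inr (Or.inr (Or.inr (Or.inr (Or.inl ⟨rfl, cls5 b c0 c1 c2 c3 c4 c5 c6 hb h10 h21 h32 h43 h54 h65 h6 hp hs hq⟩))))))
  · exact Or.inr (Or.inr (Or.inr (Or.inr (Or.inr (Or.inr (Or.inr (Or.inl ⟨rfl, cls6 b c0 c1 c2 c3 c4 c5 c6 hb h10 h21 h32 h43 h54 h65 h6 hp hs hq⟩)))))))
  · exact Or.inr (Or.inr (Or.inr (Or.inr (Or.inr (Or.inr (Or.inr (Or.inr (Or.inl ⟨rfl, cls7 b c0 c1 c2 c3 c4 c5 c6 hb h10 h21 h32 h43 h54 h65 h6 hp hs hq⟩))))))))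
  · exact Or.inr (Or.inr (Or.inr (Or.inr (Or.inr (Or.inr (Or.inr (Or.inr (Or.inr (⟨rfl, cls8 b c0 c1 c2 c3 c4 c5 c6 hb h10 h21 h32 h43 h54 h65 h6 hp hs hq⟩)))))))))

theorem cls_unique (k b c0 c1 c2 c3 c4 c5 c6 b' d0 d1 d2 d3 d4 d5 d6 : ℤ)
    (h : Cls k b c0 c1 c2 c3 c4 c5 c6) (h' : Cls k b' d0 d1 d2 d3 d4 d5 d6)
    (hx : k ≠ 4 ∨ c6 = d6) :
    b = b' ∧ c0 = d0 ∧ c1 = d1 ∧ c2 = d2 ∧ c3 = d3 ∧ c4 = d4 ∧ c5 = d5 ∧ c6 = d6 := by
  unfold Cls at h h'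
  rcases h with h | h | h | h | h | h | h | h | h | h <;>
  rcases h' with h' | h' | h' | h' | h' | h' | h' | h' | h' | h' <;> omega

/-! ## From normal forms to the classification -/

/-- the coordinates `b_1, …, b_n` of a class -/
def tailF (Q : DP (n + 1)) : Fin n → ℤ := fun m => Q m.succ.succ

/-- the coordinates `b_1, …, b_n`, padded by zeros -/
def cpad (Q : DP (n + 1)) (j : ℕ) : ℤ := padF (tailF Q) j

lemma cpad_lt (Q : DP (n + 1)) {j : ℕ} (h : j < n) :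
    cpad Q j = Q (Fin.succ (Fin.succ ⟨j, h⟩)) := padF_lt (tailF Q) h

lemma cpad_ge (Q : DP (n + 1)) {j : ℕ} (h : ¬ j < n) : cpad Q j = 0 := padF_ge (tailF Q) h

lemma cpad_val (Q : DP (n + 1)) (m : Fin n) : cpad Q m.val = Q m.succ.succ :=
  padF_val (tailF Q) m

lemma coord_le_k (hn : n + 1 ≤ 8) {k : ℤ} {Q : DP (n + 1)} (hQ : IsConic Q)
    (hk : form (Fc (0 : Fin (n + 1))) Q = k) (m : Fin n) : Q m.succ.succ ≤ k := by
  have hE : IsExc (ell - eV m.succ - eV 0 : DP (n + 1)) := isExc_lam (Fin.succ_ne_zero m)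
  have h := conic_exc_nonneg hn hQ hE
  rw [form_sub_right, form_sub_right, form_ell_right, form_eV_right, form_eV_right] at h
  rw [form_Fc_left] at hk
  linarith

theorem nf_cls (hn : n + 1 ≤ 8) (hn1 : 1 ≤ n) {k : ℤ} {Q : DP (n + 1)} (hQ : IsNF k Q) :
    Q 0 = k + Q (Fin.succ 0) ∧
    Cls k (Q (Fin.succ 0)) (cpad Q 0) (cpad Q 1) (cpad Q 2) (cpad Q 3) (cpad Q 4) (cpad Q 5)
      (cpad Q 6) := by
  obtain ⟨hc, hk, hsort, hpair⟩ := hQ
  have hkk : Q 0 - Q (Fin.succ 0) = k := by rw [← hk, form_Fc_left]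
  have hb : 0 ≤ Q (Fin.succ 0) := conic_coord_nonneg hn hc 0
  have hnn : ∀ j, 0 ≤ cpad Q j := by
    intro j
    by_cases h : j < n
    · rw [cpad_lt Q h]
      exact conic_coord_nonneg hn hc _
    · rw [cpad_ge Q h]
  have hanti : ∀ j, cpad Q (j + 1) ≤ cpad Q j := by
    intro j
    by_cases h : j + 1 < n
    · have hj : j < n := by omega
      rw [cpad_lt Q h, cpad_lt Q hj]
      exact hsort ⟨j, hj⟩ ⟨j + 1, h⟩ (Fin.mk_le_mk.mpr (Nat.le_succ j))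
    · rw [cpad_ge Q h]
      exact hnn j
  have hp : cpad Q 0 + cpad Q 1 ≤ k := by
    have h0 : 0 < n := by omega
    by_cases h : 1 < n
    · rw [cpad_lt Q h0, cpad_lt Q h]
      refine hpair ⟨0, h0⟩ ⟨1, h⟩ (fun e => ?_)
      have := congrArg Fin.val e
      simp at this
    · rw [cpad_ge Q h, cpad_lt Q h0, add_zero]
      exact coord_le_k hn hc hk _
  have hsum1 : ∑ m : Fin n, Q m.succ.succ = 3 * Q 0 - 2 - Q (Fin.succ 0) := by
    have := conic_sum hc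
    rw [Fin.sum_univ_succ] at this
    linarith
  have hsq1 : ∑ m : Fin n, Q m.succ.succ * Q m.succ.succ
      = Q 0 * Q 0 - Q (Fin.succ 0) * Q (Fin.succ 0) := by
    have := conic_sumsq hc
    rw [Fin.sum_univ_succ] at this
    linarith
  have hs7 : cpad Q 0 + cpad Q 1 + cpad Q 2 + cpad Q 3 + cpad Q 4 + cpad Q 5 + cpad Q 6
      = ∑ m : Fin n, Q m.succ.succ :=
    (sum_range7 (cpad Q)).symm.trans
      (sum_pad (by omega : n ≤ 7) (tailF Q) (fun x => x) rfl)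
  have hq7 : cpad Q 0 * cpad Q 0 + cpad Q 1 * cpad Q 1 + cpad Q 2 * cpad Q 2
      + cpad Q 3 * cpad Q 3 + cpad Q 4 * cpad Q 4 + cpad Q 5 * cpad Q 5 + cpad Q 6 * cpad Q 6
      = ∑ m : Fin n, Q m.succ.succ * Q m.succ.succ :=
    (sum_range7 (fun j => cpad Q j * cpad Q j)).symm.trans
      (sum_pad (by omega : n ≤ 7) (tailF Q) (fun x => x * x) (by norm_num))
  have ha : Q 0 = k + Q (Fin.succ 0) := by linarith
  refine ⟨ha, ?_⟩
  refine classify k (Q (Fin.succ 0)) (cpad Q 0) (cpad Q 1) (cpad Q 2) (cpad Q 3) (cpad Q 4)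
    (cpad Q 5) (cpad Q 6) hb (hanti 0) (hanti 1) (hanti 2) (hanti 3) (hanti 4) (hanti 5)
    (hnn 6) hp ?_ ?_
  · rw [hs7, hsum1, ha]
    ring
  · rw [hq7, hsq1, ha]
    ring

theorem nf_unique (hn : n + 1 ≤ 8) (hn1 : 1 ≤ n) {k : ℤ} {Q Q' : DP (n + 1)}
    (hQ : IsNF k Q) (hQ' : IsNF k Q') (hx : k ≠ 4 ∨ cpad Q 6 = cpad Q' 6) : Q = Q' := by
  obtain ⟨ha, hc⟩ := nf_cls hn hn1 hQ
  obtain ⟨ha', hc'⟩ := nf_cls hn hn1 hQ'
  obtain ⟨eb, e0, e1, e2, e3, e4, e5, e6⟩ :=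
    cls_unique _ _ _ _ _ _ _ _ _ _ _ _ _ _ _ _ _ hc hc' hx
  have hall : ∀ j, j < 7 → cpad Q j = cpad Q' j := by
    intro j hj
    interval_cases j <;> assumption
  funext t
  refine Fin.cases ?_ (fun i => ?_) t
  · rw [ha, ha', eb]
  · refine Fin.cases ?_ (fun m => ?_) i
    · exact eb
    · have h7 : m.val < 7 := by
        have := m.isLt
        omega
      have := hall m.val h7
      rwa [cpad_val, cpad_val] at this

/-! ## Transitivity on ordered pairs of conic classes -/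

theorem pairs_trans (n : ℕ) (hn1 : 1 ≤ n) (hn : n + 1 ≤ 8) (v₁ v₂ w₁ w₂ : DP (n + 1))
    (hv₁ : IsConic v₁) (hv₂ : IsConic v₂) (hw₁ : IsConic w₁) (hw₂ : IsConic w₂)
    (heq : form v₁ v₂ = form w₁ w₂) (hexc : ¬ (n + 1 = 8 ∧ form v₁ v₂ = 4)) :
    ∃ g : DP (n + 1) ≃ₗ[ℤ] DP (n + 1), IsWeyl g ∧ g v₁ = w₁ ∧ g v₂ = w₂ := by
  obtain ⟨g, hg, hgF, hnf⟩ := exists_nf hn hn1 v₁ v₂ hv₁ hv₂
  obtain ⟨h, hh, hhF, hnf'⟩ := exists_nf hn hn1 w₁ w₂ hw₁ hw₂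
  rw [← heq] at hnf'
  have hx : form v₁ v₂ ≠ 4 ∨ cpad (g v₂) 6 = cpad (h w₂) 6 := by
    by_cases h4 : form v₁ v₂ = 4
    · right
      have hn6 : ¬ 6 < n := by
        intro h6
        exact hexc ⟨by omega, h4⟩
      rw [cpad_ge _ hn6, cpad_ge _ hn6]
    · exact Or.inl h4
  have e := nf_unique hn hn1 hnf hnf' hx
  refine ⟨g.trans h.symm, isWeyl_trans hg (isWeyl_symm hh), ?_, ?_⟩
  · rw [LinearEquiv.trans_apply, hgF, ← hhF, LinearEquiv.symm_apply_apply]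
  · rw [LinearEquiv.trans_apply, e, LinearEquiv.symm_apply_apply]

/-! ## The two orbits for `δ = 8`, `Q₁ · Q₂ = 4` -/

/-- the class `(4; 0, 2, 2, 2, 1, 1, 1, 1)` -/
def NA : DP (7 + 1) := ![4, 0, 2, 2, 2, 1, 1, 1, 1]

/-- the class `(5; 1, 2, 2, 2, 2, 2, 2, 0)` -/
def NB : DP (7 + 1) := ![5, 1, 2, 2, 2, 2, 2, 2, 0]

/-- the class `(3; 1, 1, 1, 1, 1, 1, 1, 0)` -/
def UB : DP (7 + 1) := ![3, 1, 1, 1, 1, 1, 1, 1, 0]

lemma nfA : IsNF (n := 7) 4 NA := by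
  refine ⟨⟨by decide, by decide⟩, by decide, by decide, by decide⟩

lemma nfB : IsNF (n := 7) 4 NB := by
  refine ⟨⟨by decide, by decide⟩, by decide, by decide, by decide⟩

lemma cpadA : cpad (n := 7) NA 6 = 1 := by decide

lemma cpadB : cpad (n := 7) NB 6 = 0 := by decide

lemma hUB : (Fc (0 : Fin (7 + 1)) + NB : DP (7 + 1)) = UB + UB := by
  have h : ∀ t, (Fc (0 : Fin (7 + 1)) + NB : DP (7 + 1)) t = (UB + UB) t := by decide
  exact funext h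

lemma hFA0 : (Fc (0 : Fin (7 + 1)) + NA : DP (7 + 1)) 0 = 5 := by decide

theorem pairs8 :
    ∃ p₁ p₂ q₁ q₂ : DP (7 + 1), IsConic p₁ ∧ IsConic p₂ ∧ IsConic q₁ ∧ IsConic q₂ ∧
      form p₁ p₂ = 4 ∧ form q₁ q₂ = 4 ∧
      (¬ ∃ g : DP (7 + 1) ≃ₗ[ℤ] DP (7 + 1), IsWeyl g ∧ g p₁ = q₁ ∧ g p₂ = q₂) ∧
      ∀ v₁ v₂ : DP (7 + 1), IsConic v₁ → IsConic v₂ → form v₁ v₂ = 4 →
        ∃ g : DP (7 + 1) ≃ₗ[ℤ] DP (7 + 1), IsWeyl g ∧
          ((g v₁ = p₁ ∧ g v₂ = p₂) ∨ (g v₁ = q₁ ∧ g v₂ = q₂)) := by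
  refine ⟨Fc 0, NB, Fc 0, NA, isConic_Fc 0, nfB.1, isConic_Fc 0, nfA.1, nfB.2.1, nfA.2.1,
    ?_, ?_⟩
  · rintro ⟨g, hg, h1, h2⟩
    have hsum : g (Fc 0 + NB) = Fc 0 + NA := by rw [map_add, h1, h2]
    rw [hUB, map_add] at hsum
    have h0 := congrFun hsum 0
    have e1 : (g UB + g UB) 0 = g UB 0 + g UB 0 := rfl
    rw [e1, hFA0] at h0
    omega
  · intro v₁ v₂ h1 h2 hk
    obtain ⟨g, hg, hgF, hnf⟩ := exists_nf (n := 7) (by norm_num) (by norm_num) v₁ v₂ h1 h2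
    rw [hk] at hnf
    obtain ⟨-, hcls⟩ := nf_cls (by norm_num) (by norm_num) hnf
    have h6 : cpad (g v₂) 6 = 1 ∨ cpad (g v₂) 6 = 0 := by
      unfold Cls at hcls
      omega
    refine ⟨g, hg, ?_⟩
    rcases h6 with h6 | h6
    · right
      exact ⟨hgF, nf_unique (by norm_num) (by norm_num) hnf nfA
        (Or.inr (h6.trans cpadA.symm))⟩
    · left
      exact ⟨hgF, nf_unique (by norm_num) (by norm_num) hnf nfB
        (Or.inr (h6.trans cpadB.symm))⟩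

end

end Groth.Agent.Lib.helper6.DPConic
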