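import Mathlib
import Groth.Prelude.Def_PolLaw2
import Groth.Agent.Lib.Helper6.GammaGen

/-!
# The determinant law of a finitely generated projective module

For a commutative `A`-algebra `B` acting on a f.g. projective `A`-module `M` we build a multiplicative
polynomial law `B → A` whose value on every ring test algebra `S` with `S ⊗ M` free is the determinant
of the action on `S ⊗ M` (`detProjLaw`, `detProjLaw_apply`).  The construction realises `M` as a
direct summand of `A^n`, lets `B × A` act on `A^n` (through `B` on `M`, through `A` on the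
complement) and composes the prelude's determinant law of `A^n` with `b ↦ (b, 1)`.
Also: laws are determined by / homogeneous iff so on ring test algebras, and a local–global principle.
-/

set_option autoImplicit false
universe u

namespace Groth.Agent.Lib.helper6.DetProj

open scoped TensorProduct
open Groth.Agent.Lib.helper6.GammaGen

section general
variable {A : Type u} [CommRing A]

theorem rT_id' {S : Type u} [CommSemiring S] [Algebra A S] {N : Type u} [AddCommGroup N]
    [Module A N] (z : S ⊗[A] N) : (AlgHom.id A S).toLinearMap.rTensor N z = z := by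
  rw [AlgHom.toLinearMap_id, LinearMap.rTensor_id, LinearMap.id_apply]

theorem law_key {M N : Type u} [AddCommGroup M] [Module A M] [AddCommGroup N] [Module A N]
    (H : M →ₚₗ[A] N) (S : Type u) [CommSemiring S] [Algebra A S] (x : S ⊗[A] M) :
    H.toFun' S x = (Algebra.TensorProduct.lid A S).toAlgHom.toLinearMap.rTensor N
      (H.toFun' (A ⊗[A] S)
        ((Algebra.TensorProduct.lid A S).symm.toAlgHom.toLinearMap.rTensor M x)) := by
  rw [← PolynomialLaw.isCompat_apply', rT_comp]
  have h : (Algebra.TensorProduct.lid A S).toAlgHom.comp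
      (Algebra.TensorProduct.lid A S).symm.toAlgHom = AlgHom.id A S := by
    ext s
    simp
  rw [h, rT_id']

theorem law_ext_ring {M N : Type u} [AddCommGroup M] [Module A M] [AddCommGroup N] [Module A N]
    (F G : M →ₚₗ[A] N)
    (h : ∀ (R : Type u) [CommRing R] [Algebra A R] (x : R ⊗[A] M),
      F.toFun' R x = G.toFun' R x) : F = G := by
  apply PolynomialLaw.ext
  funext S _ _ x
  rw [law_key F, law_key G, h]

theorem homog_of_ring {M N : Type u} [AddCommGroup M] [Module A M] [AddCommGroup N] [Module A N]
    (F : M →ₚₗ[A] N) (d : ℕ)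
    (h : ∀ (R : Type u) [CommRing R] [Algebra A R] (s : R) (x : R ⊗[A] M),
      F.toFun' R (s • x) = s ^ d • F.toFun' R x) :
    PolLaw.IsHomog F d := by
  intro S _ _ s x
  rw [law_key F S (s • x), rT_smul, h, rT_smul, map_pow, ← law_key F S x]
  congr 2
  simp

theorem rid_rTensor {R R' : Type u} [CommRing R] [Algebra A R] [CommRing R'] [Algebra A R']
    (φ : R →ₐ[A] R') (y : R ⊗[A] A) :
    TensorProduct.rid A R' (φ.toLinearMap.rTensor A y) = φ (TensorProduct.rid A R y) := by
  induction y using TensorProduct.induction_on with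
  | zero => simp
  | tmul r a =>
    rw [LinearMap.rTensor_tmul, TensorProduct.rid_tmul, TensorProduct.rid_tmul,
      AlgHom.toLinearMap_apply, map_smul]
  | add x y hx hy => simp only [map_add, hx, hy]

theorem eq_of_localization {R : Type u} [CommRing R] [Algebra A R] (y y' : R ⊗[A] A)
    (h : ∀ (J : Ideal R) [J.IsMaximal],
      (IsScalarTower.toAlgHom A R (Localization.AtPrime J)).toLinearMap.rTensor A y =
      (IsScalarTower.toAlgHom A R (Localization.AtPrime J)).toLinearMap.rTensor A y') :
    y = y' := by
  apply (TensorProduct.rid A R).injective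
  rw [← sub_eq_zero]
  apply eq_zero_of_localization
  intro J hJ
  have h1 := congrArg (TensorProduct.rid A (Localization.AtPrime J)) (h J)
  rw [rid_rTensor, rid_rTensor] at h1
  rw [map_sub, sub_eq_zero]
  exact h1

theorem det_one_add_comp_comm {R : Type*} [CommRing R] {P Q : Type*} [AddCommGroup P]
    [Module R P] [AddCommGroup Q] [Module R Q] [Module.Free R P] [Module.Finite R P]
    [Module.Free R Q] [Module.Finite R Q] (U : Q →ₗ[R] P) (V : P →ₗ[R] Q) :
    LinearMap.det ((1 : Module.End R P) + U ∘ₗ V) =
      LinearMap.det ((1 : Module.End R Q) + V ∘ₗ U) := by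
  classical
  rw [← LinearMap.det_toMatrix (Module.Free.chooseBasis R P),
    ← LinearMap.det_toMatrix (Module.Free.chooseBasis R Q), map_add, map_add,
    LinearMap.toMatrix_one, LinearMap.toMatrix_one,
    LinearMap.toMatrix_comp (Module.Free.chooseBasis R P) (Module.Free.chooseBasis R Q)
      (Module.Free.chooseBasis R P),
    LinearMap.toMatrix_comp (Module.Free.chooseBasis R Q) (Module.Free.chooseBasis R P)
      (Module.Free.chooseBasis R Q), Matrix.det_one_add_mul_comm]

end general


section constr
variable {A : Type u} [CommRing A] {B : Type u} [CommRing B] [Algebra A B]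
  {M : Type u} [AddCommGroup M] [Module A M] [Module B M] [IsScalarTower A B M]
  {n : ℕ} (f : (Fin n → A) →ₗ[A] M) (g : M →ₗ[A] (Fin n → A)) (hfg : ∀ m, f (g m) = m)

/-- the action of `B × A` on `A^n`: through `B` on the summand `M`, through `A` on the complement -/
noncomputable def rhoLin : B × A →ₗ[A] Module.End A (Fin n → A) where
  toFun x := g ∘ₗ (Algebra.lsmul A A M x.1) ∘ₗ f + x.2 • (LinearMap.id - g ∘ₗ f)
  map_add' x y := by
    apply LinearMap.ext
    intro p
    simp only [Prod.fst_add, Prod.snd_add, map_add, LinearMap.add_apply, LinearMap.comp_apply,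
      LinearMap.smul_apply, add_smul]
    abel
  map_smul' a x := by
    apply LinearMap.ext
    intro p
    simp only [Prod.smul_fst, Prod.smul_snd, map_smul, LinearMap.add_apply, LinearMap.comp_apply,
      LinearMap.smul_apply, RingHom.id_apply, smul_add, smul_eq_mul, mul_smul]

theorem rhoLin_apply (x : B × A) (p : Fin n → A) :
    rhoLin f g x p = g (x.1 • f p) + x.2 • (p - g (f p)) := rfl

include hfg in
theorem rhoLin_one : rhoLin (B := B) f g 1 = 1 := by
  apply LinearMap.ext
  intro p
  rw [rhoLin_apply]
  simp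

include hfg in
theorem rhoLin_mul (x y : B × A) : rhoLin f g (x * y) = rhoLin f g x * rhoLin f g y := by
  apply LinearMap.ext
  intro p
  have hq : f (rhoLin f g y p) = y.1 • f p := by
    rw [rhoLin_apply, map_add, hfg, LinearMap.map_smul f y.2, map_sub, hfg, sub_self, smul_zero,
      add_zero]
  rw [Module.End.mul_apply, rhoLin_apply f g x, hq, rhoLin_apply f g y, rhoLin_apply f g (x * y)]
  rw [add_sub_cancel_left, Prod.fst_mul, Prod.snd_mul, mul_smul, mul_smul]

/-- the action as an algebra map -/
noncomputable def rho : B × A →ₐ[A] Module.End A (Fin n → A) :=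
  AlgHom.ofLinearMap (rhoLin f g) (rhoLin_one f g hfg) (rhoLin_mul f g hfg)

/-- `A^n` with its `B × A`-module structure -/
@[nolint unusedArguments]
def PMod (f : (Fin n → A) →ₗ[A] M) (g : M →ₗ[A] (Fin n → A)) (_hfg : ∀ m, f (g m) = m) :
    Type u := Fin n → A

noncomputable instance : AddCommGroup (PMod f g hfg) := inferInstanceAs (AddCommGroup (Fin n → A))
noncomputable instance : Module A (PMod f g hfg) := inferInstanceAs (Module A (Fin n → A))
instance : Module.Free A (PMod f g hfg) := inferInstanceAs (Module.Free A (Fin n → A))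
instance : Module.Finite A (PMod f g hfg) := inferInstanceAs (Module.Finite A (Fin n → A))
noncomputable instance instModBA : Module (B × A) (PMod f g hfg) :=
  Module.compHom (Fin n → A) (rho f g hfg).toRingHom

instance : IsScalarTower A (B × A) (PMod f g hfg) :=
  ⟨fun a x p => by
    show rho f g hfg (a • x) p = a • rho f g hfg x p
    rw [map_smul]
    rfl⟩

/-- `f` on the synonym -/
def fP : PMod f g hfg →ₗ[A] M := f
/-- `g` on the synonym -/
def gP : M →ₗ[A] PMod f g hfg := g

theorem smul_eq (x : B × A) (p : PMod f g hfg) :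
    x • p = gP f g hfg (x.1 • fP f g hfg p) + x.2 • (p - gP f g hfg (fP f g hfg p)) := rfl

theorem fP_gP (m : M) : fP f g hfg (gP f g hfg m) = m := hfg m

end constr

section aff
variable (A B : Type u) [CommRing A] [CommRing B] [Algebra A B]

/-- the affine law `b ↦ (b, 1)` -/
noncomputable def aff : B →ₚₗ[A] B × A where
  toFun' S _ _ x := (LinearMap.inl A B A).lTensor S x + (1 : S) ⊗ₜ[A] ((0, 1) : B × A)
  isCompat' φ := by
    funext x
    simp only [Function.comp_apply, map_add, LinearMap.rTensor_tmul, AlgHom.toLinearMap_apply,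
      map_one]
    rw [lT_rT]

variable {A B}

theorem aff_apply (S : Type u) [CommSemiring S] [Algebra A S] (x : S ⊗[A] B) :
    (aff A B).toFun' S x =
      (LinearMap.inl A B A).lTensor S x + (1 : S) ⊗ₜ[A] ((0, 1) : B × A) := rfl

theorem aff_one (S : Type u) [CommSemiring S] [Algebra A S] : (aff A B).toFun' S 1 = 1 := by
  have h : (LinearMap.inl A B A) 1 + ((0, 1) : B × A) = 1 := by
    ext <;> simp
  rw [aff_apply, Algebra.TensorProduct.one_def, LinearMap.lTensor_tmul, ← TensorProduct.tmul_add, h]
  rfl

theorem inl_mul (S : Type u) [CommSemiring S] [Algebra A S] (x y : S ⊗[A] B) :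
    (LinearMap.inl A B A).lTensor S (x * y) =
      (LinearMap.inl A B A).lTensor S x * (LinearMap.inl A B A).lTensor S y := by
  induction x using TensorProduct.induction_on with
  | zero => simp
  | tmul s b =>
    induction y using TensorProduct.induction_on with
    | zero => simp
    | tmul s' b' =>
      rw [Algebra.TensorProduct.tmul_mul_tmul, LinearMap.lTensor_tmul, LinearMap.lTensor_tmul,
        LinearMap.lTensor_tmul, Algebra.TensorProduct.tmul_mul_tmul]
      congr 1
      ext <;> simp
    | add y y' hy hy' => rw [mul_add, map_add, hy, hy', map_add, mul_add]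
  | add x x' hx hx' => rw [add_mul, map_add, hx, hx', map_add, add_mul]

theorem inl_mul_c (S : Type u) [CommSemiring S] [Algebra A S] (x : S ⊗[A] B) :
    (LinearMap.inl A B A).lTensor S x * ((1 : S) ⊗ₜ[A] ((0, 1) : B × A)) = 0 := by
  induction x using TensorProduct.induction_on with
  | zero => simp
  | tmul s b =>
    have h : (LinearMap.inl A B A) b * ((0, 1) : B × A) = 0 := by
      ext <;> simp
    rw [LinearMap.lTensor_tmul, Algebra.TensorProduct.tmul_mul_tmul, h, TensorProduct.tmul_zero]
  | add x x' hx hx' => rw [map_add, add_mul, hx, hx', add_zero]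

theorem c_mul_c (S : Type u) [CommSemiring S] [Algebra A S] :
    ((1 : S) ⊗ₜ[A] ((0, 1) : B × A)) * ((1 : S) ⊗ₜ[A] ((0, 1) : B × A)) =
      (1 : S) ⊗ₜ[A] ((0, 1) : B × A) := by
  have h : ((0, 1) : B × A) * ((0, 1) : B × A) = (0, 1) := by
    ext <;> simp
  rw [Algebra.TensorProduct.tmul_mul_tmul, one_mul, h]

theorem aff_mul (S : Type u) [CommSemiring S] [Algebra A S] (x y : S ⊗[A] B) :
    (aff A B).toFun' S (x * y) = (aff A B).toFun' S x * (aff A B).toFun' S y := by
  rw [aff_apply, aff_apply, aff_apply, add_mul, mul_add, mul_add, inl_mul, inl_mul_c,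
    mul_comm ((1 : S) ⊗ₜ[A] ((0, 1) : B × A)) ((LinearMap.inl A B A).lTensor S y), inl_mul_c,
    c_mul_c, add_zero, zero_add]

end aff

section law
variable {A : Type u} [CommRing A] {B : Type u} [CommRing B] [Algebra A B]
  {M : Type u} [AddCommGroup M] [Module A M] [Module B M] [IsScalarTower A B M]
  {n : ℕ} (f : (Fin n → A) →ₗ[A] M) (g : M →ₗ[A] (Fin n → A)) (hfg : ∀ m, f (g m) = m)

/-- the determinant law of the summand `M` of `A^n` -/
noncomputable def detProjLaw : B →ₚₗ[A] A :=
  (PolLaw.detPLaw (A := A) (B := B × A) (M := PMod f g hfg)).comp (aff A B)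

theorem detProjLaw_toFun' (S : Type u) [CommSemiring S] [Algebra A S] (x : S ⊗[A] B) :
    (detProjLaw (B := B) f g hfg).toFun' S x =
      PolLaw.detFun A (B × A) (PMod f g hfg) S ((aff A B).toFun' S x) := rfl

theorem detProjLaw_isMult : PolLaw.IsMult (detProjLaw (B := B) f g hfg) := by
  intro S _ _
  refine ⟨?_, fun x y => ?_⟩
  · rw [detProjLaw_toFun', aff_one, PolLaw.detFun_one]
  · rw [detProjLaw_toFun', detProjLaw_toFun', detProjLaw_toFun', aff_mul, PolLaw.detFun_mul]

theorem actEnd_inl (S : Type u) [CommRing S] [Algebra A S] (x : S ⊗[A] B) :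
    PolLaw.actEnd (PMod f g hfg) S ((LinearMap.inl A B A).lTensor S x) =
      (gP f g hfg).baseChange S ∘ₗ PolLaw.actEnd M S x ∘ₗ (fP f g hfg).baseChange S := by
  induction x using TensorProduct.induction_on with
  | zero => simp
  | tmul s b =>
    apply LinearMap.ext
    intro z
    induction z using TensorProduct.induction_on with
    | zero => simp
    | tmul t p =>
      rw [LinearMap.lTensor_tmul, PolLaw.actEnd_tmul_tmul, LinearMap.comp_apply,
        LinearMap.comp_apply, LinearMap.baseChange_tmul, PolLaw.actEnd_tmul_tmul,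
        LinearMap.baseChange_tmul]
      congr 1
      rw [smul_eq]
      simp
    | add z z' hz hz' => simp only [map_add, hz, hz']
  | add x y hx hy => simp only [map_add, hx, hy, LinearMap.add_comp, LinearMap.comp_add]

theorem actEnd_c (S : Type u) [CommRing S] [Algebra A S] :
    PolLaw.actEnd (PMod f g hfg) S ((1 : S) ⊗ₜ[A] ((0, 1) : B × A)) =
      1 - (gP f g hfg).baseChange S ∘ₗ (fP f g hfg).baseChange S := by
  apply LinearMap.ext
  intro z
  induction z using TensorProduct.induction_on with
  | zero => simp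
  | tmul t p =>
    rw [PolLaw.actEnd_tmul_tmul, one_mul, LinearMap.sub_apply, Module.End.one_apply,
      LinearMap.comp_apply, LinearMap.baseChange_tmul, LinearMap.baseChange_tmul,
      ← TensorProduct.tmul_sub]
    congr 1
    rw [smul_eq]
    simp
  | add z z' hz hz' => simp only [map_add, hz, hz']

theorem detAct_aff [Module.Finite A M] (S : Type u) [CommRing S] [Algebra A S]
    [Module.Free S (S ⊗[A] M)] (x : S ⊗[A] B) :
    PolLaw.detAct (PMod f g hfg) S ((aff A B).toFun' S x) = PolLaw.detAct M S x := by
  unfold PolLaw.detAct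
  have h1 : PolLaw.actEnd (PMod f g hfg) S ((aff A B).toFun' S x) =
      1 + (gP f g hfg).baseChange S ∘ₗ
        ((PolLaw.actEnd M S x - 1) ∘ₗ (fP f g hfg).baseChange S) := by
    rw [aff_apply, map_add, actEnd_inl, actEnd_c]
    simp only [LinearMap.sub_comp, LinearMap.comp_sub, Module.End.one_eq_id, LinearMap.id_comp]
    abel
  have h2 : ((PolLaw.actEnd M S x - 1) ∘ₗ (fP f g hfg).baseChange S) ∘ₗ
      (gP f g hfg).baseChange S = PolLaw.actEnd M S x - 1 := by
    have h3 : fP f g hfg ∘ₗ gP f g hfg = LinearMap.id := LinearMap.ext (fP_gP f g hfg)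
    rw [LinearMap.comp_assoc, ← LinearMap.baseChange_comp, h3, LinearMap.baseChange_id,
      LinearMap.comp_id]
  rw [h1, det_one_add_comp_comm, h2]
  exact congrArg LinearMap.det (add_sub_cancel 1 (PolLaw.actEnd M S x))

theorem detProjLaw_apply [Module.Finite A M] (S : Type u) [CommRing S] [Algebra A S]
    [Module.Free S (S ⊗[A] M)] (x : S ⊗[A] B) :
    (detProjLaw (B := B) f g hfg).toFun' S x = PolLaw.detAct M S x ⊗ₜ[A] (1 : A) := by
  rw [detProjLaw_toFun', PolLaw.detFun_eq_detAct, detAct_aff]

end law

section main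
variable {A : Type u} [CommRing A] {B : Type u} [CommRing B] [Algebra A B]
  {M : Type u} [AddCommGroup M] [Module A M] [Module B M] [IsScalarTower A B M]
  [Module.Finite A M] [Module.Projective A M]

theorem free_of_local (S : Type u) [CommRing S] [IsLocalRing S] [Algebra A S] :
    Module.Free S (S ⊗[A] M) :=
  Module.free_of_flat_of_isLocalRing

theorem finrank_of_local (d : ℕ) (hd : ∀ p : PrimeSpectrum A, Module.rankAtStalk M p = d)
    (S : Type u) [CommRing S] [IsLocalRing S] [Algebra A S] :
    Module.finrank S (S ⊗[A] M) = d := by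
  haveI := free_of_local (A := A) (M := M) S
  have h1 := congrFun (Module.rankAtStalk_eq_finrank_of_free (R := S) (M := S ⊗[A] M))
    (IsLocalRing.closedPoint S)
  rw [Module.rankAtStalk_baseChange, hd] at h1
  exact h1.symm

theorem exists_presentation :
    ∃ (n : ℕ) (f : (Fin n → A) →ₗ[A] M) (g : M →ₗ[A] (Fin n → A)), ∀ m, f (g m) = m := by
  obtain ⟨n, f, hf⟩ := Module.Finite.exists_fin' A M
  obtain ⟨g, hg⟩ := f.exists_rightInverse_of_surjective (LinearMap.range_eq_top.mpr hf)
  exact ⟨n, f, g, fun m => LinearMap.congr_fun hg m⟩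

theorem exists_detLaw :
    ∃ N : B →ₚₗ[A] A, PolLaw.IsMult N ∧
      ∀ (S : Type u) [CommRing S] [IsLocalRing S] [Algebra A S] (x : S ⊗[A] B),
        N.toFun' S x = PolLaw.detAct M S x ⊗ₜ[A] (1 : A) := by
  obtain ⟨n, f, g, hfg⟩ := exists_presentation (A := A) (M := M)
  refine ⟨detProjLaw (B := B) f g hfg, detProjLaw_isMult f g hfg, ?_⟩
  intro S _ _ _ x
  haveI := free_of_local (A := A) (M := M) S
  exact detProjLaw_apply f g hfg S x

theorem unique_of_local (N N' : B →ₚₗ[A] A)
    (h : ∀ (S : Type u) [CommRing S] [IsLocalRing S] [Algebra A S] (x : S ⊗[A] B),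
        N.toFun' S x = PolLaw.detAct M S x ⊗ₜ[A] (1 : A))
    (h' : ∀ (S : Type u) [CommRing S] [IsLocalRing S] [Algebra A S] (x : S ⊗[A] B),
        N'.toFun' S x = PolLaw.detAct M S x ⊗ₜ[A] (1 : A)) : N = N' := by
  apply law_ext_ring
  intro R _ _ x
  apply eq_of_localization
  intro J _
  rw [PolynomialLaw.isCompat_apply', PolynomialLaw.isCompat_apply', h, h']

theorem homog_of_local (N : B →ₚₗ[A] A)
    (h : ∀ (S : Type u) [CommRing S] [IsLocalRing S] [Algebra A S] (x : S ⊗[A] B),
        N.toFun' S x = PolLaw.detAct M S x ⊗ₜ[A] (1 : A))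
    (d : ℕ) (hd : ∀ p : PrimeSpectrum A, Module.rankAtStalk M p = d) : PolLaw.IsHomog N d := by
  apply homog_of_ring
  intro R _ _ s x
  apply eq_of_localization
  intro J _
  rw [PolynomialLaw.isCompat_apply', rT_smul, rT_smul, map_pow, PolynomialLaw.isCompat_apply', h, h]
  haveI := free_of_local (A := A) (M := M) (Localization.AtPrime J)
  unfold PolLaw.detAct
  rw [map_smul, LinearMap.det_smul, finrank_of_local d hd, TensorProduct.smul_tmul', smul_eq_mul]

end main

end Groth.Agent.Lib.helper6.DetProj
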