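import Mathlib

/-!
# Support of exterior powers (helper6)

For a finite module `M` over a commutative ring `R`, a prime `p` and `n : ℕ`:
`Ann (⋀ⁿ M) ≤ p ↔ n ≤ dim_{κ(p)} (κ(p) ⊗ M)`.
-/

set_option autoImplicit false
universe u v

namespace Groth.Agent.Lib.helper6.ExtPowSupp

open TensorProduct

variable {R : Type u} [CommRing R] {M : Type v} [AddCommGroup M] [Module R M]

/-- A basis of `κ(p) ⊗ M` consisting of pure tensors `1 ⊗ m`. -/
theorem exists_basis_tmul (p : Ideal R) [p.IsPrime] [Module.Finite R M] :
    ∃ (a : Fin (Module.finrank p.ResidueField (p.ResidueField ⊗[R] M)) → M)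
      (b : Module.Basis (Fin (Module.finrank p.ResidueField (p.ResidueField ⊗[R] M)))
        p.ResidueField (p.ResidueField ⊗[R] M)),
      ∀ i, b i = (1 : p.ResidueField) ⊗ₜ[R] a i := by
  classical
  let v : M → p.ResidueField ⊗[R] M := fun m => (1 : p.ResidueField) ⊗ₜ[R] m
  have hv : Submodule.span p.ResidueField (Set.range v) = ⊤ := by
    rw [eq_top_iff]
    rintro x -
    induction x using TensorProduct.induction_on with
    | zero => exact zero_mem _
    | add x y hx hy => exact add_mem hx hy
    | tmul c m =>
      have h1 : c ⊗ₜ[R] m = c • v m := by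
        simp only [v, TensorProduct.smul_tmul', smul_eq_mul, mul_one]
      rw [h1]
      exact Submodule.smul_mem _ _ (Submodule.subset_span ⟨m, rfl⟩)
  obtain ⟨κ, a, -, hsp, hli⟩ := exists_linearIndependent' p.ResidueField v
  rw [hv] at hsp
  haveI : Finite κ := hli.finite_of_isNoetherian
  haveI := Fintype.ofFinite κ
  let b : Module.Basis κ p.ResidueField (p.ResidueField ⊗[R] M) :=
    Module.Basis.mk hli (by rw [hsp])
  have hr : Module.finrank p.ResidueField (p.ResidueField ⊗[R] M) = Fintype.card κ :=
    Module.finrank_eq_card_basis b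
  let e : κ ≃ Fin (Module.finrank p.ResidueField (p.ResidueField ⊗[R] M)) :=
    Fintype.equivFinOfCardEq hr.symm
  refine ⟨a ∘ e.symm, b.reindex e, fun i => ?_⟩
  rw [Module.Basis.reindex_apply, Module.Basis.mk_apply]
  rfl

/-- If `n ≤ dim κ(p) ⊗ M`, the annihilator of `⋀ⁿ M` is contained in `p`. -/
theorem annihilator_le_of_le_finrank (p : Ideal R) [p.IsPrime] (n : ℕ) [Module.Finite R M]
    (h : n ≤ Module.finrank p.ResidueField (p.ResidueField ⊗[R] M)) :
    Module.annihilator R (⋀[R]^n M) ≤ p := by
  classical
  obtain ⟨a, b, hb⟩ := exists_basis_tmul (M := M) p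
  let ι : Fin n ↪ Fin (Module.finrank p.ResidueField (p.ResidueField ⊗[R] M)) :=
    (Fin.castLEEmb h)
  let L : M →ₗ[R] (Fin n → p.ResidueField) :=
    LinearMap.pi (fun i => ((b.coord (ι i)).restrictScalars R).comp
      (TensorProduct.mk R p.ResidueField M 1))
  let Φ : M [⋀^Fin n]→ₗ[R] p.ResidueField :=
    { ((Matrix.detRowAlternating (R := p.ResidueField)
        (n := Fin n)).toMultilinearMap.restrictScalars R).compLinearMap (fun _ => L) with
      map_eq_zero_of_eq' := fun v i j h hij =>
        (Matrix.detRowAlternating (R := p.ResidueField) (n := Fin n)).map_eq_zero_of_eq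
          (fun k => L (v k)) (by rw [h]) hij }
  let F : ⋀[R]^n M →ₗ[R] p.ResidueField := exteriorPower.alternatingMapLinearEquiv Φ
  have hF : F (exteriorPower.ιMulti R n (fun j => a (ι j))) = 1 := by
    rw [exteriorPower.alternatingMapLinearEquiv_apply_ιMulti]
    change Matrix.det (Matrix.of (fun j => L (a (ι j)))) = 1
    have h1 : Matrix.of (fun j => L (a (ι j))) = (1 : Matrix (Fin n) (Fin n) p.ResidueField) := by
      ext j i
      change b.coord (ι i) ((1 : p.ResidueField) ⊗ₜ[R] a (ι j)) = _
      rw [← hb, Module.Basis.coord_apply, Module.Basis.repr_self, Finsupp.single_apply,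
        Matrix.one_apply]
      simp only [ι.injective.eq_iff]
    rw [h1, Matrix.det_one]
  intro s hs
  have h0 : s • exteriorPower.ιMulti R n (fun j => a (ι j)) = 0 :=
    Module.mem_annihilator.mp hs _
  have h2 : s • (1 : p.ResidueField) = 0 := by
    rw [← hF, ← map_smul, h0, map_zero]
  rw [Algebra.smul_def, mul_one] at h2
  exact Ideal.algebraMap_residueField_eq_zero.mp h2

/-- If `dim κ(p) ⊗ M < n`, some element outside `p` kills `⋀ⁿ M`. -/
theorem not_annihilator_le_of_finrank_lt (p : Ideal R) [p.IsPrime] (n : ℕ) [Module.Finite R M]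
    (h : Module.finrank p.ResidueField (p.ResidueField ⊗[R] M) < n) :
    ¬ Module.annihilator R (⋀[R]^n M) ≤ p := by
  classical
  obtain ⟨a, b, hb⟩ := exists_basis_tmul (M := M) p
  set N : Submodule R M := Submodule.span R (Set.range a) with hN
  have hsub : Subsingleton (p.ResidueField ⊗[R] (M ⧸ N)) := by
    have hmap : ∀ x : p.ResidueField ⊗[R] M, (N.mkQ.baseChange p.ResidueField) x = 0 := by
      intro x
      have hx : x ∈ Submodule.span p.ResidueField (Set.range b) := by
        rw [b.span_eq]; trivial
      induction hx using Submodule.span_induction with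
      | mem y hy =>
        obtain ⟨i, rfl⟩ := hy
        rw [hb, LinearMap.baseChange_tmul, Submodule.mkQ_apply,
          (Submodule.Quotient.mk_eq_zero N).mpr (Submodule.subset_span ⟨i, rfl⟩),
          TensorProduct.tmul_zero]
      | zero => exact map_zero _
      | add x y _ _ hx hy => rw [map_add, hx, hy, add_zero]
      | smul c x _ hx => rw [map_smul, hx, smul_zero]
    have hz : ∀ z : p.ResidueField ⊗[R] (M ⧸ N), z = 0 := by
      intro z
      induction z using TensorProduct.induction_on with
      | zero => rfl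
      | add x y hx hy => rw [hx, hy, add_zero]
      | tmul c m =>
        obtain ⟨m, rfl⟩ := N.mkQ_surjective m
        have h1 := hmap (c ⊗ₜ m)
        rwa [LinearMap.baseChange_tmul] at h1
    exact ⟨fun x y => by rw [hz x, hz y]⟩
  have hsupp : (⟨p, inferInstance⟩ : PrimeSpectrum R) ∉ Module.support R (M ⧸ N) := by
    rw [Module.mem_support_iff_nontrivial_residueField_tensorProduct]
    exact not_nontrivial_iff_subsingleton.mpr hsub
  rw [Module.mem_support_iff_of_finite] at hsupp
  obtain ⟨s, hs, hsp'⟩ := SetLike.not_le_iff_exists.mp hsupp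
  have hsN : ∀ m : M, s • m ∈ N := fun m => by
    have h1 := Module.mem_annihilator.mp hs (N.mkQ m)
    rwa [← map_smul, Submodule.mkQ_apply, Submodule.Quotient.mk_eq_zero] at h1
  -- `⋀ⁿ` of tuples from `N` vanish
  haveI hempty : IsEmpty (Set.powersetCard
      (Fin (Module.finrank p.ResidueField (p.ResidueField ⊗[R] M))) n) := by
    refine ⟨fun ⟨t, ht⟩ => ?_⟩
    have h1 := t.card_le_univ
    rw [Fintype.card_fin] at h1
    rw [Set.powersetCard, Set.mem_ofPred_eq] at ht
    omega
  have hrange : LinearMap.range (exteriorPower.map n N.subtype) = ⊥ := by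
    rw [hN, exteriorPower.ιMulti_family_span, Set.range_eq_empty, Submodule.span_empty]
  have hvan : ∀ y : Fin n → M, (∀ j, y j ∈ N) → exteriorPower.ιMulti R n y = 0 := by
    intro y hy
    have h1 : exteriorPower.ιMulti R n y =
        exteriorPower.map n N.subtype (exteriorPower.ιMulti R n (fun j => (⟨y j, hy j⟩ : N))) := by
      rw [exteriorPower.map_apply_ιMulti]
      rfl
    have h2 : exteriorPower.map n N.subtype
        (exteriorPower.ιMulti R n (fun j => (⟨y j, hy j⟩ : N))) ∈
        LinearMap.range (exteriorPower.map n N.subtype) := LinearMap.mem_range_self _ _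
    rw [hrange, Submodule.mem_bot] at h2
    rw [h1, h2]
  intro hle
  apply hsp'
  have hsn : s ^ n ∈ Module.annihilator R (⋀[R]^n M) := by
    rw [Module.mem_annihilator]
    intro x
    have hx : x ∈ Submodule.span R (Set.range (exteriorPower.ιMulti R n (M := M))) := by
      rw [exteriorPower.ιMulti_span]; trivial
    induction hx using Submodule.span_induction with
    | mem y hy =>
      obtain ⟨y, rfl⟩ := hy
      have h1 := (exteriorPower.ιMulti R n (M := M)).toMultilinearMap.map_smul_univ
        (fun _ => s) y
      rw [Finset.prod_const, Finset.card_univ, Fintype.card_fin] at h1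
      have h2 : s ^ n • exteriorPower.ιMulti R n y =
          exteriorPower.ιMulti R n (fun j => s • y j) := h1.symm
      rw [h2]
      exact hvan _ (fun j => hsN _)
    | zero => exact smul_zero _
    | add x y _ _ hx hy => rw [smul_add, hx, hy, add_zero]
    | smul c x _ hx => rw [smul_comm, hx, smul_zero]
  exact Ideal.IsPrime.mem_of_pow_mem inferInstance n (hle hsn)

/-- `Ann (⋀ⁿ M) ≤ p ↔ n ≤ dim κ(p) ⊗ M`. -/
theorem annihilator_le_iff (p : Ideal R) [p.IsPrime] (n : ℕ) [Module.Finite R M] :
    Module.annihilator R (⋀[R]^n M) ≤ p ↔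
      n ≤ Module.finrank p.ResidueField (p.ResidueField ⊗[R] M) := by
  constructor
  · intro h
    by_contra hlt
    exact not_annihilator_le_of_finrank_lt p n (not_le.mp hlt) h
  · exact annihilator_le_of_le_finrank p n

end Groth.Agent.Lib.helper6.ExtPowSupp
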