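import Mathlib
import Groth.Agent.Lib.Helper6.ExtPowSupp

/-!
# Exterior powers of quotients by a cyclic submodule (helper6)

* `exists_alternatingMap_of_surjective`: descent of alternating maps along a surjection.
* `span_dual_apply_eq_top`: the trace ideal of a faithful (at every maximal ideal) finite projective
  module is the unit ideal.
* `projective_exteriorPower`, `subsingleton_exteriorPower`.
* `annihilator_exteriorPower_eq`: for `P` finite projective of constant rank `n` and `M = P / R x`,
  `Ann (⋀ⁿ M)` is the ideal of all `ψ x`, `ψ ∈ P*`.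
-/

set_option autoImplicit false
universe u v w
open scoped TensorProduct

namespace Groth.Agent.Lib.helper6.ExtPowQuot

section descent

variable {R P M Q : Type*} [CommRing R] [AddCommGroup P] [Module R P] [AddCommGroup M]
  [Module R M] [AddCommGroup Q] [Module R Q] {n : ℕ}

theorem congr_of_forall_mem_ker (π : P →ₗ[R] M) (g : P [⋀^Fin n]→ₗ[R] Q)
    (hg : ∀ (p : Fin n → P) (i : Fin n), π (p i) = 0 → g p = 0)
    (p p' : Fin n → P) (h : ∀ i, π (p i) = π (p' i)) : g p = g p' := by
  classical
  have key : ∀ s : Finset (Fin n), g (fun i => if i ∈ s then p' i else p i) = g p := by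
    intro s
    induction s using Finset.induction_on with
    | empty => simp
    | insert a s ha ih =>
      obtain ⟨q, hq⟩ : ∃ q : Fin n → P, q = (fun i => if i ∈ s then p' i else p i) := ⟨_, rfl⟩
      rw [← hq] at ih
      have e1 : (fun i => if i ∈ insert a s then p' i else p i) = Function.update q a (p' a) := by
        funext i
        by_cases hia : i = a
        · subst hia
          simp
        · rw [Function.update_of_ne hia, hq]
          simp [Finset.mem_insert, hia]
      have e2 : q = Function.update q a (p a) := by
        funext i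
        by_cases hia : i = a
        · subst hia
          rw [Function.update_self, hq]
          simp [ha]
        · rw [Function.update_of_ne hia]
      calc g (fun i => if i ∈ insert a s then p' i else p i)
          = g (Function.update q a (p' a)) := by rw [e1]
        _ = g (Function.update q a (p a)) := by
            rw [← sub_eq_zero, ← AlternatingMap.map_update_sub]
            apply hg _ a
            rw [Function.update_self, map_sub, h a, sub_self]
        _ = g q := by rw [← e2]
        _ = g p := ih
  have h1 := key Finset.univ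
  simp only [Finset.mem_univ, if_true] at h1
  exact h1.symm

theorem exists_alternatingMap_of_surjective (π : P →ₗ[R] M) (hπ : Function.Surjective π)
    (g : P [⋀^Fin n]→ₗ[R] Q)
    (hg : ∀ (p : Fin n → P) (i : Fin n), π (p i) = 0 → g p = 0) :
    ∃ g' : M [⋀^Fin n]→ₗ[R] Q, ∀ p : Fin n → P, g' (fun i => π (p i)) = g p := by
  have hc := congr_of_forall_mem_ker π g hg
  obtain ⟨σ, hσ⟩ : ∃ σ : M → P, ∀ m, π (σ m) = m :=
    ⟨Function.surjInv hπ, Function.surjInv_eq hπ⟩
  refine ⟨{ toFun := fun m => g (σ ∘ m)
            map_update_add' := ?_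
            map_update_smul' := ?_
            map_eq_zero_of_eq' := ?_ }, ?_⟩
  · intro _ m i a b
    show g (σ ∘ Function.update m i (a + b)) =
      g (σ ∘ Function.update m i a) + g (σ ∘ Function.update m i b)
    rw [Function.comp_update, Function.comp_update, Function.comp_update,
      ← AlternatingMap.map_update_add]
    apply hc
    intro j
    by_cases hj : j = i
    · subst hj
      simp only [Function.update_self]
      rw [map_add, hσ, hσ, hσ]
    · simp only [Function.update_of_ne hj]
  · intro _ m i c a
    show g (σ ∘ Function.update m i (c • a)) = c • g (σ ∘ Function.update m i a)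
    rw [Function.comp_update, Function.comp_update, ← AlternatingMap.map_update_smul]
    apply hc
    intro j
    by_cases hj : j = i
    · subst hj
      simp only [Function.update_self]
      rw [map_smul, hσ, hσ]
    · simp only [Function.update_of_ne hj]
  · intro m i j hij hne
    exact g.map_eq_zero_of_eq (σ ∘ m) (by show σ (m i) = σ (m j); rw [hij]) hne
  · intro p
    show g (σ ∘ fun i => π (p i)) = g p
    apply hc
    intro i
    exact hσ _

end descent

section trace

theorem span_dual_apply_eq_top {R L : Type*} [CommRing R] [AddCommGroup L] [Module R L]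
    [Module.Finite R L] [Module.Projective R L]
    (hL : ∀ 𝔪 : Ideal R, 𝔪.IsMaximal → Module.annihilator R L ≤ 𝔪) :
    Ideal.span {t : R | ∃ (l : Module.Dual R L) (y : L), t = l y} = ⊤ := by
  by_contra hT
  obtain ⟨𝔪, hmax, hle⟩ := Ideal.exists_le_maximal _ hT
  obtain ⟨s, hs⟩ := (Module.projective_def' (R := R) (P := L)).mp inferInstance
  have h1 : (⊤ : Submodule R L) ≤ 𝔪 • (⊤ : Submodule R L) := by
    intro y _
    have hy : y = Finsupp.linearCombination R id (s y) := (LinearMap.congr_fun hs y).symm
    rw [hy, Finsupp.linearCombination_apply, Finsupp.sum]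
    refine Submodule.sum_mem _ (fun z _ => ?_)
    exact Submodule.smul_mem_smul
      (hle (Ideal.subset_span ⟨(Finsupp.lapply z).comp s, y, rfl⟩)) Submodule.mem_top
  obtain ⟨r, hr1, hr0⟩ := Submodule.exists_sub_one_mem_and_smul_eq_zero_of_fg_of_le_smul 𝔪 ⊤
    Module.Finite.fg_top h1
  have hr : r ∈ Module.annihilator R L :=
    Module.mem_annihilator.mpr (fun y => hr0 y Submodule.mem_top)
  have hrm := hL 𝔪 hmax hr
  apply hmax.ne_top
  rw [Ideal.eq_top_iff_one]
  have h2 : (1 : R) = r - (r - 1) := by ring
  rw [h2]
  exact 𝔪.sub_mem hrm hr1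

theorem projective_exteriorPower {R : Type u} {P : Type v} [CommRing R] [AddCommGroup P]
    [Module R P] [Module.Projective R P] (n : ℕ) : Module.Projective R (⋀[R]^n P) := by
  obtain ⟨s, hs⟩ := (Module.projective_def' (R := R) (P := P)).mp inferInstance
  exact Module.Projective.of_split (exteriorPower.map n s)
    (exteriorPower.map n (Finsupp.linearCombination R id))
    (by rw [← exteriorPower.map_comp, hs, exteriorPower.map_id])

theorem subsingleton_exteriorPower {R : Type u} {M : Type v} [CommRing R] [AddCommGroup M]
    [Module R M] [Module.Finite R M] (n : ℕ)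
    (h : ∀ (p : Ideal R) [p.IsPrime],
      Module.finrank p.ResidueField (p.ResidueField ⊗[R] M) < n) :
    Subsingleton (⋀[R]^n M) := by
  have htop : Module.annihilator R (⋀[R]^n M) = ⊤ := by
    by_contra hne
    obtain ⟨𝔪, hmax, hle⟩ := Ideal.exists_le_maximal _ hne
    haveI := hmax.isPrime
    exact ExtPowSupp.not_annihilator_le_of_finrank_lt 𝔪 n (h 𝔪) hle
  have h1 : (1 : R) ∈ Module.annihilator R (⋀[R]^n M) := by
    rw [htop]
    trivial
  refine ⟨fun a b => ?_⟩
  have ha := Module.mem_annihilator.mp h1 a
  have hb := Module.mem_annihilator.mp h1 b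
  rw [one_smul] at ha hb
  rw [ha, hb]

end trace

section core

variable {R : Type u} [CommRing R] {P : Type v} [AddCommGroup P] [Module R P]
  {M : Type w} [AddCommGroup M] [Module R M]

theorem apply_mem_annihilator (π : P →ₗ[R] M) (hπ : Function.Surjective π) (x : P)
    (hx : π x = 0) (n : ℕ) (hsub : Subsingleton (⋀[R]^(n + 1) P)) (ψ : Module.Dual R P) :
    ψ x ∈ Module.annihilator R (⋀[R]^n M) := by
  rw [Module.mem_annihilator]
  have key : ∀ p : Fin n → P, ψ x • ExteriorAlgebra.ιMulti R n (fun i => π (p i)) = 0 := by
    intro p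
    have h0 : ExteriorAlgebra.ι R x * ExteriorAlgebra.ιMulti R n p = 0 := by
      have h1 : (exteriorPower.ιMulti R (n + 1) (Matrix.vecCons x p) : ⋀[R]^(n + 1) P) = 0 :=
        Subsingleton.elim _ _
      have h2 := congrArg Subtype.val h1
      rw [exteriorPower.ιMulti_apply_coe, ExteriorAlgebra.ιMulti_succ_apply] at h2
      simpa using h2
    have h3 := CliffordAlgebra.contractLeft_ι_mul (Q := (0 : QuadraticForm R P)) (d := ψ) x
      (ExteriorAlgebra.ιMulti R n p)
    have h0' : CliffordAlgebra.ι (0 : QuadraticForm R P) x * ExteriorAlgebra.ιMulti R n p = 0 := h0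
    rw [h0', map_zero] at h3
    have h4 : ψ x • ExteriorAlgebra.ιMulti R n p =
        ExteriorAlgebra.ι R x *
          (CliffordAlgebra.contractLeft (Q := (0 : QuadraticForm R P)) ψ
            (ExteriorAlgebra.ιMulti R n p)) := (sub_eq_zero.mp h3.symm)
    have h5 := congrArg (ExteriorAlgebra.map π) h4
    rw [map_smul, ExteriorAlgebra.map_apply_ιMulti, map_mul, ExteriorAlgebra.map_apply_ι, hx,
      map_zero, zero_mul] at h5
    exact h5
  intro y
  apply Subtype.ext
  rw [Submodule.coe_smul, Submodule.coe_zero]
  have hy : (y : ExteriorAlgebra R M) ∈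
      Submodule.span R (Set.range (ExteriorAlgebra.ιMulti R n (M := M))) := by
    rw [exteriorPower.ιMulti_span_fixedDegree]
    exact y.2
  obtain ⟨z', hz'⟩ : ∃ z' : ExteriorAlgebra R M, z' = (y : ExteriorAlgebra R M) := ⟨_, rfl⟩
  rw [← hz'] at hy ⊢
  clear hz'
  induction hy using Submodule.span_induction with
  | mem z hz =>
    obtain ⟨m, rfl⟩ := hz
    have h6 := key (fun i => Function.surjInv hπ (m i))
    simp only [Function.surjInv_eq hπ] at h6
    exact h6
  | zero => rw [smul_zero]
  | add a b _ _ ha hb => rw [smul_add, ha, hb, add_zero]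
  | smul c a _ ha => rw [smul_comm, ha, smul_zero]

theorem annihilator_exteriorPower_eq (π : P →ₗ[R] M) (hπ : Function.Surjective π) (x : P)
    (hx : π x = 0) (hker : ∀ y, π y = 0 → ∃ c : R, y = c • x) [Module.Finite R P]
    [Module.Projective R P] (n : ℕ)
    (hrank : ∀ (p : Ideal R) [p.IsPrime],
      Module.finrank p.ResidueField (p.ResidueField ⊗[R] P) = n) :
    Module.annihilator R (⋀[R]^n M) =
      Ideal.span (Set.range fun ψ : Module.Dual R P => ψ x) := by
  classical
  apply le_antisymm
  · intro r hr
    rw [Module.mem_annihilator] at hr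
    obtain ⟨N, hN⟩ : ∃ N : Submodule R (⋀[R]^n P), N = Submodule.span R
      {ℓ | ∃ (p : Fin n → P) (i : Fin n), p i = x ∧ ℓ = exteriorPower.ιMulti R n p} := ⟨_, rfl⟩
    obtain ⟨g', hg'⟩ := exists_alternatingMap_of_surjective π hπ
      (N.mkQ.compAlternatingMap (exteriorPower.ιMulti R n)) (by
        intro p i hpi
        obtain ⟨c, hc⟩ := hker _ hpi
        show N.mkQ (exteriorPower.ιMulti R n p) = 0
        rw [Submodule.mkQ_apply, Submodule.Quotient.mk_eq_zero]
        have e : p = Function.update p i (c • x) := by rw [← hc, Function.update_eq_self]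
        rw [e, AlternatingMap.map_update_smul, hN]
        exact Submodule.smul_mem _ c (Submodule.subset_span
          ⟨Function.update p i x, i, Function.update_self .., rfl⟩))
    have hrN : ∀ ℓ : ⋀[R]^n P, r • ℓ ∈ N := by
      intro ℓ
      have hℓ : ℓ ∈ Submodule.span R (Set.range (exteriorPower.ιMulti R n (M := P))) := by
        rw [exteriorPower.ιMulti_span]
        trivial
      induction hℓ using Submodule.span_induction with
      | mem z hz =>
        obtain ⟨p, rfl⟩ := hz
        have h1 := hr (exteriorPower.ιMulti R n (fun i => π (p i)))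
        have h2 := congrArg (exteriorPower.alternatingMapLinearEquiv g') h1
        rw [map_smul, exteriorPower.alternatingMapLinearEquiv_apply_ιMulti, hg', map_zero] at h2
        have h3 : N.mkQ (r • exteriorPower.ιMulti R n p) = 0 := by
          rw [map_smul]
          exact h2
        rwa [Submodule.mkQ_apply, Submodule.Quotient.mk_eq_zero] at h3
      | zero => rw [smul_zero]; exact N.zero_mem
      | add a b _ _ ha hb => rw [smul_add]; exact N.add_mem ha hb
      | smul c a _ ha => rw [smul_comm]; exact N.smul_mem c ha
    have hlN : ∀ (l : Module.Dual R (⋀[R]^n P)) (ℓ : ⋀[R]^n P), ℓ ∈ N →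
        l ℓ ∈ Ideal.span (Set.range fun ψ : Module.Dual R P => ψ x) := by
      intro l ℓ hℓ
      rw [hN] at hℓ
      induction hℓ using Submodule.span_induction with
      | mem z hz =>
        obtain ⟨p, i, hpi, rfl⟩ := hz
        refine Ideal.subset_span
          ⟨l.comp ((exteriorPower.ιMulti R n).toMultilinearMap.toLinearMap p i), ?_⟩
        show l ((exteriorPower.ιMulti R n) (Function.update p i x)) = _
        rw [← hpi, Function.update_eq_self]
      | zero => rw [map_zero]; exact Ideal.zero_mem _
      | add a b _ _ ha hb => rw [map_add]; exact Ideal.add_mem _ ha hb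
      | smul c a _ ha => rw [map_smul]; exact Ideal.mul_mem_left _ c ha
    haveI := projective_exteriorPower (R := R) (P := P) n
    have hT := span_dual_apply_eq_top (R := R) (L := ⋀[R]^n P) (fun 𝔪 hmax => by
      haveI := hmax.isPrime
      exact ExtPowSupp.annihilator_le_of_le_finrank 𝔪 n (le_of_eq (hrank 𝔪).symm))
    have h1 : (1 : R) ∈ Ideal.span
        {t : R | ∃ (l : Module.Dual R (⋀[R]^n P)) (y : ⋀[R]^n P), t = l y} := by
      rw [hT]
      trivial
    have key : ∀ t ∈ Ideal.span
        {t : R | ∃ (l : Module.Dual R (⋀[R]^n P)) (y : ⋀[R]^n P), t = l y},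
        r * t ∈ Ideal.span (Set.range fun ψ : Module.Dual R P => ψ x) := by
      intro t ht
      induction ht using Submodule.span_induction with
      | mem z hz =>
        obtain ⟨l, y, rfl⟩ := hz
        have h2 : r * l y = l (r • y) := by rw [map_smul, smul_eq_mul]
        rw [h2]
        exact hlN l _ (hrN y)
      | zero => rw [mul_zero]; exact Ideal.zero_mem _
      | add a b _ _ ha hb => rw [mul_add]; exact Ideal.add_mem _ ha hb
      | smul c a _ ha => rw [smul_eq_mul, mul_left_comm]; exact Ideal.mul_mem_left _ c ha
    have h3 := key 1 h1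
    rwa [mul_one] at h3
  · rw [Ideal.span_le]
    rintro _ ⟨ψ, rfl⟩
    exact apply_mem_annihilator π hπ x hx n
      (subsingleton_exteriorPower (n + 1) (fun p _ => by
        rw [hrank p]
        exact Nat.lt_succ_self n)) ψ

end core

end Groth.Agent.Lib.helper6.ExtPowQuot
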