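import Groth.Agent.Lib.Helper6.IdealSheaf
import Groth.Prelude.Def_FSch3
import Mathlib.AlgebraicGeometry.Morphisms.Finite

/-!
# Helper lemmas on systems of thickenings (`FSch.Sys`)
-/

set_option autoImplicit false
universe u

open CategoryTheory CategoryTheory.Limits AlgebraicGeometry

namespace Groth.Agent.Lib.helper6

/-- The kernel of the base change of a closed immersion. -/
theorem ker_of_isPullback {P X Z Y : Scheme.{u}} {top : P ⟶ X} {left : P ⟶ Z} {right : X ⟶ Y}
    {bottom : Z ⟶ Y} [IsClosedImmersion bottom] (hp : IsPullback top left right bottom) :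
    top.ker = bottom.ker.comap right := by
  rw [← hp.isoPullback_hom_fst, Scheme.Hom.ker_comp_of_isIso,
    Scheme.IdealSheafData.ker_fst_of_isClosedImmersion]

/-- If `g ≫ j = i` with `j` a monomorphism, then `g` is the base change of `i` along `j`. -/
theorem isPullback_of_comp_eq_of_mono {C : Type*} [Category C] {Z W X : C} (g : Z ⟶ W) (j : W ⟶ X)
    (i : Z ⟶ X) [Mono j] (h : g ≫ j = i) : IsPullback g (𝟙 Z) j i := by
  refine ⟨⟨by simpa using h⟩, ⟨PullbackCone.IsLimit.mk _ (fun s => s.snd) ?_ ?_ ?_⟩⟩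
  · intro s
    rw [← cancel_mono j, Category.assoc, h, s.condition]
  · intro s
    simp
  · intro s m _ h₂
    simpa using h₂

/-- If `g ≫ j = i` with `i` a closed immersion and `j` a monomorphism, the kernel of `g` is the
inverse image of the kernel of `i`. -/
theorem ker_eq_comap_of_comp_eq {Z W X : Scheme.{u}} (g : Z ⟶ W) (j : W ⟶ X) (i : Z ⟶ X)
    [IsClosedImmersion i] [Mono j] (h : g ≫ j = i) : g.ker = i.ker.comap j :=
  ker_of_isPullback (isPullback_of_comp_eq_of_mono g j i h)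

theorem ker_inclusion {X : Scheme.{u}} {I J : X.IdealSheafData} (h : I ≤ J) :
    (Scheme.IdealSheafData.inclusion h).ker = J.comap I.subschemeι := by
  rw [ker_eq_comap_of_comp_eq _ I.subschemeι J.subschemeι
    (Scheme.IdealSheafData.inclusion_subschemeι h), Scheme.IdealSheafData.ker_subschemeι]

theorem isClosedImmersion_toX (𝔛 : FSch.Sys.{u}) (hF : 𝔛.IsFormal) (n : ℕ) :
    IsClosedImmersion (𝔛.toX n) := by
  induction n with
  | zero => exact inferInstanceAs (IsClosedImmersion (𝟙 _))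
  | succ n ih =>
    have := (hF n).1
    exact inferInstanceAs (IsClosedImmersion (𝔛.toX n ≫ 𝔛.ι n))

theorem isPullback_toX {𝔜 𝔛 : FSch.Sys.{u}} (j : 𝔜 ⟶ 𝔛) (hj : FSch.IsAdicHom j) (n : ℕ) :
    IsPullback (𝔜.toX n) ((j : FSch.Hom 𝔜 𝔛).app 0) ((j : FSch.Hom 𝔜 𝔛).app n) (𝔛.toX n) := by
  induction n with
  | zero =>
    have h1 : IsIso (𝔜.toX 0) := inferInstanceAs (IsIso (𝟙 _))
    have h2 : IsIso (𝔛.toX 0) := inferInstanceAs (IsIso (𝟙 _))
    exact IsPullback.of_horiz_isIso ⟨by simp [FSch.Sys.toX]⟩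
  | succ n ih => exact ih.paste_horiz (hj n)

/-- The source of an adic morphism to a formal system is formal. -/
theorem isFormal_of_isAdicHom {𝔜 𝔛 : FSch.Sys.{u}} (j : 𝔜 ⟶ 𝔛) (hj : FSch.IsAdicHom j)
    (hF : 𝔛.IsFormal) : 𝔜.IsFormal := fun n => by
  have hp := hj n
  have h1 := (hF n).1
  have h2 : Surjective (𝔛.ι n) := ⟨(hF n).2⟩
  refine ⟨MorphismProperty.of_isPullback hp.flip h1, ?_⟩
  exact (MorphismProperty.of_isPullback (P := @Surjective) hp.flip h2).surj

/-- The source of an adic morphism to a formal adic system is adic. -/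
theorem isAdic_of_isAdicHom {𝔜 𝔛 : FSch.Sys.{u}} (j : 𝔜 ⟶ 𝔛) (hj : FSch.IsAdicHom j)
    (hF : 𝔛.IsFormal) (hA : 𝔛.IsAdic) : 𝔜.IsAdic := fun n => by
  have := (hF n).1
  have := isClosedImmersion_toX 𝔛 hF (n + 1)
  rw [ker_of_isPullback (hj n), ker_of_isPullback (isPullback_toX _ hj (n + 1)), hA n, comap_pow]

end Groth.Agent.Lib.helper6
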