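import Mathlib
import Groth.Prelude.Def_PolLaw
import Groth.Prelude.Def_PolLaw2
import Groth.Prelude.Def_SymTen
import Groth.Agent.Lib.Helper6.GammaPol
import Groth.Agent.Lib.Helper6.GammaGen
import Groth.Agent.Lib.Helper6.GammaCoef
import Groth.Agent.Lib.Helper6.TSBasis

/-!
# An abstract criterion for `IsGammaD`, and the law `B → TS^d(B)` (helper6)

* `isGammaD_of_span_of_lin`: a multiplicative law `τ : B → D` of degree `d` whose coefficients span
  `D` and through which every multiplicative law of degree `d` factors *linearly* is universal.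
* `tsLaw A B d : MulLaw A B (TS A B d) d`, the law `x ↦ x ⊗ ⋯ ⊗ x` with values in the symmetric
  tensors (exists for every `B`), `tsLaw_val`, `tpowLaw_sum`, `tsLaw_sum`, `tpowLaw_nat`.
-/

set_option autoImplicit false
set_option linter.unusedSectionVars false
set_option linter.unusedVariables false

universe u

open scoped TensorProduct
open PiTensorProduct MvPolynomial

namespace Groth.Agent.Lib.helper6.GammaUniv

open Groth.Agent.Lib.helper6.GammaPol Groth.Agent.Lib.helper6.GammaGen
open Groth.Agent.Lib.helper6.TSBasis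

section abstract
variable {A : Type u} [CommRing A] {B : Type u} [CommRing B] [Algebra A B]
  {D : Type u} [CommRing D] [Algebra A D] {d : ℕ}

theorem coefv_lTensor {C C' : Type u} [CommRing C] [Algebra A C] [CommRing C'] [Algebra A C']
    (f : C →ₗ[A] C') (S : Type u) [CommSemiring S] [Algebra A S] (lam : S →ₗ[A] A)
    (z : S ⊗[A] C) : coefv S lam (f.lTensor S z) = f (coefv S lam z) := by
  induction z using TensorProduct.induction_on with
  | zero => simp
  | tmul s c => rw [LinearMap.lTensor_tmul, coefv_tmul, coefv_tmul, map_smul]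
  | add x y hx hy => rw [map_add, map_add, hx, hy, map_add, map_add]

theorem isGammaD_of_span_of_lin (τ : PolLaw.MulLaw A B D d)
    (hG : Submodule.span A (coefSet τ) = ⊤)
    (hL : ∀ (C' : Type u) [CommRing C'] [Algebra A C'] (F : PolLaw.MulLaw A B C' d),
      ∃ f : D →ₗ[A] C', ∀ (S : Type u) [CommSemiring S] [Algebra A S] (x : S ⊗[A] B),
        f.lTensor S (τ.law.toFun' S x) = F.law.toFun' S x) :
    PolLaw.IsGammaD τ := by
  intro C' _ _ F
  obtain ⟨f, hf⟩ := hL C' F
  have key : ∀ (S : Type u) [CommSemiring S] [Algebra A S] (lam : S →ₗ[A] A) (x : S ⊗[A] B),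
      f (coefv S lam (τ.law.toFun' S x)) = coefv S lam (F.law.toFun' S x) := by
    intro S _ _ lam x
    rw [← coefv_lTensor, hf]
  have h1 : f 1 = 1 := by
    have h := key A LinearMap.id 1
    rw [(τ.mult A).1, (F.mult A).1, Algebra.TensorProduct.one_def, Algebra.TensorProduct.one_def,
      coefv_tmul, coefv_tmul, LinearMap.id_apply, one_smul, one_smul] at h
    exact h
  have hcc : ∀ u ∈ coefSet τ, ∀ v ∈ coefSet τ, f (u * v) = f u * f v := by
    rintro _ ⟨S, _, _, lam, x, rfl⟩ _ ⟨S', _, _, lam', x', rfl⟩
    have e1 : coefv S lam (τ.law.toFun' S x) * coefv S' lam' (τ.law.toFun' S' x') =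
        coefv (S ⊗[A] S') ((LinearMap.mul' A A) ∘ₗ (TensorProduct.map lam lam'))
          (τ.law.toFun' (S ⊗[A] S')
            ((Algebra.TensorProduct.includeLeft : S →ₐ[A] S ⊗[A] S').toLinearMap.rTensor B x *
              (Algebra.TensorProduct.includeRight : S' →ₐ[A] S ⊗[A] S').toLinearMap.rTensor B
                x')) := by
      rw [(τ.mult (S ⊗[A] S')).2, ← PolynomialLaw.isCompat_apply', ← PolynomialLaw.isCompat_apply',
        coefv_mul]
    have e2 : coefv S lam (F.law.toFun' S x) * coefv S' lam' (F.law.toFun' S' x') =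
        coefv (S ⊗[A] S') ((LinearMap.mul' A A) ∘ₗ (TensorProduct.map lam lam'))
          (F.law.toFun' (S ⊗[A] S')
            ((Algebra.TensorProduct.includeLeft : S →ₐ[A] S ⊗[A] S').toLinearMap.rTensor B x *
              (Algebra.TensorProduct.includeRight : S' →ₐ[A] S ⊗[A] S').toLinearMap.rTensor B
                x')) := by
      rw [(F.mult (S ⊗[A] S')).2, ← PolynomialLaw.isCompat_apply', ← PolynomialLaw.isCompat_apply',
        coefv_mul]
    rw [key S lam x, key S' lam' x', e1, e2, key]
  have hmul : ∀ u v, f (u * v) = f u * f v := by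
    have hu : ∀ u ∈ Submodule.span A (coefSet τ), ∀ v ∈ Submodule.span A (coefSet τ),
        f (u * v) = f u * f v := by
      intro u hu
      induction hu using Submodule.span_induction with
      | mem u hu =>
        intro v hv
        induction hv using Submodule.span_induction with
        | mem v hv => exact hcc u hu v hv
        | zero => simp
        | add v w _ _ hv hw => rw [mul_add, map_add, hv, hw, map_add, mul_add]
        | smul a v _ hv => rw [mul_smul_comm, map_smul, hv, map_smul, mul_smul_comm]
      | zero => intro v _; simp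
      | add u w _ _ hu hw =>
        intro v hv
        rw [add_mul, map_add, hu v hv, hw v hv, map_add, add_mul]
      | smul a u _ hu =>
        intro v hv
        rw [smul_mul_assoc, map_smul, hu v hv, map_smul, smul_mul_assoc]
    intro u v
    exact hu u (hG ▸ Submodule.mem_top) v (hG ▸ Submodule.mem_top)
  refine ⟨AlgHom.ofLinearMap f h1 hmul, ?_, ?_⟩
  · apply PolynomialLaw.ext
    funext S _ _ x
    exact hf S x
  · intro g' hg'
    have hg'' : ∀ (S : Type u) [CommSemiring S] [Algebra A S] (x : S ⊗[A] B),
        g'.toLinearMap.lTensor S (τ.law.toFun' S x) = F.law.toFun' S x := by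
      intro S _ _ x
      rw [← hg']
      rfl
    apply AlgHom.ext
    intro u
    have hu : u ∈ Submodule.span A (coefSet τ) := hG ▸ Submodule.mem_top
    induction hu using Submodule.span_induction with
    | mem u hu =>
      obtain ⟨S, _, _, lam, x, rfl⟩ := hu
      show g'.toLinearMap (coefv S lam (τ.law.toFun' S x)) = f (coefv S lam (τ.law.toFun' S x))
      rw [key, ← coefv_lTensor, hg'']
    | zero => simp
    | add u w _ _ hu hw => rw [map_add, map_add, hu, hw]
    | smul a u _ hu => rw [map_smul, map_smul, hu]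

end abstract

section tslaw
variable (A : Type u) [CommRing A] (B : Type u) [CommRing B] [Algebra A B] (d : ℕ)

theorem perm_single (π : Equiv.Perm (Fin d)) (j : Fin d) (b : B) :
    SymTen.perm A B d π (PiTensorProduct.singleAlgHom (R := A) (A := fun _ : Fin d => B) j b) =
      PiTensorProduct.singleAlgHom (R := A) (A := fun _ : Fin d => B) (π j) b := by
  simp only [PiTensorProduct.singleAlgHom_apply, MonoidHom.mulSingle_apply]
  rw [SymTen.perm_tprod]
  congr 1
  funext k
  rw [Pi.mulSingle_apply, Pi.mulSingle_apply]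
  by_cases h : k = π j
  · rw [if_pos h, if_pos]
    rw [h, Equiv.symm_apply_apply]
  · rw [if_neg h, if_neg]
    intro h'
    apply h
    rw [← h', Equiv.apply_symm_apply]

theorem map_perm_single (S : Type u) [CommSemiring S] [Algebra A S] (π : Equiv.Perm (Fin d))
    (j : Fin d) (x : S ⊗[A] B) :
    Algebra.TensorProduct.map (AlgHom.id S S) (SymTen.perm A B d π)
      (Algebra.TensorProduct.map (AlgHom.id S S)
        (PiTensorProduct.singleAlgHom (R := A) (A := fun _ : Fin d => B) j) x) =
    Algebra.TensorProduct.map (AlgHom.id S S)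
        (PiTensorProduct.singleAlgHom (R := A) (A := fun _ : Fin d => B) (π j)) x := by
  induction x using TensorProduct.induction_on with
  | zero => simp
  | tmul s b =>
    rw [Algebra.TensorProduct.map_tmul, Algebra.TensorProduct.map_tmul,
      Algebra.TensorProduct.map_tmul, perm_single]
    rfl
  | add x y hx hy => rw [map_add, map_add, hx, hy, map_add]

/-- the tensor power law takes invariant values -/
theorem tpow_inv (S : Type u) [CommSemiring S] [Algebra A S] (π : Equiv.Perm (Fin d))
    (x : S ⊗[A] B) :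
    (SymTen.perm A B d π).toLinearMap.lTensor S ((SymTen.tpowLaw A B d).law.toFun' S x) =
      (SymTen.tpowLaw A B d).law.toFun' S x := by
  rw [PolLaw.lTensor_algHom_apply]
  unfold SymTen.tpowLaw
  rw [PolLaw.MulLaw.prodMap_toFun', map_prod]
  simp_rw [map_perm_single]
  exact Equiv.prod_comp π (fun j => Algebra.TensorProduct.map (AlgHom.id S S)
    (PiTensorProduct.singleAlgHom (R := A) (A := fun _ : Fin d => B) j) x)

theorem equiv_lTensor {P' : Type u} [AddCommGroup P'] [Module A P'] {κ : Type u} [DecidableEq κ]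
    (bs : Module.Basis κ A P') {X : Type u} [AddCommGroup X] [Module A X] (g : X →ₗ[A] X)
    (z : P' ⊗[A] X) (k : κ) :
    TensorProduct.equivFinsuppOfBasisLeft bs (g.lTensor P' z) k =
      g (TensorProduct.equivFinsuppOfBasisLeft bs z k) := by
  induction z using TensorProduct.induction_on with
  | zero => simp
  | tmul p t =>
    rw [LinearMap.lTensor_tmul, TensorProduct.equivFinsuppOfBasisLeft_apply_tmul_apply,
      TensorProduct.equivFinsuppOfBasisLeft_apply_tmul_apply, map_smul]
  | add x y hx hy => rw [map_add, map_add, Finsupp.add_apply, hx, hy, map_add, Finsupp.add_apply,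
      map_add]

theorem mem_range_of_inv (σ : Type u) (z : MvPolynomial σ A ⊗[A] (⨂[A] _ : Fin d, B))
    (hz : ∀ π : Equiv.Perm (Fin d), (SymTen.perm A B d π).toLinearMap.lTensor _ z = z) :
    z ∈ LinearMap.range ((SymTen.TS A B d).val.toLinearMap.lTensor (MvPolynomial σ A)) := by
  classical
  let bs := MvPolynomial.basisMonomials σ A
  let c := TensorProduct.equivFinsuppOfBasisLeft bs z
  have hc : ∀ k, c k ∈ SymTen.TS A B d := by
    intro k
    rw [SymTen.mem_TS_iff]
    intro π
    rw [← SymTen.perm_apply]
    have h := equiv_lTensor A bs (SymTen.perm A B d π).toLinearMap z k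
    rw [hz π] at h
    exact h.symm
  have hzc : z = c.sum fun i n => bs i ⊗ₜ[A] n := by
    rw [← TensorProduct.equivFinsuppOfBasisLeft_symm_apply]
    exact ((TensorProduct.equivFinsuppOfBasisLeft bs).symm_apply_apply z).symm
  refine ⟨∑ k ∈ c.support, bs k ⊗ₜ[A] (⟨c k, hc k⟩ : SymTen.TS A B d), ?_⟩
  rw [map_sum, hzc]
  rfl

theorem hasLifts_tpow : HasLifts (SymTen.tpowLaw A B d) (SymTen.TS A B d) := by
  intro σ x
  exact mem_range_of_inv A B d σ _ (fun π => tpow_inv A B d _ π x)

/-- the law `x ↦ x ⊗ ⋯ ⊗ x` with values in the symmetric tensors -/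
noncomputable def tsLaw : PolLaw.MulLaw A B (SymTen.TS A B d) d := gam0 (hasLifts_tpow A B d)

theorem tsLaw_val (S : Type u) [CommSemiring S] [Algebra A S] (x : S ⊗[A] B) :
    (SymTen.TS A B d).val.toLinearMap.lTensor S ((tsLaw A B d).law.toFun' S x) =
      (SymTen.tpowLaw A B d).law.toFun' S x :=
  g0_val (hasLifts_tpow A B d) S x

theorem tpowLaw_sum (S : Type u) [CommSemiring S] [Algebra A S] (n : ℕ) (s : Fin n → S)
    (b : Fin n → B) :
    (SymTen.tpowLaw A B d).law.toFun' S (∑ j, s j ⊗ₜ[A] b j) =
      ∑ c : Fin d → Fin n, (∏ i, s (c i)) ⊗ₜ[A] PiTensorProduct.tprod A (fun i => b (c i)) := by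
  classical
  unfold SymTen.tpowLaw
  rw [PolLaw.MulLaw.prodMap_toFun']
  simp only [map_sum, Algebra.TensorProduct.map_tmul, AlgHom.coe_id, id_eq]
  rw [Finset.prod_univ_sum, Fintype.piFinset_univ]
  refine Finset.sum_congr rfl fun c _ => ?_
  rw [TSBasis.prod_tmul, TSBasis.prod_single]

theorem tsLaw_sum (S : Type u) [CommSemiring S] [Algebra A S] (n : ℕ) (s : Fin n → S)
    (b : Fin n → B) :
    (SymTen.TS A B d).val.toLinearMap.lTensor S
        ((tsLaw A B d).law.toFun' S (∑ j, s j ⊗ₜ[A] b j)) =
      ∑ c : Fin d → Fin n, (∏ i, s (c i)) ⊗ₜ[A] PiTensorProduct.tprod A (fun i => b (c i)) := by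
  rw [tsLaw_val, tpowLaw_sum]

end tslaw

end Groth.Agent.Lib.helper6.GammaUniv
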