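import Mathlib
import Groth.Prelude.Def_PolLaw
import Groth.Prelude.Def_PolLaw2
import Groth.Prelude.Def_SymTen
import Groth.Agent.Lib.Helper6.GammaPol
import Groth.Agent.Lib.Helper6.GammaGen
import Groth.Agent.Lib.Helper6.GammaCoef
import Groth.Agent.Lib.Helper6.GammaUniv

/-!
# Tools for the norm law `T^d(B) → Γ^d(B)` (helper6)

* `law_ext_poly`: two polynomial laws agreeing on all polynomial rings agree.
* `cls`, `cls_spec`, `cls_unique`: the classifying map of a universal law.
* `tsLaw_nat`: naturality of `tsLaw` in algebra maps.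
* `nsLaw A R d : MulLaw A (T^d R) (TS^d R) d!`, the norm `z ↦ ∏_σ σ z` with values in the symmetric
  tensors; `nsLaw_val`, `nsLaw_nat`, `nsLaw_val_pow`, `symmLaw_nat`, `symmLaw_val`.
* `phi_gamma`: the canonical map `φ : Γ^d(B) → TS^d(B)` satisfies `φ ∘ γ = tsLaw`.
-/

set_option autoImplicit false
set_option linter.unusedSectionVars false
set_option linter.unusedVariables false

universe u

open scoped TensorProduct
open PiTensorProduct MvPolynomial

namespace Groth.Agent.Lib.helper6.NormLaw

open Groth.Agent.Lib.helper6.GammaPol Groth.Agent.Lib.helper6.GammaGen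
open Groth.Agent.Lib.helper6.GammaUniv

section general
variable {A : Type u} [CommRing A] {M N N' : Type u} [AddCommGroup M] [Module A M]
  [AddCommGroup N] [Module A N] [AddCommGroup N'] [Module A N']

theorem postcomp_toFun' (g : N →ₗ[A] N') (F : M →ₚₗ[A] N) (S : Type u) [CommSemiring S]
    [Algebra A S] (x : S ⊗[A] M) :
    (PolLaw.postcomp g F).toFun' S x = g.lTensor S (F.toFun' S x) := rfl

theorem precomp_toFun' (F : N →ₚₗ[A] N') (g : M →ₗ[A] N) (S : Type u) [CommSemiring S]
    [Algebra A S] (x : S ⊗[A] M) :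
    (PolLaw.precomp F g).toFun' S x = F.toFun' S (g.lTensor S x) := rfl

theorem law_ext_poly (F G : M →ₚₗ[A] N)
    (h : ∀ (σ : Type u) (x : MvPolynomial σ A ⊗[A] M),
      F.toFun' (MvPolynomial σ A) x = G.toFun' (MvPolynomial σ A) x)
    (S : Type u) [CommSemiring S] [Algebra A S] (x : S ⊗[A] M) : F.toFun' S x = G.toFun' S x := by
  obtain ⟨x', rfl⟩ : ∃ x' : MvPolynomial S A ⊗[A] M,
      (evS (A := A) S).toLinearMap.rTensor M x' = x :=
    LinearMap.rTensor_surjective M (evS_surj S) x
  have h1 := PolynomialLaw.isCompat_apply' (f := F) (evS (A := A) S) x'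
  have h2 := PolynomialLaw.isCompat_apply' (f := G) (evS (A := A) S) x'
  rw [← h1, ← h2, h]

end general

section cls
variable {A : Type u} [CommRing A] {B : Type u} [CommRing B] [Algebra A B]
  {D : Type u} [CommRing D] [Algebra A D] {C' : Type u} [CommRing C'] [Algebra A C'] {d : ℕ}
  {τ : PolLaw.MulLaw A B D d}

/-- the classifying algebra map of a law of degree `d` out of `B` -/
noncomputable def cls (hτ : PolLaw.IsGammaD τ) (F : PolLaw.MulLaw A B C' d) : D →ₐ[A] C' :=
  (hτ C' F).choose

theorem cls_spec (hτ : PolLaw.IsGammaD τ) (F : PolLaw.MulLaw A B C' d) (S : Type u)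
    [CommSemiring S] [Algebra A S] (x : S ⊗[A] B) :
    (cls hτ F).toLinearMap.lTensor S (τ.law.toFun' S x) = F.law.toFun' S x := by
  have h := (hτ C' F).choose_spec.1
  rw [← h]
  rfl

theorem cls_unique (hτ : PolLaw.IsGammaD τ) (F : PolLaw.MulLaw A B C' d) (g : D →ₐ[A] C')
    (hg : ∀ (S : Type u) [CommSemiring S] [Algebra A S] (x : S ⊗[A] B),
      g.toLinearMap.lTensor S (τ.law.toFun' S x) = F.law.toFun' S x) : g = cls hτ F := by
  apply (hτ C' F).choose_spec.2
  apply PolynomialLaw.ext
  funext S _ _ x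
  exact hg S x

end cls

section nat
variable {A : Type u} [CommRing A] {R R' : Type u} [CommRing R] [Algebra A R] [CommRing R']
  [Algebra A R'] (d : ℕ)

theorem val_TSmap (f : R →ₐ[A] R') (S : Type u) [CommSemiring S] [Algebra A S]
    (y : S ⊗[A] SymTen.TS A R d) :
    (SymTen.TS A R' d).val.toLinearMap.lTensor S ((SymTen.TSmap A d f).toLinearMap.lTensor S y) =
      (SymTen.tmap A d f).toLinearMap.lTensor S ((SymTen.TS A R d).val.toLinearMap.lTensor S y) := by
  rw [← LinearMap.comp_apply, ← LinearMap.comp_apply, ← LinearMap.lTensor_comp,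
    ← LinearMap.lTensor_comp]
  rfl

theorem tmap_single (f : R →ₐ[A] R') (k : Fin d) (r : R) :
    SymTen.tmap A d f (PiTensorProduct.singleAlgHom (R := A) (A := fun _ : Fin d => R) k r) =
      PiTensorProduct.singleAlgHom (R := A) (A := fun _ : Fin d => R') k (f r) := by
  simp only [PiTensorProduct.singleAlgHom_apply, MonoidHom.mulSingle_apply]
  rw [SymTen.tmap_tprod]
  congr 1
  funext j
  rw [Pi.mulSingle_apply, Pi.mulSingle_apply]
  split_ifs
  · rfl
  · exact map_one f

theorem map_tmap_single (f : R →ₐ[A] R') (S : Type u) [CommSemiring S] [Algebra A S] (k : Fin d)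
    (x : S ⊗[A] R) :
    Algebra.TensorProduct.map (AlgHom.id S S) (SymTen.tmap A d f)
      (Algebra.TensorProduct.map (AlgHom.id S S)
        (PiTensorProduct.singleAlgHom (R := A) (A := fun _ : Fin d => R) k) x) =
    Algebra.TensorProduct.map (AlgHom.id S S)
        (PiTensorProduct.singleAlgHom (R := A) (A := fun _ : Fin d => R') k)
        (Algebra.TensorProduct.map (AlgHom.id S S) f x) := by
  induction x using TensorProduct.induction_on with
  | zero => simp
  | tmul s b =>
    rw [Algebra.TensorProduct.map_tmul, Algebra.TensorProduct.map_tmul,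
      Algebra.TensorProduct.map_tmul, Algebra.TensorProduct.map_tmul, tmap_single]
  | add x y hx hy => rw [map_add, map_add, hx, hy, map_add, map_add]

/-- naturality of the tensor power law in algebra maps -/
theorem tpowLaw_natA (f : R →ₐ[A] R') (S : Type u) [CommSemiring S] [Algebra A S]
    (x : S ⊗[A] R) :
    (SymTen.tmap A d f).toLinearMap.lTensor S ((SymTen.tpowLaw A R d).law.toFun' S x) =
      (SymTen.tpowLaw A R' d).law.toFun' S (f.toLinearMap.lTensor S x) := by
  rw [PolLaw.lTensor_algHom_apply, PolLaw.lTensor_algHom_apply]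
  unfold SymTen.tpowLaw
  rw [PolLaw.MulLaw.prodMap_toFun', PolLaw.MulLaw.prodMap_toFun', map_prod]
  exact Finset.prod_congr rfl fun k _ => map_tmap_single d f S k x

/-- naturality of `tsLaw` in algebra maps -/
theorem tsLaw_nat (f : R →ₐ[A] R') (S : Type u) [CommSemiring S] [Algebra A S] (x : S ⊗[A] R) :
    (SymTen.TSmap A d f).toLinearMap.lTensor S ((tsLaw A R d).law.toFun' S x) =
      (tsLaw A R' d).law.toFun' S (f.toLinearMap.lTensor S x) := by
  refine law_ext_poly (PolLaw.postcomp (SymTen.TSmap A d f).toLinearMap (tsLaw A R d).law)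
    (PolLaw.precomp (tsLaw A R' d).law f.toLinearMap) ?_ S x
  intro σ x
  rw [postcomp_toFun', precomp_toFun']
  apply inj_poly (SymTen.TS A R' d) σ
  rw [val_TSmap, tsLaw_val, tsLaw_val, tpowLaw_natA]

theorem perm_perm (π σ : Equiv.Perm (Fin d)) (t : ⨂[A] _ : Fin d, R) :
    SymTen.perm A R d π (SymTen.perm A R d σ t) = SymTen.perm A R d (π * σ) t := by
  induction t using PiTensorProduct.induction_on with
  | smul_tprod r g =>
    rw [map_smul, map_smul, map_smul, SymTen.perm_tprod, SymTen.perm_tprod, SymTen.perm_tprod]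
    rfl
  | add x y hx hy => rw [map_add, map_add, hx, hy, map_add]

theorem map_perm_perm (S : Type u) [CommSemiring S] [Algebra A S] (π σ : Equiv.Perm (Fin d))
    (z : S ⊗[A] (⨂[A] _ : Fin d, R)) :
    Algebra.TensorProduct.map (AlgHom.id S S) (SymTen.perm A R d π)
      (Algebra.TensorProduct.map (AlgHom.id S S) (SymTen.perm A R d σ) z) =
    Algebra.TensorProduct.map (AlgHom.id S S) (SymTen.perm A R d (π * σ)) z := by
  induction z using TensorProduct.induction_on with
  | zero => simp
  | tmul s b =>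
    rw [Algebra.TensorProduct.map_tmul, Algebra.TensorProduct.map_tmul,
      Algebra.TensorProduct.map_tmul, perm_perm]
    rfl
  | add x y hx hy => rw [map_add, map_add, hx, hy, map_add]

theorem symmLaw_toFun' (S : Type u) [CommSemiring S] [Algebra A S]
    (z : S ⊗[A] (⨂[A] _ : Fin d, R)) :
    (SymTen.symmLaw A R d).law.toFun' S z =
      ∏ σ : Equiv.Perm (Fin d), Algebra.TensorProduct.map (AlgHom.id S S) (SymTen.perm A R d σ) z :=
  rfl

/-- the symmetrization law takes invariant values -/
theorem symm_inv (S : Type u) [CommSemiring S] [Algebra A S] (π : Equiv.Perm (Fin d))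
    (z : S ⊗[A] (⨂[A] _ : Fin d, R)) :
    (SymTen.perm A R d π).toLinearMap.lTensor S ((SymTen.symmLaw A R d).law.toFun' S z) =
      (SymTen.symmLaw A R d).law.toFun' S z := by
  rw [PolLaw.lTensor_algHom_apply, symmLaw_toFun', map_prod]
  simp_rw [map_perm_perm]
  exact Equiv.prod_comp (Equiv.mulLeft π) (fun σ => Algebra.TensorProduct.map (AlgHom.id S S)
    (SymTen.perm A R d σ) z)

variable (A R) in
theorem hasLifts_symm : HasLifts (SymTen.symmLaw A R d) (SymTen.TS A R d) := by
  intro σ z
  exact mem_range_of_inv A R d σ _ (fun π => symm_inv d _ π z)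

variable (A R) in
/-- the norm law `z ↦ ∏_σ σ z` with values in the symmetric tensors -/
noncomputable def nsLaw : PolLaw.MulLaw A (⨂[A] _ : Fin d, R) (SymTen.TS A R d) d.factorial :=
  gam0 (hasLifts_symm A R d)

theorem nsLaw_val (S : Type u) [CommSemiring S] [Algebra A S] (z : S ⊗[A] (⨂[A] _ : Fin d, R)) :
    (SymTen.TS A R d).val.toLinearMap.lTensor S ((nsLaw A R d).law.toFun' S z) =
      (SymTen.symmLaw A R d).law.toFun' S z :=
  g0_val (hasLifts_symm A R d) S z

theorem tmap_perm (f : R →ₐ[A] R') (σ : Equiv.Perm (Fin d)) (t : ⨂[A] _ : Fin d, R) :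
    SymTen.tmap A d f (SymTen.perm A R d σ t) = SymTen.perm A R' d σ (SymTen.tmap A d f t) := by
  rw [SymTen.perm_apply, SymTen.perm_apply, SymTen.tmap_reindex]

theorem map_tmap_perm (f : R →ₐ[A] R') (S : Type u) [CommSemiring S] [Algebra A S]
    (σ : Equiv.Perm (Fin d)) (z : S ⊗[A] (⨂[A] _ : Fin d, R)) :
    Algebra.TensorProduct.map (AlgHom.id S S) (SymTen.tmap A d f)
      (Algebra.TensorProduct.map (AlgHom.id S S) (SymTen.perm A R d σ) z) =
    Algebra.TensorProduct.map (AlgHom.id S S) (SymTen.perm A R' d σ)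
      (Algebra.TensorProduct.map (AlgHom.id S S) (SymTen.tmap A d f) z) := by
  induction z using TensorProduct.induction_on with
  | zero => simp
  | tmul s b =>
    rw [Algebra.TensorProduct.map_tmul, Algebra.TensorProduct.map_tmul,
      Algebra.TensorProduct.map_tmul, Algebra.TensorProduct.map_tmul, tmap_perm]
  | add x y hx hy => rw [map_add, map_add, hx, hy, map_add, map_add]

theorem symmLaw_nat (f : R →ₐ[A] R') (S : Type u) [CommSemiring S] [Algebra A S]
    (z : S ⊗[A] (⨂[A] _ : Fin d, R)) :
    (SymTen.tmap A d f).toLinearMap.lTensor S ((SymTen.symmLaw A R d).law.toFun' S z) =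
      (SymTen.symmLaw A R' d).law.toFun' S ((SymTen.tmap A d f).toLinearMap.lTensor S z) := by
  rw [PolLaw.lTensor_algHom_apply, PolLaw.lTensor_algHom_apply, symmLaw_toFun', symmLaw_toFun',
    map_prod]
  exact Finset.prod_congr rfl fun σ _ => map_tmap_perm d f S σ z

theorem nsLaw_nat (f : R →ₐ[A] R') (S : Type u) [CommSemiring S] [Algebra A S]
    (z : S ⊗[A] (⨂[A] _ : Fin d, R)) :
    (SymTen.TSmap A d f).toLinearMap.lTensor S ((nsLaw A R d).law.toFun' S z) =
      (nsLaw A R' d).law.toFun' S ((SymTen.tmap A d f).toLinearMap.lTensor S z) := by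
  refine law_ext_poly (PolLaw.postcomp (SymTen.TSmap A d f).toLinearMap (nsLaw A R d).law)
    (PolLaw.precomp (nsLaw A R' d).law (SymTen.tmap A d f).toLinearMap) ?_ S z
  intro σ z
  rw [postcomp_toFun', precomp_toFun']
  apply inj_poly (SymTen.TS A R' d) σ
  rw [val_TSmap, nsLaw_val, nsLaw_val, symmLaw_nat]

theorem map_perm_val (S : Type u) [CommSemiring S] [Algebra A S] (σ : Equiv.Perm (Fin d))
    (y : S ⊗[A] SymTen.TS A R d) :
    Algebra.TensorProduct.map (AlgHom.id S S) (SymTen.perm A R d σ)
      (Algebra.TensorProduct.map (AlgHom.id S S) (SymTen.TS A R d).val y) =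
    Algebra.TensorProduct.map (AlgHom.id S S) (SymTen.TS A R d).val y := by
  induction y using TensorProduct.induction_on with
  | zero => simp
  | tmul s t =>
    rw [Algebra.TensorProduct.map_tmul, Algebra.TensorProduct.map_tmul]
    congr 1
    show SymTen.perm A R d σ (t : ⨂[A] _ : Fin d, R) = t
    rw [SymTen.perm_apply]
    exact t.2 σ
  | add x y hx hy => rw [map_add, map_add, hx, hy]

/-- on symmetric tensors the symmetrization law is the `d!`-th power -/
theorem symmLaw_val (S : Type u) [CommSemiring S] [Algebra A S] (y : S ⊗[A] SymTen.TS A R d) :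
    (SymTen.symmLaw A R d).law.toFun' S ((SymTen.TS A R d).val.toLinearMap.lTensor S y) =
      ((SymTen.TS A R d).val.toLinearMap.lTensor S y) ^ d.factorial := by
  rw [PolLaw.lTensor_algHom_apply, symmLaw_toFun']
  simp_rw [map_perm_val]
  rw [Finset.prod_const, Finset.card_univ, Fintype.card_perm, Fintype.card_fin]

theorem nsLaw_val_pow (S : Type u) [CommSemiring S] [Algebra A S] (y : S ⊗[A] SymTen.TS A R d) :
    (nsLaw A R d).law.toFun' S ((SymTen.TS A R d).val.toLinearMap.lTensor S y) =
      y ^ d.factorial := by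
  refine law_ext_poly (PolLaw.precomp (nsLaw A R d).law (SymTen.TS A R d).val.toLinearMap)
    (PolLaw.powLaw (A := A) (B := SymTen.TS A R d) d.factorial) ?_ S y
  intro σ y
  rw [precomp_toFun']
  show _ = y ^ d.factorial
  apply inj_poly (SymTen.TS A R d) σ
  rw [nsLaw_val, symmLaw_val, PolLaw.lTensor_algHom_apply, PolLaw.lTensor_algHom_apply, map_pow]

end nat

section phi
variable {A B C : Type u} [CommRing A] [CommRing B] [Algebra A B] [CommRing C] [Algebra A C]
  {d : ℕ}

/-- the canonical map `φ : Γ^d(B) → TS^d(B)` satisfies `φ ∘ γ = tsLaw` -/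
theorem phi_gamma (γ : PolLaw.MulLaw A B C d) (φ : C →ₐ[A] SymTen.TS A B d)
    (hφ : ∀ (S : Type u) [CommSemiring S] [Algebra A S] (n : ℕ) (s : Fin n → S) (b : Fin n → B),
      ((SymTen.TS A B d).val.comp φ).toLinearMap.lTensor S
          (γ.law.toFun' S (∑ j, s j ⊗ₜ[A] b j)) =
        ∑ c : Fin d → Fin n, (∏ i, s (c i)) ⊗ₜ[A] PiTensorProduct.tprod A (fun i => b (c i)))
    (S : Type u) [CommSemiring S] [Algebra A S] (x : S ⊗[A] B) :
    φ.toLinearMap.lTensor S (γ.law.toFun' S x) = (tsLaw A B d).law.toFun' S x := by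
  refine law_ext_poly (PolLaw.postcomp φ.toLinearMap γ.law) (tsLaw A B d).law ?_ S x
  intro σ x
  rw [postcomp_toFun']
  apply inj_poly (SymTen.TS A B d) σ
  obtain ⟨n, s, b, rfl⟩ := exists_repr_fin (MvPolynomial σ A) x
  rw [tsLaw_sum, ← hφ (MvPolynomial σ A) n s b, AlgHom.comp_toLinearMap, LinearMap.lTensor_comp,
    LinearMap.comp_apply]

end phi

end Groth.Agent.Lib.helper6.NormLaw
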