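import Mathlib
import Groth.Prelude.Def_PolLaw
import Groth.Prelude.Def_PolLaw2
import Groth.Prelude.Def_SymTen
import Groth.Agent.Lib.Helper6.GammaPol
import Groth.Agent.Lib.Helper6.GammaGen
import Groth.Agent.Lib.Helper6.GammaCoef
import Groth.Agent.Lib.Helper6.GammaUniv
import Groth.Agent.Lib.Helper6.TSCoef
import Groth.Agent.Lib.Helper6.TSBasis
import Groth.Agent.Lib.Helper6.TSUniv
import Groth.Agent.Lib.Helper6.Lazard
import Groth.Agent.Lib.Helper6.TMColim
import Groth.Agent.Lib.Helper6.TSFlatMod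

/-!
# `TS^d_A(B)` is the divided power algebra of a flat algebra (helper6)

`isGammaD_tsLaw_of_flat`: if `B` is flat over `A` then `(TS^d_A(B), tsLaw)` is universal among
multiplicative laws of degree `d` out of `B` (via Lazard's theorem and the free case `TSUniv`).
-/

set_option autoImplicit false
set_option linter.unusedSectionVars false
set_option linter.unusedVariables false

universe u

open scoped TensorProduct
open PiTensorProduct MvPolynomial

namespace Groth.Agent.Lib.helper6.TSFlat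

open Groth.Agent.Lib.helper6.GammaPol Groth.Agent.Lib.helper6.GammaGen
open Groth.Agent.Lib.helper6.GammaUniv Groth.Agent.Lib.helper6.TSCoef
open Groth.Agent.Lib.helper6.TSBasis Groth.Agent.Lib.helper6.TSUniv
open Groth.Agent.Lib.helper6.Lazard Groth.Agent.Lib.helper6.TMColim
open Groth.Agent.Lib.helper6.TSFlatMod

section single
variable {A : Type u} [CommRing A] {P Q : Type u} [CommRing P] [Algebra A P] [CommRing Q]
  [Algebra A Q] (d : ℕ)

/-- naturality of the tensor power law in *linear* maps -/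
theorem tpowLaw_nat (φ : P →ₗ[A] Q) (S : Type u) [CommSemiring S] [Algebra A S] (x : S ⊗[A] P) :
    (tm d φ).lTensor S ((SymTen.tpowLaw A P d).law.toFun' S x) =
      (SymTen.tpowLaw A Q d).law.toFun' S (φ.lTensor S x) := by
  obtain ⟨n, s, b, rfl⟩ := exists_repr_fin S x
  rw [tpowLaw_sum, map_sum, map_sum]
  simp only [LinearMap.lTensor_tmul]
  rw [tpowLaw_sum]
  refine Finset.sum_congr rfl fun c _ => ?_
  rw [tm_tprod]

/-- the map induced on symmetric tensors by a linear map -/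
noncomputable def Θ (φ : P →ₗ[A] Q) : SymTen.TS A P d →ₗ[A] SymTen.TS A Q d where
  toFun y := ⟨tm d φ y.1, fun σ => by rw [← tm_reindex, y.2 σ]⟩
  map_add' x y := Subtype.ext (map_add (tm d φ) x.1 y.1)
  map_smul' a x := Subtype.ext (map_smul (tm d φ) a x.1)

theorem Θ_val (φ : P →ₗ[A] Q) (y : SymTen.TS A P d) :
    ((Θ d φ y : SymTen.TS A Q d) : ⨂[A] _ : Fin d, Q) = tm d φ y.1 := rfl

theorem val_Θ (φ : P →ₗ[A] Q) (S : Type u) [CommSemiring S] [Algebra A S]
    (y : S ⊗[A] SymTen.TS A P d) :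
    (SymTen.TS A Q d).val.toLinearMap.lTensor S ((Θ d φ).lTensor S y) =
      (tm d φ).lTensor S ((SymTen.TS A P d).val.toLinearMap.lTensor S y) := by
  rw [← LinearMap.comp_apply, ← LinearMap.comp_apply, ← LinearMap.lTensor_comp,
    ← LinearMap.lTensor_comp]
  rfl

/-- the key identity: `Θ` transports lifts of the tensor power law -/
theorem Θ_key (φ : P →ₗ[A] Q) (σ : Type u) (x : MvPolynomial σ A ⊗[A] P)
    (y : MvPolynomial σ A ⊗[A] SymTen.TS A P d)
    (hy : (SymTen.TS A P d).val.toLinearMap.lTensor (MvPolynomial σ A) y =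
      (SymTen.tpowLaw A P d).law.toFun' (MvPolynomial σ A) x) :
    (Θ d φ).lTensor (MvPolynomial σ A) y =
      (tsLaw A Q d).law.toFun' (MvPolynomial σ A) (φ.lTensor (MvPolynomial σ A) x) := by
  apply inj_poly (SymTen.TS A Q d) σ
  rw [val_Θ, hy, tpowLaw_nat, tsLaw_val]

theorem Θ_comp {R : Type u} [CommRing R] [Algebra A R] (φ : P →ₗ[A] Q) (ψ : Q →ₗ[A] R)
    (y : SymTen.TS A P d) : Θ d ψ (Θ d φ y) = Θ d (ψ ∘ₗ φ) y :=
  Subtype.ext (tm_tm_apply d φ ψ y.1)

end single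

section free
variable {A : Type u} [CommRing A] {P : Type u} [CommRing P] [Algebra A P] {I : Type u}
  (e : Module.Basis I A P) (d : ℕ) {C' : Type u} [CommRing C'] [Algebra A C']

theorem mem_antidiag_typI (c : Fin d → I) [DecidableEq I] :
    typI c ∈ Finset.finsuppAntidiag (typI c).support d := by
  rw [Finset.mem_finsuppAntidiag]
  refine ⟨?_, subset_rfl⟩
  have h := degree_typI c
  rw [Finsupp.degree_apply] at h
  exact h

/-- two linear maps on `TS^d(P)` agreeing on the generic lifts agree -/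
theorem lin_unique [DecidableEq I] (h h' : SymTen.TS A P d →ₗ[A] C')
    (hh : ∀ J : Finset I, h.lTensor (MvPolynomial I A) (yJ e d (MvPolynomial I A) J X) =
      h'.lTensor (MvPolynomial I A) (yJ e d (MvPolynomial I A) J X)) : h = h' := by
  apply LinearMap.ext
  intro u
  have hu := mem_span_oT e d u
  induction hu using Submodule.span_induction with
  | mem u hu' =>
    obtain ⟨c, rfl⟩ := hu'
    have h1 := cv_yJ e d (typI c).support (typI c) (mem_antidiag_typI d c)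
    show h (oT e d (typI c)) = h' (oT e d (typI c))
    rw [← h1, ← coefv_lTensor, ← coefv_lTensor, hh]
  | zero => simp
  | add u u' _ _ h1 h2 => rw [map_add, map_add, h1, h2]
  | smul a u _ h1 => rw [map_smul, map_smul, h1]

end free

section law
variable {A : Type u} [CommRing A] {B : Type u} [CommRing B] [Algebra A B] (d : ℕ)
  {C' : Type u} [CommRing C'] [Algebra A C'] (F : PolLaw.MulLaw A B C' d)

theorem homog_precomp {P : Type u} [AddCommGroup P] [Module A P] (φ : P →ₗ[A] B) :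
    PolLaw.IsHomog (PolLaw.precomp F.law φ) d := by
  intro S _ _ s x
  show F.law.toFun' S (φ.lTensor S (s • x)) = s ^ d • F.law.toFun' S (φ.lTensor S x)
  rw [lT_smul]
  exact F.homog S s _

section one
variable {P : Type u} [CommRing P] [Algebra A P] {I : Type u} (e : Module.Basis I A P)

/-- the linear map on `TS^d(P)` attached to `F` and `φ : P → B` -/
noncomputable def gφ (φ : P →ₗ[A] B) : SymTen.TS A P d →ₗ[A] C' :=
  fLin e d (PolLaw.precomp F.law φ)

theorem gφ_of_val (φ : P →ₗ[A] B) (S : Type u) [CommSemiring S] [Algebra A S]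
    (x : S ⊗[A] P) (y : S ⊗[A] SymTen.TS A P d)
    (hy : (SymTen.TS A P d).val.toLinearMap.lTensor S y =
      (SymTen.tpowLaw A P d).law.toFun' S x) :
    (gφ d F e φ).lTensor S y = F.law.toFun' S (φ.lTensor S x) :=
  fLin_of_val e d _ (homog_precomp d F φ) S x y hy

theorem gφ_compat {P' : Type u} [CommRing P'] [Algebra A P'] {I' : Type u}
    (e' : Module.Basis I' A P') (t : P →ₗ[A] P') (φ' : P' →ₗ[A] B) :
    gφ d F e' φ' ∘ₗ Θ d t = gφ d F e (φ' ∘ₗ t) := by
  classical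
  apply lin_unique e d
  intro J
  have hv := val_yJ e d (MvPolynomial I A) J X
  have e1 := gφ_of_val d F e (φ' ∘ₗ t) _ _ _ hv
  have e2 := Θ_key d t _ _ _ hv
  have e3 := gφ_of_val d F e' φ' _ _ _ (tsLaw_val A P' d (MvPolynomial I A)
    (t.lTensor _ (∑ j ∈ J, X j ⊗ₜ[A] e j)))
  rw [e1, LinearMap.lTensor_comp, LinearMap.comp_apply, e2, e3, LinearMap.lTensor_comp,
    LinearMap.comp_apply]

end one

section sys
variable {ι : Type u} [Preorder ι] [IsDirected ι (fun i j => i ≤ j)] [Nonempty ι]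
  {P : ι → Type u} [∀ i, CommRing (P i)] [∀ i, Algebra A (P i)] {I : ι → Type u}
  (e : ∀ i, Module.Basis (I i) A (P i)) (𝒮 : MSys A B ι P)

theorem exists_Θ_eq (u : SymTen.TS A B d) :
    ∃ (i : ι) (y : SymTen.TS A (P i) d), Θ d (𝒮.φ i) y = u := by
  obtain ⟨i, y, hy, hinv⟩ := exists_lift_invariant_family 𝒮 d
    (fun _ : Unit => (u : ⨂[A] _ : Fin d, B)) (fun _ σ => u.2 σ)
  exact ⟨i, ⟨y (), fun σ => hinv () σ⟩, Subtype.ext (hy ())⟩

theorem Θ_trans (i j : ι) (h : i ≤ j) (y : SymTen.TS A (P i) d) :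
    Θ d (𝒮.φ j) (Θ d (𝒮.t i j h) y) = Θ d (𝒮.φ i) y := by
  rw [Θ_comp, 𝒮.hcomp]

theorem gφ_trans (i j : ι) (h : i ≤ j) (y : SymTen.TS A (P i) d) :
    gφ d F (e j) (𝒮.φ j) (Θ d (𝒮.t i j h) y) = gφ d F (e i) (𝒮.φ i) y := by
  have h1 := gφ_compat d F (e i) (e j) (𝒮.t i j h) (𝒮.φ j)
  rw [𝒮.hcomp] at h1
  exact LinearMap.congr_fun h1 y

theorem wd (i i' : ι) (y : SymTen.TS A (P i) d)
    (y' : SymTen.TS A (P i') d) (h : Θ d (𝒮.φ i) y = Θ d (𝒮.φ i') y') :
    gφ d F (e i) (𝒮.φ i) y = gφ d F (e i') (𝒮.φ i') y' := by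
  obtain ⟨k, hik, hi'k⟩ := exists_ge_ge i i'
  have hz : tm d (𝒮.φ k) (tm d (𝒮.t i k hik) y.1 - tm d (𝒮.t i' k hi'k) y'.1) = 0 := by
    rw [map_sub, tm_tm_apply, tm_tm_apply, 𝒮.hcomp, 𝒮.hcomp, sub_eq_zero]
    exact congrArg Subtype.val h
  obtain ⟨l, hkl, hl⟩ := tm_zero_exact 𝒮 d k _ hz
  rw [map_sub, tm_tm_apply, tm_tm_apply, 𝒮.htrans, 𝒮.htrans, sub_eq_zero] at hl
  have h1 : Θ d (𝒮.t i l (hik.trans hkl)) y = Θ d (𝒮.t i' l (hi'k.trans hkl)) y' :=
    Subtype.ext hl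
  rw [← gφ_trans d F e 𝒮 i l (hik.trans hkl) y, h1, gφ_trans]

theorem exists_f : ∃ f : SymTen.TS A B d →ₗ[A] C',
    ∀ (i : ι) (y : SymTen.TS A (P i) d), f (Θ d (𝒮.φ i) y) = gφ d F (e i) (𝒮.φ i) y := by
  choose J Y hY using exists_Θ_eq d 𝒮
  have hf0 : ∀ (i : ι) (y : SymTen.TS A (P i) d),
      gφ d F (e (J (Θ d (𝒮.φ i) y))) (𝒮.φ (J (Θ d (𝒮.φ i) y))) (Y (Θ d (𝒮.φ i) y)) =
        gφ d F (e i) (𝒮.φ i) y :=
    fun i y => wd d F e 𝒮 _ _ _ _ (hY _)
  refine ⟨{ toFun := fun u => gφ d F (e (J u)) (𝒮.φ (J u)) (Y u)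
            map_add' := ?_
            map_smul' := ?_ }, hf0⟩
  · intro u u'
    obtain ⟨k, hk, hk'⟩ := exists_ge_ge (J u) (J u')
    have e0 : u + u' = Θ d (𝒮.φ k)
        (Θ d (𝒮.t (J u) k hk) (Y u) + Θ d (𝒮.t (J u') k hk') (Y u')) := by
      rw [map_add, Θ_trans, Θ_trans, hY, hY]
    rw [e0, hf0, map_add, gφ_trans, gφ_trans]
  · intro a u
    have e0 : a • u = Θ d (𝒮.φ (J u)) (a • Y u) := by rw [map_smul, hY]
    rw [e0, hf0, map_smul, RingHom.id_apply]

include e 𝒮 in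
theorem exists_lin_of_sys : ∃ f : SymTen.TS A B d →ₗ[A] C',
    ∀ (S : Type u) [CommSemiring S] [Algebra A S] (x : S ⊗[A] B),
      f.lTensor S ((tsLaw A B d).law.toFun' S x) = F.law.toFun' S x := by
  obtain ⟨f, hf⟩ := exists_f d F e 𝒮
  refine ⟨f, ?_⟩
  have hfΘ : ∀ i, f ∘ₗ Θ d (𝒮.φ i) = gφ d F (e i) (𝒮.φ i) := fun i => LinearMap.ext (hf i)
  have hpoly : ∀ (σ : Type u) (x : MvPolynomial σ A ⊗[A] B),
      f.lTensor (MvPolynomial σ A) ((tsLaw A B d).law.toFun' (MvPolynomial σ A) x) =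
        F.law.toFun' (MvPolynomial σ A) x := by
    intro σ x
    obtain ⟨n, s, b, rfl⟩ := exists_repr_fin (MvPolynomial σ A) x
    obtain ⟨i, p, hp⟩ := exists_lift_family 𝒮 b
    have hx : (𝒮.φ i).lTensor (MvPolynomial σ A) (∑ j, s j ⊗ₜ[A] p j) = ∑ j, s j ⊗ₜ[A] b j := by
      rw [map_sum]
      refine Finset.sum_congr rfl fun j _ => ?_
      rw [LinearMap.lTensor_tmul, hp]
    obtain ⟨y, hy⟩ := Groth.Agent.Lib.helper6.TSUniv.exists_val (e i) d
      (MvPolynomial σ A) (∑ j, s j ⊗ₜ[A] p j)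
    rw [← hx, ← Θ_key d (𝒮.φ i) σ _ y hy, ← LinearMap.comp_apply, ← LinearMap.lTensor_comp, hfΘ,
      gφ_of_val d F (e i) (𝒮.φ i) _ _ y hy]
  intro S _ _ x
  obtain ⟨x', rfl⟩ := Groth.Agent.Lib.helper6.GammaGen.exists_lift (A := A) (B := B) S x
  have h1 := PolynomialLaw.isCompat_apply' (f := (tsLaw A B d).law) (evS (A := A) S) x'
  have h2 := PolynomialLaw.isCompat_apply' (f := F.law) (evS (A := A) S) x'
  rw [← h1, ← h2, lT_rT, hpoly]

include e 𝒮 in
theorem span_coefSet_of_sys : Submodule.span A (coefSet (tsLaw A B d)) = ⊤ := by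
  classical
  rw [eq_top_iff]
  rintro u -
  obtain ⟨i, y, rfl⟩ := exists_Θ_eq d 𝒮 u
  have hy := mem_span_oT (e i) d y
  induction hy using Submodule.span_induction with
  | mem y hy' =>
    obtain ⟨c, rfl⟩ := hy'
    apply Submodule.subset_span
    have h1 := cv_yJ (e i) d (typI c).support (typI c) (mem_antidiag_typI d c)
    have hv := val_yJ (e i) d (MvPolynomial (I i) A) (typI c).support X
    refine ⟨MvPolynomial (I i) A, inferInstance, inferInstance,
      MvPolynomial.lcoeff A (typI c), (𝒮.φ i).lTensor _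
        (∑ j ∈ (typI c).support, X j ⊗ₜ[A] e i j), ?_⟩
    show Θ d (𝒮.φ i) (oT (e i) d (typI c)) = _
    rw [← Θ_key d (𝒮.φ i) _ _ _ hv, coefv_lTensor, h1]
  | zero => rw [map_zero]; exact zero_mem _
  | add y y' _ _ h1 h2 => rw [map_add]; exact add_mem h1 h2
  | smul a y _ h1 => rw [map_smul]; exact Submodule.smul_mem _ a h1

include e 𝒮 in
theorem isGammaD_of_sys : PolLaw.IsGammaD (tsLaw A B d) :=
  isGammaD_of_span_of_lin _ (span_coefSet_of_sys d e 𝒮)
    (fun C' _ _ F => exists_lin_of_sys d F e 𝒮)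

end sys

end law

end Groth.Agent.Lib.helper6.TSFlat
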