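import Mathlib
import Groth.Agent.Lib.Helper6.TSFlat

/-!
# `TS^d_A(B)` is the divided power algebra of a flat algebra: final statement (helper6)
-/

set_option autoImplicit false
set_option linter.unusedSectionVars false
set_option linter.unusedVariables false

universe u

open scoped TensorProduct

namespace Groth.Agent.Lib.helper6.TSFlat

open Groth.Agent.Lib.helper6.GammaUniv Groth.Agent.Lib.helper6.Lazard

theorem isGammaD_tsLaw_of_flat (A : Type u) [CommRing A] (B : Type u) [CommRing B] [Algebra A B]
    [Module.Flat A B] (d : ℕ) : PolLaw.IsGammaD (tsLaw A B d) := by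
  obtain ⟨ι, _, _, _, nn, ⟨𝒮⟩⟩ := exists_msys A B
  exact isGammaD_of_sys (P := fun i => Fin (nn i) → A) (I := fun i => ULift.{u} (Fin (nn i))) d
    (fun i => (Pi.basisFun A (Fin (nn i))).reindex Equiv.ulift.symm) 𝒮

end Groth.Agent.Lib.helper6.TSFlat
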