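import Mathlib
import Groth.Prelude.Def_PolLaw
import Groth.Prelude.Def_PolLaw2
import Groth.Prelude.Def_SymTen
import Groth.Agent.Lib.Helper6.GammaUniv
import Groth.Agent.Lib.Helper6.NormLawA
import Groth.Agent.Lib.Helper6.TSFlat2

/-!
# Field-valued points of symmetric tensors (helper6)

Part A: base change of an `A`-law `B → K` (with `K` an `A`-algebra) to a `K`-law `K ⊗[A] B → K`.
Part B: the comparison map `⨂[A]^d B → ⨂[K]^d (K ⊗[A] B)` and the induced map on symmetric tensors.
-/

set_option autoImplicit false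
set_option linter.style.haveILetI false
universe u
open scoped TensorProduct

namespace Groth.Agent.Lib.helper6.FieldPts

open Groth.Agent.Lib.helper6.GammaUniv Groth.Agent.Lib.helper6.GammaPol
open Groth.Agent.Lib.helper6.NormLaw

section gk

variable {A : Type u} [CommRing A] (K : Type u) [CommRing K] [Algebra A K]
  {B : Type u} [CommRing B] [Algebra A B]

/-- multiplication map `S ⊗[A] K → S`. -/
noncomputable def mu (S : Type u) [CommSemiring S] [Algebra A S] [Algebra K S]
    [IsScalarTower A K S] : S ⊗[A] K →ₐ[A] S :=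
  Algebra.TensorProduct.productMap (AlgHom.id A S) (IsScalarTower.toAlgHom A K S)

theorem mu_tmul (S : Type u) [CommSemiring S] [Algebra A S] [Algebra K S]
    [IsScalarTower A K S] (s : S) (k : K) : mu K S (s ⊗ₜ[A] k) = s * algebraMap K S k := by
  unfold mu
  rw [Algebra.TensorProduct.productMap_apply_tmul]
  rfl

theorem mu_smul (S : Type u) [CommSemiring S] [Algebra A S] [Algebra K S]
    [IsScalarTower A K S] (t : S) (w : S ⊗[A] K) : mu K S (t • w) = t * mu K S w := by
  induction w using TensorProduct.induction_on with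
  | zero => simp
  | tmul s k => rw [TensorProduct.smul_tmul', mu_tmul, mu_tmul, smul_eq_mul, mul_assoc]
  | add w w' h h' => rw [smul_add, map_add, map_add, h, h', mul_add]

/-- the member over `S` of the base-changed law. -/
noncomputable def gk (G : B →ₚₗ[A] K) (S : Type u) [CommSemiring S] [Algebra A S] [Algebra K S]
    [IsScalarTower A K S] (x : S ⊗[K] (K ⊗[A] B)) : S ⊗[K] K :=
  (mu K S (G.toFun' S (Algebra.TensorProduct.cancelBaseChange A K S S B x))) ⊗ₜ[K] (1 : K)

theorem gk_compat (G : B →ₚₗ[A] K) {S S' : Type u} [CommSemiring S] [Algebra A S] [Algebra K S]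
    [IsScalarTower A K S] [CommSemiring S'] [Algebra A S'] [Algebra K S'] [IsScalarTower A K S']
    (ψ : S →ₐ[K] S') (x : S ⊗[K] (K ⊗[A] B)) :
    ψ.toLinearMap.rTensor K (gk K G S x) = gk K G S' (ψ.toLinearMap.rTensor (K ⊗[A] B) x) := by
  have h1 : Algebra.TensorProduct.cancelBaseChange A K S' S' B
      (ψ.toLinearMap.rTensor (K ⊗[A] B) x) =
      (ψ.restrictScalars A).toLinearMap.rTensor B
        (Algebra.TensorProduct.cancelBaseChange A K S S B x) := by
    induction x using TensorProduct.induction_on with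
    | zero => simp
    | tmul s z =>
      induction z using TensorProduct.induction_on with
      | zero => simp
      | tmul k b =>
        rw [LinearMap.rTensor_tmul, Algebra.TensorProduct.cancelBaseChange_tmul,
          Algebra.TensorProduct.cancelBaseChange_tmul, LinearMap.rTensor_tmul]
        show (k • ψ s) ⊗ₜ[A] b = (ψ (k • s)) ⊗ₜ[A] b
        rw [map_smul]
      | add z z' h h' => simp only [TensorProduct.tmul_add, map_add, h, h']
    | add x x' h h' => simp only [map_add, h, h']
  have h2 : ∀ w : S ⊗[A] K,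
      mu K S' ((ψ.restrictScalars A).toLinearMap.rTensor K w) = ψ (mu K S w) := by
    intro w
    induction w using TensorProduct.induction_on with
    | zero => simp
    | tmul s k =>
      rw [LinearMap.rTensor_tmul, mu_tmul, mu_tmul, map_mul, AlgHom.commutes]
      rfl
    | add w w' h h' => simp only [map_add, h, h']
  unfold gk
  rw [LinearMap.rTensor_tmul, h1,
    ← PolynomialLaw.isCompat_apply' (f := G) (ψ.restrictScalars A), h2]
  rfl

theorem gk_one {d : ℕ} (G : PolLaw.MulLaw A B K d) (S : Type u) [CommSemiring S] [Algebra A S]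
    [Algebra K S] [IsScalarTower A K S] : gk K G.law S 1 = 1 := by
  unfold gk
  rw [map_one, (G.mult S).1, map_one]
  rfl

theorem gk_mul {d : ℕ} (G : PolLaw.MulLaw A B K d) (S : Type u) [CommSemiring S] [Algebra A S]
    [Algebra K S] [IsScalarTower A K S] (x y : S ⊗[K] (K ⊗[A] B)) :
    gk K G.law S (x * y) = gk K G.law S x * gk K G.law S y := by
  unfold gk
  rw [map_mul, (G.mult S).2, map_mul, Algebra.TensorProduct.tmul_mul_tmul, mul_one]

theorem gk_homog {d : ℕ} (G : PolLaw.MulLaw A B K d) (S : Type u) [CommSemiring S] [Algebra A S]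
    [Algebra K S] [IsScalarTower A K S] (s : S) (x : S ⊗[K] (K ⊗[A] B)) :
    gk K G.law S (s • x) = s ^ d • gk K G.law S x := by
  unfold gk
  rw [map_smul, G.homog S s, mu_smul, TensorProduct.smul_tmul', smul_eq_mul]

/-- the base change of an `A`-law `B → K` to a `K`-law `K ⊗[A] B → K`. -/
noncomputable def lawK (G : B →ₚₗ[A] K) : (K ⊗[A] B) →ₚₗ[K] K where
  toFun' S _ _ :=
    letI : Algebra A S := Algebra.compHom S (algebraMap A K)
    haveI : IsScalarTower A K S := IsScalarTower.of_algebraMap_eq (fun _ => rfl)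
    gk K G S
  isCompat' {S} _ _ {S'} _ _ ψ := by
    letI : Algebra A S := Algebra.compHom S (algebraMap A K)
    haveI : IsScalarTower A K S := IsScalarTower.of_algebraMap_eq (fun _ => rfl)
    letI : Algebra A S' := Algebra.compHom S' (algebraMap A K)
    haveI : IsScalarTower A K S' := IsScalarTower.of_algebraMap_eq (fun _ => rfl)
    funext x
    exact gk_compat K G ψ x

theorem lawK_apply (G : B →ₚₗ[A] K) (S : Type u) [CommSemiring S] [instA : Algebra A S]
    [Algebra K S] [IsScalarTower A K S] (x : S ⊗[K] (K ⊗[A] B)) :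
    (lawK K G).toFun' S x = gk K G S x := by
  have h : instA = Algebra.compHom S (algebraMap A K) :=
    Algebra.algebra_ext _ _ (fun a => IsScalarTower.algebraMap_apply A K S a)
  subst h
  rfl

/-- the base change of a multiplicative law. -/
noncomputable def mulLawK {d : ℕ} (G : PolLaw.MulLaw A B K d) :
    PolLaw.MulLaw K (K ⊗[A] B) K d where
  law := lawK K G.law
  homog S _ _ s x := by
    letI : Algebra A S := Algebra.compHom S (algebraMap A K)
    haveI : IsScalarTower A K S := IsScalarTower.of_algebraMap_eq (fun _ => rfl)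
    exact gk_homog K G S s x
  mult S _ _ := by
    letI : Algebra A S := Algebra.compHom S (algebraMap A K)
    haveI : IsScalarTower A K S := IsScalarTower.of_algebraMap_eq (fun _ => rfl)
    exact ⟨gk_one K G S, gk_mul K G S⟩

end gk

section jmap

variable {A : Type u} [CommRing A] (K : Type u) [CommRing K] [Algebra A K]
  (B : Type u) [CommRing B] [Algebra A B] (d : ℕ)

/-- the comparison map `⨂[A]^d B → ⨂[K]^d (K ⊗[A] B)`. -/
noncomputable def jm : (⨂[A] _ : Fin d, B) →ₐ[A] (⨂[K] _ : Fin d, K ⊗[A] B) :=
  PiTensorProduct.liftAlgHom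
    (((PiTensorProduct.tprod K (s := fun _ : Fin d => K ⊗[A] B)).restrictScalars A).compLinearMap
      (fun _ => (Algebra.TensorProduct.includeRight : B →ₐ[A] K ⊗[A] B).toLinearMap))
    (by
      show PiTensorProduct.tprod K (fun i : Fin d =>
        (Algebra.TensorProduct.includeRight : B →ₐ[A] K ⊗[A] B) ((1 : Fin d → B) i)) = 1
      rw [PiTensorProduct.one_def]
      congr 1)
    (by
      intro x y
      show PiTensorProduct.tprod K (fun i : Fin d =>
        (Algebra.TensorProduct.includeRight : B →ₐ[A] K ⊗[A] B) ((x * y) i)) =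
        PiTensorProduct.tprod K (fun i : Fin d =>
          (Algebra.TensorProduct.includeRight : B →ₐ[A] K ⊗[A] B) (x i)) *
        PiTensorProduct.tprod K (fun i : Fin d =>
          (Algebra.TensorProduct.includeRight : B →ₐ[A] K ⊗[A] B) (y i))
      rw [PiTensorProduct.tprod_mul_tprod]
      congr 1
      funext i
      exact map_mul _ _ _)

theorem jm_tprod (b : Fin d → B) :
    jm K B d (PiTensorProduct.tprod A b) =
      PiTensorProduct.tprod K (fun i => (1 : K) ⊗ₜ[A] b i) := by
  unfold jm
  rw [PiTensorProduct.liftAlgHom_apply, PiTensorProduct.lift.tprod]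
  rfl

theorem jm_reindex (σ : Equiv.Perm (Fin d)) (z : ⨂[A] _ : Fin d, B) :
    PiTensorProduct.reindex K (fun _ : Fin d => K ⊗[A] B) σ (jm K B d z) =
      jm K B d (PiTensorProduct.reindex A (fun _ : Fin d => B) σ z) := by
  induction z using PiTensorProduct.induction_on with
  | smul_tprod r b =>
    have e1 : jm K B d (r • PiTensorProduct.tprod A b) =
        algebraMap A K r • PiTensorProduct.tprod K (fun i => (1 : K) ⊗ₜ[A] b i) := by
      rw [map_smul, jm_tprod, algebraMap_smul]
    have e2 : PiTensorProduct.reindex A (fun _ : Fin d => B) σ (r • PiTensorProduct.tprod A b) =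
        r • PiTensorProduct.tprod A (fun i => b (σ.symm i)) := by
      rw [map_smul, PiTensorProduct.reindex_tprod]
    have l : PiTensorProduct.reindex K (fun _ : Fin d => K ⊗[A] B) σ
        (jm K B d (r • PiTensorProduct.tprod A b)) =
        algebraMap A K r • PiTensorProduct.tprod K (fun i => (1 : K) ⊗ₜ[A] b (σ.symm i)) := by
      rw [e1, map_smul, PiTensorProduct.reindex_tprod]
    have rr : jm K B d (PiTensorProduct.reindex A (fun _ : Fin d => B) σ
        (r • PiTensorProduct.tprod A b)) =
        algebraMap A K r • PiTensorProduct.tprod K (fun i => (1 : K) ⊗ₜ[A] b (σ.symm i)) := by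
      rw [e2, map_smul, jm_tprod, algebraMap_smul]
    rw [l, rr]
  | add x y hx hy => rw [map_add, map_add, map_add, map_add, hx, hy]

theorem mem_TS_jm (t : SymTen.TS A B d) : jm K B d t.1 ∈ SymTen.TS K (K ⊗[A] B) d := by
  intro σ
  rw [jm_reindex, t.2 σ]

/-- the induced map on symmetric tensors (as a function). -/
noncomputable def iotaFun (t : SymTen.TS A B d) : SymTen.TS K (K ⊗[A] B) d :=
  ⟨jm K B d t.1, mem_TS_jm K B d t⟩

theorem iotaFun_one : iotaFun K B d (1 : SymTen.TS A B d) = 1 := Subtype.ext (map_one (jm K B d))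

theorem iotaFun_zero : iotaFun K B d (0 : SymTen.TS A B d) = 0 := Subtype.ext (map_zero (jm K B d))

theorem iotaFun_mul (s t : SymTen.TS A B d) :
    iotaFun K B d (s * t) = iotaFun K B d s * iotaFun K B d t :=
  Subtype.ext (map_mul (jm K B d) s.1 t.1)

theorem iotaFun_add (s t : SymTen.TS A B d) :
    iotaFun K B d (s + t) = iotaFun K B d s + iotaFun K B d t :=
  Subtype.ext (map_add (jm K B d) s.1 t.1)

theorem iotaFun_algebraMap (a : A) :
    iotaFun K B d (algebraMap A (SymTen.TS A B d) a) =
      algebraMap K (SymTen.TS K (K ⊗[A] B) d) (algebraMap A K a) := by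
  apply Subtype.ext
  show jm K B d (algebraMap A (⨂[A] _ : Fin d, B) a) =
    algebraMap K (⨂[K] _ : Fin d, K ⊗[A] B) (algebraMap A K a)
  rw [AlgHom.commutes, ← IsScalarTower.algebraMap_apply]

/-- a `K`-point of `TS^d_K(K ⊗ B)` gives an `A`-algebra map `TS^d_A(B) → K`. -/
noncomputable def chi0 (χ : SymTen.TS K (K ⊗[A] B) d →ₐ[K] K) : SymTen.TS A B d →ₐ[A] K where
  toFun t := χ (iotaFun K B d t)
  map_one' := by rw [iotaFun_one, map_one]
  map_mul' s t := by rw [iotaFun_mul, map_mul]
  map_zero' := by rw [iotaFun_zero, map_zero]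
  map_add' s t := by rw [iotaFun_add, map_add]
  commutes' a := by rw [iotaFun_algebraMap, AlgHom.commutes]; rfl

theorem chi0_apply (χ : SymTen.TS K (K ⊗[A] B) d →ₐ[K] K) (t : SymTen.TS A B d) :
    chi0 K B d χ t = χ (iotaFun K B d t) := rfl

end jmap

end Groth.Agent.Lib.helper6.FieldPts
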