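import Mathlib
import Groth.Agent.Lib.Helper6.FieldPtsA

/-!
# Field-valued points of symmetric tensors, part 2 (helper6)

For a field `K` that is an `A`-algebra, every multiplicative `A`-law `B → K` homogeneous of degree
`d` is induced by an `A`-algebra map `TS^d_A(B) → K` (`exists_lift_field`).
-/

set_option autoImplicit false
set_option linter.style.haveILetI false
universe u
open scoped TensorProduct

namespace Groth.Agent.Lib.helper6.FieldPts

open Groth.Agent.Lib.helper6.GammaUniv Groth.Agent.Lib.helper6.GammaPol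
open Groth.Agent.Lib.helper6.NormLaw

section key

variable {A : Type u} [CommRing A] (K : Type u) [Field K] [Algebra A K]
  (B : Type u) [CommRing B] [Algebra A B] (d : ℕ)

/-- `iotaFun` as an `A`-linear map. -/
noncomputable def iotaLin : SymTen.TS A B d →ₗ[A] SymTen.TS K (K ⊗[A] B) d where
  toFun := iotaFun K B d
  map_add' := iotaFun_add K B d
  map_smul' a t := Subtype.ext (by
    show jm K B d (a • t.1) = a • jm K B d t.1
    exact map_smul _ _ _)

theorem iotaLin_apply (t : SymTen.TS A B d) : iotaLin K B d t = iotaFun K B d t := rfl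

theorem key3 (S : Type u) [CommRing S] [Algebra A S] [Algebra K S] [IsScalarTower A K S]
    (n : ℕ) (s : Fin n → S) (b : Fin n → B) :
    TensorProduct.mapOfCompatibleSMul K A A S (⨂[K] _ : Fin d, K ⊗[A] B)
      ((jm (A := A) K B d).toLinearMap.lTensor S
        ((SymTen.tpowLaw A B d).law.toFun' S (∑ j, s j ⊗ₜ[A] b j))) =
    (SymTen.tpowLaw K (K ⊗[A] B) d).law.toFun' S (∑ j, s j ⊗ₜ[K] ((1 : K) ⊗ₜ[A] b j)) := by
  rw [tpowLaw_sum, tpowLaw_sum]
  simp only [map_sum, LinearMap.lTensor_tmul, AlgHom.toLinearMap_apply, jm_tprod,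
    TensorProduct.mapOfCompatibleSMul_tmul]

theorem key2 (S : Type u) [CommRing S] [Algebra A S] [Algebra K S] [IsScalarTower A K S]
    (y : S ⊗[A] B) :
    TensorProduct.mapOfCompatibleSMul K A A S (SymTen.TS K (K ⊗[A] B) d)
      ((iotaLin K B d).lTensor S ((tsLaw A B d).law.toFun' S y)) =
    (tsLaw K (K ⊗[A] B) d).law.toFun' S
      ((Algebra.TensorProduct.cancelBaseChange A K S S B).symm y) := by
  have hinj : Function.Injective ((SymTen.TS K (K ⊗[A] B) d).val.toLinearMap.lTensor S) :=
    Module.Flat.lTensor_preserves_injective_linearMap _ Subtype.val_injective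
  apply hinj
  have nat : ∀ w : S ⊗[A] SymTen.TS A B d,
      (SymTen.TS K (K ⊗[A] B) d).val.toLinearMap.lTensor S
        (TensorProduct.mapOfCompatibleSMul K A A S (SymTen.TS K (K ⊗[A] B) d)
          ((iotaLin K B d).lTensor S w)) =
      TensorProduct.mapOfCompatibleSMul K A A S (⨂[K] _ : Fin d, K ⊗[A] B)
        ((jm (A := A) K B d).toLinearMap.lTensor S ((SymTen.TS A B d).val.toLinearMap.lTensor S w)) := by
    intro w
    induction w using TensorProduct.induction_on with
    | zero => simp
    | tmul s t => rfl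
    | add w w' h h' => simp only [map_add, h, h']
  rw [nat, tsLaw_val, tsLaw_val]
  obtain ⟨n, s, b, rfl⟩ := exists_repr_fin S y
  rw [key3]
  congr 1
  simp only [map_sum, Algebra.TensorProduct.cancelBaseChange_symm_tmul]

theorem key1 (χ : SymTen.TS K (K ⊗[A] B) d →ₐ[K] K) (S : Type u) [CommRing S] [Algebra A S]
    [Algebra K S] [IsScalarTower A K S] (y : S ⊗[A] B) :
    mu K S ((chi0 K B d χ).toLinearMap.lTensor S ((tsLaw A B d).law.toFun' S y)) =
    TensorProduct.rid K S (χ.toLinearMap.lTensor S ((tsLaw K (K ⊗[A] B) d).law.toFun' S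
      ((Algebra.TensorProduct.cancelBaseChange A K S S B).symm y))) := by
  rw [← key2]
  generalize (tsLaw A B d).law.toFun' S y = w
  induction w using TensorProduct.induction_on with
  | zero => simp
  | tmul s t =>
    rw [LinearMap.lTensor_tmul, LinearMap.lTensor_tmul, TensorProduct.mapOfCompatibleSMul_tmul,
      LinearMap.lTensor_tmul, TensorProduct.rid_tmul, mu_tmul]
    show s * algebraMap K S (χ (iotaFun K B d t)) = χ (iotaFun K B d t) • s
    rw [Algebra.smul_def, mul_comm]
  | add w w' h h' => simp only [map_add, h, h']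

theorem retract (H : B →ₚₗ[A] K) (R : Type u) [CommSemiring R] [Algebra A R] (y : R ⊗[A] B) :
    H.toFun' R y = TensorProduct.comm A K R (mu K (K ⊗[A] R) (H.toFun' (K ⊗[A] R)
      ((Algebra.TensorProduct.includeRight : R →ₐ[A] K ⊗[A] R).toLinearMap.rTensor B y))) := by
  rw [← PolynomialLaw.isCompat_apply' (f := H)]
  generalize H.toFun' R y = w
  induction w using TensorProduct.induction_on with
  | zero => simp
  | tmul r k =>
    rw [LinearMap.rTensor_tmul, mu_tmul]
    show r ⊗ₜ[A] k = TensorProduct.comm A K R (((1 : K) ⊗ₜ[A] r) * algebraMap K (K ⊗[A] R) k)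
    rw [Algebra.TensorProduct.algebraMap_apply, Algebra.TensorProduct.tmul_mul_tmul, one_mul,
      mul_one]
    rfl
  | add w w' h h' =>
    conv_rhs => rw [map_add, map_add, map_add, ← h, ← h']

theorem exists_lift_field (G : PolLaw.MulLaw A B K d) :
    ∃ χ₀ : SymTen.TS A B d →ₐ[A] K,
      PolLaw.postcomp χ₀.toLinearMap (tsLaw A B d).law = G.law := by
  obtain ⟨χ, hχ, -⟩ := Groth.Agent.Lib.helper6.TSFlat.isGammaD_tsLaw_of_flat K (K ⊗[A] B) d K
    (mulLawK K G)
  have hχ' : ∀ (S : Type u) [CommSemiring S] [Algebra K S] (x' : S ⊗[K] (K ⊗[A] B)),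
      χ.toLinearMap.lTensor S ((tsLaw K (K ⊗[A] B) d).law.toFun' S x') =
        (lawK K G.law).toFun' S x' := by
    intro S _ _ x'
    exact congrArg (fun L : (K ⊗[A] B) →ₚₗ[K] K => L.toFun' S x') hχ
  refine ⟨chi0 K B d χ, ?_⟩
  apply PolynomialLaw.ext
  funext S _ _ y
  refine law_ext_poly _ _ ?_ S y
  intro σ y
  rw [retract K B (PolLaw.postcomp (chi0 K B d χ).toLinearMap (tsLaw A B d).law),
    retract K B G.law]
  congr 1
  rw [postcomp_toFun', key1, hχ', lawK_apply]
  unfold gk
  rw [AlgEquiv.apply_symm_apply, TensorProduct.rid_tmul, one_smul]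

end key

end Groth.Agent.Lib.helper6.FieldPts
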