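import Mathlib
import Groth.Prelude.Def_PolLaw
import Groth.Prelude.Def_PolLaw2
import Groth.Agent.Lib.Helper6.NormLawA

/-!
# Base change of polynomial laws (helper6), part 1

`lawBC A' G : (A' ⊗[A] B) →ₚₗ[A'] (A' ⊗[A] C)` the base change of an `A`-law `G : B → C`, and
`mulLawBC A' γ` for multiplicative laws; `resLaw A' F' : B →ₚₗ[A] C'` the restriction of an
`A'`-law `F' : A' ⊗[A] B → C'` to an `A`-law, and `mulLawRes`.
-/

set_option autoImplicit false
set_option linter.style.haveILetI false
set_option linter.unusedVariables false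
universe u
open scoped TensorProduct

namespace Groth.Agent.Lib.helper6.GammaBC

section bc

variable {A : Type u} [CommRing A] (A' : Type u) [CommRing A'] [Algebra A A']

section nat
variable (M : Type u) [CommRing M] [Algebra A M]
  {S S' : Type u} [CommSemiring S] [Algebra A S] [Algebra A' S] [IsScalarTower A A' S]
  [CommSemiring S'] [Algebra A S'] [Algebra A' S'] [IsScalarTower A A' S']

theorem cbc_nat (ψ : S →ₐ[A'] S') (x : S ⊗[A'] (A' ⊗[A] M)) :
    Algebra.TensorProduct.cancelBaseChange A A' S' S' M (ψ.toLinearMap.rTensor (A' ⊗[A] M) x) =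
      (ψ.restrictScalars A).toLinearMap.rTensor M
        (Algebra.TensorProduct.cancelBaseChange A A' S S M x) := by
  induction x using TensorProduct.induction_on with
  | zero => simp
  | tmul s z =>
    induction z using TensorProduct.induction_on with
    | zero => simp
    | tmul k b =>
      rw [LinearMap.rTensor_tmul, Algebra.TensorProduct.cancelBaseChange_tmul,
        Algebra.TensorProduct.cancelBaseChange_tmul, LinearMap.rTensor_tmul]
      show (k • ψ s) ⊗ₜ[A] b = (ψ (k • s)) ⊗ₜ[A] b
      rw [map_smul]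
    | add z z' h h' => simp only [TensorProduct.tmul_add, map_add, h, h']
  | add x x' h h' => simp only [map_add, h, h']

theorem cbc_symm_nat (ψ : S →ₐ[A'] S') (u : S ⊗[A] M) :
    ψ.toLinearMap.rTensor (A' ⊗[A] M)
        ((Algebra.TensorProduct.cancelBaseChange A A' S S M).symm u) =
      (Algebra.TensorProduct.cancelBaseChange A A' S' S' M).symm
        ((ψ.restrictScalars A).toLinearMap.rTensor M u) := by
  rw [AlgEquiv.eq_symm_apply, cbc_nat, AlgEquiv.apply_symm_apply]

end nat

variable {B : Type u} [CommRing B] [Algebra A B] {C : Type u} [CommRing C] [Algebra A C]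

/-- the member over `S` of the base-changed law. -/
noncomputable def gb (G : B →ₚₗ[A] C) (S : Type u) [CommSemiring S] [Algebra A S] [Algebra A' S]
    [IsScalarTower A A' S] (x : S ⊗[A'] (A' ⊗[A] B)) : S ⊗[A'] (A' ⊗[A] C) :=
  (Algebra.TensorProduct.cancelBaseChange A A' S S C).symm
    (G.toFun' S (Algebra.TensorProduct.cancelBaseChange A A' S S B x))

theorem gb_compat (G : B →ₚₗ[A] C) {S S' : Type u} [CommSemiring S] [Algebra A S] [Algebra A' S]
    [IsScalarTower A A' S] [CommSemiring S'] [Algebra A S'] [Algebra A' S']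
    [IsScalarTower A A' S'] (ψ : S →ₐ[A'] S') (x : S ⊗[A'] (A' ⊗[A] B)) :
    ψ.toLinearMap.rTensor (A' ⊗[A] C) (gb A' G S x) =
      gb A' G S' (ψ.toLinearMap.rTensor (A' ⊗[A] B) x) := by
  unfold gb
  rw [cbc_symm_nat, PolynomialLaw.isCompat_apply' (f := G), ← cbc_nat]

theorem gb_one {d : ℕ} (G : PolLaw.MulLaw A B C d) (S : Type u) [CommSemiring S] [Algebra A S]
    [Algebra A' S] [IsScalarTower A A' S] : gb A' G.law S 1 = 1 := by
  unfold gb
  rw [map_one, (G.mult S).1, map_one]

theorem gb_mul {d : ℕ} (G : PolLaw.MulLaw A B C d) (S : Type u) [CommSemiring S] [Algebra A S]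
    [Algebra A' S] [IsScalarTower A A' S] (x y : S ⊗[A'] (A' ⊗[A] B)) :
    gb A' G.law S (x * y) = gb A' G.law S x * gb A' G.law S y := by
  unfold gb
  rw [map_mul, (G.mult S).2, map_mul]

theorem gb_homog {d : ℕ} (G : PolLaw.MulLaw A B C d) (S : Type u) [CommSemiring S] [Algebra A S]
    [Algebra A' S] [IsScalarTower A A' S] (s : S) (x : S ⊗[A'] (A' ⊗[A] B)) :
    gb A' G.law S (s • x) = s ^ d • gb A' G.law S x := by
  unfold gb
  rw [map_smul, G.homog S s, map_smul]

/-- the base change of an `A`-law `B → C` to an `A'`-law `A' ⊗[A] B → A' ⊗[A] C`. -/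
noncomputable def lawBC (G : B →ₚₗ[A] C) : (A' ⊗[A] B) →ₚₗ[A'] (A' ⊗[A] C) where
  toFun' S _ _ :=
    letI : Algebra A S := Algebra.compHom S (algebraMap A A')
    haveI : IsScalarTower A A' S := IsScalarTower.of_algebraMap_eq (fun _ => rfl)
    gb A' G S
  isCompat' {S} _ _ {S'} _ _ ψ := by
    letI : Algebra A S := Algebra.compHom S (algebraMap A A')
    haveI : IsScalarTower A A' S := IsScalarTower.of_algebraMap_eq (fun _ => rfl)
    letI : Algebra A S' := Algebra.compHom S' (algebraMap A A')
    haveI : IsScalarTower A A' S' := IsScalarTower.of_algebraMap_eq (fun _ => rfl)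
    funext x
    exact gb_compat A' G ψ x

theorem lawBC_apply (G : B →ₚₗ[A] C) (S : Type u) [CommSemiring S] [instA : Algebra A S]
    [Algebra A' S] [IsScalarTower A A' S] (x : S ⊗[A'] (A' ⊗[A] B)) :
    (lawBC A' G).toFun' S x = gb A' G S x := by
  have h : instA = Algebra.compHom S (algebraMap A A') :=
    Algebra.algebra_ext _ _ (fun a => IsScalarTower.algebraMap_apply A A' S a)
  subst h
  rfl

/-- the base change of a multiplicative law. -/
noncomputable def mulLawBC {d : ℕ} (G : PolLaw.MulLaw A B C d) :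
    PolLaw.MulLaw A' (A' ⊗[A] B) (A' ⊗[A] C) d where
  law := lawBC A' G.law
  homog S _ _ s x := by
    letI : Algebra A S := Algebra.compHom S (algebraMap A A')
    haveI : IsScalarTower A A' S := IsScalarTower.of_algebraMap_eq (fun _ => rfl)
    exact gb_homog A' G S s x
  mult S _ _ := by
    letI : Algebra A S := Algebra.compHom S (algebraMap A A')
    haveI : IsScalarTower A A' S := IsScalarTower.of_algebraMap_eq (fun _ => rfl)
    exact ⟨gb_one A' G S, gb_mul A' G S⟩

end bc

section res

variable {A : Type u} [CommRing A] (A' : Type u) [CommRing A'] [Algebra A A']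
  {B : Type u} [CommRing B] [Algebra A B]
  {C' : Type u} [CommRing C'] [Algebra A C'] [Algebra A' C'] [IsScalarTower A A' C']

/-- `R ⊗[A] B → (A' ⊗ R) ⊗[A'] (A' ⊗ B)`, `r ⊗ b ↦ (1 ⊗ r) ⊗ (1 ⊗ b)` -/
noncomputable def up (R : Type u) [CommSemiring R] [Algebra A R] (y : R ⊗[A] B) :
    (A' ⊗[A] R) ⊗[A'] (A' ⊗[A] B) :=
  (Algebra.TensorProduct.cancelBaseChange A A' (A' ⊗[A] R) (A' ⊗[A] R) B).symm
    (Algebra.TensorProduct.map (Algebra.TensorProduct.includeRight : R →ₐ[A] A' ⊗[A] R)
      (AlgHom.id A B) y)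

theorem up_tmul (R : Type u) [CommSemiring R] [Algebra A R] (r : R) (b : B) :
    up A' R (r ⊗ₜ[A] b) = ((1 : A') ⊗ₜ[A] r) ⊗ₜ[A'] ((1 : A') ⊗ₜ[A] b) := by
  unfold up
  rw [Algebra.TensorProduct.map_tmul, Algebra.TensorProduct.cancelBaseChange_symm_tmul]
  rfl

theorem up_one (R : Type u) [CommSemiring R] [Algebra A R] : up A' R (1 : R ⊗[A] B) = 1 := by
  unfold up
  rw [map_one, map_one]

theorem up_mul (R : Type u) [CommSemiring R] [Algebra A R] (y y' : R ⊗[A] B) :
    up A' R (y * y') = up A' R y * up A' R y' := by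
  unfold up
  rw [map_mul, map_mul]

theorem up_add (R : Type u) [CommSemiring R] [Algebra A R] (y y' : R ⊗[A] B) :
    up A' R (y + y') = up A' R y + up A' R y' := by
  unfold up
  rw [map_add, map_add]

theorem up_zero (R : Type u) [CommSemiring R] [Algebra A R] : up A' R (0 : R ⊗[A] B) = 0 := by
  unfold up
  rw [map_zero, map_zero]

theorem up_smul (R : Type u) [CommSemiring R] [Algebra A R] (r : R) (y : R ⊗[A] B) :
    up A' R (r • y) = ((1 : A') ⊗ₜ[A] r) • up A' R y := by
  induction y using TensorProduct.induction_on with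
  | zero => rw [smul_zero, up_zero, smul_zero]
  | tmul r' b =>
    rw [TensorProduct.smul_tmul', up_tmul, up_tmul, TensorProduct.smul_tmul', smul_eq_mul,
      smul_eq_mul, Algebra.TensorProduct.tmul_mul_tmul, one_mul]
  | add y y' h h' => rw [smul_add, up_add, up_add, smul_add, h, h']

theorem cbc_up (R : Type u) [CommSemiring R] [Algebra A R] (y : R ⊗[A] B) :
    Algebra.TensorProduct.cancelBaseChange A A' (A' ⊗[A] R) (A' ⊗[A] R) B (up A' R y) =
      (Algebra.TensorProduct.includeRight : R →ₐ[A] A' ⊗[A] R).toLinearMap.rTensor B y := by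
  unfold up
  rw [AlgEquiv.apply_symm_apply, PolLaw.rTensor_algHom_apply]

/-- `(A' ⊗ R) ⊗[A'] C' → R ⊗[A] C'`, `(a' ⊗ r) ⊗ c' ↦ r ⊗ a' c'` -/
noncomputable def dn (R : Type u) [CommSemiring R] [Algebra A R] (z : (A' ⊗[A] R) ⊗[A'] C') :
    R ⊗[A] C' :=
  Algebra.TensorProduct.comm A C' R
    (Algebra.TensorProduct.cancelBaseChange A A' A' C' R
      (Algebra.TensorProduct.comm A' (A' ⊗[A] R) C' z))

theorem dn_tmul (R : Type u) [CommSemiring R] [Algebra A R] (a' : A') (r : R) (c' : C') :
    dn A' R ((a' ⊗ₜ[A] r) ⊗ₜ[A'] c') = r ⊗ₜ[A] (a' • c') := by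
  unfold dn
  rw [Algebra.TensorProduct.comm_tmul, Algebra.TensorProduct.cancelBaseChange_tmul,
    Algebra.TensorProduct.comm_tmul]

theorem dn_one (R : Type u) [CommSemiring R] [Algebra A R] :
    dn A' R (1 : (A' ⊗[A] R) ⊗[A'] C') = 1 := by
  unfold dn
  rw [map_one, map_one, map_one]

theorem dn_mul (R : Type u) [CommSemiring R] [Algebra A R] (z z' : (A' ⊗[A] R) ⊗[A'] C') :
    dn A' R (z * z') = dn A' R z * dn A' R z' := by
  unfold dn
  rw [map_mul, map_mul, map_mul]

theorem dn_add (R : Type u) [CommSemiring R] [Algebra A R] (z z' : (A' ⊗[A] R) ⊗[A'] C') :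
    dn A' R (z + z') = dn A' R z + dn A' R z' := by
  unfold dn
  rw [map_add, map_add, map_add]

theorem dn_zero (R : Type u) [CommSemiring R] [Algebra A R] :
    dn A' R (0 : (A' ⊗[A] R) ⊗[A'] C') = 0 := by
  unfold dn
  rw [map_zero, map_zero, map_zero]

theorem dn_smul (R : Type u) [CommSemiring R] [Algebra A R] (r : R) (z : (A' ⊗[A] R) ⊗[A'] C') :
    dn A' R (((1 : A') ⊗ₜ[A] r) • z) = r • dn A' R z := by
  induction z using TensorProduct.induction_on with
  | zero => rw [smul_zero, dn_zero, smul_zero]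
  | tmul s c' =>
    induction s using TensorProduct.induction_on with
    | zero => rw [TensorProduct.zero_tmul, smul_zero, dn_zero, smul_zero]
    | tmul a' r' =>
      rw [TensorProduct.smul_tmul', smul_eq_mul, Algebra.TensorProduct.tmul_mul_tmul, one_mul,
        dn_tmul, dn_tmul, TensorProduct.smul_tmul', smul_eq_mul]
    | add s s' h h' =>
      rw [TensorProduct.add_tmul, smul_add, dn_add, dn_add, smul_add, h, h']
  | add z z' h h' => rw [smul_add, dn_add, dn_add, smul_add, h, h']

section natR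
variable {R R' : Type u} [CommSemiring R] [Algebra A R] [CommSemiring R'] [Algebra A R']

theorem up_nat (θ : R →ₐ[A] R') (y : R ⊗[A] B) :
    up A' R' (θ.toLinearMap.rTensor B y) =
      (Algebra.TensorProduct.map (AlgHom.id A' A') θ).toLinearMap.rTensor (A' ⊗[A] B)
        (up A' R y) := by
  induction y using TensorProduct.induction_on with
  | zero => rw [map_zero, up_zero, up_zero, map_zero]
  | tmul r b =>
    rw [LinearMap.rTensor_tmul, up_tmul, up_tmul, LinearMap.rTensor_tmul]
    rfl
  | add y y' h h' => rw [map_add, up_add, up_add, map_add, h, h']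

theorem dn_nat (θ : R →ₐ[A] R') (z : (A' ⊗[A] R) ⊗[A'] C') :
    θ.toLinearMap.rTensor C' (dn A' R z) =
      dn A' R' ((Algebra.TensorProduct.map (AlgHom.id A' A') θ).toLinearMap.rTensor C' z) := by
  induction z using TensorProduct.induction_on with
  | zero => rw [dn_zero, map_zero, map_zero, dn_zero]
  | tmul s c' =>
    induction s using TensorProduct.induction_on with
    | zero => rw [TensorProduct.zero_tmul, dn_zero, map_zero, map_zero, dn_zero]
    | tmul a' r =>
      rw [dn_tmul, LinearMap.rTensor_tmul, LinearMap.rTensor_tmul]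
      show θ r ⊗ₜ[A] (a' • c') = dn A' R' ((a' ⊗ₜ[A] θ r) ⊗ₜ[A'] c')
      rw [dn_tmul]
    | add s s' h h' =>
      rw [TensorProduct.add_tmul, dn_add, map_add, map_add, dn_add, h, h']
  | add z z' h h' => rw [dn_add, map_add, map_add, dn_add, h, h']

end natR

/-- the member over `R` of the restricted law -/
noncomputable def resFun (F' : (A' ⊗[A] B) →ₚₗ[A'] C') (R : Type u) [CommSemiring R]
    [Algebra A R] (y : R ⊗[A] B) : R ⊗[A] C' :=
  dn A' R (F'.toFun' (A' ⊗[A] R) (up A' R y))

/-- the restriction of an `A'`-law on `A' ⊗[A] B` to an `A`-law on `B`. -/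
noncomputable def resLaw (F' : (A' ⊗[A] B) →ₚₗ[A'] C') : B →ₚₗ[A] C' where
  toFun' R _ _ := resFun A' F' R
  isCompat' {R} _ _ {R'} _ _ θ := by
    funext y
    show θ.toLinearMap.rTensor C' (resFun A' F' R y) = resFun A' F' R' (θ.toLinearMap.rTensor B y)
    unfold resFun
    rw [dn_nat, PolynomialLaw.isCompat_apply' (f := F'), ← up_nat]

theorem resLaw_toFun' (F' : (A' ⊗[A] B) →ₚₗ[A'] C') (R : Type u) [CommSemiring R]
    [Algebra A R] (y : R ⊗[A] B) :
    (resLaw A' F').toFun' R y = dn A' R (F'.toFun' (A' ⊗[A] R) (up A' R y)) := rfl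

/-- the restriction of a multiplicative law. -/
noncomputable def mulLawRes {d : ℕ} (F' : PolLaw.MulLaw A' (A' ⊗[A] B) C' d) :
    PolLaw.MulLaw A B C' d where
  law := resLaw A' F'.law
  homog R _ _ r y := by
    show resFun A' F'.law R (r • y) = r ^ d • resFun A' F'.law R y
    unfold resFun
    rw [up_smul, F'.homog, Algebra.TensorProduct.tmul_pow, one_pow, dn_smul]
  mult R _ _ := by
    refine ⟨?_, fun y y' => ?_⟩
    · show resFun A' F'.law R 1 = 1
      unfold resFun
      rw [up_one, (F'.mult _).1, dn_one]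
    · show resFun A' F'.law R (y * y') = resFun A' F'.law R y * resFun A' F'.law R y'
      unfold resFun
      rw [up_mul, (F'.mult _).2, dn_mul]

end res

end Groth.Agent.Lib.helper6.GammaBC
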