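import Mathlib
import Groth.Agent.Lib.Helper6.GammaBC1

/-!
# Base change of divided power algebras (helper6), part 2

`isGammaD_bc`: if `(C, γ)` is `Γ^d_A(B)` then `(A' ⊗[A] C, mulLawBC A' γ)` is `Γ^d_{A'}(A' ⊗[A] B)`.
`isGammaD_precomp_equiv`: transport along an algebra isomorphism of `B`.
-/

set_option autoImplicit false
set_option linter.style.haveILetI false
set_option linter.unusedVariables false
universe u
open scoped TensorProduct

namespace Groth.Agent.Lib.helper6.GammaBC

open Groth.Agent.Lib.helper6.NormLaw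

section thm

variable {A : Type u} [CommRing A] (A' : Type u) [CommRing A'] [Algebra A A']
  {B : Type u} [CommRing B] [Algebra A B] {C : Type u} [CommRing C] [Algebra A C]

section aux
variable {C' : Type u} [CommRing C'] [Algebra A C'] [Algebra A' C'] [IsScalarTower A A' C']

/-- extension of `g : C →ₐ[A] C'` to `A' ⊗ C →ₐ[A'] C'` -/
noncomputable def extA (g : C →ₐ[A] C') : A' ⊗[A] C →ₐ[A'] C' :=
  Algebra.TensorProduct.lift (Algebra.ofId A' C') g (fun _ _ => Commute.all _ _)

theorem extA_tmul (g : C →ₐ[A] C') (a' : A') (c : C) :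
    extA A' g (a' ⊗ₜ[A] c) = algebraMap A' C' a' * g c := by
  unfold extA
  rw [Algebra.TensorProduct.lift_tmul]
  rfl

/-- the multiplication map `A' ⊗[A] S → S` -/
noncomputable def mm (S : Type u) [CommSemiring S] [Algebra A S] [Algebra A' S]
    [IsScalarTower A A' S] : A' ⊗[A] S →ₐ[A'] S :=
  Algebra.TensorProduct.lift (Algebra.ofId A' S) (AlgHom.id A S) (fun _ _ => Commute.all _ _)

theorem mm_tmul (S : Type u) [CommSemiring S] [Algebra A S] [Algebra A' S]
    [IsScalarTower A A' S] (a' : A') (s : S) :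
    mm A' S (a' ⊗ₜ[A] s) = algebraMap A' S a' * s := by
  unfold mm
  rw [Algebra.TensorProduct.lift_tmul]
  rfl

theorem E1 (g : C →ₐ[A] C') (S : Type u) [CommSemiring S] [Algebra A S] [Algebra A' S]
    [IsScalarTower A A' S] (u : S ⊗[A] C) :
    (extA A' g).toLinearMap.lTensor S
        ((Algebra.TensorProduct.cancelBaseChange A A' S S C).symm u) =
      TensorProduct.mapOfCompatibleSMul A' A A S C' (g.toLinearMap.lTensor S u) := by
  induction u using TensorProduct.induction_on with
  | zero => simp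
  | tmul s c =>
    rw [Algebra.TensorProduct.cancelBaseChange_symm_tmul, LinearMap.lTensor_tmul,
      LinearMap.lTensor_tmul, TensorProduct.mapOfCompatibleSMul_tmul]
    show s ⊗ₜ[A'] (extA A' g ((1 : A') ⊗ₜ[A] c)) = s ⊗ₜ[A'] g c
    rw [extA_tmul, map_one, one_mul]
  | add u u' h h' => simp only [map_add, h, h']

theorem E2 (S : Type u) [CommSemiring S] [Algebra A S] [Algebra A' S]
    [IsScalarTower A A' S] (z : (A' ⊗[A] S) ⊗[A'] C') :
    TensorProduct.mapOfCompatibleSMul A' A A S C' (dn A' S z) =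
      (mm A' S).toLinearMap.rTensor C' z := by
  induction z using TensorProduct.induction_on with
  | zero => rw [dn_zero, map_zero, map_zero]
  | tmul t c' =>
    induction t using TensorProduct.induction_on with
    | zero => rw [TensorProduct.zero_tmul, dn_zero, map_zero, map_zero]
    | tmul a' s =>
      rw [dn_tmul, TensorProduct.mapOfCompatibleSMul_tmul, LinearMap.rTensor_tmul]
      show s ⊗ₜ[A'] (a' • c') = (mm A' S (a' ⊗ₜ[A] s)) ⊗ₜ[A'] c'
      rw [mm_tmul, ← Algebra.smul_def, TensorProduct.smul_tmul]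
    | add t t' h h' => rw [TensorProduct.add_tmul, dn_add, map_add, map_add, h, h']
  | add z z' h h' => rw [dn_add, map_add, map_add, h, h']

theorem E3 (S : Type u) [CommSemiring S] [Algebra A S] [Algebra A' S]
    [IsScalarTower A A' S] (y : S ⊗[A] B) :
    (mm A' S).toLinearMap.rTensor (A' ⊗[A] B) (up A' S y) =
      (Algebra.TensorProduct.cancelBaseChange A A' S S B).symm y := by
  induction y using TensorProduct.induction_on with
  | zero => rw [up_zero, map_zero, map_zero]
  | tmul s b =>
    rw [up_tmul, LinearMap.rTensor_tmul, Algebra.TensorProduct.cancelBaseChange_symm_tmul]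
    show (mm A' S ((1 : A') ⊗ₜ[A] s)) ⊗ₜ[A'] ((1 : A') ⊗ₜ[A] b) = s ⊗ₜ[A'] ((1 : A') ⊗ₜ[A] b)
    rw [mm_tmul, map_one, one_mul]
  | add y y' h h' => rw [up_add, map_add, map_add, h, h']

theorem U1 (g'' : A' ⊗[A] C →ₐ[A'] C') (R : Type u) [CommSemiring R] [Algebra A R]
    (w : R ⊗[A] C) :
    dn A' R (g''.toLinearMap.lTensor (A' ⊗[A] R)
      ((Algebra.TensorProduct.cancelBaseChange A A' (A' ⊗[A] R) (A' ⊗[A] R) C).symm
        ((Algebra.TensorProduct.includeRight : R →ₐ[A] A' ⊗[A] R).toLinearMap.rTensor C w))) =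
    ((g''.restrictScalars A).comp
      (Algebra.TensorProduct.includeRight : C →ₐ[A] A' ⊗[A] C)).toLinearMap.lTensor R w := by
  induction w using TensorProduct.induction_on with
  | zero => simp [dn_zero]
  | tmul r c =>
    rw [LinearMap.rTensor_tmul, LinearMap.lTensor_tmul]
    show dn A' R (g''.toLinearMap.lTensor (A' ⊗[A] R)
      ((Algebra.TensorProduct.cancelBaseChange A A' (A' ⊗[A] R) (A' ⊗[A] R) C).symm
        (((1 : A') ⊗ₜ[A] r) ⊗ₜ[A] c))) = r ⊗ₜ[A] g'' ((1 : A') ⊗ₜ[A] c)
    rw [Algebra.TensorProduct.cancelBaseChange_symm_tmul, LinearMap.lTensor_tmul]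
    show dn A' R (((1 : A') ⊗ₜ[A] r) ⊗ₜ[A'] g'' ((1 : A') ⊗ₜ[A] c)) = _
    rw [dn_tmul, one_smul]
  | add w w' h h' =>
    simp only [map_add, dn_add]
    rw [h, h']

end aux

theorem isGammaD_bc {d : ℕ} (γ : PolLaw.MulLaw A B C d) (hγ : PolLaw.IsGammaD γ) :
    PolLaw.IsGammaD (mulLawBC A' γ) := by
  intro C' _ _ F'
  letI : Algebra A C' := Algebra.compHom C' (algebraMap A A')
  haveI : IsScalarTower A A' C' := IsScalarTower.of_algebraMap_eq (fun _ => rfl)
  obtain ⟨g, hg, huniq⟩ := hγ C' (mulLawRes A' F')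
  have hg' : ∀ (R : Type u) [CommSemiring R] [Algebra A R] (y : R ⊗[A] B),
      g.toLinearMap.lTensor R (γ.law.toFun' R y) =
        dn A' R (F'.law.toFun' (A' ⊗[A] R) (up A' R y)) := by
    intro R _ _ y
    exact congrArg (fun L : B →ₚₗ[A] C' => L.toFun' R y) hg
  refine ⟨extA A' g, ?_, ?_⟩
  · show PolLaw.postcomp (extA A' g).toLinearMap (lawBC A' γ.law) = F'.law
    apply PolynomialLaw.ext
    funext S _ _ x'
    letI : Algebra A S := Algebra.compHom S (algebraMap A A')
    haveI : IsScalarTower A A' S := IsScalarTower.of_algebraMap_eq (fun _ => rfl)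
    show (extA A' g).toLinearMap.lTensor S (gb A' γ.law S x') = F'.law.toFun' S x'
    unfold gb
    rw [E1, hg', E2, PolynomialLaw.isCompat_apply' (f := F'.law), E3, AlgEquiv.symm_apply_apply]
  · intro g'' hg''
    have hg2 : ∀ (S : Type u) [CommSemiring S] [Algebra A S] [Algebra A' S]
        [IsScalarTower A A' S] (x' : S ⊗[A'] (A' ⊗[A] B)),
        g''.toLinearMap.lTensor S (gb A' γ.law S x') = F'.law.toFun' S x' := by
      intro S _ _ _ _ x'
      have := congrArg (fun L : (A' ⊗[A] B) →ₚₗ[A'] C' => L.toFun' S x') hg''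
      rw [← lawBC_apply]
      exact this
    have h2 : (g''.restrictScalars A).comp
        (Algebra.TensorProduct.includeRight : C →ₐ[A] A' ⊗[A] C) = g := by
      apply huniq
      apply PolynomialLaw.ext
      funext R _ _ y
      show ((g''.restrictScalars A).comp
        (Algebra.TensorProduct.includeRight : C →ₐ[A] A' ⊗[A] C)).toLinearMap.lTensor R
          (γ.law.toFun' R y) = dn A' R (F'.law.toFun' (A' ⊗[A] R) (up A' R y))
      rw [← U1, PolynomialLaw.isCompat_apply' (f := γ.law), ← cbc_up]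
      exact congrArg (dn A' R) (hg2 (A' ⊗[A] R) (up A' R y))
    apply Algebra.TensorProduct.ext
    · exact AlgHom.ext (fun a =>
        (AlgHom.commutes (g''.comp Algebra.TensorProduct.includeLeft) a).trans
          (AlgHom.commutes ((extA A' g).comp Algebra.TensorProduct.includeLeft) a).symm)
    · rw [h2]
      exact AlgHom.ext (fun c => ((extA_tmul A' g 1 c).trans (by rw [map_one, one_mul])).symm)

end thm

section transport

variable {A : Type u} [CommRing A] {B B' : Type u} [CommRing B] [Algebra A B] [CommRing B']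
  [Algebra A B'] {C : Type u} [CommRing C] [Algebra A C]

theorem lTensor_equiv_cancel (e : B ≃ₐ[A] B') (S : Type u) [CommSemiring S] [Algebra A S]
    (x : S ⊗[A] B') :
    e.toAlgHom.toLinearMap.lTensor S (e.symm.toAlgHom.toLinearMap.lTensor S x) = x := by
  rw [← LinearMap.lTensor_comp_apply]
  have h : e.toAlgHom.toLinearMap ∘ₗ e.symm.toAlgHom.toLinearMap = LinearMap.id := by
    apply LinearMap.ext
    intro b
    exact e.apply_symm_apply b
  rw [h, LinearMap.lTensor_id, LinearMap.id_apply]

theorem isGammaD_precomp_equiv {d : ℕ} (γ : PolLaw.MulLaw A B C d) (hγ : PolLaw.IsGammaD γ)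
    (e : B ≃ₐ[A] B') : PolLaw.IsGammaD (γ.precomp e.symm.toAlgHom) := by
  intro C' _ _ F
  obtain ⟨f, hf, huniq⟩ := hγ C' (F.precomp e.toAlgHom)
  have hf' : ∀ (S : Type u) [CommSemiring S] [Algebra A S] (x : S ⊗[A] B),
      f.toLinearMap.lTensor S (γ.law.toFun' S x) =
        F.law.toFun' S (e.toAlgHom.toLinearMap.lTensor S x) := by
    intro S _ _ x
    exact congrArg (fun L : B →ₚₗ[A] C' => L.toFun' S x) hf
  refine ⟨f, ?_, ?_⟩
  · show PolLaw.postcomp f.toLinearMap (γ.precomp e.symm.toAlgHom).law = F.law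
    apply PolynomialLaw.ext
    funext S _ _ x
    show f.toLinearMap.lTensor S (γ.law.toFun' S (e.symm.toAlgHom.toLinearMap.lTensor S x)) =
      F.law.toFun' S x
    rw [hf', lTensor_equiv_cancel]
  · intro f' hf''
    apply huniq
    apply PolynomialLaw.ext
    funext S _ _ x
    show f'.toLinearMap.lTensor S (γ.law.toFun' S x) =
      F.law.toFun' S (e.toAlgHom.toLinearMap.lTensor S x)
    have h := congrArg (fun L : B' →ₚₗ[A] C' => L.toFun' S (e.toAlgHom.toLinearMap.lTensor S x)) hf''
    have h' : f'.toLinearMap.lTensor S (γ.law.toFun' S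
        (e.symm.toAlgHom.toLinearMap.lTensor S (e.toAlgHom.toLinearMap.lTensor S x))) =
        F.law.toFun' S (e.toAlgHom.toLinearMap.lTensor S x) := h
    have h3 := lTensor_equiv_cancel e.symm S x
    rw [AlgEquiv.symm_symm] at h3
    rw [h3] at h'
    exact h'

end transport

end Groth.Agent.Lib.helper6.GammaBC
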