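import Mathlib
import Groth.Prelude.Def_PolLaw
import Groth.Prelude.Def_PolLaw2
import Groth.Prelude.Def_SymTen
import Groth.Agent.Lib.Helper6.GammaPol
import Groth.Agent.Lib.Helper6.GammaGen
import Groth.Agent.Lib.Helper6.GammaCoef
import Groth.Agent.Lib.Helper6.GammaUniv
import Groth.Agent.Lib.Helper6.TSColim
import Groth.Agent.Lib.Helper6.TSFlat2
import Groth.Agent.Lib.Helper6.QuotLaw
import Groth.Agent.Lib.Helper6.NormLawA

/-!
# The norm law `T^d(B) → Γ^d(B)` of degree `d!` (helper6)

For `(C, γ)` a degree-`d` divided power algebra of `B`, `FF γ : MulLaw A (T^d B) C d!` is the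
canonical law lifting `z ↦ ∏_σ σ z`; it is built from a free presentation `P = A[X_b] → B`, the
equality `Γ^d(P) = TS^d(P)` and descent along `T^d(P) → T^d(B)`.
Main results: `FF_spec`, `val_phi_FF`, `phi_pi`, `pi_surj`.
-/

set_option autoImplicit false
set_option linter.unusedSectionVars false
set_option linter.unusedVariables false

universe u

open scoped TensorProduct
open PiTensorProduct MvPolynomial

namespace Groth.Agent.Lib.helper6.NormLaw

open Groth.Agent.Lib.helper6.GammaPol Groth.Agent.Lib.helper6.GammaGen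
open Groth.Agent.Lib.helper6.GammaUniv Groth.Agent.Lib.helper6.TSFlat
open Groth.Agent.Lib.helper6.QuotLaw

section pres
variable (A : Type u) [CommRing A] (B : Type u) [CommRing B] [Algebra A B]

/-- the free presentation `A[X_b] → B` -/
abbrev PP : Type u := MvPolynomial B A

noncomputable def qq : PP A B →ₐ[A] B := MvPolynomial.aeval id

theorem qq_X (b : B) : qq A B (X b) = b := by
  unfold qq
  rw [MvPolynomial.aeval_X]
  rfl

theorem qq_surj : Function.Surjective (qq A B) := fun b => ⟨X b, qq_X A B b⟩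

/-- the kernel of the presentation -/
noncomputable def II : Ideal (PP A B) := RingHom.ker (qq A B).toRingHom

theorem mem_II (p : PP A B) : p ∈ II A B ↔ qq A B p = 0 := RingHom.mem_ker

/-- the auxiliary polynomial ring with extra variables `y_i`, `i ∈ I` -/
abbrev PH : Type u := MvPolynomial (B ⊕ ↥(II A B)) A

noncomputable def incl : PP A B →ₐ[A] PH A B := MvPolynomial.aeval (fun b => X (Sum.inl b))

noncomputable def ev0 : PH A B →ₐ[A] PP A B :=
  MvPolynomial.aeval (Sum.elim X (fun _ => 0))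

noncomputable def ev1 : PH A B →ₐ[A] PP A B :=
  MvPolynomial.aeval (Sum.elim X (fun i => (i : PP A B)))

theorem ev0_incl : (ev0 A B).comp (incl A B) = AlgHom.id A (PP A B) := by
  apply MvPolynomial.algHom_ext
  intro b
  simp [ev0, incl]

theorem ev1_incl : (ev1 A B).comp (incl A B) = AlgHom.id A (PP A B) := by
  apply MvPolynomial.algHom_ext
  intro b
  simp [ev1, incl]

theorem ev0_inr (i : ↥(II A B)) : ev0 A B (X (Sum.inr i)) = 0 := by
  simp [ev0]

theorem ev1_inr (i : ↥(II A B)) : ev1 A B (X (Sum.inr i)) = i := by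
  simp [ev1]

theorem qq_ev : (qq A B).comp (ev0 A B) = (qq A B).comp (ev1 A B) := by
  apply MvPolynomial.algHom_ext
  rintro (b | i)
  · simp [ev0, ev1]
  · rw [AlgHom.comp_apply, AlgHom.comp_apply, ev0_inr, ev1_inr, map_zero]
    exact ((mem_II A B _).mp i.2).symm

end pres

section tools
variable {A : Type u} [CommRing A] {R R' R'' : Type u} [CommRing R] [Algebra A R] [CommRing R']
  [Algebra A R'] [CommRing R''] [Algebra A R''] (d : ℕ)

theorem map_tmap_comp (f : R →ₐ[A] R') (g : R' →ₐ[A] R'') (S : Type u) [CommSemiring S]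
    [Algebra A S] (z : S ⊗[A] (⨂[A] _ : Fin d, R)) :
    Algebra.TensorProduct.map (AlgHom.id S S) (SymTen.tmap A d g)
      (Algebra.TensorProduct.map (AlgHom.id S S) (SymTen.tmap A d f) z) =
    Algebra.TensorProduct.map (AlgHom.id S S) (SymTen.tmap A d (g.comp f)) z := by
  induction z using TensorProduct.induction_on with
  | zero => simp
  | tmul s b =>
    rw [Algebra.TensorProduct.map_tmul, Algebra.TensorProduct.map_tmul,
      Algebra.TensorProduct.map_tmul, Groth.Agent.Lib.helper6.TSColim.tmap_tmap_apply]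
    rfl
  | add x y hx hy => rw [map_add, map_add, hx, hy, map_add]

theorem map_tmap_id (S : Type u) [CommSemiring S] [Algebra A S]
    (z : S ⊗[A] (⨂[A] _ : Fin d, R)) :
    Algebra.TensorProduct.map (AlgHom.id S S) (SymTen.tmap A d (AlgHom.id A R)) z = z := by
  induction z using TensorProduct.induction_on with
  | zero => simp
  | tmul s b =>
    rw [Algebra.TensorProduct.map_tmul, Groth.Agent.Lib.helper6.TSColim.tmap_id_apply]
    rfl
  | add x y hx hy => rw [map_add, hx, hy]

theorem tmap_surj (f : R →ₐ[A] R') (hf : Function.Surjective f) :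
    Function.Surjective (SymTen.tmap A d f) := by
  intro z
  induction z using PiTensorProduct.induction_on with
  | smul_tprod a b =>
    choose p hp using fun k => hf (b k)
    refine ⟨a • PiTensorProduct.tprod A p, ?_⟩
    rw [map_smul, SymTen.tmap_tprod]
    congr 2
    funext k
    exact hp k
  | add x y hx hy =>
    obtain ⟨x', rfl⟩ := hx
    obtain ⟨y', rfl⟩ := hy
    exact ⟨x' + y', map_add _ _ _⟩

theorem lid_lTensor {N N' : Type u} [AddCommGroup N] [Module A N] [AddCommGroup N'] [Module A N']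
    (g : N →ₗ[A] N') (w : A ⊗[A] N) :
    TensorProduct.lid A N' (g.lTensor A w) = g (TensorProduct.lid A N w) := by
  induction w using TensorProduct.induction_on with
  | zero => simp
  | tmul a c => rw [LinearMap.lTensor_tmul, TensorProduct.lid_tmul, TensorProduct.lid_tmul, map_smul]
  | add x y hx hy => rw [map_add, map_add, hx, hy, map_add, map_add]

end tools

section main
variable {A B C : Type u} [CommRing A] [CommRing B] [Algebra A B] [CommRing C] [Algebra A C]
  {d : ℕ} (γ : PolLaw.MulLaw A B C d)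

/-- `π : TS^d(P) = Γ^d(P) → Γ^d(B) = C` -/
noncomputable def pi_ : SymTen.TS A (PP A B) d →ₐ[A] C :=
  cls (isGammaD_tsLaw_of_flat A (PP A B) d) (γ.precomp (qq A B))

theorem pi_spec (S : Type u) [CommSemiring S] [Algebra A S] (x : S ⊗[A] PP A B) :
    (pi_ γ).toLinearMap.lTensor S ((tsLaw A (PP A B) d).law.toFun' S x) =
      γ.law.toFun' S ((qq A B).toLinearMap.lTensor S x) :=
  cls_spec (isGammaD_tsLaw_of_flat A (PP A B) d) (γ.precomp (qq A B)) S x

theorem pi_coeq : (pi_ γ).comp (SymTen.TSmap A d (ev0 A B)) =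
    (pi_ γ).comp (SymTen.TSmap A d (ev1 A B)) := by
  have h : ∀ e : PH A B →ₐ[A] PP A B, (pi_ γ).comp (SymTen.TSmap A d e) =
      cls (isGammaD_tsLaw_of_flat A (PH A B) d) (γ.precomp ((qq A B).comp e)) := by
    intro e
    apply cls_unique
    intro S _ _ x
    rw [AlgHom.comp_toLinearMap, LinearMap.lTensor_comp, LinearMap.comp_apply, tsLaw_nat, pi_spec]
    show γ.law.toFun' S _ = γ.law.toFun' S (((qq A B).comp e).toLinearMap.lTensor S x)
    rw [AlgHom.comp_toLinearMap, LinearMap.lTensor_comp, LinearMap.comp_apply]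
  rw [h, h, qq_ev]

/-- the law `T^d(P) → C` of degree `d!` -/
noncomputable def GG : PolLaw.MulLaw A (⨂[A] _ : Fin d, PP A B) C d.factorial :=
  (nsLaw A (PP A B) d).postcomp (pi_ γ)

theorem GG_toFun' (S : Type u) [CommSemiring S] [Algebra A S]
    (z : S ⊗[A] (⨂[A] _ : Fin d, PP A B)) :
    (GG γ).law.toFun' S z =
      (pi_ γ).toLinearMap.lTensor S ((nsLaw A (PP A B) d).law.toFun' S z) := rfl

variable (A B d) in
/-- the ideal of `T^d(P)` generated by the `1 ⊗ ⋯ ⊗ i ⊗ ⋯ ⊗ 1`, `i ∈ I` -/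
noncomputable def KK : Ideal (⨂[A] _ : Fin d, PP A B) :=
  Ideal.span {t | ∃ (k : Fin d) (i : PP A B), i ∈ II A B ∧
    t = PiTensorProduct.singleAlgHom (R := A) (A := fun _ : Fin d => PP A B) k i}

theorem lift_eval (e : PH A B →ₐ[A] PP A B) (he : e.comp (incl A B) = AlgHom.id A (PP A B))
    (S : Type u) [CommSemiring S] [Algebra A S] (x w : S ⊗[A] (⨂[A] _ : Fin d, PP A B))
    (k : Fin d) (j : B ⊕ ↥(II A B)) :
    (SymTen.tmap A d e).toLinearMap.lTensor S
      (Algebra.TensorProduct.map (AlgHom.id S S) (SymTen.tmap A d (incl A B)) x +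
        Algebra.TensorProduct.map (AlgHom.id S S) (SymTen.tmap A d (incl A B)) w *
          (1 ⊗ₜ[A] PiTensorProduct.singleAlgHom (R := A) (A := fun _ : Fin d => PH A B) k (X j))) =
      x + w * (1 ⊗ₜ[A] PiTensorProduct.singleAlgHom (R := A) (A := fun _ : Fin d => PP A B) k
        (e (X j))) := by
  rw [PolLaw.lTensor_algHom_apply, map_add, map_mul, map_tmap_comp, map_tmap_comp, he,
    map_tmap_id, map_tmap_id, Algebra.TensorProduct.map_tmul, tmap_single]
  rfl

theorem KK_le : KK A B d ≤ PolLaw.ker (GG γ).law := by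
  rw [KK, Ideal.span_le]
  rintro _ ⟨k, i, hi, rfl⟩
  show ∀ (S : Type u) [CommSemiring S] [Algebra A S] (x w : S ⊗[A] (⨂[A] _ : Fin d, PP A B)),
    (GG γ).law.toFun' S (x + w * (1 ⊗ₜ[A]
      PiTensorProduct.singleAlgHom (R := A) (A := fun _ : Fin d => PP A B) k i)) =
      (GG γ).law.toFun' S x
  intro S _ _ x w
  obtain ⟨xh, hxh⟩ : ∃ xh : S ⊗[A] (⨂[A] _ : Fin d, PH A B), xh =
      Algebra.TensorProduct.map (AlgHom.id S S) (SymTen.tmap A d (incl A B)) x +
        Algebra.TensorProduct.map (AlgHom.id S S) (SymTen.tmap A d (incl A B)) w *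
          (1 ⊗ₜ[A] PiTensorProduct.singleAlgHom (R := A) (A := fun _ : Fin d => PH A B) k
            (X (Sum.inr ⟨i, hi⟩))) := ⟨_, rfl⟩
  have key : ∀ e : PH A B →ₐ[A] PP A B,
      (GG γ).law.toFun' S ((SymTen.tmap A d e).toLinearMap.lTensor S xh) =
        ((pi_ γ).comp (SymTen.TSmap A d e)).toLinearMap.lTensor S
          ((nsLaw A (PH A B) d).law.toFun' S xh) := by
    intro e
    rw [GG_toFun', ← nsLaw_nat, AlgHom.comp_toLinearMap, LinearMap.lTensor_comp,
      LinearMap.comp_apply]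
  have h0 : (SymTen.tmap A d (ev0 A B)).toLinearMap.lTensor S xh = x := by
    rw [hxh, lift_eval (ev0 A B) (ev0_incl A B), ev0_inr, map_zero, TensorProduct.tmul_zero]
    have e0 : w * (0 : S ⊗[A] (⨂[A] _ : Fin d, PP A B)) = 0 := mul_zero w
    exact (congrArg (fun t => x + t) e0).trans (add_zero x)
  have h1 : (SymTen.tmap A d (ev1 A B)).toLinearMap.lTensor S xh =
      x + w * (1 ⊗ₜ[A] PiTensorProduct.singleAlgHom (R := A) (A := fun _ : Fin d => PP A B) k i) := by
    rw [hxh, lift_eval (ev1 A B) (ev1_incl A B), ev1_inr]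
  rw [← h1, key, ← pi_coeq, ← key, h0]

/-- maps out of `T^d(B)`: an algebra map out of `T^d(P)` killing the `1 ⊗ ⋯ ⊗ i ⊗ ⋯ ⊗ 1`, `i ∈ I`,
factors through `T^d(P) → T^d(B)` -/
theorem exists_Psi {Q : Type u} [CommRing Q] [Algebra A Q]
    (m : (⨂[A] _ : Fin d, PP A B) →ₐ[A] Q)
    (hm : ∀ (k : Fin d) (i : PP A B), i ∈ II A B →
      m (PiTensorProduct.singleAlgHom (R := A) (A := fun _ : Fin d => PP A B) k i) = 0) :
    ∃ Ψ : (⨂[A] _ : Fin d, B) →ₐ[A] Q, Ψ.comp (SymTen.tmap A d (qq A B)) = m := by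
  classical
  let hk : Fin d → (PP A B →ₐ[A] Q) := fun k =>
    m.comp (PiTensorProduct.singleAlgHom (R := A) (A := fun _ : Fin d => PP A B) k)
  have hker : ∀ k, RingHom.ker (qq A B).toRingHom ≤ RingHom.ker (hk k).toRingHom := by
    intro k i hi
    rw [RingHom.mem_ker]
    exact hm k i hi
  let gk : Fin d → (B →ₐ[A] Q) := fun k =>
    AlgHom.liftOfSurjective (qq A B) (qq_surj A B) (hk k) (hker k)
  have gk_qq : ∀ k p, gk k (qq A B p) = hk k p := fun k p =>
    AlgHom.liftOfSurjective_apply _ _ _ _ _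
  let Ψ : (⨂[A] _ : Fin d, B) →ₐ[A] Q :=
    PiTensorProduct.liftAlgHom
      ((MultilinearMap.mkPiAlgebra A (Fin d) Q).compLinearMap (fun k => (gk k).toLinearMap))
      (by simp)
      (by
        intro x y
        simp only [MultilinearMap.compLinearMap_apply, MultilinearMap.mkPiAlgebra_apply,
          AlgHom.toLinearMap_apply, Pi.mul_apply, map_mul]
        exact Finset.prod_mul_distrib)
  have Ψ_tprod : ∀ b : Fin d → B, Ψ (PiTensorProduct.tprod A b) = ∏ k, gk k (b k) := by
    intro b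
    simp [Ψ, PiTensorProduct.liftAlgHom]
  have Ψ_single : ∀ (k : Fin d) (b : B),
      Ψ (PiTensorProduct.singleAlgHom (R := A) (A := fun _ : Fin d => B) k b) = gk k b := by
    intro k b
    simp only [PiTensorProduct.singleAlgHom_apply, MonoidHom.mulSingle_apply]
    rw [Ψ_tprod, Finset.prod_eq_single k]
    · rw [Pi.mulSingle_eq_same]
    · intro j _ hj
      rw [Pi.mulSingle_eq_of_ne hj, map_one]
    · intro h
      exact absurd (Finset.mem_univ k) h
  refine ⟨Ψ, ?_⟩
  apply PiTensorProduct.algHom_ext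
  intro k
  apply AlgHom.ext
  intro p
  show Ψ (SymTen.tmap A d (qq A B)
    (PiTensorProduct.singleAlgHom (R := A) (A := fun _ : Fin d => PP A B) k p)) = _
  rw [tmap_single, Ψ_single, gk_qq]

set_option synthInstance.maxHeartbeats 400000 in
set_option maxHeartbeats 4000000 in
theorem ker_tmap_le : RingHom.ker (SymTen.tmap A d (qq A B)) ≤ KK A B d := by
  obtain ⟨Ψ, hΨ⟩ := exists_Psi (Q := (⨂[A] _ : Fin d, PP A B) ⧸ KK A B d)
    (Ideal.Quotient.mkₐ A (KK A B d)) (by
      intro k i hi
      rw [Ideal.Quotient.mkₐ_eq_mk, Ideal.Quotient.eq_zero_iff_mem]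
      exact Ideal.subset_span ⟨k, i, hi, rfl⟩)
  intro z hz
  rw [RingHom.mem_ker] at hz
  have h1 : Ideal.Quotient.mkₐ A (KK A B d) z = 0 := by
    rw [← hΨ, AlgHom.comp_apply, hz, map_zero]
  rw [Ideal.Quotient.mkₐ_eq_mk, Ideal.Quotient.eq_zero_iff_mem] at h1
  exact h1

end main

section descent
variable {A : Type u} [CommRing A] {T T' C : Type u} [CommRing T] [Algebra A T] [CommRing T']
  [Algebra A T'] [CommRing C] [Algebra A C] {n : ℕ}

/-- descent of a multiplicative law along a surjective algebra map -/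
theorem exists_descent (Θ : T →ₐ[A] T') (hΘ : Function.Surjective Θ)
    (G : PolLaw.MulLaw A T C n) (hK : RingHom.ker Θ ≤ PolLaw.ker G.law) :
    ∃ F : PolLaw.MulLaw A T' C n, ∀ (S : Type u) [CommSemiring S] [Algebra A S] (z : S ⊗[A] T),
      F.law.toFun' S (Θ.toLinearMap.lTensor S z) = G.law.toFun' S z := by
  refine ⟨(quotMul G (RingHom.ker Θ) hK).precomp
    (Ideal.quotientKerAlgEquivOfSurjective hΘ).symm.toAlgHom, ?_⟩
  intro S _ _ z
  show (quot G.law (RingHom.ker Θ) hK).toFun' S
    ((Ideal.quotientKerAlgEquivOfSurjective hΘ).symm.toAlgHom.toLinearMap.lTensor S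
      (Θ.toLinearMap.lTensor S z)) = _
  have e : (Ideal.quotientKerAlgEquivOfSurjective hΘ).symm.toAlgHom.toLinearMap ∘ₗ Θ.toLinearMap =
      (Ideal.Quotient.mkₐ A (RingHom.ker Θ)).toLinearMap := by
    apply LinearMap.ext
    intro t
    exact Ideal.quotientKerAlgEquivOfSurjective_symm_apply hΘ t
  rw [← LinearMap.comp_apply, ← LinearMap.lTensor_comp, e, quot_apply]

end descent

section main2
variable {A B C : Type u} [CommRing A] [CommRing B] [Algebra A B] [CommRing C] [Algebra A C]
  {d : ℕ} (γ : PolLaw.MulLaw A B C d)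

theorem exists_FF : ∃ F : PolLaw.MulLaw A (⨂[A] _ : Fin d, B) C d.factorial,
    ∀ (S : Type u) [CommSemiring S] [Algebra A S] (z : S ⊗[A] (⨂[A] _ : Fin d, PP A B)),
      F.law.toFun' S ((SymTen.tmap A d (qq A B)).toLinearMap.lTensor S z) =
        (GG γ).law.toFun' S z :=
  exists_descent (SymTen.tmap A d (qq A B)) (tmap_surj d (qq A B) (qq_surj A B)) (GG γ)
    (ker_tmap_le.trans (KK_le γ))

/-- the norm law `T^d(B) → C` of degree `d!` -/
noncomputable def FF : PolLaw.MulLaw A (⨂[A] _ : Fin d, B) C d.factorial :=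
  (exists_FF γ).choose

theorem FF_spec (S : Type u) [CommSemiring S] [Algebra A S]
    (z : S ⊗[A] (⨂[A] _ : Fin d, PP A B)) :
    (FF γ).law.toFun' S ((SymTen.tmap A d (qq A B)).toLinearMap.lTensor S z) =
      (pi_ γ).toLinearMap.lTensor S ((nsLaw A (PP A B) d).law.toFun' S z) :=
  (exists_FF γ).choose_spec S z

theorem tmap_lT_surj (S : Type u) [CommSemiring S] [Algebra A S] :
    Function.Surjective ((SymTen.tmap A d (qq A B)).toLinearMap.lTensor S) :=
  LinearMap.lTensor_surjective S (tmap_surj d (qq A B) (qq_surj A B))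

section phi
variable (φ : C →ₐ[A] SymTen.TS A B d)
  (hφ : ∀ (S : Type u) [CommSemiring S] [Algebra A S] (n : ℕ) (s : Fin n → S) (b : Fin n → B),
    ((SymTen.TS A B d).val.comp φ).toLinearMap.lTensor S
        (γ.law.toFun' S (∑ j, s j ⊗ₜ[A] b j)) =
      ∑ c : Fin d → Fin n, (∏ i, s (c i)) ⊗ₜ[A] PiTensorProduct.tprod A (fun i => b (c i)))

include hφ in
theorem phi_pi : φ.comp (pi_ γ) = SymTen.TSmap A d (qq A B) := by
  have h1 : φ.comp (pi_ γ) = cls (isGammaD_tsLaw_of_flat A (PP A B) d)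
      ((tsLaw A B d).precomp (qq A B)) := by
    apply cls_unique
    intro S _ _ x
    rw [AlgHom.comp_toLinearMap, LinearMap.lTensor_comp, LinearMap.comp_apply, pi_spec,
      phi_gamma γ φ hφ]
    rfl
  have h2 : SymTen.TSmap A d (qq A B) = cls (isGammaD_tsLaw_of_flat A (PP A B) d)
      ((tsLaw A B d).precomp (qq A B)) := by
    apply cls_unique
    intro S _ _ x
    rw [tsLaw_nat]
    rfl
  rw [h1, h2]

include hφ in
theorem val_phi_pi (S : Type u) [CommSemiring S] [Algebra A S]
    (y : S ⊗[A] SymTen.TS A (PP A B) d) :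
    (SymTen.TS A B d).val.toLinearMap.lTensor S (φ.toLinearMap.lTensor S
      ((pi_ γ).toLinearMap.lTensor S y)) =
    (SymTen.tmap A d (qq A B)).toLinearMap.lTensor S
      ((SymTen.TS A (PP A B) d).val.toLinearMap.lTensor S y) := by
  rw [← val_TSmap, ← phi_pi γ φ hφ, AlgHom.comp_toLinearMap, LinearMap.lTensor_comp,
    LinearMap.comp_apply]

include hφ in
/-- `φ ∘ F = ∏_σ σ` as laws -/
theorem val_phi_FF (S : Type u) [CommSemiring S] [Algebra A S]
    (ζ : S ⊗[A] (⨂[A] _ : Fin d, B)) :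
    (SymTen.TS A B d).val.toLinearMap.lTensor S (φ.toLinearMap.lTensor S
      ((FF γ).law.toFun' S ζ)) = (SymTen.symmLaw A B d).law.toFun' S ζ := by
  obtain ⟨z, rfl⟩ := tmap_lT_surj (A := A) (B := B) (d := d) S ζ
  rw [FF_spec, val_phi_pi γ φ hφ, nsLaw_val, symmLaw_nat]

end phi

theorem pi_surj (hγ : PolLaw.IsGammaD γ) : Function.Surjective (pi_ γ) := by
  have hL : HasLifts γ (pi_ γ).range := by
    intro σ x
    obtain ⟨x', rfl⟩ := LinearMap.lTensor_surjective (MvPolynomial σ A)
      (show Function.Surjective (qq A B).toLinearMap from qq_surj A B) x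
    rw [← pi_spec]
    have e : (pi_ γ).toLinearMap =
        (pi_ γ).range.val.toLinearMap ∘ₗ (pi_ γ).rangeRestrict.toLinearMap := rfl
    rw [e, LinearMap.lTensor_comp, LinearMap.comp_apply]
    exact ⟨_, rfl⟩
  have h := eq_top_of_hasLifts hγ hL
  exact (AlgHom.range_eq_top _).mp h

end main2

end Groth.Agent.Lib.helper6.NormLaw
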