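import Mathlib
import Groth.Agent.Lib.Helper6.NormLawB

/-!
# Existence of `Γ^d` of a quotient (helper6)

If `(T, τ)` is `Γ^d_A(P)` and `I` is an ideal of `P`, then `Γ^d_A(P ⧸ I)` exists: it is `T ⧸ JJ τ I`
for the ideal `JJ τ I` generated by the coefficients of `τ(x + w f) - τ(x)`, `f ∈ I`.
-/

set_option autoImplicit false
set_option linter.style.haveILetI false
set_option linter.unusedVariables false
universe u
open scoped TensorProduct
open MvPolynomial

namespace Groth.Agent.Lib.helper6.GammaEx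

open Groth.Agent.Lib.helper6.GammaGen Groth.Agent.Lib.helper6.NormLaw

section ex

variable {A : Type u} [CommRing A] {P T : Type u} [CommRing P] [Algebra A P] [CommRing T]
  [Algebra A T] {d : ℕ} (τ : PolLaw.MulLaw A P T d) (I : Ideal P)

/-- the generators of the kernel ideal -/
def JJset : Set T :=
  {c | ∃ (σ : Type u) (m : σ →₀ ℕ) (x w : MvPolynomial σ A ⊗[A] P) (f : P), f ∈ I ∧
    c = coefv (C := T) (MvPolynomial σ A) (MvPolynomial.lcoeff A m)
          (τ.law.toFun' (MvPolynomial σ A) (x + w * (1 ⊗ₜ[A] f))) -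
        coefv (C := T) (MvPolynomial σ A) (MvPolynomial.lcoeff A m)
          (τ.law.toFun' (MvPolynomial σ A) x)}

/-- the kernel ideal of `Γ^d(P) → Γ^d(P ⧸ I)` -/
noncomputable def JJ : Ideal T := Ideal.span (JJset τ I)

theorem coefv_nat {C' : Type u} [CommRing C'] [Algebra A C'] (g : T →ₐ[A] C') (S : Type u)
    [CommSemiring S] [Algebra A S] (lam : S →ₗ[A] A) (u : S ⊗[A] T) :
    g (coefv S lam u) = coefv S lam (g.toLinearMap.lTensor S u) := by
  induction u using TensorProduct.induction_on with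
  | zero => simp
  | tmul s t =>
    rw [LinearMap.lTensor_tmul, coefv_tmul, coefv_tmul, map_smul]
    rfl
  | add u u' h h' => simp only [map_add, h, h']

theorem mk_poly (σ : Type u) (x w : MvPolynomial σ A ⊗[A] P) (f : P) (hf : f ∈ I) :
    (Ideal.Quotient.mkₐ A (JJ τ I)).toLinearMap.lTensor (MvPolynomial σ A)
        (τ.law.toFun' (MvPolynomial σ A) (x + w * (1 ⊗ₜ[A] f))) =
      (Ideal.Quotient.mkₐ A (JJ τ I)).toLinearMap.lTensor (MvPolynomial σ A)
        (τ.law.toFun' (MvPolynomial σ A) x) := by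
  obtain ⟨z, hz⟩ : ∃ z, z = τ.law.toFun' (MvPolynomial σ A) (x + w * (1 ⊗ₜ[A] f)) := ⟨_, rfl⟩
  obtain ⟨z₀, hz₀⟩ : ∃ z₀, z₀ = τ.law.toFun' (MvPolynomial σ A) x := ⟨_, rfl⟩
  rw [← hz, ← hz₀]
  have h0 : (Ideal.Quotient.mkₐ A (JJ τ I)).toLinearMap.lTensor (MvPolynomial σ A) (z - z₀) = 0 := by
    obtain ⟨F, hF⟩ := decomp (C := T) σ (z - z₀)
    rw [hF, map_sum]
    refine Finset.sum_eq_zero (fun m _ => ?_)
    rw [LinearMap.lTensor_tmul]
    have hmem : coefv (C := T) (MvPolynomial σ A) (MvPolynomial.lcoeff A m) (z - z₀) ∈ JJ τ I := by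
      rw [map_sub, hz, hz₀]
      exact Ideal.subset_span ⟨σ, m, x, w, f, hf, rfl⟩
    have h1 : (Ideal.Quotient.mkₐ A (JJ τ I)).toLinearMap
        (coefv (C := T) (MvPolynomial σ A) (MvPolynomial.lcoeff A m) (z - z₀)) = 0 := by
      show Ideal.Quotient.mk (JJ τ I) _ = 0
      exact Ideal.Quotient.eq_zero_iff_mem.2 hmem
    rw [h1, TensorProduct.tmul_zero]
  rw [map_sub] at h0
  exact sub_eq_zero.mp h0

/-- `τ` followed by the quotient map -/
noncomputable def GQ : PolLaw.MulLaw A P (T ⧸ JJ τ I) d :=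
  τ.postcomp (Ideal.Quotient.mkₐ A (JJ τ I))

theorem GQ_toFun' (S : Type u) [CommSemiring S] [Algebra A S] (x : S ⊗[A] P) :
    (GQ τ I).law.toFun' S x =
      (Ideal.Quotient.mkₐ A (JJ τ I)).toLinearMap.lTensor S (τ.law.toFun' S x) := rfl

theorem le_ker_GQ : I ≤ PolLaw.ker (GQ τ I).law := by
  intro f hf
  show ∀ (S : Type u) [CommSemiring S] [Algebra A S] (x w : S ⊗[A] P),
    (GQ τ I).law.toFun' S (x + w * (1 ⊗ₜ[A] f)) = (GQ τ I).law.toFun' S x
  intro S _ _ x w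
  obtain ⟨x', rfl⟩ : ∃ x' : MvPolynomial S A ⊗[A] P,
      (evS (A := A) S).toLinearMap.rTensor P x' = x :=
    LinearMap.rTensor_surjective P (evS_surj S) x
  obtain ⟨w', rfl⟩ : ∃ w' : MvPolynomial S A ⊗[A] P,
      (evS (A := A) S).toLinearMap.rTensor P w' = w :=
    LinearMap.rTensor_surjective P (evS_surj S) w
  have h1 : (evS (A := A) S).toLinearMap.rTensor P x' +
      (evS (A := A) S).toLinearMap.rTensor P w' * (1 ⊗ₜ[A] f) =
      (evS (A := A) S).toLinearMap.rTensor P (x' + w' * (1 ⊗ₜ[A] f)) := by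
    rw [PolLaw.rTensor_algHom_apply, PolLaw.rTensor_algHom_apply, PolLaw.rTensor_algHom_apply,
      map_add, map_mul, Algebra.TensorProduct.map_tmul, map_one]
    rfl
  rw [h1, ← PolynomialLaw.isCompat_apply' (f := (GQ τ I).law),
    ← PolynomialLaw.isCompat_apply' (f := (GQ τ I).law), GQ_toFun', GQ_toFun', mk_poly τ I _ x' w' f hf]

theorem exists_quot_law : ∃ γ₀ : PolLaw.MulLaw A (P ⧸ I) (T ⧸ JJ τ I) d,
    ∀ (S : Type u) [CommSemiring S] [Algebra A S] (z : S ⊗[A] P),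
      γ₀.law.toFun' S ((Ideal.Quotient.mkₐ A I).toLinearMap.lTensor S z) =
        (Ideal.Quotient.mkₐ A (JJ τ I)).toLinearMap.lTensor S (τ.law.toFun' S z) := by
  have hK : RingHom.ker (Ideal.Quotient.mkₐ A I) ≤ PolLaw.ker (GQ τ I).law := by
    intro f hf
    apply le_ker_GQ τ I
    rw [RingHom.mem_ker, Ideal.Quotient.mkₐ_eq_mk, Ideal.Quotient.eq_zero_iff_mem] at hf
    exact hf
  obtain ⟨γ₀, h⟩ := exists_descent (Ideal.Quotient.mkₐ A I) (Ideal.Quotient.mkₐ_surjective A I)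
    (GQ τ I) hK
  exact ⟨γ₀, fun S _ _ z => h S z⟩

theorem mk_lTensor_eq (f : P) (hf : f ∈ I) (S : Type u) [CommSemiring S] [Algebra A S]
    (x w : S ⊗[A] P) :
    (Ideal.Quotient.mkₐ A I).toLinearMap.lTensor S (x + w * (1 ⊗ₜ[A] f)) =
      (Ideal.Quotient.mkₐ A I).toLinearMap.lTensor S x := by
  rw [PolLaw.lTensor_algHom_apply, PolLaw.lTensor_algHom_apply, map_add, map_mul,
    Algebra.TensorProduct.map_tmul]
  have h0 : (Ideal.Quotient.mkₐ A I) f = 0 := by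
    rw [Ideal.Quotient.mkₐ_eq_mk]
    exact Ideal.Quotient.eq_zero_iff_mem.2 hf
  rw [h0, TensorProduct.tmul_zero]
  have e0 : Algebra.TensorProduct.map (AlgHom.id S S) (Ideal.Quotient.mkₐ A I) w *
      (0 : S ⊗[A] (P ⧸ I)) = 0 := mul_zero _
  rw [e0, add_zero]

theorem isGammaD_quot (hτ : PolLaw.IsGammaD τ) (γ₀ : PolLaw.MulLaw A (P ⧸ I) (T ⧸ JJ τ I) d)
    (h₀ : ∀ (S : Type u) [CommSemiring S] [Algebra A S] (z : S ⊗[A] P),
      γ₀.law.toFun' S ((Ideal.Quotient.mkₐ A I).toLinearMap.lTensor S z) =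
        (Ideal.Quotient.mkₐ A (JJ τ I)).toLinearMap.lTensor S (τ.law.toFun' S z)) :
    PolLaw.IsGammaD γ₀ := by
  intro C' _ _ F
  obtain ⟨g, hg⟩ : ∃ g : T →ₐ[A] C', g = cls hτ (F.precomp (Ideal.Quotient.mkₐ A I)) := ⟨_, rfl⟩
  have hgs : ∀ (S : Type u) [CommSemiring S] [Algebra A S] (x : S ⊗[A] P),
      g.toLinearMap.lTensor S (τ.law.toFun' S x) =
        F.law.toFun' S ((Ideal.Quotient.mkₐ A I).toLinearMap.lTensor S x) := by
    intro S _ _ x
    rw [hg]
    exact cls_spec hτ (F.precomp (Ideal.Quotient.mkₐ A I)) S x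
  have hkill : ∀ a ∈ JJ τ I, g a = 0 := by
    intro a ha
    have hle : JJ τ I ≤ RingHom.ker g.toRingHom := by
      unfold JJ
      rw [Ideal.span_le]
      rintro _ ⟨σ, m, x, w, f, hf, rfl⟩
      show g _ = 0
      rw [map_sub, coefv_nat, coefv_nat, hgs, hgs, mk_lTensor_eq I f hf, sub_self]
    exact hle ha
  obtain ⟨gbar, hgbar⟩ : ∃ gbar : T ⧸ JJ τ I →ₐ[A] C',
      gbar = Ideal.Quotient.liftₐ (JJ τ I) g hkill := ⟨_, rfl⟩
  have hcomp : gbar.toLinearMap ∘ₗ (Ideal.Quotient.mkₐ A (JJ τ I)).toLinearMap = g.toLinearMap := by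
    apply LinearMap.ext
    intro t
    rw [hgbar]
    rfl
  refine ⟨gbar, ?_, ?_⟩
  · show PolLaw.postcomp gbar.toLinearMap γ₀.law = F.law
    apply PolynomialLaw.ext
    funext S _ _ y
    obtain ⟨x, rfl⟩ : ∃ x : S ⊗[A] P, (Ideal.Quotient.mkₐ A I).toLinearMap.lTensor S x = y :=
      LinearMap.lTensor_surjective S (Ideal.Quotient.mkₐ_surjective A I) y
    rw [postcomp_toFun', h₀, ← LinearMap.lTensor_comp_apply, hcomp, hgs]
  · intro h hh
    have hh' : ∀ (S : Type u) [CommSemiring S] [Algebra A S] (y : S ⊗[A] (P ⧸ I)),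
        h.toLinearMap.lTensor S (γ₀.law.toFun' S y) = F.law.toFun' S y := by
      intro S _ _ y
      exact congrArg (fun L : (P ⧸ I) →ₚₗ[A] C' => L.toFun' S y) hh
    have h1 : h.comp (Ideal.Quotient.mkₐ A (JJ τ I)) = g := by
      rw [hg]
      apply cls_unique
      intro S _ _ x
      rw [AlgHom.comp_toLinearMap, LinearMap.lTensor_comp_apply, ← h₀, hh']
      rfl
    apply Ideal.Quotient.algHom_ext
    rw [h1]
    apply AlgHom.ext
    intro t
    rw [hgbar]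
    rfl

theorem exists_isGammaD_quot (hτ : PolLaw.IsGammaD τ) :
    ∃ (J : Ideal T) (γ₀ : PolLaw.MulLaw A (P ⧸ I) (T ⧸ J) d), PolLaw.IsGammaD γ₀ ∧
      ∀ (S : Type u) [CommSemiring S] [Algebra A S] (z : S ⊗[A] P),
        γ₀.law.toFun' S ((Ideal.Quotient.mkₐ A I).toLinearMap.lTensor S z) =
          (Ideal.Quotient.mkₐ A J).toLinearMap.lTensor S (τ.law.toFun' S z) := by
  obtain ⟨γ₀, h₀⟩ := exists_quot_law τ I
  exact ⟨JJ τ I, γ₀, isGammaD_quot τ I hτ γ₀ h₀, h₀⟩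

end ex

end Groth.Agent.Lib.helper6.GammaEx
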