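import Mathlib
import Groth.Agent.Lib.Helper6.FieldPtsA

/-!
# Finite generation of symmetric tensors (helper6)

* `finiteType_TS`: Noether: over a noetherian ring `Z`, `TS^d_Z(P)` is a finitely generated
  `Z`-algebra when `P` is.
* `finiteType_TS_bc`: if `P₀` is free over `Z` and `TS^d_Z(P₀)` is a f.g. `Z`-algebra then
  `TS^d_A(A ⊗[Z] P₀)` is a f.g. `A`-algebra, for every `Z`-algebra `A`.
-/

set_option autoImplicit false
set_option linter.unusedVariables false
set_option linter.style.haveILetI false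
set_option warn.classDefReducibility false
universe u
open scoped TensorProduct

namespace Groth.Agent.Lib.helper6.GammaFT

open Groth.Agent.Lib.helper6.NormLaw Groth.Agent.Lib.helper6.TSBasis
open Groth.Agent.Lib.helper6.FieldPts

section noether

variable (Z : Type u) [CommRing Z] (P : Type u) [CommRing P] [Algebra Z P] (d : ℕ)

theorem perm_one (t : ⨂[Z] _ : Fin d, P) : SymTen.perm Z P d 1 t = t := by
  induction t using PiTensorProduct.induction_on with
  | smul_tprod r g =>
    rw [map_smul, SymTen.perm_tprod]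
    rfl
  | add x y hx hy => rw [map_add, hx, hy]

/-- the permutation action on the tensor power -/
noncomputable def permAction : MulSemiringAction (Equiv.Perm (Fin d)) (⨂[Z] _ : Fin d, P) where
  smul σ z := SymTen.perm Z P d σ z
  one_smul z := perm_one Z P d z
  mul_smul σ τ z := (perm_perm d σ τ z).symm
  smul_zero σ := map_zero _
  smul_add σ x y := map_add _ x y
  smul_one σ := map_one _
  smul_mul σ x y := map_mul _ x y

attribute [local instance] permAction

theorem isInv :
    Algebra.IsInvariant (SymTen.TS Z P d) (⨂[Z] _ : Fin d, P) (Equiv.Perm (Fin d)) := by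
  refine ⟨fun b hb => ⟨⟨b, fun σ => ?_⟩, rfl⟩⟩
  rw [← SymTen.perm_apply]
  exact hb σ

theorem finiteType_tpower [Algebra.FiniteType Z P] :
    Algebra.FiniteType Z (⨂[Z] _ : Fin d, P) := by
  classical
  obtain ⟨s, hs⟩ := (Algebra.FiniteType.out : (⊤ : Subalgebra Z P).FG)
  refine ⟨Subalgebra.fg_def.2 ⟨⋃ k : Fin d,
    (PiTensorProduct.singleAlgHom (R := Z) (A := fun _ : Fin d => P) k) '' (s : Set P),
    Set.finite_iUnion (fun k => (s.finite_toSet).image _), ?_⟩⟩
  have h1 : ∀ (k : Fin d) (p : P),
      PiTensorProduct.singleAlgHom (R := Z) (A := fun _ : Fin d => P) k p ∈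
        Algebra.adjoin Z (⋃ k : Fin d,
          (PiTensorProduct.singleAlgHom (R := Z) (A := fun _ : Fin d => P) k) '' (s : Set P)) := by
    intro k p
    have hle : Algebra.adjoin Z (s : Set P) ≤ (Algebra.adjoin Z (⋃ k : Fin d,
        (PiTensorProduct.singleAlgHom (R := Z) (A := fun _ : Fin d => P) k) '' (s : Set P))).comap
        (PiTensorProduct.singleAlgHom (R := Z) (A := fun _ : Fin d => P) k) :=
      Algebra.adjoin_le (fun x hx => Algebra.subset_adjoin (Set.mem_iUnion.2 ⟨k, x, hx, rfl⟩))
    rw [hs] at hle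
    exact hle (Algebra.mem_top : p ∈ (⊤ : Subalgebra Z P))
  rw [eq_top_iff]
  rintro t -
  induction t using PiTensorProduct.induction_on with
  | smul_tprod r g =>
    rw [← prod_single]
    exact Subalgebra.smul_mem _ (Subalgebra.prod_mem _ (fun k _ => h1 k (g k))) r
  | add x y hx hy => exact add_mem hx hy

theorem finiteType_TS [IsNoetherianRing Z] [Algebra.FiniteType Z P] :
    Algebra.FiniteType Z (SymTen.TS Z P d) := by
  haveI := isInv Z P d
  haveI : Algebra.IsIntegral (SymTen.TS Z P d) (⨂[Z] _ : Fin d, P) :=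
    Algebra.IsInvariant.isIntegral (SymTen.TS Z P d) (⨂[Z] _ : Fin d, P) (Equiv.Perm (Fin d))
  haveI := finiteType_tpower Z P d
  haveI : Algebra.FiniteType (SymTen.TS Z P d) (⨂[Z] _ : Fin d, P) :=
    Algebra.FiniteType.of_restrictScalars_finiteType Z _ _
  haveI : Module.Finite (SymTen.TS Z P d) (⨂[Z] _ : Fin d, P) := Algebra.IsIntegral.finite
  exact ⟨fg_of_fg_of_fg Z (SymTen.TS Z P d) (⨂[Z] _ : Fin d, P) Algebra.FiniteType.out
    Module.Finite.fg_top Subtype.val_injective⟩

end noether

section bc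

variable {Z : Type u} [CommRing Z] (A : Type u) [CommRing A] [Algebra Z A]
  {P₀ : Type u} [CommRing P₀] [Algebra Z P₀] {I : Type u} (d : ℕ) (e₀ : Module.Basis I Z P₀)

theorem oT_eq (c : Fin d → I) :
    oT (Algebra.TensorProduct.basis A e₀) d (typI c) = iotaFun A P₀ d (oT e₀ d (typI c)) := by
  apply Subtype.ext
  show osum (Algebra.TensorProduct.basis A e₀) d (typI c) = jm A P₀ d (osum e₀ d (typI c))
  unfold osum
  rw [map_sum]
  refine Finset.sum_congr rfl (fun c' _ => ?_)
  rw [E_apply, E_apply, jm_tprod]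
  congr 1
  funext k
  exact Algebra.TensorProduct.basis_apply e₀ (c' k)

include e₀ in
theorem finiteType_TS_bc (h : Algebra.FiniteType Z (SymTen.TS Z P₀ d)) :
    Algebra.FiniteType A (SymTen.TS A (A ⊗[Z] P₀) d) := by
  classical
  obtain ⟨s, hs⟩ := h.out
  refine ⟨Subalgebra.fg_def.2 ⟨iotaFun A P₀ d '' (s : Set _), (s.finite_toSet).image _, ?_⟩⟩
  have h1 : ∀ z : SymTen.TS Z P₀ d,
      iotaFun A P₀ d z ∈ Algebra.adjoin A (iotaFun A P₀ d '' (s : Set (SymTen.TS Z P₀ d))) := by
    intro z
    have hz : z ∈ Algebra.adjoin Z (s : Set (SymTen.TS Z P₀ d)) := by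
      rw [hs]
      exact Algebra.mem_top
    induction hz using Algebra.adjoin_induction with
    | mem x hx => exact Algebra.subset_adjoin ⟨x, hx, rfl⟩
    | algebraMap r =>
      rw [iotaFun_algebraMap]
      exact Subalgebra.algebraMap_mem _ _
    | add x y _ _ hx hy =>
      rw [iotaFun_add]
      exact add_mem hx hy
    | mul x y _ _ hx hy =>
      rw [iotaFun_mul]
      exact mul_mem hx hy
  rw [eq_top_iff]
  intro u _
  have hu := mem_span_oT (Algebra.TensorProduct.basis A e₀) d u
  have hle : Submodule.span A (Set.range fun c : Fin d → I =>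
      oT (Algebra.TensorProduct.basis A e₀) d (typI c)) ≤
      Subalgebra.toSubmodule (Algebra.adjoin A
        (iotaFun A P₀ d '' (s : Set (SymTen.TS Z P₀ d)))) := by
    rw [Submodule.span_le]
    rintro _ ⟨c, rfl⟩
    show oT (Algebra.TensorProduct.basis A e₀) d (typI c) ∈
      Algebra.adjoin A (iotaFun A P₀ d '' (s : Set (SymTen.TS Z P₀ d)))
    rw [oT_eq]
    exact h1 _
  exact hle hu

end bc

end Groth.Agent.Lib.helper6.GammaFT
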