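import Mathlib

/-!
# ℕ-graded modules over ℕ-graded rings: component of `s • y` for homogeneous `y`
-/

set_option autoImplicit false

universe u v w

namespace Groth.Agent.Lib.Helper6.GrMod

open DirectSum

variable {R : Type u} {S : Type v} {M : Type w} [CommRing R] [CommRing S] [Algebra R S]
  (𝒜 : ℕ → Submodule R S) [GradedAlgebra 𝒜]
  [AddCommGroup M] [Module R M] [Module S M]
  (ℳ : ℕ → Submodule R M) [DirectSum.Decomposition ℳ] [SetLike.GradedSMul 𝒜 ℳ]

/-- component of `s • y` for `y` homogeneous of degree `e`. -/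
theorem decompose_smul_right (s : S) {y : M} {e : ℕ} (hy : y ∈ ℳ e) (d : ℕ) :
    (decompose ℳ (s • y) d : M) = if e ≤ d then (decompose 𝒜 s (d - e) : S) • y else 0 := by
  classical
  have hterm : ∀ a : ℕ, (decompose ℳ ((decompose 𝒜 s a : S) • y) d : M) =
      if a = d - e then (if e ≤ d then (decompose 𝒜 s a : S) • y else 0) else 0 := by
    intro a
    have hmem' : (decompose 𝒜 s a : S) • y ∈ ℳ (a +ᵥ e) :=
      SetLike.GradedSMul.smul_mem (i := a) (j := e) (SetLike.coe_mem (decompose 𝒜 s a)) hy
    have hmem : (decompose 𝒜 s a : S) • y ∈ ℳ (a + e) := by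
      rwa [vadd_eq_add] at hmem'
    by_cases h : a = d - e
    · rw [if_pos h]
      by_cases h2 : e ≤ d
      · rw [if_pos h2]
        have e1 : a + e = d := by omega
        rw [e1] at hmem
        exact decompose_of_mem_same ℳ hmem
      · rw [if_neg h2]
        exact decompose_of_mem_ne ℳ hmem (by omega)
    · rw [if_neg h]
      exact decompose_of_mem_ne ℳ hmem (by omega)
  conv_lhs => rw [← sum_support_decompose 𝒜 s, Finset.sum_smul, decompose_sum]
  rw [DFinsupp.finsetSum_apply, AddSubmonoidClass.coe_finsetSum]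
  simp_rw [hterm]
  rw [Finset.sum_ite_eq']
  split_ifs with h1 h2 h2
  · rfl
  · rfl
  · rw [DFinsupp.notMem_support_iff] at h1
    rw [h1, ZeroMemClass.coe_zero, zero_smul]
  · rfl

/-- the component in degree `d` of a sum. -/
theorem coe_decompose_sum {ι : Type*} (t : Finset ι) (f : ι → M) (d : ℕ) :
    (decompose ℳ (∑ i ∈ t, f i) d : M) = ∑ i ∈ t, (decompose ℳ (f i) d : M) := by
  rw [decompose_sum, DFinsupp.finsetSum_apply, AddSubmonoidClass.coe_finsetSum]

end Groth.Agent.Lib.Helper6.GrMod
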