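import Mathlib
import Groth.Prelude.Def_W4c6equivkfinstabCyc

/-!
Helper library (helper6): idempotents of the group algebra of a finite abelian group whose
order is invertible, and their relation with the cyclotomic quotients of
`Def_W4c6equivkfinstabCyc`.
-/

set_option autoImplicit false

namespace Groth.Agent.Lib.Helper6.GrpAlgIdem

universe u v w

open Polynomial in
/-- If `Φ_n(x) = 0` and `d` is a proper divisor of `n`, then `1 - x^d` divides `n/d`. -/
lemma one_sub_pow_dvd {R : Type*} [CommRing R] (n d : ℕ) (hd : d ∈ n.properDivisors) (x : R)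
    (hx : (Polynomial.cyclotomic n R).eval x = 0) : (1 - x ^ d) ∣ ((n / d : ℕ) : R) := by
  obtain ⟨hdn, hlt⟩ := Nat.mem_properDivisors.mp hd
  obtain ⟨m, rfl⟩ := hdn
  have hd0 : 0 < d := by
    rcases Nat.eq_zero_or_pos d with h | h
    · subst h; simp at hlt
    · exact h
  have hm : d * m / d = m := Nat.mul_div_cancel_left m hd0
  rw [hm]
  have h1 : Polynomial.cyclotomic (d * m) ℤ ∣
      ∑ j ∈ Finset.range m, ((Polynomial.X : ℤ[X]) ^ d) ^ j := by
    obtain ⟨Q, hQ⟩ := Polynomial.X_pow_sub_one_mul_cyclotomic_dvd_X_pow_sub_one_of_dvd ℤ hd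
    have h2 : ((Polynomial.X : ℤ[X]) ^ d - 1) *
        ∑ j ∈ Finset.range m, ((Polynomial.X : ℤ[X]) ^ d) ^ j = X ^ (d * m) - 1 := by
      rw [mul_geom_sum, pow_mul]
    have h3 : ((Polynomial.X : ℤ[X]) ^ d - 1) ≠ 0 := by
      have := Polynomial.X_pow_sub_C_ne_zero hd0 (1 : ℤ)
      simpa using this
    refine ⟨Q, ?_⟩
    apply mul_left_cancel₀ h3
    rw [h2, hQ, mul_assoc]
  have h4 : (Polynomial.cyclotomic (d * m) ℤ).eval₂ (Int.castRingHom R) x = 0 := by
    rw [← Polynomial.eval_map, Polynomial.map_cyclotomic_int]; exact hx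
  obtain ⟨Q, hQ⟩ := h1
  have h5 : ∑ j ∈ Finset.range m, (x ^ d) ^ j = 0 := by
    have := congrArg (Polynomial.eval₂ (Int.castRingHom R) x) hQ
    rw [Polynomial.eval₂_mul, h4, zero_mul, Polynomial.eval₂_finsetSum] at this
    simpa [Polynomial.eval₂_pow, Polynomial.eval₂_X] using this
  have h6 : (m : R) = - ∑ j ∈ Finset.range m, ((x ^ d) ^ j - 1) := by
    rw [Finset.sum_sub_distrib, h5]; simp
  rw [h6, dvd_neg]
  apply Finset.dvd_sum
  intro j _
  have := sub_dvd_pow_sub_pow (x ^ d) 1 j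
  rw [one_pow] at this
  rw [← neg_sub (x ^ d) 1, neg_dvd]
  exact this

lemma natCast_sub_geom (R : Type*) [CommRing R] (x : R) (N : ℕ) :
    ∃ w : R, (N : R) - ∑ j ∈ Finset.range N, x ^ j = (1 - x) * w := by
  have h0 : (N : R) - ∑ j ∈ Finset.range N, x ^ j = ∑ j ∈ Finset.range N, (1 - x ^ j) := by
    rw [Finset.sum_sub_distrib]; simp
  rw [h0]
  have h : ∀ j ∈ Finset.range N, (1 - x) ∣ (1 - x ^ j) := by
    intro j _
    have := sub_dvd_pow_sub_pow (1 : R) x j
    rwa [one_pow] at this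
  obtain ⟨w, hw⟩ := Finset.dvd_sum h
  exact ⟨w, hw⟩

lemma one_sub_idem {R : Type*} [CommRing R] {e : R} (he : e * e = e) :
    (1 - e) * (1 - e) = 1 - e := by linear_combination he

lemma mul_one_sub_idem {R : Type*} [CommRing R] {e : R} (he : e * e = e) :
    e * (1 - e) = 0 := by linear_combination -he

section maps

variable (Λ : Type u) [CommRing Λ] {A : Type v} [AddCommGroup A] {C : Type w} [AddCommGroup C]

lemma mapDomainRingHom_single (φ : A →+ C) (a : A) (r : Λ) :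
    AddMonoidAlgebra.mapDomainRingHom Λ φ (AddMonoidAlgebra.single a r) =
      AddMonoidAlgebra.single (φ a) r := by
  simp

lemma mapDomainRingHom_algebraMap (φ : A →+ C) (r : Λ) :
    AddMonoidAlgebra.mapDomainRingHom Λ φ (algebraMap Λ (AddMonoidAlgebra Λ A) r) =
      algebraMap Λ (AddMonoidAlgebra Λ C) r := by
  rw [AddMonoidAlgebra.coe_algebraMap, AddMonoidAlgebra.coe_algebraMap]
  simp

lemma mapDomainRingHom_surjective (φ : A →+ C) (hφ : Function.Surjective φ) :
    Function.Surjective (AddMonoidAlgebra.mapDomainRingHom Λ φ) := by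
  intro y
  induction y using AddMonoidAlgebra.induction_linear with
  | zero => exact ⟨0, map_zero _⟩
  | add x y hx hy =>
    obtain ⟨a, rfl⟩ := hx
    obtain ⟨b, rfl⟩ := hy
    exact ⟨a + b, map_add _ _ _⟩
  | single m r =>
    obtain ⟨m', rfl⟩ := hφ m
    exact ⟨AddMonoidAlgebra.single m' r, mapDomainRingHom_single Λ φ m' r⟩

lemma mapDomainRingHom_aeval_single (φ : A →+ C) (a : A) (p : Polynomial Λ) :
    AddMonoidAlgebra.mapDomainRingHom Λ φ (Polynomial.aeval (AddMonoidAlgebra.single a (1 : Λ)) p) =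
      Polynomial.aeval (AddMonoidAlgebra.single (φ a) (1 : Λ)) p := by
  rw [Polynomial.aeval_def, Polynomial.aeval_def, Polynomial.hom_eval₂, mapDomainRingHom_single]
  congr 1
  exact RingHom.ext (fun r => mapDomainRingHom_algebraMap Λ φ r)

end maps

section unit

/-- In the cyclotomic quotient of the group ring of a finite cyclic group `C` whose order is
invertible, `1 - [c]` is a unit for every `c ≠ 0`. -/
lemma isUnit_one_sub_single (Λ : Type u) [CommRing Λ] (C : Type v) [AddCommGroup C] [Finite C]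
    [IsAddCyclic C] (huC : IsUnit ((Nat.card C : ℕ) : Λ)) (c : C) (hc : c ≠ 0) :
    IsUnit (1 - Ideal.Quotient.mk (W4c6equivkfinstab.cycIdeal Λ C)
      (AddMonoidAlgebra.single c (1 : Λ))) := by
  classical
  set n : ℕ := Nat.card C with hn
  have hn0 : n ≠ 0 := Nat.card_pos.ne'
  obtain ⟨g, hg⟩ := IsAddCyclic.exists_addMonoid_generator (α := C)
  have hgtop : AddSubgroup.zmultiples g = ⊤ := by
    rw [AddSubgroup.eq_top_iff']
    intro y
    obtain ⟨k, rfl⟩ := (AddSubmonoid.mem_multiples_iff _ _).mp (hg y)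
    exact AddSubgroup.nsmul_mem_zmultiples g k
  obtain ⟨k, hk⟩ := (AddSubmonoid.mem_multiples_iff _ _).mp (hg c)
  have hng : n • g = 0 := card_nsmul_eq_zero'
  have hnk : ¬ n ∣ k := by
    rintro ⟨t, rfl⟩
    apply hc
    rw [← hk, mul_nsmul, hng, nsmul_zero]
  set d := Nat.gcd k n with hd
  have hdn : d ∣ n := Nat.gcd_dvd_right k n
  have hdlt : d < n := by
    rcases lt_or_eq_of_le (Nat.le_of_dvd (Nat.pos_of_ne_zero hn0) hdn) with h | h
    · exact h
    · exfalso; apply hnk; rw [← h]; exact Nat.gcd_dvd_left k n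
  have hdprop : d ∈ n.properDivisors := Nat.mem_properDivisors.mpr ⟨hdn, hdlt⟩
  obtain ⟨a, -, ha⟩ := Nat.exists_mul_mod_eq_gcd (k := n) (n := k) hdlt
  let I := W4c6equivkfinstab.cycIdeal Λ C
  let ζ : W4c6equivkfinstab.CycQuot Λ C :=
    Ideal.Quotient.mk I (AddMonoidAlgebra.single g 1)
  have hζn : ζ ^ n = 1 := by
    show (Ideal.Quotient.mk I (AddMonoidAlgebra.single g 1)) ^ n = 1
    rw [← map_pow, AddMonoidAlgebra.single_pow, hng, one_pow, ← AddMonoidAlgebra.one_def, map_one]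
  have hζcyc : (Polynomial.cyclotomic n (W4c6equivkfinstab.CycQuot Λ C)).eval ζ = 0 := by
    have hmem : Polynomial.aeval (AddMonoidAlgebra.single g (1 : Λ)) (Polynomial.cyclotomic n Λ) ∈ I :=
      Ideal.subset_span ⟨g, hgtop, rfl⟩
    have h0 := Ideal.Quotient.eq_zero_iff_mem.mpr hmem
    have h1 : Polynomial.aeval ζ (Polynomial.cyclotomic n Λ) = 0 := by
      have := Polynomial.aeval_algHom_apply (Ideal.Quotient.mkₐ Λ I)
        (AddMonoidAlgebra.single g (1 : Λ)) (Polynomial.cyclotomic n Λ)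
      exact this.trans h0
    rw [Polynomial.aeval_def, Polynomial.eval₂_eq_eval_map, Polynomial.map_cyclotomic] at h1
    exact h1
  have hunitn : IsUnit ((n : ℕ) : W4c6equivkfinstab.CycQuot Λ C) := by
    have : ((n : ℕ) : W4c6equivkfinstab.CycQuot Λ C) =
        algebraMap Λ (W4c6equivkfinstab.CycQuot Λ C) ((n : ℕ) : Λ) := (map_natCast _ n).symm
    rw [this]; exact huC.map _
  have hdvd := one_sub_pow_dvd n d hdprop ζ hζcyc
  have hunit_nd : IsUnit (((n / d : ℕ)) : W4c6equivkfinstab.CycQuot Λ C) := by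
    have : ((n : ℕ) : W4c6equivkfinstab.CycQuot Λ C) =
        ((d : ℕ) : W4c6equivkfinstab.CycQuot Λ C) * (((n / d : ℕ)) : _) := by
      rw [← Nat.cast_mul, Nat.mul_div_cancel' hdn]
    rw [this] at hunitn
    exact (IsUnit.mul_iff.mp hunitn).2
  have hunit_d : IsUnit (1 - ζ ^ d) := isUnit_of_dvd_unit hdvd hunit_nd
  have hζd : ζ ^ d = (ζ ^ k) ^ a := by
    rw [← pow_mul, ← Nat.div_add_mod (k * a) n, pow_add, pow_mul, hζn, one_pow, one_mul, ha]
  have hunit_k : IsUnit (1 - ζ ^ k) := by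
    have h := sub_dvd_pow_sub_pow (1 : W4c6equivkfinstab.CycQuot Λ C) (ζ ^ k) a
    rw [one_pow, ← hζd] at h
    exact isUnit_of_dvd_unit h hunit_d
  have hck : Ideal.Quotient.mk I (AddMonoidAlgebra.single c (1 : Λ)) = ζ ^ k := by
    rw [← hk]
    show _ = (Ideal.Quotient.mk I (AddMonoidAlgebra.single g 1)) ^ k
    rw [← map_pow, AddMonoidAlgebra.single_pow, one_pow]
  show IsUnit (1 - Ideal.Quotient.mk I (AddMonoidAlgebra.single c (1 : Λ)))
  rw [hck]
  exact hunit_k

end unit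

section ecyc

variable (Λ : Type u) [CommRing Λ] (A : Type v) [AddCommGroup A] (N : ℕ) (ν : Λ)

/-- The averaging element `ν · ∑_{j<N} [c]^j` (an idempotent when `N` kills `A` and `ν = 1/N`). -/
noncomputable def ecyc (c : A) : AddMonoidAlgebra Λ A :=
  algebraMap Λ (AddMonoidAlgebra Λ A) ν *
    ∑ j ∈ Finset.range N, (AddMonoidAlgebra.single c (1 : Λ)) ^ j

/-- The factor attached to `c` in the idempotent of the subgroup `H`. -/
noncomputable def fac (H : AddSubgroup A) (c : A) : AddMonoidAlgebra Λ A :=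
  haveI := Classical.propDecidable (c ∈ H)
  if c ∈ H then ecyc Λ A N ν c else 1 - ecyc Λ A N ν c

/-- The idempotent of the group algebra attached to a subgroup `H`. -/
noncomputable def eps [Fintype A] (H : AddSubgroup A) : AddMonoidAlgebra Λ A :=
  ∏ c : A, fac Λ A N ν H c

/-- The subgroup of those `a` with `[a] ≡ 1` modulo the ideal `𝔪`. -/
def charKer (𝔪 : Ideal (AddMonoidAlgebra Λ A)) : AddSubgroup A where
  carrier := {a | AddMonoidAlgebra.single a (1 : Λ) - 1 ∈ 𝔪}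
  zero_mem' := by
    show AddMonoidAlgebra.single (0 : A) (1 : Λ) - 1 ∈ 𝔪
    rw [← AddMonoidAlgebra.one_def, sub_self]
    exact 𝔪.zero_mem
  add_mem' := by
    intro a b ha hb
    show AddMonoidAlgebra.single (a + b) (1 : Λ) - 1 ∈ 𝔪
    have e : AddMonoidAlgebra.single (a + b) (1 : Λ) =
        AddMonoidAlgebra.single a 1 * AddMonoidAlgebra.single b 1 := by
      rw [AddMonoidAlgebra.single_mul_single, mul_one]
    have e2 : AddMonoidAlgebra.single (a + b) (1 : Λ) - 1 =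
        AddMonoidAlgebra.single a 1 * (AddMonoidAlgebra.single b 1 - 1) +
          (AddMonoidAlgebra.single a 1 - 1) := by
      rw [e]; ring
    rw [e2]
    exact 𝔪.add_mem (𝔪.mul_mem_left _ hb) ha
  neg_mem' := by
    intro a ha
    show AddMonoidAlgebra.single (-a) (1 : Λ) - 1 ∈ 𝔪
    have e : AddMonoidAlgebra.single (-a) (1 : Λ) * AddMonoidAlgebra.single a 1 = 1 := by
      rw [AddMonoidAlgebra.single_mul_single, neg_add_cancel, mul_one, ← AddMonoidAlgebra.one_def]
    have e2 : AddMonoidAlgebra.single (-a) (1 : Λ) - 1 =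
        -(AddMonoidAlgebra.single (-a) (1 : Λ) * (AddMonoidAlgebra.single a 1 - 1)) := by
      rw [mul_sub, e]; ring
    rw [e2]
    exact 𝔪.neg_mem (𝔪.mul_mem_left _ ha)

variable {Λ A N ν}

lemma mem_charKer {𝔪 : Ideal (AddMonoidAlgebra Λ A)} {a : A} :
    a ∈ charKer Λ A 𝔪 ↔ AddMonoidAlgebra.single a (1 : Λ) - 1 ∈ 𝔪 := Iff.rfl

variable (hN : ∀ a : A, N • a = 0) (hν : ν * (N : Λ) = 1)

include hN in
lemma single_pow_N (c : A) : (AddMonoidAlgebra.single c (1 : Λ)) ^ N = 1 := by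
  rw [AddMonoidAlgebra.single_pow, hN, one_pow, ← AddMonoidAlgebra.one_def]

include hN in
lemma single_mul_ecyc (c : A) :
    AddMonoidAlgebra.single c (1 : Λ) * ecyc Λ A N ν c = ecyc Λ A N ν c := by
  unfold ecyc
  have h := mul_geom_sum (AddMonoidAlgebra.single c (1 : Λ)) N
  rw [single_pow_N hN, sub_self, sub_mul, one_mul, sub_eq_zero] at h
  rw [mul_left_comm, h]

include hν in
lemma algebraMap_mul_natCast :
    algebraMap Λ (AddMonoidAlgebra Λ A) ν * (N : AddMonoidAlgebra Λ A) = 1 := by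
  rw [← map_natCast (algebraMap Λ (AddMonoidAlgebra Λ A)), ← map_mul, hν, map_one]

include hν in
lemma ecyc_mul_of_fixed (c : A) (x : AddMonoidAlgebra Λ A)
    (hx : AddMonoidAlgebra.single c (1 : Λ) * x = x) : ecyc Λ A N ν c * x = x := by
  unfold ecyc
  have hp : ∀ j : ℕ, (AddMonoidAlgebra.single c (1 : Λ)) ^ j * x = x := by
    intro j
    induction j with
    | zero => simp
    | succ j ih => rw [pow_succ, mul_assoc, hx, ih]
  rw [mul_assoc, Finset.sum_mul, Finset.sum_congr rfl (fun j _ => hp j), Finset.sum_const,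
    Finset.card_range, nsmul_eq_mul, ← mul_assoc, algebraMap_mul_natCast hν, one_mul]

include hN hν in
lemma ecyc_idem (c : A) : ecyc Λ A N ν c * ecyc Λ A N ν c = ecyc Λ A N ν c :=
  ecyc_mul_of_fixed hν c _ (single_mul_ecyc hN c)

include hν in
lemma one_sub_ecyc (c : A) :
    ∃ w, 1 - ecyc Λ A N ν c = (1 - AddMonoidAlgebra.single c (1 : Λ)) * w := by
  obtain ⟨w, hw⟩ := natCast_sub_geom (AddMonoidAlgebra Λ A) (AddMonoidAlgebra.single c (1 : Λ)) N
  refine ⟨algebraMap Λ _ ν * w, ?_⟩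
  unfold ecyc
  linear_combination (algebraMap Λ (AddMonoidAlgebra Λ A) ν) * hw - algebraMap_mul_natCast (A := A) hν

lemma fac_of_mem {H : AddSubgroup A} {c : A} (h : c ∈ H) :
    fac Λ A N ν H c = ecyc Λ A N ν c := by
  unfold fac; rw [if_pos h]

lemma fac_of_not_mem {H : AddSubgroup A} {c : A} (h : c ∉ H) :
    fac Λ A N ν H c = 1 - ecyc Λ A N ν c := by
  unfold fac; rw [if_neg h]

include hN hν in
lemma fac_idem (H : AddSubgroup A) (c : A) :
    fac Λ A N ν H c * fac Λ A N ν H c = fac Λ A N ν H c := by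
  by_cases h : c ∈ H
  · rw [fac_of_mem h]; exact ecyc_idem hN hν c
  · rw [fac_of_not_mem h]; exact one_sub_idem (ecyc_idem hN hν c)

variable [Fintype A]

lemma eps_eq_fac_mul [DecidableEq A] (H : AddSubgroup A) (c : A) :
    eps Λ A N ν H = fac Λ A N ν H c * ∏ c' ∈ Finset.univ.erase c, fac Λ A N ν H c' :=
  (Finset.mul_prod_erase _ _ (Finset.mem_univ c)).symm

include hN hν in
lemma eps_idem (H : AddSubgroup A) : eps Λ A N ν H * eps Λ A N ν H = eps Λ A N ν H := by
  unfold eps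
  rw [← Finset.prod_mul_distrib]
  exact Finset.prod_congr rfl (fun c _ => fac_idem hN hν H c)

include hN in
lemma single_mul_eps {H : AddSubgroup A} {c : A} (hc : c ∈ H) :
    AddMonoidAlgebra.single c (1 : Λ) * eps Λ A N ν H = eps Λ A N ν H := by
  classical
  rw [eps_eq_fac_mul H c, fac_of_mem hc, ← mul_assoc, single_mul_ecyc hN]

include hN hν in
lemma eps_eq_mul_of_not_mem {H : AddSubgroup A} {c : A} (hc : c ∉ H) :
    eps Λ A N ν H = eps Λ A N ν H * (1 - ecyc Λ A N ν c) := by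
  classical
  rw [eps_eq_fac_mul H c, fac_of_not_mem hc]
  have h := one_sub_idem (ecyc_idem hN hν c)
  calc (1 - ecyc Λ A N ν c) * ∏ c' ∈ Finset.univ.erase c, fac Λ A N ν H c'
      = ((1 - ecyc Λ A N ν c) * (1 - ecyc Λ A N ν c)) *
          ∏ c' ∈ Finset.univ.erase c, fac Λ A N ν H c' := by rw [h]
    _ = _ := by ring

include hN hν in
lemma eps_mul_eps_of_ne {H H' : AddSubgroup A} (h : H ≠ H') :
    eps Λ A N ν H * eps Λ A N ν H' = 0 := by
  classical
  obtain ⟨c, hc⟩ : ∃ c, ¬ (c ∈ H ↔ c ∈ H') := by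
    by_contra hcon
    apply h
    ext c
    by_contra hc
    exact hcon ⟨c, hc⟩
  have he := mul_one_sub_idem (ecyc_idem hN hν c)
  by_cases h1 : c ∈ H
  · have h2 : c ∉ H' := fun h2 => hc ⟨fun _ => h2, fun _ => h1⟩
    rw [eps_eq_fac_mul H c, eps_eq_fac_mul H' c, fac_of_mem h1, fac_of_not_mem h2]
    calc _ = (ecyc Λ A N ν c * (1 - ecyc Λ A N ν c)) *
          ((∏ c' ∈ Finset.univ.erase c, fac Λ A N ν H c') *
            ∏ c' ∈ Finset.univ.erase c, fac Λ A N ν H' c') := by ring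
      _ = 0 := by rw [he, zero_mul]
  · have h2 : c ∈ H' := by
      by_contra h2
      exact hc ⟨fun h => absurd h h1, fun h => absurd h h2⟩
    rw [eps_eq_fac_mul H c, eps_eq_fac_mul H' c, fac_of_not_mem h1, fac_of_mem h2]
    calc _ = (ecyc Λ A N ν c * (1 - ecyc Λ A N ν c)) *
          ((∏ c' ∈ Finset.univ.erase c, fac Λ A N ν H c') *
            ∏ c' ∈ Finset.univ.erase c, fac Λ A N ν H' c') := by ring
      _ = 0 := by rw [he, zero_mul]

include hN hν in
lemma eps_sub_one_mem (𝔪 : Ideal (AddMonoidAlgebra Λ A)) [𝔪.IsPrime] :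
    eps Λ A N ν (charKer Λ A 𝔪) - 1 ∈ 𝔪 := by
  have hfac : ∀ c, fac Λ A N ν (charKer Λ A 𝔪) c - 1 ∈ 𝔪 := by
    intro c
    obtain ⟨w, hw⟩ := one_sub_ecyc (A := A) hν c
    by_cases hc : c ∈ charKer Λ A 𝔪
    · rw [fac_of_mem hc]
      have h1 : AddMonoidAlgebra.single c (1 : Λ) - 1 ∈ 𝔪 := hc
      have h2 : ecyc Λ A N ν c - 1 = (AddMonoidAlgebra.single c (1 : Λ) - 1) * w := by
        linear_combination -hw
      rw [h2]; exact 𝔪.mul_mem_right _ h1
    · rw [fac_of_not_mem hc]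
      have h1 : (AddMonoidAlgebra.single c (1 : Λ) - 1) * ecyc Λ A N ν c = 0 := by
        rw [sub_mul, one_mul, single_mul_ecyc hN, sub_self]
      have h2 : ecyc Λ A N ν c ∈ 𝔪 := by
        have h3 : (AddMonoidAlgebra.single c (1 : Λ) - 1) * ecyc Λ A N ν c ∈ 𝔪 := by
          rw [h1]; exact 𝔪.zero_mem
        exact (Ideal.IsPrime.mem_or_mem ‹_› h3).resolve_left hc
      have h4 : (1 - ecyc Λ A N ν c) - 1 = -ecyc Λ A N ν c := by ring
      rw [h4]; exact 𝔪.neg_mem h2
  rw [← Ideal.Quotient.eq_zero_iff_mem, map_sub, map_one, sub_eq_zero]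
  unfold eps
  rw [map_prod]
  apply Finset.prod_eq_one
  intro c _
  have := hfac c
  rwa [← Ideal.Quotient.eq_zero_iff_mem, map_sub, map_one, sub_eq_zero] at this

include hN hν in
lemma sum_eps_eq_one (𝒮 : Finset (AddSubgroup A))
    (h𝒮 : ∀ 𝔪 : Ideal (AddMonoidAlgebra Λ A), 𝔪.IsMaximal → charKer Λ A 𝔪 ∈ 𝒮) :
    ∑ H ∈ 𝒮, eps Λ A N ν H = 1 := by
  classical
  have h1 : ∀ H ∈ 𝒮, eps Λ A N ν H * (1 - ∑ H ∈ 𝒮, eps Λ A N ν H) = 0 := by
    intro H hH
    have h2 : eps Λ A N ν H * ∑ H ∈ 𝒮, eps Λ A N ν H = eps Λ A N ν H := by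
      rw [Finset.mul_sum, Finset.sum_eq_single H]
      · exact eps_idem hN hν H
      · intro H' _ hne; exact eps_mul_eps_of_ne hN hν (Ne.symm hne)
      · intro h; exact absurd hH h
    rw [mul_sub, mul_one, h2, sub_self]
  by_contra hne
  let 𝔟 : Ideal (AddMonoidAlgebra Λ A) :=
    { carrier := {r | r * (1 - ∑ H ∈ 𝒮, eps Λ A N ν H) = 0}
      add_mem' := by
        intro a b ha hb
        simp only [Set.mem_ofPred_eq] at ha hb ⊢
        rw [add_mul, ha, hb, add_zero]
      zero_mem' := by simp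
      smul_mem' := by
        intro r a ha
        simp only [Set.mem_ofPred_eq, smul_eq_mul] at ha ⊢
        rw [mul_assoc, ha, mul_zero] }
  have hb : 𝔟 ≠ ⊤ := by
    intro htop
    have h2 : (1 : AddMonoidAlgebra Λ A) ∈ 𝔟 := htop ▸ Submodule.mem_top
    have h3 : (1 : AddMonoidAlgebra Λ A) * (1 - ∑ H ∈ 𝒮, eps Λ A N ν H) = 0 := h2
    apply hne
    rw [one_mul, sub_eq_zero] at h3
    exact h3.symm
  obtain ⟨𝔪, hmax, hle⟩ := Ideal.exists_le_maximal 𝔟 hb
  have : 𝔪.IsPrime := hmax.isPrime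
  have hH := h𝒮 𝔪 hmax
  have h3 : eps Λ A N ν (charKer Λ A 𝔪) ∈ 𝔪 := hle (h1 _ hH)
  have h4 := eps_sub_one_mem hN hν 𝔪
  have h5 : (1 : AddMonoidAlgebra Λ A) ∈ 𝔪 := by
    have := 𝔪.sub_mem h3 h4
    simpa using this
  exact hmax.ne_top ((Ideal.eq_top_iff_one _).mpr h5)

end ecyc

end Groth.Agent.Lib.Helper6.GrpAlgIdem
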