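import Mathlib
import Groth.Agent.Lib.Helper6.GrpAlgIdem

/-!
Helper library (helper6), part 2: the idempotent `eps` of the kernel of a surjection onto a
cyclic group maps to `1` in the cyclotomic quotient and kills the kernel of the map to the
cyclotomic quotient.
-/

set_option autoImplicit false

namespace Groth.Agent.Lib.Helper6.GrpAlgIdem

universe u v w

variable {Λ : Type u} [CommRing Λ] {A : Type v} [AddCommGroup A] [Fintype A]
  {C : Type w} [AddCommGroup C] {N : ℕ} {ν : Λ}
variable (hN : ∀ a : A, N • a = 0) (hν : ν * (N : Λ) = 1)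

include hN hν in
/-- The image of `eps (ker φ)` in the cyclotomic quotient is `1`. -/
lemma mk_map_eps (φ : A →+ C) [Finite C] [IsAddCyclic C]
    (hCu : IsUnit ((Nat.card C : ℕ) : Λ)) :
    Ideal.Quotient.mk (W4c6equivkfinstab.cycIdeal Λ C)
      (AddMonoidAlgebra.mapDomainRingHom Λ φ (eps Λ A N ν φ.ker)) = 1 := by
  unfold eps
  rw [map_prod, map_prod]
  apply Finset.prod_eq_one
  intro c _
  by_cases hc : c ∈ φ.ker
  · rw [fac_of_mem hc]
    have hφc : φ c = 0 := hc
    have h1 : AddMonoidAlgebra.mapDomainRingHom Λ φ (ecyc Λ A N ν c) = 1 := by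
      unfold ecyc
      have hs : AddMonoidAlgebra.mapDomainRingHom Λ φ (AddMonoidAlgebra.single c (1 : Λ)) = 1 := by
        rw [mapDomainRingHom_single, hφc, ← AddMonoidAlgebra.one_def]
      rw [map_mul, map_sum, mapDomainRingHom_algebraMap]
      simp only [map_pow, hs, one_pow, Finset.sum_const, Finset.card_range, nsmul_eq_mul, mul_one]
      exact algebraMap_mul_natCast (A := C) hν
    rw [h1, map_one]
  · rw [fac_of_not_mem hc, map_sub, map_one, map_sub, map_one]
    have hφc : φ c ≠ 0 := hc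
    have hunit := isUnit_one_sub_single Λ C hCu (φ c) hφc
    have hR : (1 - AddMonoidAlgebra.single c (1 : Λ)) * ecyc Λ A N ν c = 0 := by
      rw [sub_mul, one_mul, single_mul_ecyc hN, sub_self]
    have h0 : (1 - Ideal.Quotient.mk (W4c6equivkfinstab.cycIdeal Λ C)
        (AddMonoidAlgebra.single (φ c) (1 : Λ))) *
        Ideal.Quotient.mk (W4c6equivkfinstab.cycIdeal Λ C)
          (AddMonoidAlgebra.mapDomainRingHom Λ φ (ecyc Λ A N ν c)) = 0 := by
      have := congrArg (fun z => Ideal.Quotient.mk (W4c6equivkfinstab.cycIdeal Λ C)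
        (AddMonoidAlgebra.mapDomainRingHom Λ φ z)) hR
      simp only [map_mul, map_sub, map_one, map_zero, mapDomainRingHom_single] at this
      exact this
    have h2 := (hunit.mul_right_eq_zero).mp h0
    rw [h2, sub_zero]

include hN in
/-- `eps (ker φ) * x` only depends on the image of `x` under `φ`. -/
lemma eps_mul_eq (φ : A →+ C) (s : C → A) (hs : ∀ c, φ (s c) = c) (x : AddMonoidAlgebra Λ A) :
    eps Λ A N ν φ.ker * x = eps Λ A N ν φ.ker *
      AddMonoidAlgebra.mapDomain s (AddMonoidAlgebra.mapDomainRingHom Λ φ x) := by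
  induction x using AddMonoidAlgebra.induction_linear with
  | zero => simp
  | add x y hx hy =>
    rw [map_add, AddMonoidAlgebra.mapDomain_add, mul_add, mul_add, hx, hy]
  | single a r =>
    rw [mapDomainRingHom_single, AddMonoidAlgebra.mapDomain_single]
    have hmem : a - s (φ a) ∈ φ.ker := by
      rw [AddMonoidHom.mem_ker, map_sub, hs, sub_self]
    have e : AddMonoidAlgebra.single a r =
        AddMonoidAlgebra.single (a - s (φ a)) (1 : Λ) * AddMonoidAlgebra.single (s (φ a)) r := by
      rw [AddMonoidAlgebra.single_mul_single, sub_add_cancel, one_mul]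
    rw [e, ← mul_assoc, mul_comm (eps Λ A N ν φ.ker), single_mul_eps hN hmem]

include hN in
lemma eps_mul_congr (φ : A →+ C) (hφ : Function.Surjective φ) (x y : AddMonoidAlgebra Λ A)
    (hxy : AddMonoidAlgebra.mapDomainRingHom Λ φ x = AddMonoidAlgebra.mapDomainRingHom Λ φ y) :
    eps Λ A N ν φ.ker * x = eps Λ A N ν φ.ker * y := by
  rw [eps_mul_eq hN φ (Function.surjInv hφ) (Function.surjInv_eq hφ) x,
    eps_mul_eq hN φ (Function.surjInv hφ) (Function.surjInv_eq hφ) y, hxy]

include hN hν in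
/-- `eps (ker φ)` kills `Φ_n([a])` when `φ a` generates the cyclic group `C` of order `n`. -/
lemma eps_mul_aeval_cyclotomic (φ : A →+ C) [Finite C] (a : A)
    (hgen : AddSubgroup.zmultiples (φ a) = ⊤) :
    eps Λ A N ν φ.ker * Polynomial.aeval (AddMonoidAlgebra.single a (1 : Λ))
      (Polynomial.cyclotomic (Nat.card C) Λ) = 0 := by
  classical
  set n : ℕ := Nat.card C with hn
  have hn0 : 0 < n := Nat.card_pos
  set α : AddMonoidAlgebra Λ A := AddMonoidAlgebra.single a (1 : Λ) with hα
  set ε : AddMonoidAlgebra Λ A := eps Λ A N ν φ.ker with hε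
  have hord : addOrderOf (φ a) = n :=
    addOrderOf_eq_card_of_forall_mem_zmultiples (fun x => hgen ▸ AddSubgroup.mem_top x)
  have hαn : ε * α ^ n = ε := by
    have hmem : n • a ∈ φ.ker := by
      rw [AddMonoidHom.mem_ker, map_nsmul]; exact card_nsmul_eq_zero'
    have := single_mul_eps (Λ := Λ) (N := N) (ν := ν) hN hmem
    rw [hα, AddMonoidAlgebra.single_pow, one_pow, mul_comm]
    exact this
  have hd : ∀ d ∈ n.properDivisors, ∃ t, ε = ε * (Polynomial.aeval α (Polynomial.cyclotomic d Λ)) * t := by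
    intro d hd
    obtain ⟨hdn, hdlt⟩ := Nat.mem_properDivisors.mp hd
    have hd0 : 0 < d := Nat.pos_of_mem_properDivisors hd
    have hnot : d • a ∉ φ.ker := by
      rw [AddMonoidHom.mem_ker, map_nsmul]
      intro h0
      have := addOrderOf_dvd_of_nsmul_eq_zero h0
      rw [hord] at this
      exact absurd (Nat.le_of_dvd hd0 this) (not_le.mpr hdlt)
    have h1 := eps_eq_mul_of_not_mem (Λ := Λ) (N := N) (ν := ν) hN hν hnot
    obtain ⟨w, hw⟩ := one_sub_ecyc (Λ := Λ) (A := A) (N := N) hν (d • a)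
    obtain ⟨Q, hQ⟩ := Polynomial.cyclotomic.dvd_X_pow_sub_one d Λ
    have hQ' : α ^ d - 1 = Polynomial.aeval α (Polynomial.cyclotomic d Λ) * Polynomial.aeval α Q := by
      have := congrArg (Polynomial.aeval α) hQ
      simpa using this
    have hsd : AddMonoidAlgebra.single (d • a) (1 : Λ) = α ^ d := by
      rw [hα, AddMonoidAlgebra.single_pow, one_pow]
    refine ⟨-(Polynomial.aeval α Q) * w, ?_⟩
    rw [hsd] at hw
    calc ε = ε * (1 - ecyc Λ A N ν (d • a)) := h1
      _ = ε * ((1 - α ^ d) * w) := by rw [hw]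
      _ = ε * (-(α ^ d - 1) * w) := by ring
      _ = ε * (-(Polynomial.aeval α (Polynomial.cyclotomic d Λ) * Polynomial.aeval α Q) * w) := by
          rw [hQ']
      _ = _ := by ring
  have hprod : ∃ T, ε = ε * (∏ d ∈ n.properDivisors,
      Polynomial.aeval α (Polynomial.cyclotomic d Λ)) * T := by
    apply Finset.prod_induction (fun d => Polynomial.aeval α (Polynomial.cyclotomic d Λ))
      (fun r => ∃ t, ε = ε * r * t)
    · rintro r r' ⟨t, ht⟩ ⟨t', ht'⟩
      refine ⟨t * t', ?_⟩
      calc ε = ε * r * t := ht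
        _ = (ε * r' * t') * r * t := by rw [← ht']
        _ = ε * (r * r') * (t * t') := by ring
    · exact ⟨1, by simp⟩
    · exact hd
  obtain ⟨T, hT⟩ := hprod
  have hX : (∏ d ∈ n.properDivisors, Polynomial.cyclotomic d Λ) * Polynomial.cyclotomic n Λ =
      Polynomial.X ^ n - 1 := by
    rw [← Polynomial.prod_cyclotomic_eq_X_pow_sub_one hn0, ← Nat.insert_self_properDivisors hn0.ne',
      Finset.prod_insert Nat.self_notMem_properDivisors, mul_comm]
  have hX' : (∏ d ∈ n.properDivisors, Polynomial.aeval α (Polynomial.cyclotomic d Λ)) *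
      Polynomial.aeval α (Polynomial.cyclotomic n Λ) = α ^ n - 1 := by
    have := congrArg (Polynomial.aeval α) hX
    simpa [map_prod] using this
  calc ε * Polynomial.aeval α (Polynomial.cyclotomic n Λ)
      = (ε * (∏ d ∈ n.properDivisors, Polynomial.aeval α (Polynomial.cyclotomic d Λ)) * T) *
          Polynomial.aeval α (Polynomial.cyclotomic n Λ) := by rw [← hT]
    _ = T * (ε * ((∏ d ∈ n.properDivisors, Polynomial.aeval α (Polynomial.cyclotomic d Λ)) *
          Polynomial.aeval α (Polynomial.cyclotomic n Λ))) := by ring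
    _ = T * (ε * α ^ n - ε) := by rw [hX']; ring
    _ = 0 := by rw [hαn, sub_self, mul_zero]

include hN hν in
/-- `eps (ker φ)` kills everything that maps into the cyclotomic ideal. -/
lemma eps_mul_eq_zero_of_mem (φ : A →+ C) (hφ : Function.Surjective φ) [Finite C]
    (y : AddMonoidAlgebra Λ A)
    (hy : AddMonoidAlgebra.mapDomainRingHom Λ φ y ∈ W4c6equivkfinstab.cycIdeal Λ C) :
    eps Λ A N ν φ.ker * y = 0 := by
  have hsurj := mapDomainRingHom_surjective Λ φ hφ
  have key : ∀ z ∈ W4c6equivkfinstab.cycIdeal Λ C, ∀ y : AddMonoidAlgebra Λ A,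
      AddMonoidAlgebra.mapDomainRingHom Λ φ y = z → eps Λ A N ν φ.ker * y = 0 := by
    intro z hz
    have hz' : z ∈ Submodule.span (AddMonoidAlgebra Λ C) {x | ∃ g : C, AddSubgroup.zmultiples g = ⊤ ∧
      x = Polynomial.aeval (AddMonoidAlgebra.single g (1 : Λ))
        (Polynomial.cyclotomic (Nat.card C) Λ)} := hz
    refine Submodule.span_induction
      (p := fun z _ => ∀ y : AddMonoidAlgebra Λ A,
        AddMonoidAlgebra.mapDomainRingHom Λ φ y = z → eps Λ A N ν φ.ker * y = 0)
      ?_ ?_ ?_ ?_ hz'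
    · rintro x ⟨g, hg, rfl⟩ y hy
      obtain ⟨a, rfl⟩ := hφ g
      rw [eps_mul_congr hN φ hφ y (Polynomial.aeval (AddMonoidAlgebra.single a (1 : Λ))
        (Polynomial.cyclotomic (Nat.card C) Λ)) (by rw [hy, mapDomainRingHom_aeval_single])]
      exact eps_mul_aeval_cyclotomic hN hν φ a hg
    · intro y hy
      rw [eps_mul_congr hN φ hφ y 0 (by rw [hy, map_zero]), mul_zero]
    · intro z₁ z₂ _ _ ih₁ ih₂ y hy
      obtain ⟨y₁, hy₁⟩ := hsurj z₁
      obtain ⟨y₂, hy₂⟩ := hsurj z₂
      rw [eps_mul_congr hN φ hφ y (y₁ + y₂) (by rw [hy, map_add, hy₁, hy₂]), mul_add,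
        ih₁ y₁ hy₁, ih₂ y₂ hy₂, add_zero]
    · intro r z₁ _ ih y hy
      obtain ⟨y₁, hy₁⟩ := hsurj z₁
      obtain ⟨r', hr'⟩ := hsurj r
      rw [eps_mul_congr hN φ hφ y (r' * y₁) (by rw [hy, map_mul, hy₁, hr', smul_eq_mul]),
        mul_left_comm, ih y₁ hy₁, mul_zero]
  exact key _ hy y rfl

end Groth.Agent.Lib.Helper6.GrpAlgIdem
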