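import Mathlib
import Groth.Agent.Lib.Helper6.GrpAlgIdem2

/-!
Helper library (helper6), part 3: quotient maps of group rings and cyclicity of the
quotient by the kernel of a character modulo a maximal ideal.
-/

set_option autoImplicit false

namespace Groth.Agent.Lib.Helper6.GrpAlgIdem

universe u v w

section
variable (Λ : Type u) [CommRing Λ] (M : Type v) [AddCommGroup M]

lemma quotMap_single (B : AddSubgroup M) (m : M) (r : Λ) :
    W4c6equivkfinstab.quotMap Λ M B (AddMonoidAlgebra.single m r) =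
      AddMonoidAlgebra.single (m : M ⧸ B) r := by
  simp [W4c6equivkfinstab.quotMap]

lemma quotMap_surjective (B : AddSubgroup M) :
    Function.Surjective (W4c6equivkfinstab.quotMap Λ M B) := by
  intro y
  induction y using AddMonoidAlgebra.induction_linear with
  | zero => exact ⟨0, map_zero _⟩
  | add x y hx hy =>
    obtain ⟨a, rfl⟩ := hx
    obtain ⟨b, rfl⟩ := hy
    exact ⟨a + b, map_add _ _ _⟩
  | single m r =>
    obtain ⟨m', rfl⟩ := QuotientAddGroup.mk_surjective m
    exact ⟨AddMonoidAlgebra.single m' r, quotMap_single Λ M B m' r⟩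

lemma cycQuotMap_surjective (B : AddSubgroup M) :
    Function.Surjective (W4c6equivkfinstab.cycQuotMap Λ M B) := by
  intro z
  obtain ⟨y, rfl⟩ := Ideal.Quotient.mk_surjective z
  obtain ⟨x, rfl⟩ := quotMap_surjective Λ M B y
  exact ⟨x, rfl⟩

variable {M}

/-- The canonical map `M ⧸ B₀ → M ⧸ B` for `B₀ ≤ B`. -/
noncomputable def phi (B₀ B : AddSubgroup M) (hle : B₀ ≤ B) : (M ⧸ B₀) →+ (M ⧸ B) :=
  QuotientAddGroup.map B₀ B (AddMonoidHom.id M) (by rwa [AddSubgroup.comap_id])

lemma phi_mk (B₀ B : AddSubgroup M) (hle : B₀ ≤ B) (m : M) :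
    phi B₀ B hle (m : M ⧸ B₀) = (m : M ⧸ B) := rfl

lemma phi_surj (B₀ B : AddSubgroup M) (hle : B₀ ≤ B) : Function.Surjective (phi B₀ B hle) := by
  intro c
  obtain ⟨m, rfl⟩ := QuotientAddGroup.mk_surjective c
  exact ⟨(m : M ⧸ B₀), rfl⟩

lemma mem_ker_phi (B₀ B : AddSubgroup M) (hle : B₀ ≤ B) (m : M) :
    (m : M ⧸ B₀) ∈ (phi B₀ B hle).ker ↔ m ∈ B := by
  rw [AddMonoidHom.mem_ker, phi_mk, QuotientAddGroup.eq_zero_iff]

lemma ker_phi_injective (B₀ B B' : AddSubgroup M) (hle : B₀ ≤ B) (hle' : B₀ ≤ B')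
    (h : (phi B₀ B hle).ker = (phi B₀ B' hle').ker) : B = B' := by
  ext m
  rw [← mem_ker_phi B₀ B hle, ← mem_ker_phi B₀ B' hle', h]

lemma quotMap_comp (B₀ B : AddSubgroup M) (hle : B₀ ≤ B) (x : AddMonoidAlgebra Λ M) :
    AddMonoidAlgebra.mapDomainRingHom Λ (phi B₀ B hle) (W4c6equivkfinstab.quotMap Λ M B₀ x) =
      W4c6equivkfinstab.quotMap Λ M B x := by
  induction x using AddMonoidAlgebra.induction_linear with
  | zero => simp
  | add x y hx hy => rw [map_add, map_add, map_add, hx, hy]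
  | single m r => rw [quotMap_single, mapDomainRingHom_single, phi_mk, quotMap_single]

end

/-- If the kernel of a surjection `φ : A → C` from a finite group is the kernel of the
character modulo a maximal ideal of the group ring, then `C` is cyclic. -/
lemma isAddCyclic_of_ker_eq_charKer (Λ : Type u) [CommRing Λ] {A : Type v} [AddCommGroup A]
    [Finite A] {C : Type w} [AddCommGroup C]
    (𝔪 : Ideal (AddMonoidAlgebra Λ A)) (hmax : 𝔪.IsMaximal) (φ : A →+ C)
    (hφ : Function.Surjective φ) (hker : φ.ker = charKer Λ A 𝔪) : IsAddCyclic C := by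
  have hprime : 𝔪.IsPrime := hmax.isPrime
  let f₀ : Multiplicative A →* (AddMonoidAlgebra Λ A ⧸ 𝔪) :=
    (Ideal.Quotient.mk 𝔪).toMonoidHom.comp (AddMonoidAlgebra.of Λ A)
  have hf₀ : ∀ a : Multiplicative A, f₀ a = 1 ↔ Multiplicative.toAdd a ∈ charKer Λ A 𝔪 := by
    intro a
    show Ideal.Quotient.mk 𝔪 (AddMonoidAlgebra.of Λ A a) = 1 ↔ _
    rw [AddMonoidAlgebra.of_apply, ← map_one (Ideal.Quotient.mk 𝔪), Ideal.Quotient.eq]
    exact Iff.rfl
  have hdom : IsDomain (AddMonoidAlgebra Λ A ⧸ 𝔪) := Ideal.Quotient.isDomain 𝔪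
  let f₁ : Multiplicative A →* (AddMonoidAlgebra Λ A ⧸ 𝔪)ˣ := f₀.toHomUnits
  have hf₁ : ∀ a : Multiplicative A, f₁ a = 1 ↔ Multiplicative.toAdd a ∈ charKer Λ A 𝔪 := by
    intro a
    rw [← Units.val_eq_one, MonoidHom.coe_toHomUnits]
    exact hf₀ a
  have hfinm : Finite (Multiplicative A) := ‹Finite A›
  have hfinq : Finite (Multiplicative A ⧸ f₁.ker) := inferInstance
  have hinj : Function.Injective
      ((Units.coeHom (AddMonoidAlgebra Λ A ⧸ 𝔪)).comp (QuotientGroup.kerLift f₁)) := by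
    intro x y h
    exact QuotientGroup.kerLift_injective f₁ (Units.ext h)
  have hcyc : IsCyclic (Multiplicative A ⧸ f₁.ker) :=
    isCyclic_of_injective_ringHom _ hinj
  let θ : Multiplicative A →* Multiplicative C := AddMonoidHom.toMultiplicative φ
  have hθ : f₁.ker ≤ θ.ker := by
    intro a ha
    rw [MonoidHom.mem_ker] at ha ⊢
    have h1 : Multiplicative.toAdd a ∈ charKer Λ A 𝔪 := (hf₁ a).mp ha
    rw [← hker] at h1
    have h2 : φ (Multiplicative.toAdd a) = 0 := h1
    show Multiplicative.ofAdd (φ (Multiplicative.toAdd a)) = 1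
    rw [h2]; rfl
  have hsurj : Function.Surjective (QuotientGroup.lift f₁.ker θ hθ) := by
    intro c
    obtain ⟨a, ha⟩ := hφ (Multiplicative.toAdd c)
    refine ⟨QuotientGroup.mk (Multiplicative.ofAdd a), ?_⟩
    rw [QuotientGroup.lift_mk]
    show Multiplicative.ofAdd (φ a) = c
    rw [ha]; rfl
  have : IsCyclic (Multiplicative C) := isCyclic_of_surjective _ hsurj
  exact isCyclic_multiplicative_iff.mp this

end Groth.Agent.Lib.Helper6.GrpAlgIdem
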