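import Mathlib

/-!
# `Hom(M, N) ⊗ L ≃ Hom(M, N ⊗ L)` for `M` finitely presented and `L` flat
-/

set_option autoImplicit false
universe u

namespace Groth.Agent.Lib.helper6

open TensorProduct

section
variable (R : Type u) [CommRing R]
  {X Y : Type u} [AddCommGroup X] [Module R X] [AddCommGroup Y] [Module R Y]
  (N L : Type u) [AddCommGroup N] [Module R N] [AddCommGroup L] [Module R L]

/-- naturality of `rTensorHomToHomRTensor` in the source module. -/
lemma rTensorHomToHomRTensor_natural (h : X →ₗ[R] Y) (z : (Y →ₗ[R] N) ⊗[R] L) :
    TensorProduct.rTensorHomToHomRTensor (RingHom.id R) X N L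
        (LinearMap.rTensor L (LinearMap.lcomp R N h) z) =
      LinearMap.lcomp R (N ⊗[R] L) h (TensorProduct.rTensorHomToHomRTensor (RingHom.id R) Y N L z) := by
  induction z using TensorProduct.induction_on with
  | zero => simp
  | add x y hx hy => simp only [map_add, hx, hy]
  | tmul f l =>
    apply LinearMap.ext
    intro x
    simp [TensorProduct.rTensorHomToHomRTensor_apply]

/-- For a finitely presented `R`-module `M`, any `R`-module `N` and a flat `R`-module `L`, the canonical
map `Hom_R(M, N) ⊗_R L → Hom_R(M, N ⊗_R L)` is bijective. -/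
theorem rTensorHomToHomRTensor_bijective
    (M : Type u) [AddCommGroup M] [Module R M]
    [Module.FinitePresentation R M] [Module.Flat R L] :
    Function.Bijective (TensorProduct.rTensorHomToHomRTensor (RingHom.id R) M N L) := by
  obtain ⟨n, m, f, g, hf, hfg⟩ := Module.FinitePresentation.exists_fin' R M
  -- the free cases
  have bn : Function.Bijective
      (TensorProduct.rTensorHomToHomRTensor (RingHom.id R) (Fin n → R) N L) := by
    have := (rTensorHomEquivHomRTensor R (Fin n → R) N L).bijective
    convert this using 1
    funext x
    exact (rTensorHomEquivHomRTensor_apply x).symm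
  have bm : Function.Bijective
      (TensorProduct.rTensorHomToHomRTensor (RingHom.id R) (Fin m → R) N L) := by
    have := (rTensorHomEquivHomRTensor R (Fin m → R) N L).bijective
    convert this using 1
    funext x
    exact (rTensorHomEquivHomRTensor_apply x).symm
  -- exactness
  have e1 : Function.Exact (LinearMap.lcomp R N f) (LinearMap.lcomp R N g) :=
    LinearMap.exact_lcomp_of_exact_of_surjective _ hfg hf
  have i1 : Function.Injective (LinearMap.lcomp R N f) :=
    LinearMap.lcomp_injective_of_surjective f hf
  have e1' : Function.Exact (LinearMap.rTensor L (LinearMap.lcomp R N f))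
      (LinearMap.rTensor L (LinearMap.lcomp R N g)) := Module.Flat.rTensor_exact L e1
  have i1' : Function.Injective (LinearMap.rTensor L (LinearMap.lcomp R N f)) :=
    Module.Flat.rTensor_preserves_injective_linearMap _ i1
  have e2 : Function.Exact (LinearMap.lcomp R (N ⊗[R] L) f) (LinearMap.lcomp R (N ⊗[R] L) g) :=
    LinearMap.exact_lcomp_of_exact_of_surjective _ hfg hf
  have i2 : Function.Injective (LinearMap.lcomp R (N ⊗[R] L) f) :=
    LinearMap.lcomp_injective_of_surjective f hf
  constructor
  · -- injective
    rw [injective_iff_map_eq_zero]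
    intro x hx
    apply i1'
    apply bn.1
    rw [rTensorHomToHomRTensor_natural, hx, map_zero, map_zero, map_zero]
  · intro y
    obtain ⟨z, hz⟩ := bn.2 (LinearMap.lcomp R (N ⊗[R] L) f y)
    have hz0 : LinearMap.rTensor L (LinearMap.lcomp R N g) z = 0 := by
      apply bm.1
      rw [rTensorHomToHomRTensor_natural, hz, map_zero]
      exact e2.apply_apply_eq_zero y
    obtain ⟨x, hx⟩ := (e1' z).1 hz0
    refine ⟨x, ?_⟩
    apply i2
    rw [← rTensorHomToHomRTensor_natural, hx, hz]

end

end Groth.Agent.Lib.helper6
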