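import Mathlib.RingTheory.HopfAlgebra.Convolution
import Mathlib.RingTheory.Bialgebra.TensorProduct

set_option autoImplicit false
open TensorProduct WithConv

namespace Groth.Agent.Lib.helper6

variable {k A : Type*} [CommRing k] [CommRing A] [HopfAlgebra k A]

/-- The antipode of a commutative Hopf algebra is anti-comultiplicative:
`Δ (S a) = Σ S a₂ ⊗ S a₁`. -/
theorem comul_antipode (a : A) :
    CoalgebraStruct.comul (R := k) (HopfAlgebraStruct.antipode (R := k) a) =
      TensorProduct.map (HopfAlgebraStruct.antipode (R := k)) (HopfAlgebraStruct.antipode (R := k))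
        (TensorProduct.comm k A A (CoalgebraStruct.comul (R := k) a)) := by
  let Δ : WithConv (A →ₐ[k] A ⊗[k] A) := toConv (Bialgebra.comulAlgHom k A)
  let i₁ : WithConv (A →ₐ[k] A ⊗[k] A) := toConv Algebra.TensorProduct.includeLeft
  let i₂ : WithConv (A →ₐ[k] A ⊗[k] A) := toConv Algebra.TensorProduct.includeRight
  have h1 : Δ = i₁ * i₂ := by
    apply WithConv.ofConv_injective
    ext a
    have key : ∀ y : A ⊗[k] A, Algebra.TensorProduct.lift
        (Algebra.TensorProduct.includeLeft : A →ₐ[k] A ⊗[k] A)
        Algebra.TensorProduct.includeRight (fun _ _ => .all ..) y = y := by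
      intro y
      induction y with
      | zero => simp
      | tmul a b => simp
      | add x y hx hy => rw [map_add, hx, hy]
    have := AlgHom.convMul_apply i₁ i₂ a
    erw [this]
    exact (key _).symm
  have h2 : Δ⁻¹ = i₂⁻¹ * i₁⁻¹ := by
    rw [h1]
    exact mul_inv_rev i₁ i₂
  have h3 : (Δ⁻¹) a = (i₂⁻¹ * i₁⁻¹) a := by rw [h2]
  rw [AlgHom.convMul_apply] at h3
  have key2 : ∀ y : A ⊗[k] A, Algebra.TensorProduct.lift
      (i₂⁻¹).ofConv (i₁⁻¹).ofConv (fun _ _ => .all ..) y =
      TensorProduct.map (HopfAlgebraStruct.antipode (R := k)) (HopfAlgebraStruct.antipode (R := k))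
        (TensorProduct.comm k A A y) := by
    intro y
    induction y with
    | zero => simp
    | tmul a b => 
      simp only [Algebra.TensorProduct.lift_tmul, TensorProduct.comm_tmul, TensorProduct.map_tmul]
      change ((1 : A) ⊗ₜ[k] HopfAlgebraStruct.antipode k a) *
        (HopfAlgebraStruct.antipode k b ⊗ₜ[k] (1 : A)) = _
      rw [Algebra.TensorProduct.tmul_mul_tmul, one_mul, mul_one]
    | add x y hx hy => rw [map_add, hx, hy, map_add, map_add]
  rw [key2] at h3
  exact h3

end Groth.Agent.Lib.helper6
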