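import Mathlib

/-!
# Speiser's lemma (Galois descent for vector spaces) and linear changes of variables (helper6)

* `speiser`: a finite group `G` of automorphisms of a field `L`, stabilising a subfield `L0` on which
  it acts faithfully and stabilising the `k`-span of an `L0`-linearly independent family `y`;
  then there is an invertible matrix `A` over `L0` such that all `∑ j, A i j • y j` are `G`-invariant.
* `algebraicIndependent_of_isUnit`: an invertible linear change of variables preserves algebraic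
  independence.
-/

set_option autoImplicit false

namespace Groth.Agent.Lib.helper6.Speiser

section speiser

variable {k L : Type*} [Field k] [Field L] [Algebra k L]

theorem smul_eq (L0 : IntermediateField k L) (c : ↥L0) (w : L) : c • w = (c : L) * w := by
  rw [Algebra.smul_def]
  rfl

theorem speiser (L0 : IntermediateField k L) (m : ℕ) (y : Fin m → L)
    (G : Subgroup (L ≃ₐ[k] L)) [Finite G]
    (hL0 : ∀ σ ∈ G, ∀ a ∈ L0, σ a ∈ L0)
    (hy : ∀ σ ∈ G, ∀ j, σ (y j) ∈ Submodule.span k (Set.range y))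
    (hfaith : ∀ σ ∈ G, (∀ a ∈ L0, σ a = a) → σ = 1)
    (hli : LinearIndependent ↥L0 y) :
    ∃ A : Matrix (Fin m) (Fin m) ↥L0, IsUnit A ∧
      ∀ σ ∈ G, ∀ i, σ (∑ j, A i j • y j) = ∑ j, A i j • y j := by
  classical
  haveI : Fintype ↥G := Fintype.ofFinite _
  obtain ⟨ev, hev⟩ : ∃ ev : (Fin m → ↥L0) →ₗ[↥L0] L, ∀ c, ev c = ∑ j, c j • y j :=
    ⟨Fintype.linearCombination ↥L0 y, fun c => Fintype.linearCombination_apply ↥L0 y c⟩
  have hevinj : Function.Injective ev := by
    have h1 := linearIndependent_iff_injective_fintypeLinearCombination.mp hli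
    intro c c' hcc
    apply h1
    rw [Fintype.linearCombination_apply, Fintype.linearCombination_apply, ← hev, ← hev]
    exact hcc
  -- stability of the range of `ev`
  have hstab : ∀ σ ∈ G, ∀ c : Fin m → ↥L0, ∃ c', ev c' = σ (ev c) := by
    intro σ hσ c
    have hmem : σ (ev c) ∈ LinearMap.range ev := by
      rw [hev, map_sum]
      refine Submodule.sum_mem _ (fun j _ => ?_)
      have h1 : σ (c j • y j) = (⟨σ (c j : L), hL0 σ hσ _ (c j).2⟩ : ↥L0) • σ (y j) := by
        rw [smul_eq, smul_eq, map_mul]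
      rw [h1]
      refine Submodule.smul_mem _ _ ?_
      have h2 := hy σ hσ j
      refine Submodule.span_induction (p := fun w _ => w ∈ LinearMap.range ev) ?_ ?_ ?_ ?_ h2
      · rintro _ ⟨l, rfl⟩
        refine ⟨Pi.single l 1, ?_⟩
        rw [hev, Finset.sum_eq_single l]
        · rw [Pi.single_eq_same, one_smul]
        · intro j _ hj
          rw [Pi.single_eq_of_ne hj, zero_smul]
        · intro h
          exact absurd (Finset.mem_univ l) h
      · exact Submodule.zero_mem _
      · intro a b _ _ ha hb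
        exact Submodule.add_mem _ ha hb
      · intro r a _ ha
        rw [← algebraMap_smul ↥L0 r a]
        exact Submodule.smul_mem _ _ ha
    exact hmem
  choose cs hcs using fun (σ : ↥G) (c : Fin m → ↥L0) => hstab σ.1 σ.2 c
  obtain ⟨Inv, hInv⟩ : ∃ Inv : Set (Fin m → ↥L0), Inv = {c | ∀ σ ∈ G, σ (ev c) = ev c} :=
    ⟨_, rfl⟩
  -- Dedekind independence of the restricted automorphisms
  obtain ⟨χ, hχ⟩ : ∃ χ : ↥G → (↥L0 →* L), ∀ (σ : ↥G) (a : ↥L0), χ σ a = σ.1 (a : L) :=
    ⟨fun σ => ((σ.1 : L ≃ₐ[k] L).toAlgHom.toRingHom.comp (algebraMap ↥L0 L)).toMonoidHom,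
      fun σ a => rfl⟩
  have hχinj : Function.Injective χ := by
    intro σ τ hστ
    have h1 : (τ⁻¹ * σ : ↥G).1 = 1 := by
      apply hfaith _ (τ⁻¹ * σ).2
      intro a ha
      have h2 : σ.1 a = τ.1 a := by
        have := DFunLike.congr_fun hστ ⟨a, ha⟩
        rw [hχ, hχ] at this
        exact this
      show (τ.1⁻¹ * σ.1) a = a
      rw [AlgEquiv.mul_apply, h2, ← AlgEquiv.mul_apply, inv_mul_cancel, AlgEquiv.one_apply]
    have h3 : τ⁻¹ * σ = 1 := Subtype.ext h1
    exact (inv_mul_eq_one.mp h3).symm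
  have hLI : LinearIndependent L (fun σ : ↥G => ((χ σ : ↥L0 →* L) : ↥L0 → L)) :=
    (linearIndependent_monoidHom ↥L0 L).comp χ hχinj
  have hspan : Submodule.span ↥L0 Inv = ⊤ := by
    by_contra hne
    obtain ⟨f, hf0, hfU⟩ := Submodule.exists_le_ker_of_lt_top _ (lt_top_iff_ne_top.mpr hne)
    apply hf0
    apply LinearMap.ext
    intro c
    rw [LinearMap.zero_apply]
    -- the trace elements
    have hca : ∀ a : ↥L0,
        (∑ σ : ↥G, (⟨σ.1 (a : L), hL0 σ.1 σ.2 _ a.2⟩ : ↥L0) • cs σ c) ∈ Inv := by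
      intro a
      rw [hInv]
      intro τ hτ
      have h1 : ev (∑ σ : ↥G, (⟨σ.1 (a : L), hL0 σ.1 σ.2 _ a.2⟩ : ↥L0) • cs σ c) =
          ∑ σ : ↥G, σ.1 ((a : L) * ev c) := by
        rw [map_sum]
        refine Finset.sum_congr rfl (fun σ _ => ?_)
        rw [map_smul, hcs, smul_eq, map_mul]
      rw [h1, map_sum]
      have h2 : ∀ σ : ↥G, τ (σ.1 ((a : L) * ev c)) =
          ((⟨τ, hτ⟩ : ↥G) * σ).1 ((a : L) * ev c) := fun σ => rfl
      simp only [h2]
      exact Equiv.sum_comp (Equiv.mulLeft (⟨τ, hτ⟩ : ↥G))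
        (fun σ : ↥G => σ.1 ((a : L) * ev c))
    have hzero : ∀ a : ↥L0, ∑ σ : ↥G, ((f (cs σ c) : ↥L0) : L) * σ.1 (a : L) = 0 := by
      intro a
      have h1 : f (∑ σ : ↥G, (⟨σ.1 (a : L), hL0 σ.1 σ.2 _ a.2⟩ : ↥L0) • cs σ c) = 0 :=
        LinearMap.mem_ker.mp (hfU (Submodule.subset_span (hca a)))
      rw [map_sum] at h1
      have h2 := congrArg (fun z : ↥L0 => (z : L)) h1
      simp only [map_smul, smul_eq_mul] at h2
      rw [AddSubmonoidClass.coe_finsetSum] at h2
      rw [← ZeroMemClass.coe_zero L0] 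
      rw [← h2]
      refine Finset.sum_congr rfl (fun σ _ => ?_)
      rw [MulMemClass.coe_mul, mul_comm]
    have h3 := Fintype.linearIndependent_iff.mp hLI (fun σ => ((f (cs σ c) : ↥L0) : L)) (by
      funext a
      rw [Finset.sum_apply, Pi.zero_apply]
      simp only [Pi.smul_apply, smul_eq_mul, hχ]
      exact hzero a) 1
    have h4 : cs 1 c = c := by
      apply hevinj
      rw [hcs]
      rfl
    rw [h4] at h3
    exact_mod_cast h3
  -- extract a basis of invariant vectors
  obtain ⟨b, hbInv, hbspan, hbli⟩ := exists_linearIndependent ↥L0 Inv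
  have hbtop : ⊤ ≤ Submodule.span ↥L0 (Set.range (Subtype.val : b → (Fin m → ↥L0))) := by
    rw [Subtype.range_coe, hbspan, hspan]
  obtain ⟨T0, hT0⟩ : ∃ T0 : Module.Basis ↥b ↥L0 (Fin m → ↥L0), ∀ i, T0 i = (i : Fin m → ↥L0) :=
    ⟨Module.Basis.mk hbli hbtop, fun i => Module.Basis.mk_apply hbli hbtop i⟩
  haveI : Finite ↥b := Module.Finite.finite_basis T0
  haveI : Fintype ↥b := Fintype.ofFinite _
  have hcard : Fintype.card ↥b = m := by
    have h1 := Module.finrank_eq_card_basis T0
    rw [Module.finrank_fin_fun] at h1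
    exact h1.symm
  obtain ⟨T, hT⟩ : ∃ T : Module.Basis (Fin m) ↥L0 (Fin m → ↥L0), ∀ i, T i ∈ Inv := by
    refine ⟨T0.reindex (Fintype.equivFinOfCardEq hcard), fun i => ?_⟩
    rw [Module.Basis.reindex_apply, hT0]
    exact hbInv (Subtype.prop _)
  refine ⟨Matrix.of fun i j => T i j, ?_, ?_⟩
  · have h1 : (Matrix.of fun i j => T i j) =
        ((Pi.basisFun ↥L0 (Fin m)).toMatrix T).transpose := by
      ext i j
      rw [Matrix.transpose_apply, Module.Basis.toMatrix_apply, Pi.basisFun_repr]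
      rfl
    rw [h1, Matrix.isUnit_iff_isUnit_det, Matrix.det_transpose, ← Matrix.isUnit_iff_isUnit_det]
    haveI := (Pi.basisFun ↥L0 (Fin m)).invertibleToMatrix T
    exact isUnit_of_invertible _
  · intro σ hσ i
    have h1 : ∑ j, (Matrix.of fun i j => T i j) i j • y j = ev (T i) := by
      rw [hev]
      rfl
    rw [h1]
    have h2 := hT i
    rw [hInv] at h2
    exact h2 σ hσ

end speiser

section change

theorem algebraicIndependent_of_isUnit {K L : Type*} [Field K] [Field L] [Algebra K L] {m : ℕ}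
    (y : Fin m → L) (hy : AlgebraicIndependent K y) (A : Matrix (Fin m) (Fin m) K)
    (hA : IsUnit A) : AlgebraicIndependent K (fun i => ∑ j, A i j • y j) := by
  classical
  obtain ⟨B, hAB⟩ : ∃ B : Matrix (Fin m) (Fin m) K, A * B = 1 := by
    obtain ⟨u, rfl⟩ := hA
    exact ⟨↑u⁻¹, u.mul_inv⟩
  obtain ⟨φ, hφ⟩ : ∃ φ : Matrix (Fin m) (Fin m) K →
      (MvPolynomial (Fin m) K →ₐ[K] MvPolynomial (Fin m) K),
      ∀ M i, φ M (MvPolynomial.X i) = ∑ j, MvPolynomial.C (M i j) * MvPolynomial.X j :=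
    ⟨fun M => MvPolynomial.aeval (fun i => ∑ j, MvPolynomial.C (M i j) * MvPolynomial.X j),
      fun M i => MvPolynomial.aeval_X _ i⟩
  have hcomp : ∀ M N : Matrix (Fin m) (Fin m) K, (φ N).comp (φ M) = φ (M * N) := by
    intro M N
    apply MvPolynomial.algHom_ext
    intro i
    rw [AlgHom.comp_apply, hφ, hφ, map_sum]
    have h1 : ∀ j, (φ N) (MvPolynomial.C (M i j) * MvPolynomial.X j) =
        ∑ l, MvPolynomial.C (M i j * N j l) * MvPolynomial.X l := by
      intro j
      rw [map_mul, hφ, Finset.mul_sum]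
      have h2 : (φ N) (MvPolynomial.C (M i j)) = MvPolynomial.C (M i j) := by
        rw [← MvPolynomial.algebraMap_eq, AlgHom.commutes]
      rw [h2]
      refine Finset.sum_congr rfl (fun l _ => ?_)
      rw [map_mul, mul_assoc]
    simp only [h1]
    rw [Finset.sum_comm]
    refine Finset.sum_congr rfl (fun l _ => ?_)
    rw [Matrix.mul_apply, map_sum, Finset.sum_mul]
  have hone : φ 1 = AlgHom.id K _ := by
    apply MvPolynomial.algHom_ext
    intro i
    rw [hφ, AlgHom.id_apply, Finset.sum_eq_single i]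
    · rw [Matrix.one_apply_eq, map_one, one_mul]
    · intro j _ hj
      rw [Matrix.one_apply_ne (Ne.symm hj), map_zero, zero_mul]
    · intro h
      exact absurd (Finset.mem_univ i) h
  have hinj : Function.Injective (φ A) := by
    have h1 : (φ B).comp (φ A) = AlgHom.id K _ := by rw [hcomp, hAB, hone]
    intro p q hpq
    have h2 := congrArg (φ B) hpq
    rw [← AlgHom.comp_apply, ← AlgHom.comp_apply, h1] at h2
    exact h2
  have haeval : (MvPolynomial.aeval (fun i => ∑ j, A i j • y j) : MvPolynomial (Fin m) K →ₐ[K] L) =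
      (MvPolynomial.aeval y).comp (φ A) := by
    apply MvPolynomial.algHom_ext
    intro i
    rw [MvPolynomial.aeval_X, AlgHom.comp_apply, hφ, map_sum]
    refine Finset.sum_congr rfl (fun j _ => ?_)
    rw [map_mul, MvPolynomial.aeval_C, MvPolynomial.aeval_X, Algebra.smul_def]
  rw [algebraicIndependent_iff_injective_aeval, haeval]
  exact (algebraicIndependent_iff_injective_aeval.mp hy).comp hinj

end change

end Groth.Agent.Lib.helper6.Speiser
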