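import Mathlib
import Groth.Agent.Lib.Helper6.Speiser
import Groth.Agent.S15697

/-!
# Generic forms of the no-name lemma (helper6)

* `fixed_bijection`: a field embedding `ι : K1 → L` equivariant for groups `G`, `Γ` restricts to a
  bijection between `K1^G` and `L0 ⊓ L^Γ` where `L0 = ι(K1)`.
* `noname_general`: the no-name lemma for an abstract field `L` generated by two algebraically
  independent families.
* `nonempty_algEquiv_of_algebraicIndependent`: a rational function field over `E ≅ F` is isomorphic
  to `F(t)` for `t` algebraically independent over `F`.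
-/

set_option autoImplicit false
open scoped IntermediateField.algebraAdjoinAdjoin

namespace Groth.Agent.Lib.helper6.InvFld1

section fixed

variable {k K1 L : Type*} [Field k] [Field K1] [Field L] [Algebra k K1] [Algebra k L]

theorem fixed_bijection (ι : K1 →ₐ[k] L) (G : Subgroup (K1 ≃ₐ[k] K1))
    (Γ : Subgroup (L ≃ₐ[k] L)) (L0 : IntermediateField k L)
    (h1 : ∀ a, ι a ∈ L0) (h2 : ∀ c ∈ L0, ∃ a, ι a = c)
    (c1 : ∀ γ ∈ Γ, ∃ σ ∈ G, ∀ a, γ (ι a) = ι (σ a))
    (c2 : ∀ σ ∈ G, ∃ γ ∈ Γ, ∀ a, γ (ι a) = ι (σ a)) :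
    (∀ a : ↥(IntermediateField.fixedField G),
      (ι.comp (IntermediateField.fixedField G).val) a ∈ L0 ⊓ IntermediateField.fixedField Γ) ∧
    (∀ c ∈ L0 ⊓ IntermediateField.fixedField Γ, ∃ a : ↥(IntermediateField.fixedField G),
      (ι.comp (IntermediateField.fixedField G).val) a = c) := by
  constructor
  · intro a
    rw [IntermediateField.mem_inf]
    refine ⟨h1 _, ?_⟩
    rw [IntermediateField.mem_fixedField_iff]
    intro γ hγ
    obtain ⟨σ, hσ, hσγ⟩ := c1 γ hγ
    show γ (ι (a : K1)) = ι (a : K1)
    rw [hσγ, (IntermediateField.mem_fixedField_iff G _).mp a.2 σ hσ]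
  · intro c hc
    rw [IntermediateField.mem_inf] at hc
    obtain ⟨a, rfl⟩ := h2 c hc.1
    have ha : a ∈ IntermediateField.fixedField G := by
      rw [IntermediateField.mem_fixedField_iff]
      intro σ hσ
      obtain ⟨γ, hγ, hσγ⟩ := c2 σ hσ
      apply ι.toRingHom.injective
      show ι (σ a) = ι a
      rw [← hσγ]
      exact (IntermediateField.mem_fixedField_iff Γ _).mp hc.2 γ hγ
    exact ⟨⟨a, ha⟩, rfl⟩

end fixed

section general

variable {k L : Type*} [Field k] [Field L] [Algebra k L]

theorem noname_general (a b : ℕ) (u : Fin a → L) (v : Fin b → L)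
    (hind : AlgebraicIndependent k (Sum.elim v u))
    (hgen : ∀ z : L, ∃ p q : MvPolynomial (Fin b ⊕ Fin a) k,
      MvPolynomial.aeval (Sum.elim v u) q ≠ 0 ∧
      z = MvPolynomial.aeval (Sum.elim v u) p / MvPolynomial.aeval (Sum.elim v u) q)
    (G : Subgroup (L ≃ₐ[k] L)) [Finite G]
    (hu : ∀ σ ∈ G, ∀ i, σ (u i) ∈ Submodule.span k (Set.range u))
    (hv : ∀ σ ∈ G, ∀ i, σ (v i) ∈ Submodule.span k (Set.range v))
    (hfaith : ∀ σ ∈ G, (∀ i, σ (u i) = u i) → σ = 1) :
    ∃ t : Fin b → L,
      AlgebraicIndependent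
        ↥(IntermediateField.adjoin k (Set.range u) ⊓ IntermediateField.fixedField G) t ∧
      IntermediateField.restrictScalars k (IntermediateField.adjoin
        ↥(IntermediateField.adjoin k (Set.range u) ⊓ IntermediateField.fixedField G)
        (Set.range t)) = IntermediateField.fixedField G := by
  classical
  have humem : ∀ i, u i ∈ IntermediateField.adjoin k (Set.range u) :=
    fun i => IntermediateField.subset_adjoin _ _ ⟨i, rfl⟩
  have hL0 : ∀ σ ∈ G, ∀ c ∈ IntermediateField.adjoin k (Set.range u),
      σ c ∈ IntermediateField.adjoin k (Set.range u) := by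
    intro σ hσ c hc
    induction hc using IntermediateField.adjoin_induction with
    | mem z hz =>
      obtain ⟨i, rfl⟩ := hz
      have h1 := hu σ hσ i
      refine Submodule.span_induction
        (p := fun w _ => w ∈ IntermediateField.adjoin k (Set.range u)) ?_ ?_ ?_ ?_ h1
      · intro w hw
        exact IntermediateField.subset_adjoin _ _ hw
      · exact zero_mem _
      · intro a b _ _ ha hb
        exact add_mem ha hb
      · intro r a _ ha
        rw [Algebra.smul_def]
        exact mul_mem (IntermediateField.algebraMap_mem _ r) ha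
    | algebraMap c =>
      rw [AlgEquiv.commutes]
      exact IntermediateField.algebraMap_mem _ c
    | add a b _ _ ha hb =>
      rw [map_add]
      exact add_mem ha hb
    | inv a _ ha =>
      rw [map_inv₀]
      exact inv_mem ha
    | mul a b _ _ ha hb =>
      rw [map_mul]
      exact mul_mem ha hb
  have hvind : AlgebraicIndependent ↥(IntermediateField.adjoin k (Set.range u)) v :=
    ((AlgebraicIndependent.sumElim_iff.mp hind).2).extendScalars _
  have hfaith' : ∀ σ ∈ G, (∀ c ∈ IntermediateField.adjoin k (Set.range u), σ c = c) → σ = 1 :=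
    fun σ hσ h => hfaith σ hσ (fun i => h (u i) (humem i))
  obtain ⟨A, hA, hAinv⟩ := Speiser.speiser
    (IntermediateField.adjoin k (Set.range u)) b v G hL0 hv hfaith' hvind.linearIndependent
  have htind := Speiser.algebraicIndependent_of_isUnit v hvind A hA
  obtain ⟨B, hBA⟩ : ∃ B : Matrix (Fin b) (Fin b) ↥(IntermediateField.adjoin k (Set.range u)),
      B * A = 1 := by
    obtain ⟨w, rfl⟩ := hA
    exact ⟨↑w⁻¹, w.inv_mul⟩
  refine ⟨fun i => ∑ j, A i j • v j, ?_⟩
  refine Groth.Agent.S15697.noname_core (IntermediateField.adjoin k (Set.range u)) b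
    (fun i => ∑ j, A i j • v j) G hL0 hAinv htind ?_
  have hsub : ∀ p : MvPolynomial (Fin b ⊕ Fin a) k,
      MvPolynomial.aeval (Sum.elim v u) p ∈
        (MvPolynomial.aeval (fun i => ∑ j, A i j • v j) :
          MvPolynomial (Fin b) ↥(IntermediateField.adjoin k (Set.range u)) →ₐ[
            ↥(IntermediateField.adjoin k (Set.range u))] L).range := by
    intro p
    induction p using MvPolynomial.induction_on with
    | C c =>
      have h1 : MvPolynomial.aeval (Sum.elim v u) (MvPolynomial.C c : MvPolynomial (Fin b ⊕ Fin a) k) =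
          algebraMap ↥(IntermediateField.adjoin k (Set.range u)) L
            (algebraMap k ↥(IntermediateField.adjoin k (Set.range u)) c) := by
        rw [MvPolynomial.aeval_C, ← IsScalarTower.algebraMap_apply]
      rw [h1]
      exact Subalgebra.algebraMap_mem _ _
    | add p q hp hq =>
      rw [map_add]
      exact Subalgebra.add_mem _ hp hq
    | mul_X p i hp =>
      rw [map_mul]
      refine Subalgebra.mul_mem _ hp ?_
      rw [MvPolynomial.aeval_X]
      rcases i with j | i
      · have h1 : Sum.elim v u (Sum.inl j) = ∑ i, B j i • ∑ l, A i l • v l := by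
          have h2 : ∑ i, B j i • ∑ l, A i l • v l = ∑ l, (B * A) j l • v l := by
            simp only [Finset.smul_sum, smul_smul]
            rw [Finset.sum_comm]
            refine Finset.sum_congr rfl (fun l _ => ?_)
            rw [Matrix.mul_apply, Finset.sum_smul]
          rw [h2, hBA, Finset.sum_eq_single j]
          · rw [Matrix.one_apply_eq, one_smul, Sum.elim_inl]
          · intro l _ hl
            rw [Matrix.one_apply_ne (Ne.symm hl), zero_smul]
          · intro h
            exact absurd (Finset.mem_univ j) h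
        rw [h1]
        refine Subalgebra.sum_mem _ (fun i _ => Subalgebra.smul_mem _ ?_ _)
        exact ⟨MvPolynomial.X i, MvPolynomial.aeval_X _ i⟩
      · have h1 : Sum.elim v u (Sum.inr i) =
            algebraMap ↥(IntermediateField.adjoin k (Set.range u)) L ⟨u i, humem i⟩ := rfl
        rw [h1]
        exact Subalgebra.algebraMap_mem _ _
  intro z
  obtain ⟨p, q, hq, rfl⟩ := hgen z
  obtain ⟨P, hP⟩ := hsub p
  obtain ⟨Q, hQ⟩ := hsub q
  have hP' : MvPolynomial.aeval (fun i => ∑ j, A i j • v j) P =
      MvPolynomial.aeval (Sum.elim v u) p := hP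
  have hQ' : MvPolynomial.aeval (fun i => ∑ j, A i j • v j) Q =
      MvPolynomial.aeval (Sum.elim v u) q := hQ
  refine ⟨P, Q, ?_, ?_⟩
  · rw [hQ']
    exact hq
  · rw [hP', hQ']

end general

section iso

variable {k E L : Type*} [Field k] [Field E] [Field L] [Algebra k E] [Algebra k L]

theorem nonempty_algEquiv_of_algebraicIndependent (j : E →ₐ[k] L) (F Fix : IntermediateField k L)
    (hjF : ∀ a, j a ∈ F) (hFj : ∀ c ∈ F, ∃ a, j a = c) (b : ℕ) (t : Fin b → L)
    (ht : AlgebraicIndependent ↥F t)
    (hfix : IntermediateField.restrictScalars k (IntermediateField.adjoin ↥F (Set.range t)) = Fix) :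
    Nonempty (FractionRing (MvPolynomial (Fin b) E) ≃ₐ[k] ↥(Fix.toSubalgebra)) := by
  classical
  obtain ⟨g, hg⟩ : ∃ g : MvPolynomial (Fin b) E →ₐ[k] L,
      ∀ P, g P = MvPolynomial.eval₂ (j : E →+* L) t P := by
    refine ⟨((MvPolynomial.aeval t : MvPolynomial (Fin b) L →ₐ[L] L).restrictScalars k).comp
      (MvPolynomial.mapAlgHom j), fun P => ?_⟩
    show MvPolynomial.aeval t (MvPolynomial.map (j : E →+* L) P) = _
    rw [MvPolynomial.aeval_def, MvPolynomial.eval₂_map]
    rfl
  obtain ⟨j', hj'⟩ : ∃ j' : E →+* ↥F, (algebraMap ↥F L).comp j' = (j : E →+* L) :=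
    ⟨(j : E →+* L).codRestrict F hjF, RingHom.ext fun a => rfl⟩
  have hg' : ∀ P, g P = MvPolynomial.aeval t (MvPolynomial.map j' P) := by
    intro P
    rw [hg, MvPolynomial.aeval_def, MvPolynomial.eval₂_map, hj']
  have hginj : Function.Injective g := by
    intro P Q hPQ
    rw [hg', hg'] at hPQ
    exact MvPolynomial.map_injective j' j'.injective
      (algebraicIndependent_iff_injective_aeval.mp ht hPQ)
  have hgmem : ∀ P, g P ∈ IntermediateField.adjoin ↥F (Set.range t) := by
    intro P
    rw [hg', MvPolynomial.aeval_def, MvPolynomial.eval₂_eq]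
    refine sum_mem (fun d _ => mul_mem (IntermediateField.algebraMap_mem _ _) (prod_mem (fun i _ =>
      pow_mem (IntermediateField.subset_adjoin _ _ (Set.mem_range_self i)) _)))
  obtain ⟨Ξ, hΞ⟩ : ∃ Ξ : FractionRing (MvPolynomial (Fin b) E) →ₐ[k] L,
      ∀ P, Ξ (algebraMap _ _ P) = g P :=
    ⟨IsFractionRing.liftAlgHom hginj, fun P => IsFractionRing.lift_algebraMap hginj P⟩
  have hrange : Ξ.range = Fix.toSubalgebra := by
    apply le_antisymm
    · rintro _ ⟨w, rfl⟩
      obtain ⟨p, q, -, rfl⟩ := IsFractionRing.div_surjective (A := MvPolynomial (Fin b) E) w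
      show Ξ (algebraMap _ _ p / algebraMap _ _ q) ∈ Fix
      rw [map_div₀, hΞ, hΞ, ← hfix, IntermediateField.mem_restrictScalars]
      exact div_mem (hgmem p) (hgmem q)
    · intro z hz
      have hz' : z ∈ IntermediateField.restrictScalars k
          (IntermediateField.adjoin ↥F (Set.range t)) := by
        rw [hfix]
        exact hz
      rw [IntermediateField.mem_restrictScalars] at hz'
      have hFle : F ≤ Ξ.fieldRange := by
        intro c hc
        obtain ⟨a, rfl⟩ := hFj c hc
        refine ⟨algebraMap (MvPolynomial (Fin b) E) (FractionRing (MvPolynomial (Fin b) E))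
          (MvPolynomial.C a), ?_⟩
        show Ξ (algebraMap (MvPolynomial (Fin b) E) (FractionRing (MvPolynomial (Fin b) E))
          (MvPolynomial.C a)) = j a
        rw [hΞ, hg, MvPolynomial.eval₂_C]
        rfl
      have hle : IntermediateField.adjoin ↥F (Set.range t) ≤
          IntermediateField.extendScalars hFle := by
        rw [IntermediateField.adjoin_le_iff]
        rintro _ ⟨i, rfl⟩
        refine ⟨algebraMap (MvPolynomial (Fin b) E) (FractionRing (MvPolynomial (Fin b) E))
          (MvPolynomial.X i), ?_⟩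
        show Ξ (algebraMap (MvPolynomial (Fin b) E) (FractionRing (MvPolynomial (Fin b) E))
          (MvPolynomial.X i)) = t i
        rw [hΞ, hg, MvPolynomial.eval₂_X]
      obtain ⟨w, hw⟩ := hle hz'
      exact ⟨w, hw⟩
  exact ⟨(AlgEquiv.ofInjectiveField Ξ).trans (Subalgebra.equivOfEq _ _ hrange)⟩

end iso

end Groth.Agent.Lib.helper6.InvFld1
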