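import Mathlib

/-!
# Jacobian criterion for a hypersurface in a smooth algebra, at a prime (helper6)

`A → B → R` with `B → R` surjective with kernel `(g)`, `p` a prime of `R`, `q` its preimage in `B`,
`B_q` formally smooth over `A` and `B` essentially of finite type over `A`. Then
`R` is smooth over `A` at `p` iff `g = 0` in `B_q` or `1 ⊗ dg ≠ 0` in `κ(p) ⊗_B Ω_{B/A}`.
-/

set_option autoImplicit false
universe u

namespace Groth.Agent.Lib.helper6.JacCore

open TensorProduct KaehlerDifferential

section

variable (A B R : Type u) [CommRing A] [CommRing B] [CommRing R]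
    [Algebra A B] [Algebra B R] [Algebra A R] [IsScalarTower A B R] (g : B)
    (p : Ideal R) [p.IsPrime]

local notation "Bq" => Localization.AtPrime (Ideal.comap (algebraMap B R) p)
local notation "Rp" => Localization.AtPrime p
local notation "φ" =>
  Localization.localRingHom (Ideal.comap (algebraMap B R) p) p (algebraMap B R) rfl

theorem localRingHom_surjective (hsurj : Function.Surjective (algebraMap B R)) :
    Function.Surjective φ := by
  intro x
  obtain ⟨r, s, rfl⟩ := IsLocalization.exists_mk'_eq p.primeCompl x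
  obtain ⟨b, rfl⟩ := hsurj r
  obtain ⟨t, ht⟩ := hsurj s
  have htq : t ∈ (Ideal.comap (algebraMap B R) p).primeCompl := by
    show t ∉ Ideal.comap (algebraMap B R) p
    rw [Ideal.mem_comap, ht]
    exact s.2
  refine ⟨IsLocalization.mk' _ b ⟨t, htq⟩, ?_⟩
  rw [Localization.localRingHom_mk']
  congr 1
  exact Subtype.ext ht

theorem ker_localRingHom (hsurj : Function.Surjective (algebraMap B R))
    (hker : RingHom.ker (algebraMap B R) = Ideal.span {g}) :
    RingHom.ker φ = Ideal.span {algebraMap B Bq g} := by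
  apply le_antisymm
  · intro x hx
    rw [RingHom.mem_ker] at hx
    obtain ⟨b, t, rfl⟩ := IsLocalization.exists_mk'_eq
      (Ideal.comap (algebraMap B R) p).primeCompl x
    rw [Localization.localRingHom_mk', IsLocalization.mk'_eq_zero_iff] at hx
    obtain ⟨s, hs⟩ := hx
    obtain ⟨s', hs'⟩ := hsurj s
    have hs'q : s' ∈ (Ideal.comap (algebraMap B R) p).primeCompl := by
      show s' ∉ Ideal.comap (algebraMap B R) p
      rw [Ideal.mem_comap, hs']
      exact s.2
    have h1 : s' * b ∈ RingHom.ker (algebraMap B R) := by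
      rw [RingHom.mem_ker, map_mul, hs', hs]
    rw [hker, Ideal.mem_span_singleton'] at h1
    obtain ⟨c, hc⟩ := h1
    have hu : IsUnit (algebraMap B Bq (s' * t)) :=
      IsLocalization.map_units Bq ((⟨s', hs'q⟩ : (Ideal.comap (algebraMap B R) p).primeCompl) * t)
    rw [← Ideal.unit_mul_mem_iff_mem _ hu]
    have h2 : algebraMap B Bq (s' * t) * IsLocalization.mk' Bq b t =
        algebraMap B Bq c * algebraMap B Bq g := by
      rw [map_mul, mul_assoc, mul_comm (algebraMap B Bq (t : B)), IsLocalization.mk'_spec,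
        ← map_mul, ← map_mul, hc]
    rw [h2]
    exact Ideal.mul_mem_left _ _ (Ideal.mem_span_singleton_self _)
  · rw [Ideal.span_le, Set.singleton_subset_iff]
    show φ (algebraMap B Bq g) = 0
    rw [Localization.localRingHom_to_map]
    have h1 : algebraMap B R g = 0 := by
      rw [← RingHom.mem_ker, hker]
      exact Ideal.mem_span_singleton_self g
    rw [h1, map_zero]

/-- The algebra structure `B_q → R_p`. -/
@[reducible] noncomputable def algLoc : Algebra Bq Rp := (φ).toAlgebra

attribute [local instance] algLoc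

theorem algebraMap_algLoc (b : B) :
    algebraMap Bq Rp (algebraMap B Bq b) = algebraMap R Rp (algebraMap B R b) :=
  Localization.localRingHom_to_map (Ideal.comap (algebraMap B R) p) p (algebraMap B R) rfl b

theorem isScalarTower_B : IsScalarTower B Bq Rp :=
  IsScalarTower.of_algebraMap_eq (fun b => by
    rw [algebraMap_algLoc]
    exact IsScalarTower.algebraMap_apply B R Rp b)

theorem isScalarTower_A : IsScalarTower A Bq Rp :=
  IsScalarTower.of_algebraMap_eq (fun a => by
    rw [IsScalarTower.algebraMap_apply A B Bq, algebraMap_algLoc,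
      ← IsScalarTower.algebraMap_apply A B R, ← IsScalarTower.algebraMap_apply A R Rp])

attribute [local instance] isScalarTower_B isScalarTower_A

theorem isScalarTower_K : IsScalarTower B Bq p.ResidueField :=
  IsScalarTower.of_algebraMap_eq (fun b => by
    rw [IsScalarTower.algebraMap_apply B Rp p.ResidueField,
      IsScalarTower.algebraMap_apply Bq Rp p.ResidueField,
      ← IsScalarTower.algebraMap_apply B Bq Rp])

attribute [local instance] isScalarTower_K

/-- The comparison `κ(p) ⊗_B Ω_{B/A} ≃ κ(p) ⊗_{B_q} Ω_{B_q/A}`. -/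
noncomputable def fibreEquiv :
    p.ResidueField ⊗[B] Ω[B⁄A] ≃ₗ[p.ResidueField] p.ResidueField ⊗[Bq] Ω[Bq⁄A] :=
  haveI : Algebra.FormallyEtale B Bq :=
    Algebra.FormallyEtale.of_isLocalization (Ideal.comap (algebraMap B R) p).primeCompl
  (AlgebraTensorModule.cancelBaseChange B Bq p.ResidueField p.ResidueField Ω[B⁄A]).symm ≪≫ₗ
    AlgebraTensorModule.congr (LinearEquiv.refl p.ResidueField p.ResidueField)
      (tensorKaehlerEquivOfFormallyEtale A B Bq)

theorem fibreEquiv_tmul_D (b : B) :
    fibreEquiv A B R p ((1 : p.ResidueField) ⊗ₜ[B] D A B b) =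
      (1 : p.ResidueField) ⊗ₜ[Bq] D A Bq (algebraMap B Bq b) := by
  haveI : Algebra.FormallyEtale B Bq :=
    Algebra.FormallyEtale.of_isLocalization (Ideal.comap (algebraMap B R) p).primeCompl
  show (AlgebraTensorModule.congr (LinearEquiv.refl p.ResidueField p.ResidueField)
      (tensorKaehlerEquivOfFormallyEtale A B Bq))
    ((AlgebraTensorModule.cancelBaseChange B Bq p.ResidueField p.ResidueField Ω[B⁄A]).symm
      ((1 : p.ResidueField) ⊗ₜ[B] D A B b)) = _
  rw [AlgebraTensorModule.cancelBaseChange_symm_tmul, AlgebraTensorModule.congr_tmul,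
    LinearEquiv.refl_apply, tensorKaehlerEquivOfFormallyEtale_apply, mapBaseChange_tmul,
    one_smul, map_D]

/-- The Jacobian criterion at a prime of a hypersurface. -/
theorem isSmoothAt_iff [Algebra.EssFiniteType A B]
    (hsurj : Function.Surjective (algebraMap B R))
    (hker : RingHom.ker (algebraMap B R) = Ideal.span {g})
    (hX : Algebra.FormallySmooth A Bq) :
    Algebra.IsSmoothAt A p ↔
      algebraMap B Bq g = 0 ∨ (1 : p.ResidueField) ⊗ₜ[B] D A B g ≠ 0 := by
  haveI : Algebra.EssFiniteType B Bq :=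
    Algebra.EssFiniteType.of_isLocalization Bq (Ideal.comap (algebraMap B R) p).primeCompl
  haveI : Algebra.EssFiniteType A Bq := Algebra.EssFiniteType.comp A B Bq
  haveI : Module.Free Bq Ω[Bq⁄A] := Module.free_of_flat_of_isLocalRing
  have h₁ : Function.Surjective (algebraMap Bq Rp) := localRingHom_surjective B R p hsurj
  have hkerφ : RingHom.ker (algebraMap Bq Rp) = Ideal.span {algebraMap B Bq g} :=
    ker_localRingHom B R g p hsurj hker
  have h₂ : (RingHom.ker (algebraMap Bq Rp)).FG := by
    rw [hkerφ]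
    exact ⟨{algebraMap B Bq g}, by simp⟩
  have hg'mem : algebraMap B Bq g ∈ RingHom.ker (algebraMap Bq Rp) := by
    rw [hkerφ]; exact Ideal.mem_span_singleton_self _
  -- every element of `κ ⊗ ker` is `k ⊗ g'`
  have hgen : ∀ x : p.ResidueField ⊗[Bq] (RingHom.ker (algebraMap Bq Rp)),
      ∃ k : p.ResidueField, x = k ⊗ₜ[Bq] (⟨algebraMap B Bq g, hg'mem⟩ :
        RingHom.ker (algebraMap Bq Rp)) := by
    intro x
    induction x using TensorProduct.induction_on with
    | zero => exact ⟨0, (TensorProduct.zero_tmul _ _).symm⟩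
    | add x y hx hy =>
      obtain ⟨k1, rfl⟩ := hx
      obtain ⟨k2, rfl⟩ := hy
      exact ⟨k1 + k2, (TensorProduct.add_tmul _ _ _).symm⟩
    | tmul k b =>
      have hb : (b : Bq) ∈ Ideal.span {algebraMap B Bq g} := hkerφ ▸ b.2
      obtain ⟨c, hc⟩ := Ideal.mem_span_singleton'.mp hb
      refine ⟨c • k, ?_⟩
      have hbG : b = c • (⟨algebraMap B Bq g, hg'mem⟩ : RingHom.ker (algebraMap Bq Rp)) :=
        Subtype.ext (by
          rw [SetLike.val_smul, smul_eq_mul]
          exact hc.symm)
      rw [hbG, TensorProduct.smul_tmul]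
  have hΨ : ∀ k : p.ResidueField, cotangentComplexBaseChange A Rp Bq p.ResidueField
      (k ⊗ₜ[Bq] (⟨algebraMap B Bq g, hg'mem⟩ : RingHom.ker (algebraMap Bq Rp))) =
      k • ((1 : p.ResidueField) ⊗ₜ[Bq] D A Bq (algebraMap B Bq g)) := by
    intro k
    rw [cotangentComplexBaseChange_tmul, kerToTensor_apply]
  -- Nakayama: `1 ⊗ g' ≠ 0` if `g' ≠ 0`
  have hne : algebraMap B Bq g ≠ 0 → (1 : p.ResidueField) ⊗ₜ[Bq]
      (⟨algebraMap B Bq g, hg'mem⟩ : RingHom.ker (algebraMap Bq Rp)) ≠ 0 := by
    intro hg0
    let T₀ : Bq →ₗ[Bq] (RingHom.ker (algebraMap Bq Rp)) :=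
      LinearMap.toSpanSingleton Bq _ (⟨algebraMap B Bq g, hg'mem⟩ :
        RingHom.ker (algebraMap Bq Rp))
    have hT₀ : ∀ c : Bq, ((T₀ c : RingHom.ker (algebraMap Bq Rp)) : Bq) =
        c * algebraMap B Bq g := by
      intro c
      show ((c • (⟨algebraMap B Bq g, hg'mem⟩ : RingHom.ker (algebraMap Bq Rp)) :
        RingHom.ker (algebraMap Bq Rp)) : Bq) = _
      rw [SetLike.val_smul, smul_eq_mul]
    have hT₀surj : Function.Surjective T₀ := by
      intro b
      have hb : (b : Bq) ∈ Ideal.span {algebraMap B Bq g} := hkerφ ▸ b.2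
      obtain ⟨c, hc⟩ := Ideal.mem_span_singleton'.mp hb
      exact ⟨c, Subtype.ext (by rw [hT₀, hc])⟩
    have hle : LinearMap.ker T₀ ≤ LinearMap.ker (Algebra.linearMap Bq p.ResidueField) := by
      intro c hc
      rw [LinearMap.mem_ker] at hc ⊢
      have hc' : c * algebraMap B Bq g = 0 := by
        rw [← hT₀, hc]; rfl
      have hcnu : ¬ IsUnit c := fun hu => hg0 (by rwa [hu.mul_right_eq_zero] at hc')
      show algebraMap Bq p.ResidueField c = 0
      rw [IsScalarTower.algebraMap_apply Bq Rp p.ResidueField]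
      show IsLocalRing.residue Rp (algebraMap Bq Rp c) = 0
      rw [IsLocalRing.residue_eq_zero_iff, IsLocalRing.mem_maximalIdeal, mem_nonunits_iff]
      haveI : IsLocalHom (algebraMap Bq Rp) :=
        Localization.isLocalHom_localRingHom (Ideal.comap (algebraMap B R) p) p _ rfl
      exact fun hu => hcnu (isUnit_of_map_unit (algebraMap Bq Rp) c hu)
    let ψ : (RingHom.ker (algebraMap Bq Rp)) →ₗ[Bq] p.ResidueField :=
      (Submodule.liftQ _ (Algebra.linearMap Bq p.ResidueField) hle).comp
        (T₀.quotKerEquivOfSurjective hT₀surj).symm.toLinearMap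
    have hψG : ψ (⟨algebraMap B Bq g, hg'mem⟩ : RingHom.ker (algebraMap Bq Rp)) = 1 := by
      have h1 : (T₀.quotKerEquivOfSurjective hT₀surj).symm
          (⟨algebraMap B Bq g, hg'mem⟩ : RingHom.ker (algebraMap Bq Rp)) =
          Submodule.Quotient.mk 1 := by
        rw [LinearEquiv.symm_apply_eq, LinearMap.quotKerEquivOfSurjective_apply_mk]
        exact Subtype.ext (by rw [hT₀, one_mul])
      show Submodule.liftQ _ (Algebra.linearMap Bq p.ResidueField) hle
        ((T₀.quotKerEquivOfSurjective hT₀surj).symm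
          (⟨algebraMap B Bq g, hg'mem⟩ : RingHom.ker (algebraMap Bq Rp))) = 1
      rw [h1, Submodule.liftQ_apply, Algebra.linearMap_apply, map_one]
    intro h0
    have h2 := congrArg (LinearMap.liftBaseChange p.ResidueField ψ) h0
    rw [LinearMap.liftBaseChange_tmul, hψG, map_zero, one_smul] at h2
    exact one_ne_zero h2
  have hcrit : Function.Injective (cotangentComplexBaseChange A Rp Bq p.ResidueField) ↔
      algebraMap B Bq g = 0 ∨
        (1 : p.ResidueField) ⊗ₜ[Bq] D A Bq (algebraMap B Bq g) ≠ 0 := by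
    constructor
    · intro hinj
      by_contra hcon
      rw [not_or, not_not] at hcon
      obtain ⟨hg0, hD0⟩ := hcon
      have h1 : cotangentComplexBaseChange A Rp Bq p.ResidueField
          ((1 : p.ResidueField) ⊗ₜ[Bq] (⟨algebraMap B Bq g, hg'mem⟩ :
            RingHom.ker (algebraMap Bq Rp))) = 0 := by
        rw [hΨ, hD0, smul_zero]
      exact hne hg0 (hinj (h1.trans (map_zero _).symm))
    · rintro (hg0 | hD)
      · intro x y _
        obtain ⟨k1, rfl⟩ := hgen x
        obtain ⟨k2, rfl⟩ := hgen y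
        have hG0 : (⟨algebraMap B Bq g, hg'mem⟩ : RingHom.ker (algebraMap Bq Rp)) = 0 :=
          Subtype.ext hg0
        rw [hG0, TensorProduct.tmul_zero, TensorProduct.tmul_zero]
      · rw [injective_iff_map_eq_zero]
        intro x hx
        obtain ⟨k, rfl⟩ := hgen x
        rw [hΨ] at hx
        rcases smul_eq_zero.mp hx with hk | hD0
        · rw [hk, TensorProduct.zero_tmul]
        · exact absurd hD0 hD
  show Algebra.FormallySmooth A Rp ↔ _
  rw [Algebra.FormallySmooth.iff_injective_cotangentComplexBaseChange_residueField Bq h₁ h₂,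
    hcrit, ← fibreEquiv_tmul_D A B R p g, Ne, Ne, LinearEquiv.map_eq_zero_iff]

end

end Groth.Agent.Lib.helper6.JacCore
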