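import Mathlib
import Groth.Agent.Lib.Helper2.KC5

/-!
# helper6: the top cohomology of the Koszul complexes of powers, with transition maps

For a list `fs` in a commutative ring `A`, a module `M`, and `Kn M n fs = CohIII.koszulCx M (fs.map (·^n))`:
* `subsingleton_X`: terms in positive degrees vanish;
* `e0`, `i0`: mutually inverse identifications of the degree-`0` term with `M`;
* `e0_trans`: the transition map `koszulTrans` is multiplication by `(∏ fs)^(m-n)` in degree `0`;
* `Jn M n fs = (f₁ⁿ, …, f_rⁿ) M` and `exists_d_iff`: it is the image of `d^{-1}`;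
* `pi : M → H^0(Kn M n fs)` surjective, `pi_eq_zero_iff`, `pi_trans`;
* `trans_self`, `trans_trans`: the directed system of homologies.
-/

set_option autoImplicit false
universe u

open CategoryTheory CategoryTheory.Limits HomologicalComplex CochainComplex HomComplex

namespace Groth.Agent.Lib.helper6.KosTop

open CohIII Groth.Agent.Lib.helper2.CxH Groth.Agent.Lib.helper2.Cone Groth.Agent.Lib.helper2.KC

variable {A : Type u} [CommRing A] (M : ModuleCat.{u} A)

lemma subsingleton_X (n : ℕ) : ∀ (fs : List A) (j : ℤ), 0 < j → Subsingleton ((Kn M n fs).X j)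
  | [], j, hj => ModuleCat.subsingleton_of_isZero
      (HomologicalComplex.isZero_single_obj_X (ComplexShape.up ℤ) 0 M j hj.ne')
  | f :: fs, j, hj => by
    haveI := subsingleton_X n fs j hj
    haveI := subsingleton_X n fs (j + 1) (by omega)
    exact ⟨fun c c' => k_ext M n f fs j (j + 1) rfl (Subsingleton.elim _ _)
      (Subsingleton.elim _ _)⟩

/-- the degree-`0` term is `M` -/
noncomputable def e0 (n : ℕ) : ∀ (fs : List A) (q : ℤ), q = 0 → ((Kn M n fs).X q →ₗ[A] M)
  | [], q, hq => (HomologicalComplex.singleObjXIsoOfEq (ComplexShape.up ℤ) 0 M q hq).hom.hom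
  | f :: fs, q, hq => (e0 n fs q hq) ∘ₗ (kS M n f fs q)

/-- `M` is the degree-`0` term -/
noncomputable def i0 (n : ℕ) : ∀ (fs : List A) (q : ℤ), q = 0 → (M →ₗ[A] (Kn M n fs).X q)
  | [], q, hq => (HomologicalComplex.singleObjXIsoOfEq (ComplexShape.up ℤ) 0 M q hq).inv.hom
  | f :: fs, q, hq => (kR M n f fs q) ∘ₗ (i0 n fs q hq)

lemma e0_cons (n : ℕ) (f : A) (fs : List A) (q : ℤ) (hq : q = 0)
    (x : (Kn M n (f :: fs)).X q) :
    e0 M n (f :: fs) q hq x = e0 M n fs q hq (kS M n f fs q x) := rfl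

lemma i0_cons (n : ℕ) (f : A) (fs : List A) (q : ℤ) (hq : q = 0) (m : M) :
    i0 M n (f :: fs) q hq m = kR M n f fs q (i0 M n fs q hq m) := rfl

lemma e0_i0 (n : ℕ) : ∀ (fs : List A) (q : ℤ) (hq : q = 0) (m : M),
    e0 M n fs q hq (i0 M n fs q hq m) = m
  | [], q, hq, m => congrArg (fun t => t.hom m)
      (HomologicalComplex.singleObjXIsoOfEq (ComplexShape.up ℤ) 0 M q hq).inv_hom_id
  | f :: fs, q, hq, m => by
    rw [i0_cons, e0_cons, kS_kR]
    exact e0_i0 n fs q hq m

lemma i0_e0 (n : ℕ) : ∀ (fs : List A) (q : ℤ) (hq : q = 0) (x : (Kn M n fs).X q),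
    i0 M n fs q hq (e0 M n fs q hq x) = x
  | [], q, hq, x => congrArg (fun t => t.hom x)
      (HomologicalComplex.singleObjXIsoOfEq (ComplexShape.up ℤ) 0 M q hq).hom_inv_id
  | f :: fs, q, hq, x => by
    haveI := subsingleton_X M n fs (q + 1) (by omega)
    apply k_ext M n f fs q (q + 1) rfl
    · exact Subsingleton.elim _ _
    · rw [e0_cons, i0_cons, kS_kR]
      exact i0_e0 n fs q hq (kS M n f fs q x)

lemma e0_trans (n m : ℕ) (h : n ≤ m) : ∀ (fs : List A) (q : ℤ) (hq : q = 0)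
    (x : (Kn M n fs).X q),
    e0 M m fs q hq (((koszulTrans M n m h fs).f q).hom x) =
      fs.prod ^ (m - n) • e0 M n fs q hq x
  | [], q, hq, x => by
    rw [List.prod_nil, one_pow, one_smul]
    rfl
  | f :: fs, q, hq, x => by
    rw [e0_cons, e0_cons, kS_trans, map_smul, e0_trans n m h fs q hq, List.prod_cons, mul_pow,
      mul_smul]

/-- the submodule `(f₁ⁿ, …, f_rⁿ) M` -/
def Jn (n : ℕ) : List A → Submodule A M
  | [] => ⊥
  | f :: fs => LinearMap.range ((f ^ n) • (LinearMap.id : M →ₗ[A] M)) ⊔ Jn n fs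

lemma Jn_nil (n : ℕ) : Jn M n [] = ⊥ := rfl

lemma Jn_cons (n : ℕ) (f : A) (fs : List A) :
    Jn M n (f :: fs) = LinearMap.range ((f ^ n) • (LinearMap.id : M →ₗ[A] M)) ⊔ Jn M n fs := rfl

lemma range_le_Jn (n : ℕ) : ∀ (fs : List A) (f : A), f ∈ fs →
    LinearMap.range ((f ^ n) • (LinearMap.id : M →ₗ[A] M)) ≤ Jn M n fs
  | [], f, hf => by simp at hf
  | g :: fs, f, hf => by
    rw [Jn_cons]
    rcases List.mem_cons.mp hf with rfl | hf'
    · exact le_sup_left
    · exact (range_le_Jn n fs f hf').trans le_sup_right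

lemma exists_d_iff (n : ℕ) : ∀ (fs : List A) (qm q : ℤ) (hqm : qm + 1 = q) (hq : q = 0) (m : M),
    (∃ y : (Kn M n fs).X qm, e0 M n fs q hq (((Kn M n fs).d qm q).hom y) = m) ↔ m ∈ Jn M n fs
  | [], qm, q, hqm, hq, m => by
    haveI : Subsingleton ((Kn M n []).X qm) := ModuleCat.subsingleton_of_isZero
      (HomologicalComplex.isZero_single_obj_X (ComplexShape.up ℤ) 0 M qm (by omega))
    constructor
    · rintro ⟨y, rfl⟩
      rw [Subsingleton.elim y 0, map_zero, map_zero]
      exact Submodule.zero_mem _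
    · intro hm
      have : m = 0 := (Submodule.mem_bot A).mp hm
      exact ⟨0, by rw [map_zero, map_zero, this]⟩
  | f :: fs, qm, q, hqm, hq, m => by
    constructor
    · rintro ⟨y, rfl⟩
      rw [e0_cons, kS_d M n f fs qm q hqm y, map_add, map_smul, Jn_cons]
      refine Submodule.add_mem_sup ?_ ?_
      · exact ⟨e0 M n fs q hq (kF M n f fs qm q hqm y), rfl⟩
      · exact (exists_d_iff n fs qm q hqm hq _).mp ⟨kS M n f fs qm y, rfl⟩
    · intro hm
      rw [Jn_cons] at hm
      obtain ⟨a, ⟨m0, rfl⟩, b, hb, rfl⟩ := Submodule.mem_sup.mp hm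
      obtain ⟨y', hy'⟩ := (exists_d_iff n fs qm q hqm hq b).mpr hb
      refine ⟨kL M n f fs q qm (by omega) (i0 M n fs q hq m0) + kR M n f fs qm y', ?_⟩
      rw [e0_cons, kS_d M n f fs qm q hqm]
      simp only [map_add, map_smul, kF_kL, kF_kR, kS_kL, kS_kR, add_zero, zero_add, e0_i0, hy',
        LinearMap.smul_apply, LinearMap.id_apply]

section Homology

variable (n : ℕ) (fs : List A) (q : ℤ) (hq : q = 0)

lemma i0_mem_Zc (m : M) : i0 M n fs q hq m ∈ Zc (Kn M n fs) q (q + 1) := by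
  haveI := subsingleton_X M n fs (q + 1) (by omega)
  exact (mem_Zc _).2 (Subsingleton.elim _ _)

/-- the canonical surjection `M → H^0(K(fⁿ; M))` -/
noncomputable def pi : M →ₗ[A] (Kn M n fs).homology q :=
  (cls (Kn M n fs) q (q + 1) rfl) ∘ₗ
    (LinearMap.codRestrict (Zc (Kn M n fs) q (q + 1)) (i0 M n fs q hq) (i0_mem_Zc M n fs q hq))

lemma pi_apply (m : M) : pi M n fs q hq m =
    cls (Kn M n fs) q (q + 1) rfl ⟨i0 M n fs q hq m, i0_mem_Zc M n fs q hq m⟩ := rfl

lemma pi_surjective : Function.Surjective (pi M n fs q hq) := by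
  intro x
  obtain ⟨z, rfl⟩ := cls_surjective (Kn M n fs) q (q + 1) rfl x
  refine ⟨e0 M n fs q hq z.1, ?_⟩
  rw [pi_apply]
  congr 1
  exact Subtype.ext (i0_e0 M n fs q hq z.1)

lemma pi_eq_zero_iff (m : M) : pi M n fs q hq m = 0 ↔ m ∈ Jn M n fs := by
  rw [pi_apply, cls_eq_zero_iff (Kn M n fs) (q - 1) q (q + 1) (by ring) rfl,
    ← exists_d_iff M n fs (q - 1) q (by ring) hq m]
  constructor
  · rintro ⟨y, hy⟩
    refine ⟨y, ?_⟩
    rw [hy]
    exact e0_i0 M n fs q hq m
  · rintro ⟨y, hy⟩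
    refine ⟨y, ?_⟩
    show ((Kn M n fs).d (q - 1) q).hom y = i0 M n fs q hq m
    rw [← hy, i0_e0]

end Homology

lemma pi_trans (n m : ℕ) (h : n ≤ m) (fs : List A) (q : ℤ) (hq : q = 0) (x : M) :
    (HomologicalComplex.homologyMap (koszulTrans M n m h fs) q).hom (pi M n fs q hq x) =
      pi M m fs q hq (fs.prod ^ (m - n) • x) := by
  rw [pi_apply, homologyMap_cls, pi_apply]
  congr 1
  apply Subtype.ext
  show ((koszulTrans M n m h fs).f q).hom (i0 M n fs q hq x) =
    i0 M m fs q hq (fs.prod ^ (m - n) • x)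
  rw [← i0_e0 M m fs q hq (((koszulTrans M n m h fs).f q).hom (i0 M n fs q hq x)), e0_trans,
    e0_i0]

lemma trans_self (n : ℕ) (fs : List A) (q : ℤ) (x : (Kn M n fs).homology q) :
    (HomologicalComplex.homologyMap (koszulTrans M n n le_rfl fs) q).hom x = x := by
  obtain ⟨z, rfl⟩ := cls_surjective (Kn M n fs) q (q + 1) rfl x
  rw [homologyMap_cls]
  congr 1
  exact Subtype.ext (koszulTrans_self M n fs q z.1)

lemma trans_trans (n m l : ℕ) (h : n ≤ m) (h' : m ≤ l) (fs : List A) (q : ℤ)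
    (x : (Kn M n fs).homology q) :
    (HomologicalComplex.homologyMap (koszulTrans M m l h' fs) q).hom
        ((HomologicalComplex.homologyMap (koszulTrans M n m h fs) q).hom x) =
      (HomologicalComplex.homologyMap (koszulTrans M n l (h.trans h') fs) q).hom x := by
  obtain ⟨z, rfl⟩ := cls_surjective (Kn M n fs) q (q + 1) rfl x
  rw [homologyMap_cls, homologyMap_cls, homologyMap_cls]
  congr 1
  exact Subtype.ext (koszulTrans_trans M n m l h h' fs q z.1)

end Groth.Agent.Lib.helper6.KosTop
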