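import Mathlib

/-!
# Index identities for sublattices of `ℤ^ι` (helper6)

Generic-index versions of helper28's `LatIdx` lemmas (with the rank hypothesis replaced by an
explicit description of the kernel), plus: for an integer matrix `L` with zero row and column sums,
`[ker Σ : im L] = |det L'|` with `L'` the matrix with row and column `r` removed.
-/

set_option autoImplicit false
namespace Groth.Agent.Lib.helper6.LatGen
open Finset Matrix

variable {ι : Type*} [Fintype ι] [DecidableEq ι]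

/-- sum of coordinates -/
abbrev Ssum (ι : Type*) [Fintype ι] : (ι → ℤ) →ₗ[ℤ] ℤ :=
  ∑ i : ι, (LinearMap.proj i : (ι → ℤ) →ₗ[ℤ] ℤ)

/-- diagonal map -/
abbrev Dm (δ : ι → ℤ) : (ι → ℤ) →ₗ[ℤ] (ι → ℤ) := Matrix.mulVecLin (Matrix.diagonal δ)

lemma Ssum_apply (x : ι → ℤ) : Ssum ι x = ∑ i, x i := by
  simp [Ssum, LinearMap.sum_apply]

lemma Dm_apply (δ x : ι → ℤ) (i : ι) : Dm δ x i = δ i * x i := by
  simp [Dm, Matrix.mulVec_diagonal]

lemma Dm_injective (δ : ι → ℤ) (hδ : ∀ i, δ i ≠ 0) : Function.Injective (Dm δ) := by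
  intro x y h
  funext i
  have := congrFun h i
  rw [Dm_apply, Dm_apply] at this
  exact mul_left_cancel₀ (hδ i) this

/-- index of the range of a square integer matrix -/
lemma index_range (M : Matrix ι ι ℤ) :
    (LinearMap.range M.mulVecLin).toAddSubgroup.index = M.det.natAbs := by
  by_cases hM : M.det = 0
  · rw [hM, Int.natAbs_zero]
    obtain ⟨u, hu0, hu⟩ := Matrix.exists_vecMul_eq_zero_iff.2 hM
    let f : (ι → ℤ) →+ ℤ :=
      (∑ i, u i • (LinearMap.proj i : (ι → ℤ) →ₗ[ℤ] ℤ)).toAddMonoidHom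
    have hf : ∀ x, f x = ∑ i, u i * x i := by
      intro x
      simp [f, LinearMap.sum_apply]
    have hle : (LinearMap.range M.mulVecLin).toAddSubgroup ≤ f.ker := by
      rintro x ⟨y, rfl⟩
      rw [AddMonoidHom.mem_ker, hf]
      have h1 : ∑ i, u i * (M *ᵥ y) i = (Matrix.vecMul u M) ⬝ᵥ y := by
        rw [← Matrix.dotProduct_mulVec]; rfl
      show ∑ i, u i * (M.mulVecLin y) i = 0
      rw [Matrix.mulVecLin_apply, h1, hu, zero_dotProduct]
    have hidx : f.ker.index = 0 := by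
      rw [AddSubgroup.index_ker]
      obtain ⟨i, hi⟩ : ∃ i, u i ≠ 0 := by
        by_contra hcon
        exact hu0 (funext fun i => by
          by_contra h
          exact hcon ⟨i, h⟩)
      have hinf : Infinite f.range := by
        refine Infinite.of_injective
          (fun n : ℤ => (⟨f (Pi.single i n), ⟨_, rfl⟩⟩ : f.range)) ?_
        intro a b hab
        have h1 : f (Pi.single i a) = f (Pi.single i b) := congrArg Subtype.val hab
        rw [hf, hf] at h1
        simp only [Pi.single_apply, mul_ite, mul_zero, Finset.sum_ite_eq', Finset.mem_univ,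
          if_true] at h1
        exact mul_left_cancel₀ hi h1
      exact Nat.card_eq_zero_of_infinite
    have := AddSubgroup.index_dvd_of_le hle
    rw [hidx, zero_dvd_iff] at this
    exact this
  · have hinj : Function.Injective M.mulVecLin := by
      intro x y h
      have h0 : M *ᵥ (x - y) = 0 := by
        rw [Matrix.mulVec_sub]; exact sub_eq_zero.2 h
      exact sub_eq_zero.1 (Matrix.eq_zero_of_mulVec_eq_zero hM h0)
    have h := Submodule.natAbs_det_equiv (LinearMap.range M.mulVecLin)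
      (LinearEquiv.ofInjective M.mulVecLin hinj).toAddEquiv
    have h2 : (LinearMap.range M.mulVecLin).subtype ∘ₗ
        AddMonoidHom.toIntLinearMap
          ((LinearEquiv.ofInjective M.mulVecLin hinj).toAddEquiv : (ι → ℤ) →+ _) =
          M.mulVecLin := by
      ext x i
      rfl
    rw [h2] at h
    rw [show (LinearMap.range M.mulVecLin).toAddSubgroup.index =
      Nat.card ((ι → ℤ) ⧸ LinearMap.range M.mulVecLin) from rfl, ← h]
    rw [show M.mulVecLin = Matrix.toLin' M from rfl, LinearMap.det_toLin']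

lemma index_range_diag (δ : ι → ℤ) :
    (LinearMap.range (Dm δ)).toAddSubgroup.index = (∏ i, δ i).natAbs := by
  have h := index_range (Matrix.diagonal δ)
  rw [Matrix.det_diagonal] at h
  exact h

lemma gcd_nonneg (δ : ι → ℤ) : 0 ≤ univ.gcd δ :=
  Int.nonneg_of_normalize_eq_self (Finset.normalize_gcd (s := (univ : Finset ι)) (f := δ))

lemma Ssum_surjective (r : ι) : Function.Surjective (Ssum ι) := by
  intro t
  refine ⟨Pi.single r t, ?_⟩
  rw [Ssum_apply, Finset.sum_pi_single']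
  simp

lemma map_range_eq_zmultiples (δ : ι → ℤ) :
    (LinearMap.range (Dm δ)).toAddSubgroup.map (Ssum ι).toAddMonoidHom =
      AddSubgroup.zmultiples (univ.gcd δ) := by
  ext t
  simp only [AddSubgroup.mem_map, Submodule.mem_toAddSubgroup, LinearMap.mem_range,
    AddSubgroup.mem_zmultiples_iff]
  constructor
  · rintro ⟨y, ⟨x, rfl⟩, rfl⟩
    have hdvd : univ.gcd δ ∣ ∑ i, δ i * x i :=
      Finset.dvd_sum (fun i _ => Dvd.dvd.mul_right (Finset.gcd_dvd (Finset.mem_univ i)) _)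
    obtain ⟨c, hc⟩ := hdvd
    refine ⟨c, ?_⟩
    show c • univ.gcd δ = Ssum ι (Dm δ x)
    rw [Ssum_apply]
    simp only [Dm_apply]
    rw [hc, smul_eq_mul, mul_comm]
  · rintro ⟨c, rfl⟩
    obtain ⟨g, hg⟩ := Finset.gcd_eq_sum_mul (univ : Finset ι) δ
    refine ⟨Dm δ (c • g), ⟨_, rfl⟩, ?_⟩
    show Ssum ι (Dm δ (c • g)) = c • univ.gcd δ
    rw [Ssum_apply, hg, Finset.smul_sum]
    refine Finset.sum_congr rfl (fun i _ => ?_)
    rw [Dm_apply]
    simp only [Pi.smul_apply, smul_eq_mul]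
    ring

/-- core identity: for `N ≤ D⁻¹(ker S)`:
`[D⁻¹ ker S : N] · |det D| = gcd δ · [ker S : D N]`. -/
lemma core (r : ι) (δ : ι → ℤ) (hδ : ∀ i, δ i ≠ 0) (N : AddSubgroup (ι → ℤ))
    (hN : N ≤ (LinearMap.ker (Ssum ι ∘ₗ Dm δ)).toAddSubgroup) :
    N.relIndex (LinearMap.ker (Ssum ι ∘ₗ Dm δ)).toAddSubgroup * (∏ i, δ i).natAbs =
      (univ.gcd δ).natAbs *
        (N.map (Dm δ).toAddMonoidHom).relIndex (LinearMap.ker (Ssum ι)).toAddSubgroup := by
  set f : (ι → ℤ) →+ (ι → ℤ) := (Dm δ).toAddMonoidHom with hf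
  have hfinj : Function.Injective f := Dm_injective δ hδ
  set K : AddSubgroup (ι → ℤ) := (LinearMap.ker (Ssum ι)).toAddSubgroup with hK
  set I : AddSubgroup (ι → ℤ) := (LinearMap.range (Dm δ)).toAddSubgroup with hI
  have hIr : I = f.range := by
    ext x; rfl
  have hKD : (LinearMap.ker (Ssum ι ∘ₗ Dm δ)).toAddSubgroup = K.comap f := by
    ext x; rfl
  rw [hKD] at hN ⊢
  have h1 : N.relIndex (K.comap f) = (N.map f).relIndex (K ⊓ I) := by
    rw [← AddSubgroup.relIndex_map_map_of_injective N (K.comap f) hfinj,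
      AddSubgroup.map_comap_eq, hIr, inf_comm]
  have hM : N.map f ≤ K ⊓ I := by
    rw [hIr, inf_comm, ← AddSubgroup.map_comap_eq]
    exact AddSubgroup.map_mono hN
  have h2 := AddSubgroup.relIndex_mul_relIndex (N.map f) (K ⊓ I) K hM inf_le_left
  have h3 : (K ⊓ I).relIndex K = I.relIndex (K ⊔ I) := by
    rw [AddSubgroup.inf_relIndex_left, AddSubgroup.relIndex_sup_right]
  have h4 := AddSubgroup.relIndex_mul_index (H := I) (K := K ⊔ I) le_sup_right
  have h5 : I.index = (∏ i, δ i).natAbs := index_range_diag δ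
  have h6 : (K ⊔ I).index = (univ.gcd δ).natAbs := by
    have hker : K = (Ssum ι).toAddMonoidHom.ker := by
      ext x; rfl
    rw [sup_comm, hker, ← AddSubgroup.comap_map_eq, map_range_eq_zmultiples,
      AddSubgroup.index_comap_of_surjective _ (Ssum_surjective r), Int.index_zmultiples]
  rw [h1, ← h2, h3, ← h5, ← h4, h6]
  ring

/-- the primitive vector `δ' / gcd δ'` -/
def wv (δ' : ι → ℤ) : ι → ℤ := fun i => δ' i / univ.gcd δ'

lemma wv_spec (δ' : ι → ℤ) (i : ι) : δ' i = univ.gcd δ' * wv δ' i :=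
  (Int.mul_ediv_cancel' (Finset.gcd_dvd (mem_univ i))).symm

lemma gcd_ne_zero (r : ι) (δ' : ι → ℤ) (hδ' : ∀ i, δ' i ≠ 0) : univ.gcd δ' ≠ 0 := by
  intro h
  have := Finset.gcd_dvd (f := δ') (mem_univ r)
  rw [h, zero_dvd_iff] at this
  exact hδ' _ this

lemma wv_ne_zero (δ' : ι → ℤ) (hδ' : ∀ i, δ' i ≠ 0) (i : ι) : wv δ' i ≠ 0 :=
  fun h => hδ' i (by rw [wv_spec δ' i, h, mul_zero])

lemma wv_bezout (r : ι) (δ' : ι → ℤ) (hδ' : ∀ i, δ' i ≠ 0) :
    ∃ g : ι → ℤ, ∑ i, wv δ' i * g i = 1 := by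
  obtain ⟨g, hg⟩ := Finset.gcd_eq_sum_mul (univ : Finset ι) δ'
  refine ⟨g, ?_⟩
  have hd := gcd_ne_zero r δ' hδ'
  apply mul_left_cancel₀ hd
  rw [mul_one, Finset.mul_sum]
  conv_rhs => rw [hg]
  refine sum_congr rfl fun i _ => ?_
  rw [← mul_assoc, ← wv_spec]

lemma relIndex_ker (r : ι) (f : (ι → ℤ) →ₗ[ℤ] (ι → ℤ))
    (δ' : ι → ℤ) (hδ' : ∀ i, δ' i ≠ 0) (hfδ : f δ' = 0)
    (hker : ∀ x, f x = 0 → ∃ t : ℤ, x = t • wv δ') :
    (LinearMap.range (Dm δ')).toAddSubgroup.relIndex (LinearMap.ker f).toAddSubgroup =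
      (univ.gcd δ').natAbs := by
  set φ : ℤ →+ (ι → ℤ) :=
    (LinearMap.toSpanSingleton ℤ (ι → ℤ) (wv δ')).toAddMonoidHom with hφ
  have hφa : ∀ t : ℤ, φ t = t • wv δ' := fun t => rfl
  have hd := gcd_ne_zero r δ' hδ'
  have hδw : δ' = univ.gcd δ' • wv δ' := by
    funext i; simp only [Pi.smul_apply, smul_eq_mul]; exact wv_spec δ' i
  have hAw : f (wv δ') = 0 := by
    have h1 : univ.gcd δ' • f (wv δ') = 0 := by
      rw [← map_smul, ← hδw]; exact hfδ
    exact (smul_eq_zero.1 h1).resolve_left hd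
  have hrange : φ.range = (LinearMap.ker f).toAddSubgroup := by
    ext x
    constructor
    · rintro ⟨t, rfl⟩
      show f (φ t) = 0
      rw [hφa, map_smul, hAw, smul_zero]
    · intro hx
      obtain ⟨t, ht⟩ := hker x hx
      exact ⟨t, by rw [hφa, ht]⟩
  have hcomap : (LinearMap.range (Dm δ')).toAddSubgroup.comap φ =
      AddSubgroup.zmultiples (univ.gcd δ') := by
    ext t
    simp only [AddSubgroup.mem_comap, Submodule.mem_toAddSubgroup, LinearMap.mem_range,
      AddSubgroup.mem_zmultiples_iff]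
    constructor
    · rintro ⟨y, hy⟩
      have h1 := congrFun hy r
      rw [Dm_apply, hφa, wv_spec δ' r] at h1
      simp only [Pi.smul_apply, smul_eq_mul] at h1
      have h2 : univ.gcd δ' * y r = t := by
        apply mul_right_cancel₀ (wv_ne_zero δ' hδ' r)
        linear_combination h1
      exact ⟨y r, by rw [smul_eq_mul, mul_comm]; exact h2⟩
    · rintro ⟨c, rfl⟩
      refine ⟨fun _ => c, ?_⟩
      funext i
      rw [Dm_apply, hφa]
      simp only [Pi.smul_apply, smul_eq_mul]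
      rw [wv_spec δ' i]; ring
  rw [← hrange, ← AddSubgroup.index_comap, hcomap, Int.index_zmultiples]

/-- `[f L : f D' L] · gcd δ' = |det D'|`. -/
lemma relIndex_range (r : ι) (f : (ι → ℤ) →ₗ[ℤ] (ι → ℤ))
    (δ' : ι → ℤ) (hδ' : ∀ i, δ' i ≠ 0) (hfδ : f δ' = 0)
    (hker : ∀ x, f x = 0 → ∃ t : ℤ, x = t • wv δ') :
    (LinearMap.range (f ∘ₗ Dm δ')).toAddSubgroup.relIndex
        (LinearMap.range f).toAddSubgroup * (univ.gcd δ').natAbs =
      (∏ i, δ' i).natAbs := by
  set g : (ι → ℤ) →+ (ι → ℤ) := f.toAddMonoidHom with hg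
  set I : AddSubgroup (ι → ℤ) := (LinearMap.range (Dm δ')).toAddSubgroup with hI
  have h1 : (LinearMap.range (f ∘ₗ Dm δ')).toAddSubgroup = I.map g := by
    rw [LinearMap.range_comp, Submodule.map_toAddSubgroup]; rfl
  have h2 : (LinearMap.range f).toAddSubgroup = (⊤ : AddSubgroup (ι → ℤ)).map g := by
    ext x
    simp only [AddSubgroup.mem_map, AddSubgroup.mem_top, true_and]
    rfl
  have hker' : g.ker = (LinearMap.ker f).toAddSubgroup := by
    ext x; rfl
  rw [h1, h2, AddSubgroup.relIndex_map_map, top_sup_eq, AddSubgroup.relIndex_top_right,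
    ← index_range_diag δ', ← relIndex_ker r f δ' hδ' hfδ hker, ← hI, ← hker',
    ← AddSubgroup.relIndex_sup_left g.ker I, mul_comm]
  exact AddSubgroup.relIndex_mul_index le_sup_left

/-! ### Removing a row and column -/

/-- split a sum at `r` -/
lemma sum_split (r : ι) (g : ι → ℤ) : ∑ i, g i = g r + ∑ j : {i // i ≠ r}, g j.val := by
  rw [← Finset.add_sum_erase _ _ (Finset.mem_univ r)]
  congr 1
  exact Finset.sum_subtype (univ.erase r) (by simp) g

/-- extension by zero -/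
def ext0 (r : ι) (y : {i // i ≠ r} → ℤ) : ι → ℤ := fun i => if h : i = r then 0 else y ⟨i, h⟩

lemma ext0_self (r : ι) (y : {i // i ≠ r} → ℤ) : ext0 r y r = 0 := by
  simp [ext0]

lemma ext0_val (r : ι) (y : {i // i ≠ r} → ℤ) (j : {i // i ≠ r}) : ext0 r y j.val = y j := by
  simp [ext0, j.2]

/-- extend a vector on `ι ∖ r` to a vector with coordinate sum zero -/
def extZ (r : ι) : ({i // i ≠ r} → ℤ) →ₗ[ℤ] (ι → ℤ) where
  toFun y i := if h : i = r then -∑ j, y j else y ⟨i, h⟩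
  map_add' y y' := by
    funext i
    by_cases h : i = r
    · simp only [dif_pos h, Pi.add_apply, Finset.sum_add_distrib]; ring
    · simp only [dif_neg h, Pi.add_apply]
  map_smul' c y := by
    funext i
    by_cases h : i = r
    · simp only [dif_pos h, Pi.smul_apply, smul_eq_mul, RingHom.id_apply, ← Finset.mul_sum]; ring
    · simp only [dif_neg h, Pi.smul_apply, smul_eq_mul, RingHom.id_apply]

lemma extZ_apply_ne (r : ι) (y : {i // i ≠ r} → ℤ) (i : ι) (h : i ≠ r) :
    extZ r y i = y ⟨i, h⟩ := by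
  show (if h' : i = r then -∑ j, y j else y ⟨i, h'⟩) = _
  rw [dif_neg h]

lemma extZ_apply_self (r : ι) (y : {i // i ≠ r} → ℤ) : extZ r y r = -∑ j, y j := by
  show (if h' : r = r then -∑ j, y j else y ⟨r, h'⟩) = _
  rw [dif_pos rfl]

lemma extZ_val (r : ι) (y : {i // i ≠ r} → ℤ) (j : {i // i ≠ r}) : extZ r y j.val = y j := by
  rw [extZ_apply_ne r y j.val j.2]

lemma extZ_injective (r : ι) : Function.Injective (extZ r) := by
  intro y y' h
  funext j
  have := congrFun h j.val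
  rwa [extZ_val, extZ_val] at this

lemma Ssum_extZ (r : ι) (y : {i // i ≠ r} → ℤ) : Ssum ι (extZ r y) = 0 := by
  rw [Ssum_apply, sum_split r, extZ_apply_self]
  simp only [extZ_val]
  ring

lemma extZ_restrict (r : ι) (x : ι → ℤ) (hx : Ssum ι x = 0) :
    extZ r (fun j => x j.val) = x := by
  funext i
  by_cases h : i = r
  · rw [h, extZ_apply_self]
    rw [Ssum_apply, sum_split r] at hx
    linarith
  · rw [extZ_apply_ne r _ i h]

lemma mulVec_ext0_apply (r : ι) (L : Matrix ι ι ℤ) (y : {i // i ≠ r} → ℤ) (i : ι) :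
    (L *ᵥ ext0 r y) i = ∑ j : {i // i ≠ r}, L i j.val * y j := by
  rw [Matrix.mulVec, dotProduct, sum_split r, ext0_self, mul_zero, zero_add]
  simp only [ext0_val]

lemma mulVec_ext0 (r : ι) (L : Matrix ι ι ℤ) (hcol : ∀ j, ∑ i, L i j = 0)
    (y : {i // i ≠ r} → ℤ) :
    L *ᵥ ext0 r y = extZ r ((L.submatrix Subtype.val Subtype.val) *ᵥ y) := by
  funext i
  rw [mulVec_ext0_apply]
  by_cases h : i = r
  · rw [h, extZ_apply_self]
    have hc : ∀ j : ι, ∑ i' : {k // k ≠ r}, L i'.val j = - L r j := by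
      intro j
      have := hcol j
      rw [sum_split r] at this
      linarith
    have h1 : ∑ i' : {k // k ≠ r}, ((L.submatrix Subtype.val Subtype.val) *ᵥ y) i' =
        ∑ j : {k // k ≠ r}, (∑ i' : {k // k ≠ r}, L i'.val j.val) * y j := by
      simp only [Matrix.mulVec, dotProduct, Matrix.submatrix_apply, Finset.sum_mul]
      exact Finset.sum_comm
    rw [h1]
    simp only [hc, neg_mul, Finset.sum_neg_distrib, neg_neg]
  · rw [extZ_apply_ne r _ i h]
    simp only [Matrix.mulVec, dotProduct, Matrix.submatrix_apply]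

lemma range_eq_map_extZ (r : ι) (L : Matrix ι ι ℤ) (hrow : ∀ i, ∑ j, L i j = 0)
    (hcol : ∀ j, ∑ i, L i j = 0) :
    (LinearMap.range L.mulVecLin).toAddSubgroup =
      ((LinearMap.range
        (L.submatrix (Subtype.val : {i // i ≠ r} → ι)
          (Subtype.val : {i // i ≠ r} → ι)).mulVecLin).toAddSubgroup).map
        (extZ r).toAddMonoidHom := by
  ext x
  constructor
  · rintro ⟨w, rfl⟩
    refine ⟨(L.submatrix Subtype.val Subtype.val) *ᵥ (fun j : {i // i ≠ r} => w j.val - w r),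
      ⟨_, rfl⟩, ?_⟩
    show extZ r _ = L *ᵥ w
    rw [← mulVec_ext0 r L hcol]
    funext i
    rw [mulVec_ext0_apply, Matrix.mulVec, dotProduct, sum_split r]
    have hr := hrow i
    rw [sum_split r] at hr
    have e1 : ∑ j : {k // k ≠ r}, L i j.val * (w j.val - w r) =
        ∑ j : {k // k ≠ r}, L i j.val * w j.val - (∑ j : {k // k ≠ r}, L i j.val) * w r := by
      rw [Finset.sum_mul, ← Finset.sum_sub_distrib]
      exact Finset.sum_congr rfl (fun j _ => by ring)
    have e2 : ∑ j : {k // k ≠ r}, L i j.val = - L i r := by linarith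
    rw [e1, e2]
    ring
  · rintro ⟨_, ⟨y, rfl⟩, rfl⟩
    refine ⟨ext0 r y, ?_⟩
    show L *ᵥ ext0 r y = extZ r _
    exact mulVec_ext0 r L hcol y

lemma ker_Ssum_eq_map_extZ (r : ι) :
    (LinearMap.ker (Ssum ι)).toAddSubgroup =
      (⊤ : AddSubgroup ({i // i ≠ r} → ℤ)).map (extZ r).toAddMonoidHom := by
  ext x
  constructor
  · intro hx
    exact ⟨fun j => x j.val, AddSubgroup.mem_top _, extZ_restrict r x hx⟩
  · rintro ⟨y, _, rfl⟩
    exact Ssum_extZ r y

/-- For `L` with zero row and column sums, `[ker Σ : im L] = |det L'|`. -/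
lemma relIndex_range_ker_Ssum (r : ι) (L : Matrix ι ι ℤ) (hrow : ∀ i, ∑ j, L i j = 0)
    (hcol : ∀ j, ∑ i, L i j = 0) :
    (LinearMap.range L.mulVecLin).toAddSubgroup.relIndex
        (LinearMap.ker (Ssum ι)).toAddSubgroup =
      (L.submatrix (Subtype.val : {i // i ≠ r} → ι) Subtype.val).det.natAbs := by
  rw [range_eq_map_extZ r L hrow hcol, ker_Ssum_eq_map_extZ r,
    AddSubgroup.relIndex_map_map_of_injective (f := (extZ r).toAddMonoidHom) _ _
      (extZ_injective r),
    AddSubgroup.relIndex_top_right, index_range]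

/-- Main lattice identity. -/
theorem relIndex_mul_sq (r : ι) (β : ι → ℤ) (hβ : ∀ i, β i ≠ 0) (A L : Matrix ι ι ℤ)
    (hSDA : ∀ x, Ssum ι (Dm β (A *ᵥ x)) = 0)
    (hAβ : A *ᵥ β = 0)
    (hker : ∀ x, A *ᵥ x = 0 → ∃ t : ℤ, x = t • wv β)
    (hL : ∀ z, L *ᵥ z = - Dm β (A *ᵥ (Dm β z)))
    (hrow : ∀ i, ∑ j, L i j = 0) (hcol : ∀ j, ∑ i, L i j = 0) :
    (LinearMap.range A.mulVecLin).toAddSubgroup.relIndex
        (LinearMap.ker (Ssum ι ∘ₗ Dm β)).toAddSubgroup * (∏ i, β i).natAbs ^ 2 =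
      (univ.gcd β).natAbs ^ 2 *
        (L.submatrix (Subtype.val : {i // i ≠ r} → ι) Subtype.val).det.natAbs := by
  have hN : (LinearMap.range A.mulVecLin).toAddSubgroup ≤
      (LinearMap.ker (Ssum ι ∘ₗ Dm β)).toAddSubgroup := by
    rintro x ⟨y, rfl⟩
    exact hSDA y
  have h1 := core r β hβ _ hN
  have hfβ : (Dm β ∘ₗ A.mulVecLin) β = 0 := by
    show Dm β (A *ᵥ β) = 0
    rw [hAβ, map_zero]
  have hfker : ∀ x, (Dm β ∘ₗ A.mulVecLin) x = 0 → ∃ t : ℤ, x = t • wv β := by
    intro x hx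
    apply hker x
    have h0 : Dm β (A *ᵥ x) = Dm β 0 := by rw [map_zero]; exact hx
    exact Dm_injective β hβ h0
  have h2 := relIndex_range r (Dm β ∘ₗ A.mulVecLin) β hβ hfβ hfker
  have hR1 : (LinearMap.range (Dm β ∘ₗ A.mulVecLin)).toAddSubgroup =
      ((LinearMap.range A.mulVecLin).toAddSubgroup).map (Dm β).toAddMonoidHom := by
    rw [LinearMap.range_comp, Submodule.map_toAddSubgroup]; rfl
  have hR2 : (LinearMap.range L.mulVecLin).toAddSubgroup =
      (LinearMap.range ((Dm β ∘ₗ A.mulVecLin) ∘ₗ Dm β)).toAddSubgroup := by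
    ext x
    constructor
    · rintro ⟨z, rfl⟩
      refine ⟨-z, ?_⟩
      show Dm β (A *ᵥ (Dm β (-z))) = L *ᵥ z
      rw [hL, map_neg, Matrix.mulVec_neg, map_neg]
    · rintro ⟨z, rfl⟩
      refine ⟨-z, ?_⟩
      show L *ᵥ (-z) = Dm β (A *ᵥ (Dm β z))
      rw [hL, map_neg, Matrix.mulVec_neg, map_neg, neg_neg]
  have hle1 : (LinearMap.range ((Dm β ∘ₗ A.mulVecLin) ∘ₗ Dm β)).toAddSubgroup ≤
      (LinearMap.range (Dm β ∘ₗ A.mulVecLin)).toAddSubgroup := by
    rintro x ⟨y, rfl⟩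
    exact ⟨Dm β y, rfl⟩
  have hle2 : (LinearMap.range (Dm β ∘ₗ A.mulVecLin)).toAddSubgroup ≤
      (LinearMap.ker (Ssum ι)).toAddSubgroup := by
    rintro x ⟨y, rfl⟩
    exact hSDA y
  have h3 := AddSubgroup.relIndex_mul_relIndex _ _ _ hle1 hle2
  have h4 := relIndex_range_ker_Ssum r L hrow hcol
  rw [hR2] at h4
  rw [← hR1] at h1
  rw [← h4, ← h3]
  have key : ∀ a b c m P : ℕ, a * P = m * b → c * m = P → a * P ^ 2 = m ^ 2 * (c * b) := by
    intro a b c m P e1 e2
    subst e2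
    calc a * (c * m) ^ 2 = (a * (c * m)) * (c * m) := by ring
      _ = (m * b) * (c * m) := by rw [e1]
      _ = m ^ 2 * (c * b) := by ring
  exact key _ _ _ _ _ h1 h2

/-- cardinality of a subquotient as a relative index -/
lemma card_quot_comap {M : Type*} [AddCommGroup M] (P Q : Submodule ℤ M) :
    Nat.card (↥Q ⧸ P.comap Q.subtype) = P.toAddSubgroup.relIndex Q.toAddSubgroup := rfl

end Groth.Agent.Lib.helper6.LatGen
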