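import Mathlib

set_option autoImplicit false

namespace Groth.Agent.Lib.helper6.LaurentAut

open LaurentPolynomial QuadraticAlgebra

universe u v

section Units

variable {F : Type*} [Field F]

theorem isUnit_laurent (b : F[T;T⁻¹]) (hb : IsUnit b) :
    ∃ (c : F) (m : ℤ), c ≠ 0 ∧ b = C c * T m := by
  obtain ⟨b', hbb'⟩ := hb.exists_right_inv
  obtain ⟨n, f, hf⟩ := exists_T_pow b
  obtain ⟨n', f', hf'⟩ := exists_T_pow b'
  have h1 : Polynomial.toLaurent (f * f') =
      Polynomial.toLaurent (Polynomial.X ^ (n + n') : Polynomial F) := by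
    rw [map_mul, hf, hf', Polynomial.toLaurent_X_pow]
    have : b * T (n : ℤ) * (b' * T (n' : ℤ)) = (b * b') * (T (n : ℤ) * T (n' : ℤ)) := by ring
    rw [this, hbb', one_mul, ← T_add, Nat.cast_add]
  have h2 : f * f' = Polynomial.X ^ (n + n') := Polynomial.toLaurent_injective h1
  have h3 : f ∣ Polynomial.X ^ (n + n') := ⟨f', h2.symm⟩
  obtain ⟨i, -, hassoc⟩ := (dvd_prime_pow Polynomial.prime_X _).mp h3
  obtain ⟨w, hw⟩ := hassoc.symm
  obtain ⟨c, hc, hcu⟩ := Polynomial.isUnit_iff.mp w.isUnit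
  refine ⟨c, (i : ℤ) - n, hc.ne_zero, ?_⟩
  have h4 : b * T (n : ℤ) = C c * T (i : ℤ) := by
    rw [← hf, ← hw, ← hcu, map_mul, Polynomial.toLaurent_X_pow, Polynomial.toLaurent_C, mul_comm]
  calc b = b * T (n : ℤ) * T (-(n : ℤ)) := by rw [mul_T_assoc, add_neg_cancel, T_zero, mul_one]
    _ = C c * T ((i : ℤ) - n) := by rw [h4, mul_T_assoc, sub_eq_add_neg]

theorem coeff_C_mul_T (c : F) (k n : ℤ) :
    (C c * T k : F[T;T⁻¹]).coeff n = if k = n then c else 0 := by
  rw [← single_eq_C_mul_T, AddMonoidAlgebra.coeff_single, Finsupp.single_apply]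

theorem map_T_zpow (φ : F[T;T⁻¹] →+* F[T;T⁻¹]) (c : F) (hc : c ≠ 0) (m : ℤ)
    (h1 : φ (T 1) = C c * T m) (k : ℤ) :
    φ (T k) = C (c ^ k) * T (m * k) := by
  have hnat : ∀ n : ℕ, φ (T (n : ℤ)) = C (c ^ n) * T (m * n) := by
    intro n
    induction n with
    | zero => simp
    | succ n ih =>
      have e1 : ((n + 1 : ℕ) : ℤ) = (n : ℤ) + 1 := by push_cast; ring
      rw [e1, T_add, map_mul, ih, h1, pow_succ, map_mul, mul_add, mul_one, T_add]
      ring
  rcases Int.eq_nat_or_neg k with ⟨n, rfl | rfl⟩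
  · rw [zpow_natCast]; exact hnat n
  · have hprod : φ (T (-(n : ℤ))) * φ (T (n : ℤ)) = 1 := by
      rw [← map_mul, ← T_add, neg_add_cancel, T_zero, map_one]
    have hprod' : (C (c ^ (-(n : ℤ))) * T (m * -(n : ℤ))) * φ (T (n : ℤ)) = 1 := by
      rw [hnat n]
      have : C (c ^ (-(n : ℤ))) * T (m * -(n : ℤ)) * (C (c ^ n) * T (m * n))
          = (C (c ^ (-(n : ℤ))) * C (c ^ n)) * (T (m * -(n : ℤ)) * T (m * n)) := by ring
      rw [this, ← map_mul, ← T_add, zpow_neg, zpow_natCast, inv_mul_cancel₀ (pow_ne_zero n hc),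
        map_one, one_mul, mul_neg, neg_add_cancel, T_zero]
    have hy : φ (T (n : ℤ)) ≠ 0 := by
      intro h0
      rw [h0, mul_zero] at hprod
      exact zero_ne_one hprod
    exact mul_right_cancel₀ hy (hprod.trans hprod'.symm)

theorem ringHom_eq_id (φ : F[T;T⁻¹] →+* F[T;T⁻¹])
    (hC : ∀ l, φ (C l) = C l) (h1 : φ (T 1) = T 1) (b : F[T;T⁻¹]) : φ b = b := by
  have hT : ∀ k : ℤ, φ (T k) = T k := by
    intro k
    have := map_T_zpow φ 1 one_ne_zero 1 (by rw [h1, map_one, one_mul]) k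
    rw [this, one_zpow, map_one, one_mul, one_mul]
  refine LaurentPolynomial.induction_on' b ?_ ?_
  · intro p q hp hq
    rw [map_add, hp, hq]
  · intro n a
    rw [map_mul, hC, hT]

end Units

section Tau

variable {K : Type u} [Field K] {a₀ b₀ : K}

/-- The semilinear involution `∑ cₙ Tⁿ ↦ ∑ star(cₙ) T⁻ⁿ`. -/
noncomputable def tau : (QuadraticAlgebra K a₀ b₀)[T;T⁻¹] →+* (QuadraticAlgebra K a₀ b₀)[T;T⁻¹] :=
  (invert (R := QuadraticAlgebra K a₀ b₀)).toRingEquiv.toRingHom.comp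
    (AddMonoidAlgebra.mapRingHom ℤ (starRingEnd (QuadraticAlgebra K a₀ b₀)))

theorem tau_coeff (b : (QuadraticAlgebra K a₀ b₀)[T;T⁻¹]) (n : ℤ) :
    (tau b).coeff n = star (b.coeff (-n)) := by
  simp [tau, starRingEnd_apply]

theorem tau_C (l : QuadraticAlgebra K a₀ b₀) : tau (C l) = C (star l) := by
  apply LaurentPolynomial.ext
  intro n
  rw [tau_coeff, C_apply, C_apply]
  by_cases h : n = 0
  · simp [h]
  · have : ¬ (-n = 0) := by omega
    simp [h, this]

theorem tau_T (n : ℤ) : tau (a₀ := a₀) (b₀ := b₀) (T n) = T (-n) := by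
  apply LaurentPolynomial.ext
  intro k
  rw [tau_coeff, T_apply, T_apply]
  by_cases h : -n = k
  · have : n = -k := by omega
    simp [h, this]
  · have : ¬ (n = -k) := by omega
    simp [h, this]

end Tau

section Main

variable {K : Type u} [Field K] {a₀ b₀ : K}
variable {A : Type v} [CommRing A]

/-- An embedding of a ring `A` into Laurent polynomials over the quadratic algebra, with image in
the fixed ring of `tau`, and such that `T` is a combination of two elements of the image. -/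
structure Setup (K : Type u) [Field K] (a₀ b₀ : K) (A : Type v) [CommRing A] where
  ι : A →+* (QuadraticAlgebra K a₀ b₀)[T;T⁻¹]
  κ : K → A
  ι_inj : Function.Injective ι
  ι_κ : ∀ k, ι (κ k) = C (algebraMap K (QuadraticAlgebra K a₀ b₀) k)
  τ_ι : ∀ a, tau (ι a) = ι a
  w₁ : A
  w₂ : A
  hT : ι w₁ + C (QuadraticAlgebra.omega : QuadraticAlgebra K a₀ b₀) * ι w₂ = T 1
  hδ : b₀ ^ 2 + 4 * a₀ ≠ 0

theorem star_omega : star (QuadraticAlgebra.omega : QuadraticAlgebra K a₀ b₀) =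
    algebraMap K (QuadraticAlgebra K a₀ b₀) b₀ - QuadraticAlgebra.omega := by
  ext <;> simp

theorem omega_sq : (QuadraticAlgebra.omega : QuadraticAlgebra K a₀ b₀) * QuadraticAlgebra.omega =
    algebraMap K (QuadraticAlgebra K a₀ b₀) a₀ +
      algebraMap K (QuadraticAlgebra K a₀ b₀) b₀ * QuadraticAlgebra.omega := by
  ext <;> simp

theorem omega_sub_star_ne (hδ : b₀ ^ 2 + 4 * a₀ ≠ 0) :
    (QuadraticAlgebra.omega : QuadraticAlgebra K a₀ b₀) - star QuadraticAlgebra.omega ≠ 0 := by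
  intro h
  have h2 : ((QuadraticAlgebra.omega : QuadraticAlgebra K a₀ b₀) - star QuadraticAlgebra.omega) *
      (QuadraticAlgebra.omega - star QuadraticAlgebra.omega) =
      (⟨b₀ ^ 2 + 4 * a₀, 0⟩ : QuadraticAlgebra K a₀ b₀) := by
    ext <;> simp <;> ring
  rw [h, zero_mul] at h2
  apply hδ
  have h3 := congrArg QuadraticAlgebra.re h2
  exact h3.symm

theorem star_algebraMap (r : K) : star (algebraMap K (QuadraticAlgebra K a₀ b₀) r) =
    algebraMap K (QuadraticAlgebra K a₀ b₀) r := by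
  ext <;> simp

variable (S : Setup K a₀ b₀ A)

/-- The map `A ⊗ L → L[T;T⁻¹]`, with `A ⊗ L` realised as a quadratic algebra over `A`. -/
noncomputable def Theta :
    QuadraticAlgebra A (S.κ a₀) (S.κ b₀) →+* (QuadraticAlgebra K a₀ b₀)[T;T⁻¹] where
  toFun w := S.ι w.re + C QuadraticAlgebra.omega * S.ι w.im
  map_one' := by simp
  map_zero' := by simp
  map_add' x y := by
    simp only [QuadraticAlgebra.re_add, QuadraticAlgebra.im_add, map_add]; ring
  map_mul' x y := by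
    simp only [QuadraticAlgebra.re_mul, QuadraticAlgebra.im_mul, map_add, map_mul, S.ι_κ]
    have hω : C (QuadraticAlgebra.omega : QuadraticAlgebra K a₀ b₀) * C QuadraticAlgebra.omega =
        C (algebraMap K (QuadraticAlgebra K a₀ b₀) a₀) +
          C (algebraMap K (QuadraticAlgebra K a₀ b₀) b₀) * C QuadraticAlgebra.omega := by
      rw [← map_mul, omega_sq, map_add, map_mul]
    linear_combination (-(S.ι x.im * S.ι y.im)) * hω

theorem Theta_apply (w : QuadraticAlgebra A (S.κ a₀) (S.κ b₀)) :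
    Theta S w = S.ι w.re + C QuadraticAlgebra.omega * S.ι w.im := rfl

theorem tau_Theta (w : QuadraticAlgebra A (S.κ a₀) (S.κ b₀)) :
    tau (Theta S w) = Theta S (star w) := by
  rw [Theta_apply, Theta_apply, map_add, map_mul, S.τ_ι, S.τ_ι, tau_C, star_omega,
    QuadraticAlgebra.re_star, QuadraticAlgebra.im_star, map_add, map_mul, map_neg, S.ι_κ, map_sub]
  ring

theorem Theta_C (l : QuadraticAlgebra K a₀ b₀) : Theta S ⟨S.κ l.re, S.κ l.im⟩ = C l := by
  rw [Theta_apply, S.ι_κ, S.ι_κ, ← map_mul, ← map_add]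
  congr 1
  ext <;> simp

theorem Theta_w : Theta S ⟨S.w₁, S.w₂⟩ = T 1 := S.hT

variable [Fact (∀ r : K, r ^ 2 ≠ a₀ + b₀ * r)]

theorem Theta_injective : Function.Injective (Theta S) := by
  rw [injective_iff_map_eq_zero]
  intro w hw
  have h1 : S.ι w.re + C QuadraticAlgebra.omega * S.ι w.im = 0 := hw
  have h2 : S.ι w.re + C (star (QuadraticAlgebra.omega : QuadraticAlgebra K a₀ b₀)) * S.ι w.im
      = 0 := by
    have := congrArg tau h1
    rwa [map_add, map_mul, S.τ_ι, S.τ_ι, tau_C, map_zero] at this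
  have h3 : C ((QuadraticAlgebra.omega : QuadraticAlgebra K a₀ b₀) - star QuadraticAlgebra.omega) *
      S.ι w.im = 0 := by
    rw [map_sub, sub_mul]; linear_combination h1 - h2
  have hC : C ((QuadraticAlgebra.omega : QuadraticAlgebra K a₀ b₀) - star QuadraticAlgebra.omega)
      ≠ 0 := by
    intro h0
    have h5 := congrArg (fun p => p.coeff 0) h0
    simp only [C_apply] at h5
    exact omega_sub_star_ne S.hδ h5
  have h4 : S.ι w.im = 0 := (mul_eq_zero.mp h3).resolve_left hC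
  have h5 : S.ι w.re = 0 := by rw [h4, mul_zero, add_zero] at h1; exact h1
  have h6 : w.im = 0 := S.ι_inj (by rw [h4, map_zero])
  have h7 : w.re = 0 := S.ι_inj (by rw [h5, map_zero])
  exact QuadraticAlgebra.ext h7 h6

theorem Theta_surjective : Function.Surjective (Theta S) := by
  intro b
  have hTm : Theta S (star ⟨S.w₁, S.w₂⟩) = T (-1) := by rw [← tau_Theta, Theta_w, tau_T]
  refine LaurentPolynomial.induction_on b ?_ ?_ ?_ ?_
  · intro l; exact ⟨_, Theta_C S l⟩
  · intro p q hp hq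
    obtain ⟨x, rfl⟩ := hp
    obtain ⟨y, rfl⟩ := hq
    exact ⟨x + y, map_add _ _ _⟩
  · rintro n l ⟨x, hx⟩
    refine ⟨x * ⟨S.w₁, S.w₂⟩, ?_⟩
    rw [map_mul, hx, Theta_w, mul_T_assoc]
  · rintro n l ⟨x, hx⟩
    refine ⟨x * star ⟨S.w₁, S.w₂⟩, ?_⟩
    rw [map_mul, hx, hTm, mul_T_assoc, sub_eq_add_neg]

/-- `Theta` as a ring isomorphism. -/
noncomputable def ThetaE :
    QuadraticAlgebra A (S.κ a₀) (S.κ b₀) ≃+* (QuadraticAlgebra K a₀ b₀)[T;T⁻¹] :=
  RingEquiv.ofBijective (Theta S) ⟨Theta_injective S, Theta_surjective S⟩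

omit [Fact (∀ r : K, r ^ 2 ≠ a₀ + b₀ * r)] in
/-- Automorphisms of `A` fixing the constants. -/
def FixG : Subgroup (A ≃+* A) where
  carrier := {g | ∀ k, g (S.κ k) = S.κ k}
  mul_mem' := fun {g h} hg hh k => by
    show g (h (S.κ k)) = _
    rw [hh k, hg k]
  one_mem' := fun k => rfl
  inv_mem' := fun {g} hg k => by
    show g.symm (S.κ k) = S.κ k
    rw [RingEquiv.symm_apply_eq]; exact (hg k).symm

omit [Fact (∀ r : K, r ^ 2 ≠ a₀ + b₀ * r)] in
/-- The extension of `g` to `A ⊗ L`. -/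
def hat (g : A ≃+* A) (hg : g ∈ FixG S) :
    QuadraticAlgebra A (S.κ a₀) (S.κ b₀) →+* QuadraticAlgebra A (S.κ a₀) (S.κ b₀) where
  toFun w := ⟨g w.re, g w.im⟩
  map_one' := by ext <;> simp
  map_mul' x y := by
    ext
    · simp [hg a₀]
    · simp [hg b₀]
  map_zero' := by ext <;> simp
  map_add' x y := by ext <;> simp

/-- The extension of `g` to the Laurent polynomial ring. -/
noncomputable def E (g : A ≃+* A) (hg : g ∈ FixG S) :
    (QuadraticAlgebra K a₀ b₀)[T;T⁻¹] →+* (QuadraticAlgebra K a₀ b₀)[T;T⁻¹] :=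
  (Theta S).comp ((hat S g hg).comp (ThetaE S).symm.toRingHom)

theorem E_Theta (g : A ≃+* A) (hg : g ∈ FixG S) (w : QuadraticAlgebra A (S.κ a₀) (S.κ b₀)) :
    E S g hg (Theta S w) = Theta S (hat S g hg w) := by
  show Theta S (hat S g hg ((ThetaE S).symm (Theta S w))) = _
  have : (ThetaE S).symm (Theta S w) = w := (ThetaE S).symm_apply_apply w
  rw [this]

theorem E_C (g : A ≃+* A) (hg : g ∈ FixG S) (l : QuadraticAlgebra K a₀ b₀) :
    E S g hg (C l) = C l := by
  rw [← Theta_C S l, E_Theta]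
  show Theta S ⟨g (S.κ l.re), g (S.κ l.im)⟩ = _
  rw [hg l.re, hg l.im]

theorem E_congr {g g' : A ≃+* A} (h : g = g') (hg : g ∈ FixG S) (hg' : g' ∈ FixG S)
    (b : (QuadraticAlgebra K a₀ b₀)[T;T⁻¹]) : E S g hg b = E S g' hg' b := by
  subst h; rfl

theorem E_mul (g h : A ≃+* A) (hg : g ∈ FixG S) (hh : h ∈ FixG S) (hgh : g * h ∈ FixG S)
    (b : (QuadraticAlgebra K a₀ b₀)[T;T⁻¹]) :
    E S (g * h) hgh b = E S g hg (E S h hh b) := by
  obtain ⟨w, rfl⟩ := Theta_surjective S b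
  rw [E_Theta, E_Theta, E_Theta]
  rfl

theorem E_one (h1 : (1 : A ≃+* A) ∈ FixG S) (b : (QuadraticAlgebra K a₀ b₀)[T;T⁻¹]) :
    E S 1 h1 b = b := by
  obtain ⟨w, rfl⟩ := Theta_surjective S b
  rw [E_Theta]
  rfl

theorem E_tau (g : A ≃+* A) (hg : g ∈ FixG S) (b : (QuadraticAlgebra K a₀ b₀)[T;T⁻¹]) :
    E S g hg (tau b) = tau (E S g hg b) := by
  obtain ⟨w, rfl⟩ := Theta_surjective S b
  rw [tau_Theta, E_Theta, E_Theta, tau_Theta]
  congr 1
  ext
  · show g (w.re + S.κ b₀ * w.im) = g w.re + S.κ b₀ * g w.im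
    rw [map_add, map_mul, hg b₀]
  · show g (-w.im) = -g w.im
    rw [map_neg]

theorem eq_one_of_E (g : A ≃+* A) (hg : g ∈ FixG S)
    (h : ∀ b, E S g hg b = b) : g = 1 := by
  ext a
  have h1 : Theta S ⟨a, 0⟩ = S.ι a := by
    rw [Theta_apply]
    show S.ι a + C QuadraticAlgebra.omega * S.ι 0 = _
    rw [map_zero, mul_zero, add_zero]
  have h2 := h (S.ι a)
  rw [← h1, E_Theta] at h2
  have h3 := Theta_injective S h2
  exact congrArg QuadraticAlgebra.re h3

theorem shape (g g' : A ≃+* A) (hg : g ∈ FixG S) (hg' : g' ∈ FixG S) (h1 : g * g' = 1) :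
    ∃ (c : QuadraticAlgebra K a₀ b₀) (m : ℤ), c ≠ 0 ∧ (m = 1 ∨ m = -1) ∧
      E S g hg (T 1) = C c * T m ∧ E S g hg (T (-1)) = C (star c) * T (-m) ∧ c * star c = 1 := by
  obtain ⟨c, m, hc, hcm⟩ := isUnit_laurent _ ((isUnit_T 1).map (E S g hg))
  obtain ⟨c', m', hc', hcm'⟩ := isUnit_laurent _ ((isUnit_T 1).map (E S g' hg'))
  have hone : g * g' ∈ FixG S := (FixG S).mul_mem hg hg'
  have h2 : E S g hg (E S g' hg' (T 1)) = T 1 := by
    rw [← E_mul S g g' hg hg' hone, E_congr S h1 hone (FixG S).one_mem, E_one]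
  rw [hcm', map_mul, E_C, map_T_zpow (E S g hg) c hc m hcm m'] at h2
  have hmm : m * m' = 1 := by
    by_contra hne
    have h3 := congrArg (fun p => p.coeff 1) h2
    rw [← mul_assoc, ← map_mul, coeff_C_mul_T, if_neg hne, T_apply, if_pos rfl] at h3
    exact zero_ne_one h3
  have hm : m = 1 ∨ m = -1 := Int.eq_one_or_neg_one_of_mul_eq_one hmm
  have hneg : E S g hg (T (-1)) = C (star c) * T (-m) := by
    rw [← tau_T (a₀ := a₀) (b₀ := b₀) 1, E_tau, hcm, map_mul, tau_C, tau_T]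
  have hprod : c * star c = 1 := by
    have h3 : E S g hg (T 1) * E S g hg (T (-1)) = 1 := by
      rw [← map_mul, ← T_add, add_neg_cancel, T_zero, map_one]
    rw [hcm, hneg] at h3
    have h4 : C c * T m * (C (star c) * T (-m)) = C (c * star c) := by
      have : C c * T m * (C (star c) * T (-m)) = (C c * C (star c)) * (T m * T (-m)) := by ring
      rw [this, ← T_add, add_neg_cancel, T_zero, mul_one, map_mul]
    rw [h4] at h3
    have h5 : (C (c * star c) : (QuadraticAlgebra K a₀ b₀)[T;T⁻¹]).coeff 0 =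
        (C 1 : (QuadraticAlgebra K a₀ b₀)[T;T⁻¹]).coeff 0 := by rw [h3, map_one]
    rw [C_apply, C_apply, if_pos rfl, if_pos rfl] at h5
    exact h5
  exact ⟨c, m, hc, hm, hcm, hneg, hprod⟩

theorem root_in_K (hK : ∀ n : ℕ, 0 < n → (Polynomial.X ^ n - 1 : Polynomial K).Splits)
    (c : QuadraticAlgebra K a₀ b₀) (n : ℕ) (hn : 0 < n) (hcn : c ^ n = 1) :
    ∃ r : K, algebraMap K (QuadraticAlgebra K a₀ b₀) r = c := by
  have hne : (Polynomial.X ^ n - 1 : Polynomial K) ≠ 0 := by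
    have := Polynomial.X_pow_sub_C_ne_zero hn (1 : K)
    rwa [map_one] at this
  have hroot : ((Polynomial.X ^ n - 1 : Polynomial K).map
      (algebraMap K (QuadraticAlgebra K a₀ b₀))).IsRoot c := by
    simp [Polynomial.IsRoot, hcn]
  obtain ⟨r, hr⟩ := (hK n hn).mem_range_of_isRoot hne hroot
  exact ⟨r, hr⟩

theorem key (hK : ∀ n : ℕ, 0 < n → (Polynomial.X ^ n - 1 : Polynomial K).Splits)
    (g : A ≃+* A) (hg : g ∈ FixG S) (n : ℕ) (hn : 0 < n) (hgn : g ^ n = 1) :
    E S g hg (E S g hg (T 1)) = T 1 ∧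
    ((∃ c, E S g hg (T 1) = C c * T 1) →
      (E S g hg (T 1) = T 1 ∨ E S g hg (T 1) = -T 1)) := by
  have hg' : g⁻¹ ∈ FixG S := (FixG S).inv_mem hg
  obtain ⟨c, m, hc, hm, hcm, hneg, hprod⟩ := shape S g g⁻¹ hg hg' (mul_inv_cancel g)
  rcases hm with rfl | rfl
  · have hpow : ∀ k : ℕ, E S (g ^ k) ((FixG S).pow_mem hg k) (T 1) = C (c ^ k) * T 1 := by
      intro k
      induction k with
      | zero =>
        rw [E_congr S (pow_zero g) _ (FixG S).one_mem, E_one, pow_zero, map_one, one_mul]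
      | succ k ih =>
        rw [E_congr S (pow_succ g k) _ ((FixG S).mul_mem ((FixG S).pow_mem hg k) hg),
          E_mul S _ _ ((FixG S).pow_mem hg k) hg, hcm, map_mul, E_C, ih, pow_succ, map_mul]
        ring
    have hcn : c ^ n = 1 := by
      have h1 := hpow n
      rw [E_congr S hgn _ (FixG S).one_mem, E_one] at h1
      have h2 := congrArg (fun p => p.coeff 1) h1
      rw [T_apply, if_pos rfl, coeff_C_mul_T, if_pos rfl] at h2
      exact h2.symm
    obtain ⟨r, rfl⟩ := root_in_K hK c n hn hcn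
    rw [star_algebraMap] at hprod
    have hsq : C (algebraMap K (QuadraticAlgebra K a₀ b₀) r) *
        C (algebraMap K (QuadraticAlgebra K a₀ b₀) r) = 1 := by
      rw [← map_mul, hprod, map_one]
    refine ⟨?_, fun _ => ?_⟩
    · rw [hcm, map_mul, E_C, hcm, ← mul_assoc, hsq, one_mul]
    · have h0 : (algebraMap K (QuadraticAlgebra K a₀ b₀) r - 1) *
          (algebraMap K (QuadraticAlgebra K a₀ b₀) r + 1) = 0 := by
        linear_combination hprod
      rcases mul_eq_zero.mp h0 with h | h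
      · left; rw [hcm, sub_eq_zero.mp h, map_one, one_mul]
      · right; rw [hcm, eq_neg_of_add_eq_zero_left h, map_neg, map_one, neg_one_mul]
  · refine ⟨?_, ?_⟩
    · rw [hcm, map_mul, E_C, hneg, neg_neg, ← mul_assoc, ← map_mul, hprod, map_one, one_mul]
    · rintro ⟨c', hc'⟩
      exfalso
      rw [hcm] at hc'
      have h2 := congrArg (fun p => p.coeff (-1)) hc'
      rw [coeff_C_mul_T, if_pos rfl, coeff_C_mul_T, if_neg (by norm_num)] at h2
      exact hc h2

theorem main_abstract (hK : ∀ n : ℕ, 0 < n → (Polynomial.X ^ n - 1 : Polynomial K).Splits)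
    (G : Subgroup (A ≃+* A)) [Finite G] (hG : G ≤ FixG S) :
    (∀ g ∈ G, g ^ 2 = 1) ∧ Nat.card G ≤ 4 := by
  classical
  have hfin : ∀ g ∈ G, ∃ n : ℕ, 0 < n ∧ g ^ n = 1 := by
    intro g hg
    have h1 : IsOfFinOrder (⟨g, hg⟩ : G) := isOfFinOrder_of_finite _
    refine ⟨orderOf (⟨g, hg⟩ : G), h1.orderOf_pos, ?_⟩
    have := pow_orderOf_eq_one (⟨g, hg⟩ : G)
    simpa using congrArg Subtype.val this
  have hkey : ∀ g (hg : g ∈ G), E S g (hG hg) (E S g (hG hg) (T 1)) = T 1 ∧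
      ((∃ c, E S g (hG hg) (T 1) = C c * T 1) →
        (E S g (hG hg) (T 1) = T 1 ∨ E S g (hG hg) (T 1) = -T 1)) := by
    intro g hg
    obtain ⟨n, hn, hgn⟩ := hfin g hg
    exact key S hK g (hG hg) n hn hgn
  have hsq : ∀ g ∈ G, g ^ 2 = 1 := by
    intro g hg
    apply eq_one_of_E S (g ^ 2) ((FixG S).pow_mem (hG hg) 2)
    intro b
    apply ringHom_eq_id _ (fun l => E_C S _ _ l)
    rw [E_congr S (pow_two g) _ ((FixG S).mul_mem (hG hg) (hG hg)),
      E_mul S g g (hG hg) (hG hg)]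
    exact (hkey g hg).1
  refine ⟨hsq, ?_⟩
  let f : G → (QuadraticAlgebra K a₀ b₀)[T;T⁻¹] := fun g => E S g.1 (hG g.2) (T 1)
  have hf_inj : Function.Injective f := by
    intro g h hgh
    have hgi : (g.1)⁻¹ ∈ FixG S := (FixG S).inv_mem (hG g.2)
    have h1 : E S ((g.1)⁻¹ * h.1) ((FixG S).mul_mem hgi (hG h.2)) (T 1) = T 1 := by
      rw [E_mul S _ _ hgi (hG h.2)]
      show E S g.1⁻¹ hgi (f h) = T 1
      rw [← hgh]
      show E S g.1⁻¹ hgi (E S g.1 (hG g.2) (T 1)) = T 1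
      rw [← E_mul S _ _ hgi (hG g.2) ((FixG S).mul_mem hgi (hG g.2)),
        E_congr S (inv_mul_cancel g.1) _ (FixG S).one_mem, E_one]
    have h2 : (g.1)⁻¹ * h.1 = 1 :=
      eq_one_of_E S _ _ (fun b => ringHom_eq_id _ (fun l => E_C S _ _ l) h1 b)
    have h3 : g.1 = h.1 := by
      calc g.1 = g.1 * 1 := (mul_one _).symm
        _ = g.1 * (g.1⁻¹ * h.1) := by rw [h2]
        _ = h.1 := mul_inv_cancel_left _ _
    exact Subtype.ext h3
  have hPp : ∀ g : G, (∃ c, f g = C c * T 1) → (f g = T 1 ∨ f g = -T 1) :=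
    fun g => (hkey g.1 g.2).2
  have hdich : ∀ g : G, (∃ c, f g = C c * T 1) ∨
      (∃ c, f g = C c * T (-1) ∧ E S g.1 (hG g.2) (T (-1)) = C (star c) * T 1) := by
    intro g
    obtain ⟨c, m, hc, hm, hcm, hneg, hprod⟩ :=
      shape S g.1 g.1⁻¹ (hG g.2) ((FixG S).inv_mem (hG g.2)) (mul_inv_cancel _)
    rcases hm with rfl | rfl
    · left; exact ⟨c, hcm⟩
    · right; exact ⟨c, hcm, by rw [hneg, neg_neg]⟩
  obtain ⟨h, hh⟩ : ∃ h : G, ∀ g : G, ¬ (∃ c, f g = C c * T 1) →
      ∃ c, f (g * h) = C c * T 1 := by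
    by_cases hex : ∃ h : G, ¬ (∃ c, f h = C c * T 1)
    · obtain ⟨h, hh⟩ := hex
      refine ⟨h, fun g hg => ?_⟩
      obtain ⟨ch, hch, -⟩ := (hdich h).resolve_left hh
      obtain ⟨cg, hcg, hcg'⟩ := (hdich g).resolve_left hg
      refine ⟨ch * star cg, ?_⟩
      show E S (g.1 * h.1) (hG (g * h).2) (T 1) = _
      rw [E_mul S g.1 h.1 (hG g.2) (hG h.2)]
      show E S g.1 (hG g.2) (f h) = _
      rw [hch, map_mul, E_C, hcg', map_mul, mul_assoc]
    · push Not at hex
      exact ⟨1, fun g hg => absurd (hex g) hg⟩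
  let r : G → G := fun g => if (∃ c, f g = C c * T 1) then g else g * h
  have hr : ∀ g, f (r g) = T 1 ∨ f (r g) = -T 1 := by
    intro g
    by_cases hg : ∃ c, f g = C c * T 1
    · simp only [r, if_pos hg]; exact hPp g hg
    · simp only [r, if_neg hg]; exact hPp (g * h) (hh g hg)
  let F : G → Bool × Bool :=
    fun g => (decide (∃ c, f g = C c * T 1), decide (f (r g) = T 1))
  have hF : Function.Injective F := by
    intro g g' hgg'
    have h1 : (∃ c, f g = C c * T 1) ↔ (∃ c, f g' = C c * T 1) := by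
      have := congrArg Prod.fst hgg'
      simpa [F] using this
    have h2 : (f (r g) = T 1) ↔ (f (r g') = T 1) := by
      have := congrArg Prod.snd hgg'
      simpa [F] using this
    have h3 : f (r g) = f (r g') := by
      rcases hr g with ha | ha
      · rw [ha, h2.mp ha]
      · rcases hr g' with hb | hb
        · rw [h2.mpr hb, hb]
        · rw [ha, hb]
    have h4 : r g = r g' := hf_inj h3
    by_cases hg : ∃ c, f g = C c * T 1
    · have hg' := h1.mp hg
      simp only [r, if_pos hg, if_pos hg'] at h4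
      exact h4
    · have hg' : ¬ ∃ c, f g' = C c * T 1 := fun h => hg (h1.mpr h)
      simp only [r, if_neg hg, if_neg hg'] at h4
      exact mul_right_cancel h4
  calc Nat.card G ≤ Nat.card (Bool × Bool) := Nat.card_le_card_of_injective F hF
    _ = 4 := by simp [Nat.card_eq_fintype_card]

end Main

end Groth.Agent.Lib.helper6.LaurentAut
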