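import Mathlib

/-!
# Explicit smooth hypersurfaces of every degree in every characteristic (helper6)

`IsSmoothForm k G`: the only common zero of `G` and its partial derivatives is `0`.
* `chain`: `x_0^{d-1} x_1 + x_1^{d-1} x_2 + ⋯ + x_{n-1}^{d-1} x_n + x_n^d`, smooth when `d ≥ 3` and
  `d - 1 ≠ 0` in `k`;
* `pr`: `∑ (x_{2i}^{d-1} x_{2i+1} + ε x_{2i+1}^{d-1} x_{2i}) (+ x_{N-1}^d)`, smooth for
  `d = 2, ε = 0` and for `d - 1 = 0` in `k`, `ε = 1`.
Both vanish on the coordinate subspace `x_j = 0` (`j` odd or `j` last).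
-/

set_option autoImplicit false

namespace Groth.Agent.Lib.Helper6.SmoothEx

open MvPolynomial

universe u

variable (k : Type u) [Field k]

/-- the only common zero of `G` and its partial derivatives is `0` -/
def IsSmoothForm {σ : Type*} (G : MvPolynomial σ k) : Prop :=
  ∀ v : σ → k, eval v G = 0 → (∀ i, eval v (pderiv i G) = 0) → v = 0

theorem pderiv_rename_of_notMem {σ τ : Type*} (f : σ → τ) (t : τ) (ht : ∀ s, f s ≠ t)
    (p : MvPolynomial σ k) : pderiv t (rename f p) = 0 := by
  induction p using MvPolynomial.induction_on with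
  | C a => simp
  | add p q hp hq => rw [map_add, map_add, hp, hq, add_zero]
  | mul_X p i hp =>
    rw [map_mul, rename_X, pderiv_mul, hp, pderiv_X_of_ne (ht i), zero_mul, mul_zero, add_zero]

/-! ### The chain form -/

/-- `x_0^{d-1} x_1 + ⋯ + x_{n-1}^{d-1} x_n + x_n^d` -/
noncomputable def chain (d : ℕ) : (n : ℕ) → MvPolynomial (Fin (n + 1)) k
  | 0 => X 0 ^ d
  | (n + 1) => X 0 ^ (d - 1) * X (Fin.succ 0) + rename Fin.succ (chain d n)

theorem chain_zero (d : ℕ) : chain k d 0 = X 0 ^ d := rfl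

theorem chain_succ (d n : ℕ) :
    chain k d (n + 1) = X 0 ^ (d - 1) * X (Fin.succ 0) + rename Fin.succ (chain k d n) := rfl

theorem chain_homog (d : ℕ) (hd : 1 ≤ d) : ∀ n, (chain k d n).IsHomogeneous d := by
  intro n
  induction n with
  | zero =>
    rw [chain_zero]
    have h := (isHomogeneous_X k (0 : Fin 1)).pow d
    rwa [one_mul] at h
  | succ n ih =>
    rw [chain_succ]
    apply IsHomogeneous.add
    · have h := ((isHomogeneous_X k (0 : Fin (n + 2))).pow (d - 1)).mul
        (isHomogeneous_X k (Fin.succ (0 : Fin (n + 1))))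
      have e : 1 * (d - 1) + 1 = d := by omega
      rwa [e] at h
    · exact IsHomogeneous.rename_isHomogeneous ih

theorem eval_chain_succ (d n : ℕ) (v : Fin (n + 2) → k) :
    eval v (chain k d (n + 1))
      = v 0 ^ (d - 1) * v (Fin.succ 0) + eval (v ∘ Fin.succ) (chain k d n) := by
  rw [chain_succ, map_add, map_mul, map_pow, eval_X, eval_X, eval_rename]

theorem eval_pderiv_zero_chain_succ (d n : ℕ) (v : Fin (n + 2) → k) :
    eval v (pderiv (0 : Fin (n + 2)) (chain k d (n + 1)))
      = ((d - 1 : ℕ) : k) * v 0 ^ (d - 1 - 1) * v (Fin.succ 0) := by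
  rw [chain_succ, map_add, pderiv_mul, pderiv_pow, pderiv_X_self,
    pderiv_X_of_ne (Fin.succ_ne_zero (0 : Fin (n + 1))),
    pderiv_rename_of_notMem k Fin.succ 0 (fun s => Fin.succ_ne_zero s)]
  simp only [mul_one, mul_zero, add_zero, map_mul, map_pow, eval_X, map_natCast]

theorem eval_pderiv_succ_chain_succ (d n : ℕ) (v : Fin (n + 2) → k) (l : Fin (n + 1)) :
    eval v (pderiv (Fin.succ l) (chain k d (n + 1)))
      = v 0 ^ (d - 1) * (if l = 0 then 1 else 0)
        + eval (v ∘ Fin.succ) (pderiv l (chain k d n)) := by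
  rw [chain_succ, map_add, pderiv_mul, pderiv_pow, pderiv_X_of_ne (Fin.succ_ne_zero l).symm,
    pderiv_rename (Fin.succ_injective _)]
  by_cases hl : l = 0
  · rw [hl, pderiv_X_self, if_pos rfl]
    simp only [mul_zero, zero_mul, zero_add, mul_one, map_add, map_pow, eval_X, eval_rename]
  · have hne : Fin.succ (0 : Fin (n + 1)) ≠ Fin.succ l := fun h => hl (Fin.succ_injective _ h).symm
    rw [pderiv_X_of_ne hne, if_neg hl]
    simp only [mul_zero, zero_mul, zero_add, eval_rename]

theorem eval_pderiv_zero_chain (d : ℕ) (hd : 3 ≤ d) :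
    ∀ (n : ℕ) (w : Fin (n + 1) → k), w 0 = 0 → eval w (pderiv 0 (chain k d n)) = 0 := by
  intro n
  cases n with
  | zero =>
    intro w hw
    rw [chain_zero, pderiv_pow, pderiv_X_self]
    simp only [mul_one, map_mul, map_pow, eval_X, map_natCast, hw]
    rw [zero_pow (by omega), mul_zero]
  | succ n =>
    intro w hw
    rw [eval_pderiv_zero_chain_succ, hw, zero_pow (by omega), mul_zero, zero_mul]

theorem chain_smooth (d : ℕ) (hd : 3 ≤ d) (hd1 : ((d - 1 : ℕ) : k) ≠ 0) :
    ∀ n, IsSmoothForm k (chain k d n) := by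
  intro n
  induction n with
  | zero =>
    intro v hv _
    rw [chain_zero, map_pow, eval_X] at hv
    have h0 : v 0 = 0 := pow_eq_zero_iff (by omega) |>.mp hv
    funext i
    rw [Fin.fin_one_eq_zero i, h0]
    rfl
  | succ n ih =>
    intro v hv hpd
    have h0 : v 0 = 0 := by
      by_contra hne
      have e0 := hpd 0
      rw [eval_pderiv_zero_chain_succ] at e0
      have hv1 : v (Fin.succ 0) = 0 := by
        rcases mul_eq_zero.mp e0 with h | h
        · rcases mul_eq_zero.mp h with h' | h'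
          · exact absurd h' hd1
          · exact absurd (pow_eq_zero_iff (by omega) |>.mp h') hne
        · exact h
      have e1 := hpd (Fin.succ 0)
      rw [eval_pderiv_succ_chain_succ, if_pos rfl, mul_one,
        eval_pderiv_zero_chain k d hd n (v ∘ Fin.succ) hv1, add_zero] at e1
      exact hne (pow_eq_zero_iff (by omega) |>.mp e1)
    have htail : v ∘ Fin.succ = 0 := by
      apply ih
      · rw [eval_chain_succ, h0, zero_pow (by omega), zero_mul, zero_add] at hv
        exact hv
      · intro l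
        have e := hpd (Fin.succ l)
        rw [eval_pderiv_succ_chain_succ, h0, zero_pow (by omega), zero_mul, zero_add] at e
        exact e
    funext j
    refine Fin.cases ?_ (fun l => ?_) j
    · exact h0
    · exact congrFun htail l

theorem chain_vanish (d : ℕ) (hd : 2 ≤ d) :
    ∀ (n ε : ℕ) (v : Fin (n + 1) → k),
      (∀ j : Fin (n + 1), (j.val + ε) % 2 = 1 → v j = 0) → v (Fin.last n) = 0 →
      eval v (chain k d n) = 0 := by
  intro n
  induction n with
  | zero =>
    intro ε v _ hlast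
    rw [chain_zero, map_pow, eval_X]
    have h0 : v 0 = 0 := hlast
    rw [h0, zero_pow (by omega)]
  | succ n ih =>
    intro ε v hodd hlast
    rw [eval_chain_succ]
    have h1 : v 0 ^ (d - 1) * v (Fin.succ 0) = 0 := by
      by_cases hε : ε % 2 = 1
      · have h0 : v 0 = 0 := hodd 0 (by simpa using hε)
        rw [h0, zero_pow (by omega), zero_mul]
      · have h0 : v (Fin.succ 0) = 0 := hodd (Fin.succ 0) (by
          rw [Fin.val_succ]
          simp only [Fin.val_zero]
          omega)
        rw [h0, mul_zero]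
    rw [h1, zero_add]
    apply ih (ε + 1)
    · intro j hj
      apply hodd (Fin.succ j)
      rw [Fin.val_succ]
      omega
    · show v (Fin.succ (Fin.last n)) = 0
      rw [Fin.succ_last]
      exact hlast

/-! ### The pairs form -/

/-- `∑ (x_{2i}^{d-1} x_{2i+1} + ε x_{2i+1}^{d-1} x_{2i})`, plus `x_{N-1}^d` when `N` is odd -/
noncomputable def pr (d : ℕ) (ε : k) : (N : ℕ) → MvPolynomial (Fin N) k
  | 0 => 0
  | 1 => X 0 ^ d
  | (N + 2) => X 0 ^ (d - 1) * X (Fin.succ 0) + C ε * (X (Fin.succ 0) ^ (d - 1) * X 0)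
      + rename (fun j : Fin N => j.succ.succ) (pr d ε N)

theorem pr_zero (d : ℕ) (ε : k) : pr k d ε 0 = 0 := rfl

theorem pr_one (d : ℕ) (ε : k) : pr k d ε 1 = X 0 ^ d := rfl

theorem pr_succ_succ (d : ℕ) (ε : k) (N : ℕ) :
    pr k d ε (N + 2) = X 0 ^ (d - 1) * X (Fin.succ 0) + C ε * (X (Fin.succ 0) ^ (d - 1) * X 0)
      + rename (fun j : Fin N => j.succ.succ) (pr k d ε N) := rfl

theorem pr_homog (d : ℕ) (hd : 1 ≤ d) (ε : k) : ∀ N, (pr k d ε N).IsHomogeneous d
  | 0 => by
    rw [pr_zero]
    exact isHomogeneous_zero _ _ _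
  | 1 => by
    rw [pr_one]
    have h := (isHomogeneous_X k (0 : Fin 1)).pow d
    rwa [one_mul] at h
  | (N + 2) => by
    rw [pr_succ_succ]
    have e : 1 * (d - 1) + 1 = d := by omega
    apply IsHomogeneous.add
    · apply IsHomogeneous.add
      · have h := ((isHomogeneous_X k (0 : Fin (N + 2))).pow (d - 1)).mul
          (isHomogeneous_X k (Fin.succ (0 : Fin (N + 1))))
        rwa [e] at h
      · have h := ((isHomogeneous_X k (Fin.succ (0 : Fin (N + 1)))).pow (d - 1)).mul
          (isHomogeneous_X k (0 : Fin (N + 2)))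
        rw [e] at h
        exact h.C_mul _
    · exact IsHomogeneous.rename_isHomogeneous (pr_homog d hd ε N)

theorem eval_pr_succ_succ (d : ℕ) (ε : k) (N : ℕ) (v : Fin (N + 2) → k) :
    eval v (pr k d ε (N + 2))
      = v 0 ^ (d - 1) * v (Fin.succ 0) + ε * (v (Fin.succ 0) ^ (d - 1) * v 0)
        + eval (v ∘ fun j : Fin N => j.succ.succ) (pr k d ε N) := by
  rw [pr_succ_succ]
  simp only [map_add, map_mul, map_pow, eval_X, eval_C, eval_rename]

theorem eval_pderiv_zero_pr (d : ℕ) (ε : k) (N : ℕ) (v : Fin (N + 2) → k) :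
    eval v (pderiv (0 : Fin (N + 2)) (pr k d ε (N + 2)))
      = ((d - 1 : ℕ) : k) * v 0 ^ (d - 1 - 1) * v (Fin.succ 0)
        + ε * v (Fin.succ 0) ^ (d - 1) := by
  rw [pr_succ_succ]
  simp only [map_add, pderiv_C_mul, pderiv_C, pderiv_mul, pderiv_pow, pderiv_X_self,
    pderiv_X_of_ne (Fin.succ_ne_zero (0 : Fin (N + 1))),
    pderiv_rename_of_notMem k (fun j : Fin N => j.succ.succ) 0 (fun s => Fin.succ_ne_zero _),
    mul_one, mul_zero, zero_mul, add_zero, zero_add, map_mul, map_pow, eval_X,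
    map_natCast, eval_C]

theorem eval_pderiv_one_pr (d : ℕ) (ε : k) (N : ℕ) (v : Fin (N + 2) → k) :
    eval v (pderiv (Fin.succ (0 : Fin (N + 1))) (pr k d ε (N + 2)))
      = v 0 ^ (d - 1)
        + ε * (((d - 1 : ℕ) : k) * v (Fin.succ 0) ^ (d - 1 - 1) * v 0) := by
  have hne : ∀ s : Fin N, s.succ.succ ≠ Fin.succ (0 : Fin (N + 1)) := fun s h =>
    Fin.succ_ne_zero s (Fin.succ_injective _ h)
  rw [pr_succ_succ]
  simp only [map_add, pderiv_C_mul, pderiv_C, pderiv_mul, pderiv_pow, pderiv_X_self,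
    pderiv_X_of_ne (Fin.succ_ne_zero (0 : Fin (N + 1))).symm,
    pderiv_rename_of_notMem k (fun j : Fin N => j.succ.succ) _ hne,
    mul_one, mul_zero, zero_mul, add_zero, zero_add, map_mul, map_pow, eval_X,
    map_natCast, eval_C]

theorem eval_pderiv_succ_succ_pr (d : ℕ) (ε : k) (N : ℕ) (v : Fin (N + 2) → k) (l : Fin N) :
    eval v (pderiv (l.succ.succ) (pr k d ε (N + 2)))
      = eval (v ∘ fun j : Fin N => j.succ.succ) (pderiv l (pr k d ε N)) := by
  have hinj : Function.Injective (fun j : Fin N => j.succ.succ) := fun a b h =>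
    Fin.succ_injective _ (Fin.succ_injective _ h)
  have h0 : (0 : Fin (N + 2)) ≠ l.succ.succ := (Fin.succ_ne_zero _).symm
  have h1 : Fin.succ (0 : Fin (N + 1)) ≠ l.succ.succ := fun h =>
    Fin.succ_ne_zero l (Fin.succ_injective _ h).symm
  rw [pr_succ_succ]
  simp only [map_add, pderiv_C_mul, pderiv_C, pderiv_mul, pderiv_pow, pderiv_X_of_ne h0,
    pderiv_X_of_ne h1, pderiv_rename (f := fun j : Fin N => j.succ.succ) hinj,
    mul_zero, zero_mul, add_zero, zero_add, map_zero, eval_rename]

/-- the local condition on one pair of variables -/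
def PairOK (d : ℕ) (ε : k) : Prop :=
  ∀ a b : k, ((d - 1 : ℕ) : k) * a ^ (d - 1 - 1) * b + ε * b ^ (d - 1) = 0 →
    a ^ (d - 1) + ε * (((d - 1 : ℕ) : k) * b ^ (d - 1 - 1) * a) = 0 → a = 0 ∧ b = 0

theorem pr_smooth (d : ℕ) (hd : 2 ≤ d) (ε : k) (hok : PairOK k d ε) :
    ∀ N, IsSmoothForm k (pr k d ε N)
  | 0 => by
    intro v _ _
    funext j
    exact j.elim0
  | 1 => by
    intro v hv _
    rw [pr_one, map_pow, eval_X] at hv
    have h0 : v 0 = 0 := pow_eq_zero_iff (by omega) |>.mp hv
    funext i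
    rw [Fin.fin_one_eq_zero i, h0]
    rfl
  | (N + 2) => by
    intro v hv hpd
    have e0 := hpd 0
    have e1 := hpd (Fin.succ 0)
    rw [eval_pderiv_zero_pr] at e0
    rw [eval_pderiv_one_pr] at e1
    obtain ⟨ha, hb⟩ := hok _ _ e0 e1
    have htail : (v ∘ fun j : Fin N => j.succ.succ) = 0 := by
      apply pr_smooth d hd ε hok N
      · rw [eval_pr_succ_succ, ha, hb, mul_zero, mul_zero, zero_add, zero_add] at hv
        exact hv
      · intro l
        have e := hpd l.succ.succ
        rw [eval_pderiv_succ_succ_pr] at e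
        exact e
    funext j
    refine Fin.cases ?_ (fun j' => ?_) j
    · exact ha
    · refine Fin.cases ?_ (fun l => ?_) j'
      · exact hb
      · exact congrFun htail l

theorem pairOK_two : PairOK k 2 0 := by
  intro a b h1 h2
  simp at h1 h2
  exact ⟨h2, h1⟩

theorem pairOK_charp (d : ℕ) (hd : 2 ≤ d) (h : ((d - 1 : ℕ) : k) = 0) : PairOK k d 1 := by
  intro a b h1 h2
  rw [h, zero_mul, zero_mul, zero_add, one_mul] at h1
  rw [h, zero_mul, zero_mul, mul_zero, add_zero] at h2
  exact ⟨pow_eq_zero_iff (by omega) |>.mp h2, pow_eq_zero_iff (by omega) |>.mp h1⟩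

theorem pr_vanish (d : ℕ) (hd : 2 ≤ d) (ε : k) :
    ∀ (N : ℕ) (v : Fin N → k), (∀ j : Fin N, j.val % 2 = 1 → v j = 0) →
      (∀ j : Fin N, j.val + 1 = N → v j = 0) → eval v (pr k d ε N) = 0
  | 0 => by
    intro v _ _
    rw [pr_zero, map_zero]
  | 1 => by
    intro v _ hlast
    rw [pr_one, map_pow, eval_X, hlast 0 (by simp), zero_pow (by omega)]
  | (N + 2) => by
    intro v hodd hlast
    have h1 : v (Fin.succ 0) = 0 := hodd _ (by
      rw [Fin.val_succ]
      simp)
    rw [eval_pr_succ_succ, h1, mul_zero, zero_pow (by omega), zero_mul, mul_zero, zero_add,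
      zero_add]
    apply pr_vanish d hd ε N
    · intro j hj
      apply hodd j.succ.succ
      rw [Fin.val_succ, Fin.val_succ]
      omega
    · intro j hj
      apply hlast j.succ.succ
      rw [Fin.val_succ, Fin.val_succ]
      omega

/-- **In every degree `d ≥ 2` and every characteristic there is a smooth form vanishing on the
coordinate subspace `x_j = 0` (`j` odd or `j = n`).** -/
theorem exists_smooth_form (n d : ℕ) (hd : 2 ≤ d) :
    ∃ G : MvPolynomial (Fin (n + 1)) k, G.IsHomogeneous d ∧ IsSmoothForm k G ∧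
      ∀ v : Fin (n + 1) → k, (∀ j : Fin (n + 1), j.val % 2 = 1 → v j = 0) →
        (∀ j : Fin (n + 1), j.val = n → v j = 0) → eval v G = 0 := by
  by_cases h1 : ((d - 1 : ℕ) : k) = 0
  · refine ⟨pr k d 1 (n + 1), pr_homog k d (by omega) 1 _,
      pr_smooth k d hd 1 (pairOK_charp k d hd h1) _, ?_⟩
    intro v hodd hlast
    apply pr_vanish k d hd 1 _ v hodd
    intro j hj
    exact hlast j (by omega)
  · by_cases h2 : d = 2
    · subst h2
      refine ⟨pr k 2 0 (n + 1), pr_homog k 2 (by omega) 0 _,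
        pr_smooth k 2 (le_refl _) 0 (pairOK_two k) _, ?_⟩
      intro v hodd hlast
      apply pr_vanish k 2 (le_refl _) 0 _ v hodd
      intro j hj
      exact hlast j (by omega)
    · refine ⟨chain k d n, chain_homog k d (by omega) n,
        chain_smooth k d (by omega) h1 n, ?_⟩
      intro v hodd hlast
      apply chain_vanish k d hd n 0 v
      · intro j hj
        exact hodd j (by simpa using hj)
      · exact hlast _ (by simp)

end Groth.Agent.Lib.Helper6.SmoothEx
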