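import Mathlib
import Groth.Agent.Lib.Helper6.GenPlane1
import Groth.Agent.Lib.Helper6.LineGen
import Groth.Agent.Lib.Helper6.SmoothEx

/-!
# Pullback of polynomials along linear maps; moving subspaces (helper6)

`pull L G = G ∘ L` for a linear endomorphism `L` of `k^σ`; evaluation, homogeneity, directional
derivatives, transfer of smoothness along linear automorphisms; and `exists_move`: a linear
automorphism moving a subspace into another one of the same dimension.
-/

set_option autoImplicit false

namespace Groth.Agent.Lib.Helper6.LinPull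

open MvPolynomial
open Groth.Agent.Lib.Helper6.GenPlane (eval_aeval')
open Groth.Agent.Lib.Helper6.LineGen (lineP dd lineP_eval dd_single)
open Groth.Agent.Lib.Helper6.SmoothEx (IsSmoothForm)

universe u

variable {k : Type u} [Field k] {σ : Type} [Fintype σ] [DecidableEq σ]

/-- `G ∘ L` -/
noncomputable def pull (L : (σ → k) →ₗ[k] (σ → k)) : MvPolynomial σ k →ₐ[k] MvPolynomial σ k :=
  aeval (fun t => ∑ j, C (L (Pi.single j 1) t) * X j)

theorem eval_pull (L : (σ → k) →ₗ[k] (σ → k)) (G : MvPolynomial σ k) (v : σ → k) :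
    eval v (pull L G) = eval (L v) G := by
  unfold pull
  rw [eval_aeval']
  have e : (fun t => eval v (∑ j, C (L (Pi.single j 1) t) * X j)) = L v := by
    funext t
    rw [LinearMap.pi_apply_eq_sum_univ L v]
    simp only [map_sum, map_mul, eval_C, eval_X, Finset.sum_apply, Pi.smul_apply, smul_eq_mul]
    refine Finset.sum_congr rfl fun j _ => ?_
    have e2 : (fun j' => if j = j' then (1 : k) else 0) = Pi.single j 1 := by
      funext j'
      rw [Pi.single_apply]
      by_cases h : j = j'
      · rw [if_pos h, if_pos h.symm]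
      · rw [if_neg h, if_neg (fun h' => h h'.symm)]
    rw [e2, mul_comm]
  rw [e]

theorem pull_homog (L : (σ → k) →ₗ[k] (σ → k)) {G : MvPolynomial σ k} {d : ℕ}
    (hG : G.IsHomogeneous d) : (pull L G).IsHomogeneous d := by
  have h := hG.aeval (fun t => ∑ j, C (L (Pi.single j 1) t) * X j) (n := 1) (by
    intro t
    apply IsHomogeneous.sum
    intro j _
    exact (isHomogeneous_X _ _).C_mul _)
  rwa [one_mul] at h

theorem dd_pull [Infinite k] (L : (σ → k) →ₗ[k] (σ → k)) (G : MvPolynomial σ k) (v w : σ → k) :
    dd (pull L G) v w = dd G (L v) (L w) := by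
  have h : lineP (pull L G) v w = lineP G (L v) (L w) := by
    apply Polynomial.funext
    intro t
    rw [lineP_eval, lineP_eval, eval_pull, map_add, map_smul]
  rw [← LineGen.coeff_one, ← LineGen.coeff_one, h]

theorem smooth_pull [Infinite k] (g : (σ → k) ≃ₗ[k] (σ → k)) {G : MvPolynomial σ k}
    (hG : IsSmoothForm k G) : IsSmoothForm k (pull g.toLinearMap G) := by
  intro v hv hpd
  have h1 : eval (g v) G = 0 := by
    rw [eval_pull] at hv
    exact hv
  have h2 : ∀ i, eval (g v) (pderiv i G) = 0 := by
    intro i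
    have h3 := dd_pull g.toLinearMap G v (g.symm (Pi.single i 1))
    have hl : dd (pull g.toLinearMap G) v (g.symm (Pi.single i 1)) = 0 := by
      unfold dd
      apply Finset.sum_eq_zero
      intro j _
      rw [hpd j, zero_mul]
    rw [hl] at h3
    have e : g.toLinearMap (g.symm (Pi.single i 1)) = Pi.single i 1 := g.apply_symm_apply _
    rw [e, dd_single] at h3
    exact h3.symm
  have h4 := hG (g v) h1 h2
  exact g.map_eq_zero_iff.mp h4

/-- a linear automorphism moving `U` into `U₁` -/
theorem exists_move {V : Type*} [AddCommGroup V] [Module k V] [FiniteDimensional k V]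
    (U U₁ : Submodule k V) (h : Module.finrank k U = Module.finrank k U₁) :
    ∃ g : V ≃ₗ[k] V, ∀ x ∈ U, g x ∈ U₁ := by
  obtain ⟨U', hU'⟩ := Submodule.exists_isCompl U
  obtain ⟨U₁', hU₁'⟩ := Submodule.exists_isCompl U₁
  have h1 := Submodule.finrank_add_eq_of_isCompl hU'
  have h2 := Submodule.finrank_add_eq_of_isCompl hU₁'
  have h' : Module.finrank k U' = Module.finrank k U₁' := by omega
  refine ⟨(Submodule.prodEquivOfIsCompl U U' hU').symm ≪≫ₗ
    ((LinearEquiv.ofFinrankEq U U₁ h).prodCongr (LinearEquiv.ofFinrankEq U' U₁' h')) ≪≫ₗ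
    (Submodule.prodEquivOfIsCompl U₁ U₁' hU₁'), ?_⟩
  intro x hx
  rw [LinearEquiv.trans_apply, LinearEquiv.trans_apply,
    Submodule.prodEquivOfIsCompl_symm_apply_left U U' hU' ⟨x, hx⟩,
    Submodule.coe_prodEquivOfIsCompl']
  simp only [LinearEquiv.prodCongr_apply, map_zero, Submodule.coe_zero, add_zero]
  exact Submodule.coe_mem _

end Groth.Agent.Lib.Helper6.LinPull
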