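import Mathlib

/-!
# Logarithmic connections on the trivial bundle over the affine line: residues

Helper lemmas (helper6) for S15502 / S15503.
-/

namespace Groth.Agent.Lib.Helper6.LogConn

open Polynomial

universe u

/-- Cayley–Hamilton: `T - c` is invertible when the characteristic polynomial of `T` takes a unit
value at `c`. -/
theorem exists_inv_sub {R : Type*} [CommRing R] {M : Type*} [AddCommGroup M] [Module R M]
    [Module.Free R M] [Module.Finite R M]
    (T : Module.End R M) (c : R) (hc : IsUnit (T.charpoly.eval c)) :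
    ∃ S : Module.End R M, (∀ m, T (S m) - c • S m = m) ∧ (∀ m, S (T m - c • m) = m) := by
  obtain ⟨Q, hQ⟩ := @X_sub_C_dvd_sub_C_eval _ c _ T.charpoly
  obtain ⟨u, hu⟩ := hc
  have h1 : -(algebraMap R (Module.End R M) (T.charpoly.eval c)) =
      (T - algebraMap R _ c) * aeval T Q := by
    have := congrArg (aeval T) hQ
    simpa [LinearMap.aeval_self_charpoly] using this
  have h2 : -(algebraMap R (Module.End R M) (T.charpoly.eval c)) =
      aeval T Q * (T - algebraMap R _ c) := by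
    have := congrArg (aeval T) (hQ.trans (mul_comm _ _))
    simpa [LinearMap.aeval_self_charpoly] using this
  refine ⟨-((↑u⁻¹ : R) • aeval T Q), fun m => ?_, fun m => ?_⟩
  · have e1 := LinearMap.congr_fun h1 m
    simp only [LinearMap.neg_apply, Module.algebraMap_end_apply, Module.End.mul_apply,
      LinearMap.sub_apply, ← hu] at e1
    simp only [LinearMap.neg_apply, LinearMap.smul_apply, map_neg, map_smul, smul_neg]
    calc _ = -((↑u⁻¹ : R) • (T (aeval T Q m) - c • aeval T Q m)) := by rw [smul_sub, smul_comm (↑u⁻¹ : R) c]; abel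
      _ = m := by rw [← e1, smul_neg, neg_neg, smul_smul, Units.inv_mul, one_smul]
  · have e2 := LinearMap.congr_fun h2 m
    simp only [LinearMap.neg_apply, Module.algebraMap_end_apply, Module.End.mul_apply,
      LinearMap.sub_apply, ← hu] at e2
    simp only [LinearMap.neg_apply, LinearMap.smul_apply]
    rw [← e2, smul_neg, neg_neg, smul_smul, Units.inv_mul, one_smul]

section Poly

variable {R : Type u} [CommRing R] {r : ℕ} (θ : Fin r → R)
  (hθ : ∀ i k, i ≠ k → IsUnit (θ i - θ k))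
  (Θ : R[X]) (hΘ : Θ = ∏ i, (X - C (θ i)))

include hΘ in
theorem eval_Th (i : Fin r) : Θ.eval (θ i) = 0 := by
  subst hΘ
  exact Lagrange.eval_nodal_at_node (s := Finset.univ) (v := θ) (Finset.mem_univ i)

include hΘ in
theorem eval_derivative_Th (i : Fin r) :
    (derivative Θ).eval (θ i) = ∏ k ∈ Finset.univ.erase i, (θ i - θ k) := by
  subst hΘ
  have := Lagrange.eval_nodal_derivative_eval_node_eq (s := Finset.univ) (v := θ)
    (Finset.mem_univ i)
  rw [Lagrange.eval_nodal] at this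
  exact this

include hθ in
theorem isUnit_c (i : Fin r) : IsUnit (∏ k ∈ Finset.univ.erase i, (θ i - θ k)) := by
  rw [IsUnit.prod_iff]
  intro k hk
  exact hθ i k (Finset.ne_of_mem_erase hk).symm

include hθ hΘ in
theorem Th_dvd_of_eval (p : R[X]) (hp : ∀ i, p.eval (θ i) = 0) : Θ ∣ p := by
  subst hΘ
  refine Finset.prod_dvd_of_coprime ?_ ?_
  · intro i _ k _ hik
    exact isCoprime_X_sub_C_of_isUnit_sub (hθ i k hik)
  · intro i _
    exact dvd_iff_isRoot.mpr (hp i)

include hθ in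
theorem exists_interp (m : Fin r → R) : ∃ p : R[X], ∀ i, p.eval (θ i) = m i := by
  classical
  choose cinv hcinv using fun i => (isUnit_c θ hθ i).exists_right_inv
  refine ⟨∑ i, C (cinv i * m i) * Lagrange.nodal (Finset.univ.erase i) θ, fun l => ?_⟩
  rw [eval_finsetSum, Finset.sum_eq_single l]
  · rw [eval_mul, eval_C, Lagrange.eval_nodal, mul_comm, ← mul_assoc, hcinv, one_mul]
  · intro i _ hil
    rw [eval_mul, Lagrange.eval_nodal_at_node (Finset.mem_erase.mpr ⟨Ne.symm hil, Finset.mem_univ l⟩),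
      mul_zero]
  · intro h; exact absurd (Finset.mem_univ l) h

end Poly


section Main

variable {R : Type u} [CommRing R] [IsDomain R] {d r : ℕ} (θ : Fin r → R)
  (hθ : ∀ i k, i ≠ k → IsUnit (θ i - θ k))
  (Θ : R[X]) (hΘ : Θ = ∏ i, (X - C (θ i)))
  (D₀ : (Fin d → R[X]) →+ (Fin d → R[X]))
  (hD₀ : ∀ (p : R[X]) (v : Fin d → R[X]),
      D₀ (p • v) = (Θ * derivative p) • v + p • D₀ v)
  (D : (Fin d → Localization.Away Θ) →+ (Fin d → Localization.Away Θ))
  (hD : ∀ (p : R[X]) (w : Fin d → Localization.Away Θ),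
      D (p • w) = (Θ * derivative p) • w + p • D w)
  (hDD₀ : ∀ v : Fin d → R[X],
      D (fun j => algebraMap R[X] (Localization.Away Θ) (v j)) =
        fun j => algebraMap R[X] (Localization.Away Θ) (D₀ v j))
  (Res : Fin r → ((Fin d → R) →ₗ[R] (Fin d → R)))
  (hRes : ∀ (i : Fin r) (m : Fin d → R) (j : Fin d),
      (D₀ (fun j => C (m j)) j).eval (θ i) =
        (∏ k ∈ Finset.univ.erase i, (θ i - θ k)) * Res i m j)
  (hχ : ∀ (i : Fin r) (n : ℕ), IsUnit ((Res i).charpoly.eval ((n + 1 : ℕ) : R)))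

/-- embedding of polynomial vectors into the localisation -/
noncomputable abbrev emb (v : Fin d → R[X]) : Fin d → Localization.Away Θ :=
  fun j => algebraMap R[X] (Localization.Away Θ) (v j)

/-- evaluation of polynomial vectors at the `i`-th section -/
def ev (i : Fin r) (v : Fin d → R[X]) : Fin d → R := fun j => (v j).eval (θ i)

theorem emb_smul (p : R[X]) (v : Fin d → R[X]) : emb Θ (p • v) = p • emb Θ v := by
  ext j; simp [emb, Algebra.smul_def]

theorem emb_add (v v' : Fin d → R[X]) : emb Θ (v + v') = emb Θ v + emb Θ v' := by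
  ext j; simp [emb]

theorem emb_sub (v v' : Fin d → R[X]) : emb Θ (v - v') = emb Θ v - emb Θ v' := by
  ext j; simp [emb]

include hΘ in
theorem emb_injective : Function.Injective (emb (d := d) Θ) := by
  have hmon : Θ.Monic := by
    subst hΘ; exact monic_prod_of_monic _ _ (fun i _ => monic_X_sub_C _)
  have hinj : Function.Injective (algebraMap R[X] (Localization.Away Θ)) :=
    IsLocalization.injective _ (M := Submonoid.powers Θ)
      (powers_le_nonZeroDivisors_of_noZeroDivisors hmon.ne_zero)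
  intro v v' h
  ext1 j
  exact hinj (congrFun h j)

theorem smul_Th_cancel (w w' : Fin d → Localization.Away Θ) (h : Θ • w = Θ • w') : w = w' := by
  ext1 j
  have := congrFun h j
  simp only [Pi.smul_apply, Algebra.smul_def] at this
  exact (IsLocalization.Away.algebraMap_isUnit (S := Localization.Away Θ) Θ).mul_left_cancel this

theorem exists_rep (w : Fin d → Localization.Away Θ) :
    ∃ (k : ℕ) (v : Fin d → R[X]), (Θ ^ k) • w = emb Θ v := by
  obtain ⟨⟨b, k, hk⟩, hb⟩ :=
    IsLocalization.exist_integer_multiples_of_finite (Submonoid.powers Θ) w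
  choose v hv using hb
  refine ⟨k, v, ?_⟩
  ext1 j
  simp only [Pi.smul_apply, emb]
  rw [hv j]
  simp [← hk]

include hΘ hD₀ hRes in
theorem ev_D₀ (i : Fin r) (v : Fin d → R[X]) :
    ev θ i (D₀ v) = (∏ k ∈ Finset.univ.erase i, (θ i - θ k)) • Res i (ev θ i v) := by
  classical
  set c := ∏ k ∈ Finset.univ.erase i, (θ i - θ k) with hc
  let E : (Fin d → R[X]) →+ (Fin d → R) :=
    AddMonoidHom.mk' (ev θ i) (by intro a b; ext j; simp [ev])
  let φ : (Fin d → R[X]) →+ (Fin d → R) := E.comp D₀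
  let ψ : (Fin d → R[X]) →+ (Fin d → R) := ((c • Res i).toAddMonoidHom).comp E
  suffices h : φ = ψ from DFunLike.congr_fun h v
  refine AddMonoidHom.functions_ext _ _ _ (fun j x => ?_)
  have key : φ.comp (AddMonoidHom.single (fun _ : Fin d => R[X]) j) =
      ψ.comp (AddMonoidHom.single (fun _ : Fin d => R[X]) j) := by
    refine addHom_ext (fun n a => ?_)
    have hs : (Pi.single j (monomial n a) : Fin d → R[X]) =
        (X ^ n : R[X]) • (fun j' => C ((Pi.single j a : Fin d → R) j')) := by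
      ext1 j'
      by_cases hj : j' = j
      · subst hj
        simp only [Pi.single_eq_same, Pi.smul_apply, smul_eq_mul]
        rw [← C_mul_X_pow_eq_monomial, mul_comm]
      · simp [Pi.single_apply, hj]
    show ev θ i (D₀ (Pi.single j (monomial n a))) =
      c • Res i (ev θ i (Pi.single j (monomial n a)))
    rw [hs, hD₀]
    have h2 : ev θ i ((X ^ n : R[X]) • (fun j' => C ((Pi.single j a : Fin d → R) j'))) =
        (θ i ^ n) • (Pi.single j a : Fin d → R) := by
      ext1 j'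
      simp only [ev, Pi.smul_apply, smul_eq_mul, eval_mul, eval_pow, eval_X, eval_C]
    rw [h2, map_smul]
    ext1 j'
    simp only [ev, Pi.add_apply, Pi.smul_apply, smul_eq_mul, eval_add, eval_mul,
      eval_Th θ Θ hΘ i, zero_mul, zero_add, eval_pow, eval_X, hRes]
    ring
  exact DFunLike.congr_fun key x

include hD hDD₀ in
theorem key (k : ℕ) (w : Fin d → Localization.Away Θ) (v : Fin d → R[X])
    (h : (Θ ^ k) • w = emb Θ v) :
    emb Θ (D₀ v) = emb Θ ((C (k : R) * derivative Θ) • v) + (Θ ^ k) • D w := by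
  have h1 : Θ * derivative (Θ ^ k) = (C (k : R) * derivative Θ) * Θ ^ k := by
    cases k with
    | zero => simp
    | succ k => rw [derivative_pow]; simp [pow_succ]; ring
  have h2 := hD (Θ ^ k) w
  rw [h, hDD₀ v, h1, mul_smul, h] at h2
  rw [emb_smul]; exact h2

include hθ hΘ hD₀ hD hDD₀ hRes hχ in
theorem poly_of_D_poly : ∀ (k : ℕ) (f : Fin d → Localization.Away Θ),
    (∃ v, (Θ ^ k) • f = emb Θ v) → (∃ g, D f = emb Θ g) → ∃ v, f = emb Θ v := by
  intro k
  induction k with
  | zero => rintro f ⟨v, hv⟩ _; exact ⟨v, by simpa using hv⟩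
  | succ k ih =>
    rintro f ⟨v, hv⟩ ⟨g, hg⟩
    have h1 := key Θ D₀ D hD hDD₀ (k+1) f v hv
    rw [hg, ← emb_smul, ← emb_add] at h1
    have h2 := emb_injective θ Θ hΘ h1
    have h3 : ∀ i, ev θ i v = 0 := by
      intro i
      have h4 := congrArg (ev θ i) h2
      rw [ev_D₀ θ Θ hΘ D₀ hD₀ Res hRes] at h4
      have h5 : ev θ i ((C ((k+1 : ℕ) : R) * derivative Θ) • v + (Θ ^ (k+1)) • g) =
          (∏ k' ∈ Finset.univ.erase i, (θ i - θ k')) • (((k + 1 : ℕ) : R) • ev θ i v) := by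
        ext1 j
        simp only [ev, Pi.add_apply, Pi.smul_apply, smul_eq_mul, eval_add, eval_mul, eval_pow,
          eval_Th θ Θ hΘ i, eval_derivative_Th θ Θ hΘ i, eval_C]
        ring
      rw [h5] at h4
      obtain ⟨cu, hcu⟩ := isUnit_c θ hθ i
      have h6 : Res i (ev θ i v) = ((k+1 : ℕ) : R) • ev θ i v := by
        have := congrArg (fun z => (↑cu⁻¹ : R) • z) h4
        simpa [← hcu, smul_smul] using this
      obtain ⟨S, hS1, hS2⟩ := exists_inv_sub (Res i) ((k+1 : ℕ) : R) (hχ i k)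
      have h7 := hS2 (ev θ i v)
      rw [h6, sub_self, map_zero] at h7
      exact h7.symm
    have h7 : ∀ j, Θ ∣ v j :=
      fun j => Th_dvd_of_eval θ hθ Θ hΘ (v j) (fun i => congrFun (h3 i) j)
    choose v' hv' using h7
    have h8 : v = Θ • v' := by ext1 j; simp [hv' j]
    refine ih f ⟨v', ?_⟩ ⟨g, hg⟩
    apply smul_Th_cancel Θ
    rw [smul_smul, ← pow_succ', hv, h8, emb_smul]

end Main

theorem isUnit_eval_charpoly_of_complex {R : Type u} [CommRing R] [Algebra ℂ R] {d r : ℕ}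
    (Res : Fin r → ((Fin d → R) →ₗ[R] (Fin d → R)))
    (hχ : ∀ i : Fin r, ∃ χ : ℂ[X], (Res i).charpoly = χ.map (algebraMap ℂ R) ∧
      ∀ n : ℤ, n ≠ 0 → χ.eval (n : ℂ) ≠ 0) :
    ∀ (i : Fin r) (n : ℕ), IsUnit ((Res i).charpoly.eval ((n + 1 : ℕ) : R)) := by
  intro i n
  obtain ⟨χ, h1, h2⟩ := hχ i
  rw [h1, eval_natCast_map]
  refine IsUnit.map _ (IsUnit.mk0 _ ?_)
  have := h2 ((n+1 : ℕ) : ℤ) (by exact_mod_cast Nat.succ_ne_zero n)
  simpa using this

/-- S15503 in lib form. -/
theorem mem_polynomial {R : Type u} [CommRing R] [IsDomain R] [Algebra ℂ R] {d r : ℕ}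
    (θ : Fin r → R)
    (hθ : ∀ i k, i ≠ k → IsUnit (θ i - θ k))
    (Θ : R[X]) (hΘ : Θ = ∏ i, (X - C (θ i)))
    (D₀ : (Fin d → R[X]) →+ (Fin d → R[X]))
    (hD₀ : ∀ (p : R[X]) (v : Fin d → R[X]),
      D₀ (p • v) = (Θ * derivative p) • v + p • D₀ v)
    (D : (Fin d → Localization.Away Θ) →+ (Fin d → Localization.Away Θ))
    (hD : ∀ (p : R[X]) (w : Fin d → Localization.Away Θ),
      D (p • w) = (Θ * derivative p) • w + p • D w)
    (hDD₀ : ∀ v : Fin d → R[X],
      D (fun j => algebraMap R[X] (Localization.Away Θ) (v j)) =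
        fun j => algebraMap R[X] (Localization.Away Θ) (D₀ v j))
    (Res : Fin r → ((Fin d → R) →ₗ[R] (Fin d → R)))
    (hRes : ∀ (i : Fin r) (m : Fin d → R) (j : Fin d),
      (D₀ (fun j => C (m j)) j).eval (θ i) =
        (∏ k ∈ Finset.univ.erase i, (θ i - θ k)) * Res i m j)
    (hχ : ∀ i : Fin r, ∃ χ : ℂ[X], (Res i).charpoly = χ.map (algebraMap ℂ R) ∧
      ∀ n : ℤ, n ≠ 0 → χ.eval (n : ℂ) ≠ 0)
    (f : Fin d → Localization.Away Θ)
    (hf : ∃ v : Fin d → R[X], D f = fun j => algebraMap R[X] (Localization.Away Θ) (v j)) :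
    ∃ v : Fin d → R[X], f = fun j => algebraMap R[X] (Localization.Away Θ) (v j) := by
  obtain ⟨k, v, hv⟩ := exists_rep Θ f
  exact poly_of_D_poly θ hθ Θ hΘ D₀ hD₀ D hD hDD₀ Res hRes
    (isUnit_eval_charpoly_of_complex Res hχ) k f ⟨v, hv⟩ hf

theorem decomp_aux {R : Type u} [CommRing R] [IsDomain R] {d r : ℕ}
    (θ : Fin r → R)
    (hθ : ∀ i k, i ≠ k → IsUnit (θ i - θ k))
    (Θ : R[X]) (hΘ : Θ = ∏ i, (X - C (θ i)))
    (D₀ : (Fin d → R[X]) →+ (Fin d → R[X]))
    (hD₀ : ∀ (p : R[X]) (v : Fin d → R[X]),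
      D₀ (p • v) = (Θ * derivative p) • v + p • D₀ v)
    (D : (Fin d → Localization.Away Θ) →+ (Fin d → Localization.Away Θ))
    (hD : ∀ (p : R[X]) (w : Fin d → Localization.Away Θ),
      D (p • w) = (Θ * derivative p) • w + p • D w)
    (hDD₀ : ∀ v : Fin d → R[X],
      D (fun j => algebraMap R[X] (Localization.Away Θ) (v j)) =
        fun j => algebraMap R[X] (Localization.Away Θ) (D₀ v j))
    (Res : Fin r → ((Fin d → R) →ₗ[R] (Fin d → R)))
    (hRes : ∀ (i : Fin r) (m : Fin d → R) (j : Fin d),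
      (D₀ (fun j => C (m j)) j).eval (θ i) =
        (∏ k ∈ Finset.univ.erase i, (θ i - θ k)) * Res i m j)
    (hχ : ∀ (i : Fin r) (n : ℕ), IsUnit ((Res i).charpoly.eval ((n + 1 : ℕ) : R))) :
    ∀ (k : ℕ) (w : Fin d → Localization.Away Θ), (∃ v, (Θ ^ k) • w = emb Θ v) →
      ∃ (w' : Fin d → Localization.Away Θ) (v' : Fin d → R[X]), w = D w' + emb Θ v' := by
  intro k
  induction k with
  | zero => rintro w ⟨v, hv⟩; exact ⟨0, v, by simpa using hv⟩
  | succ k ih =>
    rintro w ⟨v, hv⟩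
    choose S hS1 hS2 using fun i => exists_inv_sub (Res i) ((k+1 : ℕ) : R) (hχ i k)
    choose cinv hcinv using fun i => (isUnit_c θ hθ i).exists_right_inv
    let m : Fin r → Fin d → R := fun i => S i (cinv i • ev θ i v)
    choose u hu using fun j => exists_interp θ hθ (fun i => m i j)
    have hu' : ∀ i, ev θ i u = m i := fun i => funext fun j => hu j i
    set q : Fin d → R[X] := v - D₀ u + (C ((k+1 : ℕ) : R) * derivative Θ) • u with hq
    have hq0 : ∀ i, ev θ i q = 0 := by
      intro i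
      have e1 : ev θ i q = ev θ i v - ev θ i (D₀ u) +
          (∏ k' ∈ Finset.univ.erase i, (θ i - θ k')) • (((k+1 : ℕ) : R) • ev θ i u) := by
        ext1 j
        simp only [ev, hq, Pi.add_apply, Pi.sub_apply, Pi.smul_apply, smul_eq_mul, eval_add,
          eval_sub, eval_mul, eval_derivative_Th θ Θ hΘ i, eval_C]
        ring
      rw [e1, ev_D₀ θ Θ hΘ D₀ hD₀ Res hRes, hu']
      have e2 := hS1 i (cinv i • ev θ i v)
      have e3 : ev θ i v = (∏ k' ∈ Finset.univ.erase i, (θ i - θ k')) • (cinv i • ev θ i v) := by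
        rw [smul_smul, hcinv, one_smul]
      rw [sub_add, ← smul_sub, e2, ← e3, sub_self]
    have h7 : ∀ j, Θ ∣ q j :=
      fun j => Th_dvd_of_eval θ hθ Θ hΘ (q j) (fun i => congrFun (hq0 i) j)
    choose v₁ hv₁ using h7
    have h8 : q = Θ • v₁ := by ext1 j; simp [hv₁ j]
    obtain ⟨tu, htu⟩ := IsLocalization.Away.algebraMap_isUnit (S := Localization.Away Θ) Θ
    let w₀ : Fin d → Localization.Away Θ :=
      fun j => ((tu⁻¹ ^ (k+1) : (Localization.Away Θ)ˣ) : Localization.Away Θ) *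
        algebraMap R[X] (Localization.Away Θ) (u j)
    have hw₀ : (Θ ^ (k+1)) • w₀ = emb Θ u := by
      ext1 j
      simp only [w₀, Pi.smul_apply, Algebra.smul_def, map_pow, ← htu, ← mul_assoc, emb]
      rw [← Units.val_pow_eq_pow_val, ← Units.val_mul, ← mul_pow, mul_inv_cancel, one_pow,
        Units.val_one, one_mul]
    have h1 := key Θ D₀ D hD hDD₀ (k+1) w₀ u hw₀
    have h9 : (Θ ^ (k+1)) • (w - D w₀) = Θ • emb Θ v₁ := by
      have e4 : (Θ ^ (k+1)) • D w₀ = emb Θ (D₀ u) - emb Θ ((C ((k+1 : ℕ) : R) * derivative Θ) • u) := by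
        rw [h1]; abel
      rw [smul_sub, hv, e4, ← emb_smul, ← h8, hq, emb_add, emb_sub]
      abel
    obtain ⟨w'', v'', h10⟩ := ih (w - D w₀)
      ⟨v₁, smul_Th_cancel Θ _ _ (by rw [smul_smul, ← pow_succ', h9])⟩
    refine ⟨w'' + w₀, v'', ?_⟩
    rw [map_add, add_right_comm, ← h10]
    abel

/-- S15502 in lib form. -/
theorem decomp {R : Type u} [CommRing R] [IsDomain R] [Algebra ℂ R] {d r : ℕ}
    (θ : Fin r → R)
    (hθ : ∀ i k, i ≠ k → IsUnit (θ i - θ k))
    (Θ : R[X]) (hΘ : Θ = ∏ i, (X - C (θ i)))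
    (D₀ : (Fin d → R[X]) →+ (Fin d → R[X]))
    (hD₀ : ∀ (p : R[X]) (v : Fin d → R[X]),
      D₀ (p • v) = (Θ * derivative p) • v + p • D₀ v)
    (D : (Fin d → Localization.Away Θ) →+ (Fin d → Localization.Away Θ))
    (hD : ∀ (p : R[X]) (w : Fin d → Localization.Away Θ),
      D (p • w) = (Θ * derivative p) • w + p • D w)
    (hDD₀ : ∀ v : Fin d → R[X],
      D (fun j => algebraMap R[X] (Localization.Away Θ) (v j)) =
        fun j => algebraMap R[X] (Localization.Away Θ) (D₀ v j))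
    (Res : Fin r → ((Fin d → R) →ₗ[R] (Fin d → R)))
    (hRes : ∀ (i : Fin r) (m : Fin d → R) (j : Fin d),
      (D₀ (fun j => C (m j)) j).eval (θ i) =
        (∏ k ∈ Finset.univ.erase i, (θ i - θ k)) * Res i m j)
    (hχ : ∀ i : Fin r, ∃ χ : ℂ[X], (Res i).charpoly = χ.map (algebraMap ℂ R) ∧
      ∀ n : ℤ, n ≠ 0 → χ.eval (n : ℂ) ≠ 0)
    (w : Fin d → Localization.Away Θ) :
    ∃ (w' : Fin d → Localization.Away Θ) (v : Fin d → R[X]),
      w = D w' + fun j => algebraMap R[X] (Localization.Away Θ) (v j) := by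
  obtain ⟨k, v, hv⟩ := exists_rep Θ w
  exact decomp_aux θ hθ Θ hΘ D₀ hD₀ D hD hDD₀ Res hRes
    (isUnit_eval_charpoly_of_complex Res hχ) k w ⟨v, hv⟩

end Groth.Agent.Lib.Helper6.LogConn
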