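import Mathlib
import Groth.Agent.Lib.Helper6.MLDomB

/-!
# Smallest submodules for flat Mittag-Leffler modules (helper6)

* `fg_of_smallest`: a smallest submodule `F'` with `x ∈ im (F' ⊗ M → F ⊗ M)` is finitely generated.
* `exists_smallest`: existence for flat Mittag-Leffler `M`.
* `ml_of_exists_smallest`: the converse criterion for flat `M`, tested on `F = R^n`.
-/

set_option autoImplicit false
universe u

namespace Groth.Agent.Lib.helper6.MLDom

open TensorProduct

theorem fg_of_smallest {R : Type u} [CommRing R] {M : Type u} [AddCommGroup M] [Module R M]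
    {F : Type u} [AddCommGroup F] [Module R F] {x : F ⊗[R] M} {F' : Submodule R F}
    (h1 : x ∈ LinearMap.range (F'.subtype.rTensor M))
    (h2 : ∀ F'' : Submodule R F, x ∈ LinearMap.range (F''.subtype.rTensor M) → F' ≤ F'') :
    F'.FG := by
  obtain ⟨x₀, hx₀⟩ := h1
  obtain ⟨S, hS⟩ := TensorProduct.exists_finset x₀
  let F₁ : Submodule R F := Submodule.span R ((fun p : ↥F' × M => (p.1 : F)) '' (S : Set (↥F' × M)))
  have hF₁ : F₁.FG := Submodule.fg_span ((Finset.finite_toSet S).image _)
  have hle : F₁ ≤ F' := by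
    apply Submodule.span_le.mpr
    rintro _ ⟨p, _, rfl⟩
    exact p.1.2
  have hx : x = ∑ p ∈ S, (p.1 : F) ⊗ₜ[R] p.2 := by
    rw [← hx₀, hS, map_sum]
    apply Finset.sum_congr rfl
    intro p _
    rw [LinearMap.rTensor_tmul, Submodule.subtype_apply]
  have hmem : x ∈ LinearMap.range (F₁.subtype.rTensor M) := by
    rw [hx]
    apply Submodule.sum_mem
    intro p hp
    refine ⟨(⟨(p.1 : F), Submodule.subset_span ⟨p, hp, rfl⟩⟩ : ↥F₁) ⊗ₜ[R] p.2, ?_⟩
    rw [LinearMap.rTensor_tmul, Submodule.subtype_apply]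
  have heq : F' = F₁ := le_antisymm (h2 F₁ hmem) hle
  rw [heq]
  exact hF₁

theorem exists_smallest (R : Type u) [CommRing R] (M : Type u)
    [AddCommGroup M] [Module R M] [Module.Flat R M] (hM : CAlg.IsMittagLeffler R M)
    (F : Type u) [AddCommGroup F] [Module R F] (x : F ⊗[R] M) :
    ∃ F' : Submodule R F, F'.FG ∧ x ∈ LinearMap.range (F'.subtype.rTensor M) ∧
      ∀ F'' : Submodule R F, x ∈ LinearMap.range (F''.subtype.rTensor M) → F' ≤ F'' := by
  let I : Type u := {F'' : Submodule R F // x ∈ LinearMap.range (F''.subtype.rTensor M)}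
  let F₀ : Submodule R F := ⨅ α : I, α.1
  let Q : I → Type u := fun α => F ⧸ α.1
  let p : F →ₗ[R] (∀ α : I, Q α) := LinearMap.pi fun α => α.1.mkQ
  have hp : LinearMap.ker p = F₀ := by
    rw [LinearMap.ker_pi]
    apply iInf_congr
    intro α
    exact Submodule.ker_mkQ _
  let ι : (F ⧸ F₀) →ₗ[R] (∀ α : I, Q α) := F₀.liftQ p (le_of_eq hp.symm)
  have hι : Function.Injective ι := by
    rw [← LinearMap.ker_eq_bot]
    exact Submodule.ker_liftQ_eq_bot _ _ _ (le_of_eq hp)
  have key : ∀ (α : I) (z : F ⊗[R] M),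
      TensorProduct.piRightHom R R M Q
        (TensorProduct.comm R (∀ α : I, Q α) M (ι.rTensor M (F₀.mkQ.rTensor M z))) α =
      TensorProduct.comm R (Q α) M (α.1.mkQ.rTensor M z) := by
    intro α z
    induction z using TensorProduct.induction_on with
    | zero => simp only [map_zero, Pi.zero_apply]
    | tmul f m =>
      rw [LinearMap.rTensor_tmul, LinearMap.rTensor_tmul, TensorProduct.comm_tmul,
        TensorProduct.piRightHom_tmul, LinearMap.rTensor_tmul, TensorProduct.comm_tmul]
      rfl
    | add a b ha hb => simp only [map_add, Pi.add_apply, ha, hb]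
  have hzero : ∀ α : I, α.1.mkQ.rTensor M x = 0 := by
    intro α
    have h : x ∈ LinearMap.ker (α.1.mkQ.rTensor M) := by
      rw [rTensor_mkQ]
      exact α.2
    exact LinearMap.mem_ker.mp h
  have h1 : TensorProduct.comm R (∀ α : I, Q α) M (ι.rTensor M (F₀.mkQ.rTensor M x)) = 0 := by
    apply hM I Q
    rw [map_zero]
    funext α
    rw [key α x, hzero α, map_zero, Pi.zero_apply]
  have h2 : ι.rTensor M (F₀.mkQ.rTensor M x) = 0 :=
    (TensorProduct.comm R (∀ α : I, Q α) M).injective (by rw [h1, map_zero])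
  have h3 : F₀.mkQ.rTensor M x = 0 :=
    (Module.Flat.rTensor_preserves_injective_linearMap ι hι) (by rw [h2, map_zero])
  have h4 : x ∈ LinearMap.range (F₀.subtype.rTensor M) := by
    rw [← rTensor_mkQ]
    exact LinearMap.mem_ker.mpr h3
  have h5 : ∀ F'' : Submodule R F, x ∈ LinearMap.range (F''.subtype.rTensor M) → F₀ ≤ F'' :=
    fun F'' h => iInf_le (fun α : I => α.1) ⟨F'', h⟩
  exact ⟨F₀, fg_of_smallest h4 h5, h4, h5⟩

theorem ml_of_exists_smallest (R : Type u) [CommRing R] (M : Type u)
    [AddCommGroup M] [Module R M] [Module.Flat R M]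
    (H : ∀ (n : ℕ) (x : (Fin n → R) ⊗[R] M), ∃ F' : Submodule R (Fin n → R),
        x ∈ LinearMap.range (F'.subtype.rTensor M) ∧
        ∀ F'' : Submodule R (Fin n → R), x ∈ LinearMap.range (F''.subtype.rTensor M) → F' ≤ F'') :
    CAlg.IsMittagLeffler R M := by
  classical
  apply ml_of_fin_dominated
  intro n f
  let xf : (Fin n → R) ⊗[R] M := ∑ i : Fin n, (Pi.single i (1 : R)) ⊗ₜ[R] f (Pi.single i 1)
  obtain ⟨F', hF'1, hF'2⟩ := H n xf
  have hfg : F'.FG := fg_of_smallest hF'1 hF'2
  obtain ⟨r, φ, hφ⟩ := Submodule.fg_iff_exists_fin_generating_family.mp hfg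
  let g : (Fin n → R) →ₗ[R] (Fin r → R) := Fintype.linearCombination R (fun i => fun j => φ j i)
  have hg : ∀ i, g (Pi.single i 1) = fun j => φ j i := by
    intro i
    rw [Fintype.linearCombination_apply_single, one_smul]
  refine ⟨Fin r → R, inferInstance, inferInstance, inferInstance, g, ?_⟩
  intro N _ _
  have hspan : Submodule.span R (Set.range (fun i : Fin n => (Pi.single i (1 : R) : Fin n → R))) = ⊤ := by
    have := (Pi.basisFun R (Fin n)).span_eq
    convert this using 3
    funext i
    rw [Pi.basisFun_apply]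
  -- the main equivalence
  have main : ∀ y : Fin n → N,
      f.rTensor N (∑ i, (Pi.single i (1 : R)) ⊗ₜ[R] y i) = 0 ↔
      g.rTensor N (∑ i, (Pi.single i (1 : R)) ⊗ₜ[R] y i) = 0 := by
    intro y
    let yh : (Fin n → R) →ₗ[R] N := Fintype.linearCombination R y
    have hyh : ∀ i, yh (Pi.single i 1) = y i := by
      intro i
      rw [Fintype.linearCombination_apply_single, one_smul]
    -- step A
    have hA : TensorProduct.comm R M N (f.rTensor N (∑ i, (Pi.single i (1 : R)) ⊗ₜ[R] y i)) =
        yh.rTensor M xf := by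
      rw [map_sum, map_sum, map_sum]
      apply Finset.sum_congr rfl
      intro i _
      rw [LinearMap.rTensor_tmul, LinearMap.rTensor_tmul, TensorProduct.comm_tmul, hyh]
    have hA' : f.rTensor N (∑ i, (Pi.single i (1 : R)) ⊗ₜ[R] y i) = 0 ↔ yh.rTensor M xf = 0 := by
      rw [← hA]
      exact (LinearEquiv.map_eq_zero_iff _).symm
    -- step C
    have hC : yh.rTensor M xf = 0 ↔ F' ≤ LinearMap.ker yh := by
      constructor
      · intro h
        apply hF'2
        have hex := Module.Flat.rTensor_exact M (LinearMap.exact_subtype_ker_map yh)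
        exact (hex xf).mp h
      · intro h
        obtain ⟨x', hx'⟩ := hF'1
        rw [← hx', ← LinearMap.comp_apply, ← LinearMap.rTensor_comp]
        have : yh ∘ₗ F'.subtype = 0 := by
          apply LinearMap.ext
          intro v
          exact LinearMap.mem_ker.mp (h v.2)
        rw [this, LinearMap.rTensor_zero, LinearMap.zero_apply]
    -- step D
    have hD : F' ≤ LinearMap.ker yh ↔ ∀ j, yh (φ j) = 0 := by
      rw [← hφ, Submodule.span_le, Set.range_subset_iff]
      exact Iff.rfl
    -- step B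
    let E : (Fin r → R) ⊗[R] N ≃ₗ[R] (Fin r → N) :=
      (TensorProduct.comm R (Fin r → R) N) ≪≫ₗ TensorProduct.piScalarRight R R N (Fin r)
    have hE : ∀ j, E (g.rTensor N (∑ i, (Pi.single i (1 : R)) ⊗ₜ[R] y i)) j = yh (φ j) := by
      intro j
      rw [map_sum, map_sum, Finset.sum_apply, Fintype.linearCombination_apply]
      apply Finset.sum_congr rfl
      intro i _
      rw [LinearMap.rTensor_tmul, hg]
      show TensorProduct.piScalarRight R R N (Fin r)
        (TensorProduct.comm R (Fin r → R) N ((fun j => φ j i) ⊗ₜ[R] y i)) j = _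
      rw [TensorProduct.comm_tmul, TensorProduct.piScalarRight_apply,
        TensorProduct.piScalarRightHom_tmul]
    have hB : g.rTensor N (∑ i, (Pi.single i (1 : R)) ⊗ₜ[R] y i) = 0 ↔ ∀ j, yh (φ j) = 0 := by
      rw [← LinearEquiv.map_eq_zero_iff E]
      constructor
      · intro h j
        rw [← hE j, h, Pi.zero_apply]
      · intro h
        funext j
        rw [hE j, h j, Pi.zero_apply]
    rw [hA', hC, hD, hB]
  ext Y
  obtain ⟨y, rfl⟩ := Groth.Agent.Lib.helper28.exists_sum_tmul_of_span_eq_top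
    (fun i : Fin n => (Pi.single i (1 : R) : Fin n → R)) hspan N Y
  rw [LinearMap.mem_ker, LinearMap.mem_ker]
  exact main y

end Groth.Agent.Lib.helper6.MLDom
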