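import Mathlib
import Groth.Prelude.Def_W4c2conddiscmodels
import Groth.Agent.Lib.Helper28.GraphJoin2
import Groth.Agent.Lib.Helper28.ChainCtr
import Groth.Agent.Lib.Helper6.LatGen

/-!
# Weighted matrix-tree theorem for `LabGraph` multigraphs, part 1 (helper6)

Incidence matrix, weighted Laplacian `inc * diag(cw) * incᵀ = - D α D`, kernel of `mfMatrix` for a
connected graph.
-/

set_option autoImplicit false
universe u
namespace Groth.Agent.Lib.helper6.MTree
open LabGraph Finset Matrix
open Groth.Agent.Lib.helper28.GJ Groth.Agent.Lib.helper28.ChainCtr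
open Groth.Agent.Lib.helper6

variable {V E : Type u} [Fintype V] [Fintype E] [DecidableEq V] [DecidableEq E]

/-- incidence matrix: head minus tail -/
def inc (ends : E → V × V) : Matrix V E ℤ := fun v e =>
  (if (ends e).2 = v then 1 else 0) - (if (ends e).1 = v then 1 else 0)

/-- edge weights -/
def cw (ends : E → V × V) (β : V → ℤ) (e : E) : ℤ := β (ends e).1 * β (ends e).2

/-- weighted Laplacian -/
def lap (ends : E → V × V) (β : V → ℤ) : Matrix V V ℤ :=
  inc ends * Matrix.diagonal (cw ends β) * (inc ends)ᵀ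

lemma inc_mulVec (ends : E → V × V) (γ : E → ℤ) (v : V) :
    (inc ends *ᵥ γ) v = boundary ends γ v := by
  unfold boundary
  rw [Matrix.mulVec, dotProduct]
  refine Finset.sum_congr rfl (fun e _ => ?_)
  unfold inc
  split_ifs <;> ring

lemma incT_mulVec (ends : E → V × V) (z : V → ℤ) (e : E) :
    ((inc ends)ᵀ *ᵥ z) e = z (ends e).2 - z (ends e).1 := by
  rw [Matrix.mulVec, dotProduct]
  simp only [Matrix.transpose_apply, inc, sub_mul, ite_mul, one_mul, zero_mul,
    Finset.sum_sub_distrib, Finset.sum_ite_eq, Finset.mem_univ, if_true]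

lemma lap_mulVec (ends : E → V × V) (β : V → ℤ) (z : V → ℤ) :
    lap ends β *ᵥ z =
      inc ends *ᵥ (fun e => cw ends β e * (z (ends e).2 - z (ends e).1)) := by
  unfold lap
  rw [← Matrix.mulVec_mulVec, ← Matrix.mulVec_mulVec]
  congr 1
  funext e
  rw [Matrix.mulVec_diagonal, incT_mulVec]

lemma lap_eq (ends : E → V × V) (β : V → ℤ) (hβ : IsMultFn ends β) (z : V → ℤ) :
    lap ends β *ᵥ z = - LatGen.Dm β (mfMatrix ends β *ᵥ (LatGen.Dm β z)) := by
  funext v
  rw [Pi.neg_apply, LatGen.Dm_apply]
  have h := beta_mul_mulVec ends β hβ (LatGen.Dm β z) v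
  rw [h, lap_mulVec, inc_mulVec]
  unfold boundary
  rw [← Finset.sum_neg_distrib]
  refine Finset.sum_congr rfl (fun e _ => ?_)
  simp only [flow, cw, LatGen.Dm_apply]
  split_ifs <;> ring

lemma lap_row (ends : E → V × V) (β : V → ℤ) (v : V) : ∑ w, lap ends β v w = 0 := by
  have h : (lap ends β *ᵥ (fun _ => (1:ℤ))) v = 0 := by
    rw [lap_mulVec, inc_mulVec]
    simp [boundary]
  rw [Matrix.mulVec, dotProduct] at h
  simpa using h

lemma lap_symm (ends : E → V × V) (β : V → ℤ) : (lap ends β)ᵀ = lap ends β := by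
  unfold lap
  rw [Matrix.transpose_mul, Matrix.transpose_mul, Matrix.transpose_transpose,
    Matrix.diagonal_transpose, Matrix.mul_assoc]

lemma lap_col (ends : E → V × V) (β : V → ℤ) (w : V) : ∑ v, lap ends β v w = 0 := by
  have h : ∀ v, lap ends β v w = lap ends β w v := fun v => by
    have := congrFun (congrFun (lap_symm ends β) v) w
    rw [Matrix.transpose_apply] at this
    exact this.symm
  rw [Finset.sum_congr rfl (fun v _ => h v)]
  exact lap_row ends β w

lemma conn_const {X : Type*} (ends : E → V × V) (hG : Connected ends) (g : V → X)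
    (hg : ∀ e, g (ends e).1 = g (ends e).2) (v w : V) : g v = g w := by
  have := hG.2 v w
  induction this with
  | refl => rfl
  | tail _ hcd ih =>
    obtain ⟨e, he⟩ := hcd
    rw [ih]
    have h1 := hg e
    rcases he with he | he <;> rw [he] at h1
    · exact h1
    · exact h1.symm

lemma ker_prop (ends : E → V × V) (β : V → ℤ) (hβ : IsMultFn ends β) (hG : Connected ends)
    (x : V → ℤ) (hx : mfMatrix ends β *ᵥ x = 0) (v w : V) : x v * β w = x w * β v := by
  have hpos : ∀ u, (0:ℚ) < β u := fun u => by exact_mod_cast (hβ u).1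
  have hcyc : ∀ u, boundary ends (flow ends β x) u = 0 := by
    intro u
    rw [← beta_mul_mulVec ends β hβ x u, hx]
    simp
  obtain ⟨g, hg⟩ : ∃ g : V → ℚ, ∀ u, g u = (x u : ℚ) / β u := ⟨_, fun _ => rfl⟩
  have hflow : ∀ e, (flow ends β x e : ℚ) =
      β (ends e).1 * β (ends e).2 * (g (ends e).1 - g (ends e).2) := by
    intro e
    rw [hg, hg]
    have h1 := (hpos (ends e).1).ne'
    have h2 := (hpos (ends e).2).ne'
    unfold flow
    push_cast
    field_simp
  have hsum : ∑ e, (flow ends β x e : ℚ) * (g (ends e).1 - g (ends e).2) = 0 := by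
    have h1 : ∑ u, g u * (boundary ends (flow ends β x) u : ℚ) = 0 := by
      simp [hcyc]
    have h2 : ∑ u, g u * (boundary ends (flow ends β x) u : ℚ) =
        ∑ e, (flow ends β x e : ℚ) * (g (ends e).2 - g (ends e).1) := by
      simp only [boundary]
      push_cast
      simp only [Finset.mul_sum]
      rw [Finset.sum_comm]
      refine Finset.sum_congr rfl fun e _ => ?_
      simp only [mul_sub, mul_ite, mul_zero, Finset.sum_sub_distrib, Finset.sum_ite_eq,
        Finset.mem_univ, if_true]
      ring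
    rw [h2] at h1
    rw [← neg_eq_zero, ← Finset.sum_neg_distrib, ← h1]
    refine Finset.sum_congr rfl fun e _ => ?_
    ring
  have hzero : ∀ e, g (ends e).1 = g (ends e).2 := by
    intro e
    have hnn : ∀ e' ∈ (univ : Finset E),
        0 ≤ (flow ends β x e' : ℚ) * (g (ends e').1 - g (ends e').2) := by
      intro e' _
      rw [hflow]
      have := mul_pos (hpos (ends e').1) (hpos (ends e').2)
      nlinarith [sq_nonneg (g (ends e').1 - g (ends e').2)]
    have h0 := (Finset.sum_eq_zero_iff_of_nonneg hnn).1 hsum e (mem_univ e)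
    rw [hflow] at h0
    have hc := mul_pos (hpos (ends e).1) (hpos (ends e).2)
    have h3 : ((β (ends e).1 : ℚ) * (β (ends e).2 : ℚ)) * (g (ends e).1 - g (ends e).2) ^ 2 = 0 := by
      rw [← h0]; ring
    have h4 : (g (ends e).1 - g (ends e).2) ^ 2 = 0 := (mul_eq_zero.1 h3).resolve_left hc.ne'
    exact sub_eq_zero.1 ((pow_eq_zero_iff two_ne_zero).1 h4)
  have hconst := conn_const ends hG g hzero v w
  rw [hg, hg, div_eq_div_iff (hpos v).ne' (hpos w).ne'] at hconst
  exact_mod_cast hconst

lemma ker_desc (ends : E → V × V) (β : V → ℤ) (hβ : IsMultFn ends β) (hG : Connected ends)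
    (x : V → ℤ) (hx : mfMatrix ends β *ᵥ x = 0) : ∃ t : ℤ, x = t • LatGen.wv β := by
  obtain ⟨r⟩ := hG.1
  have hne : ∀ i, β i ≠ 0 := fun i => (hβ i).1.ne'
  obtain ⟨g, hg⟩ := LatGen.wv_bezout r β hne
  refine ⟨∑ i, x i * g i, ?_⟩
  funext v
  simp only [Pi.smul_apply, smul_eq_mul]
  have hd := LatGen.gcd_ne_zero r β hne
  apply mul_left_cancel₀ hd
  have h1 : univ.gcd β * ((∑ i, x i * g i) * LatGen.wv β v) = (∑ i, x i * g i) * β v := by
    rw [LatGen.wv_spec β v]; ring
  rw [h1, Finset.sum_mul]
  have h2 : ∀ i, x i * g i * β v = x v * (univ.gcd β * (LatGen.wv β i * g i)) := by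
    intro i
    have := ker_prop ends β hβ hG x hx i v
    rw [← mul_assoc (univ.gcd β), ← LatGen.wv_spec β i]
    linear_combination (g i) * this
  rw [Finset.sum_congr rfl (fun i _ => h2 i), ← Finset.mul_sum, ← Finset.mul_sum, hg, mul_one,
    mul_comm]

/-- `β · (α x) = 0`. -/
lemma beta_dot_mulVec (ends : E → V × V) (β : V → ℤ) (hβ : IsMultFn ends β) (x : V → ℤ) :
    ∑ v, β v * (mfMatrix ends β *ᵥ x) v = 0 := by
  have h : ∀ v, β v * (mfMatrix ends β *ᵥ x) v = (inc ends *ᵥ flow ends β x) v := fun v => by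
    rw [beta_mul_mulVec ends β hβ x v, inc_mulVec]
  rw [Finset.sum_congr rfl (fun v _ => h v)]
  simp only [Matrix.mulVec, dotProduct]
  rw [Finset.sum_comm]
  refine Finset.sum_eq_zero (fun e _ => ?_)
  rw [← Finset.sum_mul]
  have : ∑ v, inc ends v e = 0 := by
    simp only [inc, Finset.sum_sub_distrib, Finset.sum_ite_eq, Finset.mem_univ, if_true]
    ring
  rw [this, zero_mul]

/-- `α β = 0`. -/
lemma mulVec_beta (ends : E → V × V) (β : V → ℤ) (hβ : IsMultFn ends β) :
    mfMatrix ends β *ᵥ β = 0 := by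
  funext v
  have h := beta_mul_mulVec ends β hβ β v
  have h0 : boundary ends (flow ends β β) v = 0 := by
    unfold boundary
    refine Finset.sum_eq_zero (fun e _ => ?_)
    have : flow ends β β e = 0 := by unfold flow; ring
    rw [this]
    simp
  rw [h0] at h
  exact (mul_eq_zero.1 h).resolve_left (hβ v).1.ne'

end Groth.Agent.Lib.helper6.MTree
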