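import Mathlib

/-!
# Symmetric weighted Cauchy–Binet for arbitrary finite index types (helper6)

`det (N * diagonal c * Nᵀ) = ∑_{S, |S| = |m|} (∏_{k ∈ S} c k) * det (N_S * N_Sᵀ)`
where `N_S = N.submatrix id (Subtype.val : ↥S → κ)`.
-/

namespace Groth.Agent.Lib.helper6.SymCB

open Matrix Finset

variable {R : Type*} [CommRing R]
variable {m κ : Type*} [Fintype m] [DecidableEq m] [Fintype κ] [DecidableEq κ]

/-- weak Cauchy–Binet: expansion of `det (P * Q)` over all functions (general row index type). -/
theorem det_mul_eq_sum (P : Matrix m κ R) (Q : Matrix κ m R) :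
    (P * Q).det = ∑ φ : m → κ, (∏ i, P i (φ i)) * (Q.submatrix φ id).det := by
  have h : P * Q = Matrix.of (fun i => ∑ k, P i k • Q k) := by
    ext i j
    simp [Matrix.mul_apply, Finset.sum_apply]
  rw [h]
  have h1 := (Matrix.detRowAlternating (R := R) (n := m)).toMultilinearMap.map_sum
    (fun i k => P i k • Q k)
  simp only [AlternatingMap.coe_multilinearMap] at h1
  show Matrix.detRowAlternating (fun i => ∑ k, P i k • Q k) = _
  rw [h1]
  refine Finset.sum_congr rfl (fun φ _ => ?_)
  have h2 := (Matrix.detRowAlternating (R := R) (n := m)).toMultilinearMap.map_smul_univ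
    (fun i => P i (φ i)) (fun i => Q (φ i))
  simp only [AlternatingMap.coe_multilinearMap] at h2
  rw [h2, smul_eq_mul]
  rfl

theorem det_zero_of_not_injective (Q : Matrix κ m R) (φ : m → κ) (hφ : ¬ Function.Injective φ) :
    (Q.submatrix φ id).det = 0 := by
  simp only [Function.Injective, not_forall, exists_prop] at hφ
  obtain ⟨i, j, hij, hne⟩ := hφ
  exact Matrix.det_zero_of_row_eq hne (by funext x; simp only [Matrix.submatrix_apply, hij])

/-- Symmetric weighted Cauchy–Binet. -/
theorem det_mul_diagonal_mul_transpose (N : Matrix m κ R) (c : κ → R) :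
    (N * Matrix.diagonal c * Nᵀ).det =
      ∑ S ∈ (Finset.univ : Finset κ).powersetCard (Fintype.card m),
        (∏ k ∈ S, c k) *
          ((N.submatrix id (Subtype.val : ↥S → κ)) *
            (N.submatrix id (Subtype.val : ↥S → κ))ᵀ).det := by
  classical
  obtain ⟨F, hF⟩ : ∃ F : (m → κ) → R, ∀ φ, F φ =
      (∏ i, (N i (φ i) * c (φ i))) * (Nᵀ.submatrix φ id).det := ⟨_, fun _ => rfl⟩
  have hF0 : ∀ φ : m → κ, ¬ Function.Injective φ → F φ = 0 := by
    intro φ hφ
    rw [hF, det_zero_of_not_injective Nᵀ φ hφ, mul_zero]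
  -- Step 1
  have h1 : (N * Matrix.diagonal c * Nᵀ).det = ∑ φ : m → κ, F φ := by
    rw [det_mul_eq_sum]
    refine Finset.sum_congr rfl (fun φ _ => ?_)
    rw [hF]
    congr 1
    refine Finset.prod_congr rfl (fun i _ => ?_)
    rw [Matrix.mul_diagonal]
  -- Step 2
  have h2 : ∀ S ∈ (Finset.univ : Finset κ).powersetCard (Fintype.card m),
      (∏ k ∈ S, c k) * ((N.submatrix id (Subtype.val : ↥S → κ)) *
            (N.submatrix id (Subtype.val : ↥S → κ))ᵀ).det =
        ∑ φ : m → κ, if (∀ i, φ i ∈ S) then F φ else 0 := by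
    intro S hS
    have hcard : Fintype.card ↥S = Fintype.card m := by
      rw [Fintype.card_coe]; exact (Finset.mem_powersetCard.1 hS).2
    rw [det_mul_eq_sum, Finset.mul_sum, ← Finset.sum_filter]
    refine Finset.sum_bij (fun ψ _ i => (ψ i).val) ?_ ?_ ?_ ?_
    · intro ψ _
      exact Finset.mem_filter.2 ⟨Finset.mem_univ _, fun i => (ψ i).2⟩
    · intro ψ₁ _ ψ₂ _ h
      funext i
      exact Subtype.ext (congrFun h i)
    · intro φ hφ
      exact ⟨fun i => ⟨φ i, (Finset.mem_filter.1 hφ).2 i⟩, Finset.mem_univ _, rfl⟩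
    · intro ψ _
      rw [hF]
      have hmat : (N.submatrix id (Subtype.val : ↥S → κ))ᵀ.submatrix ψ id =
          Nᵀ.submatrix (fun i => (ψ i).val) id := by
        ext a b; rfl
      rw [hmat]
      by_cases hψ : Function.Injective ψ
      · have hbij : Function.Bijective ψ :=
          (Fintype.bijective_iff_injective_and_card ψ).2 ⟨hψ, hcard.symm⟩
        have hc : ∏ i, c (ψ i).val = ∏ k ∈ S, c k := by
          rw [← Finset.prod_coe_sort S c]
          exact Fintype.prod_bijective ψ hbij _ _ (fun _ => rfl)
        rw [Finset.prod_mul_distrib, hc]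
        simp only [Matrix.submatrix_apply, id_eq]
        ring
      · have hni : ¬ Function.Injective (fun i => (ψ i).val) := by
          intro h
          exact hψ (fun a b hab => h (congrArg Subtype.val hab))
        rw [det_zero_of_not_injective Nᵀ _ hni, mul_zero, mul_zero, mul_zero]
  -- Step 3
  rw [h1, Finset.sum_congr rfl h2, Finset.sum_comm]
  refine Finset.sum_congr rfl (fun φ _ => ?_)
  by_cases hφ : Function.Injective φ
  · have hS0 : Finset.univ.image φ ∈ (Finset.univ : Finset κ).powersetCard (Fintype.card m) := by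
      rw [Finset.mem_powersetCard]
      exact ⟨Finset.subset_univ _, by rw [Finset.card_image_of_injective _ hφ, Finset.card_univ]⟩
    rw [Finset.sum_eq_single (Finset.univ.image φ)]
    · rw [if_pos (fun i => Finset.mem_image_of_mem φ (Finset.mem_univ i))]
    · intro S hS hne
      rw [if_neg]
      intro hall
      apply hne
      have hsub : Finset.univ.image φ ⊆ S := by
        intro k hk
        obtain ⟨i, _, rfl⟩ := Finset.mem_image.1 hk
        exact hall i
      have hcardS := (Finset.mem_powersetCard.1 hS).2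
      have hcard0 := (Finset.mem_powersetCard.1 hS0).2
      exact (Finset.eq_of_subset_of_card_le hsub (by rw [hcardS, hcard0])).symm
    · intro h; exact absurd hS0 h
  · rw [hF0 φ hφ]
    simp

end Groth.Agent.Lib.helper6.SymCB
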