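import Mathlib
import Groth.Prelude.Def_W4c2conddiscmodels
import Groth.Agent.Lib.Helper28.GraphJoin2
import Groth.Agent.Lib.Helper6.MTree1
import Groth.Agent.Lib.Helper6.SymCB

/-!
# Weighted matrix-tree theorem for `LabGraph` multigraphs, part 2 (helper6)

Determinants of reduced incidence matrices of edge subsets; Cauchy–Binet expansion of the reduced
Laplacian.
-/

set_option autoImplicit false
universe u
namespace Groth.Agent.Lib.helper6.MTree
open LabGraph Finset Matrix
open Groth.Agent.Lib.helper28.GJ
open Groth.Agent.Lib.helper6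

variable {V E : Type u} [Fintype V] [Fintype E] [DecidableEq V] [DecidableEq E]

/-- reduced incidence matrix restricted to the edge set `S` -/
def incS (ends : E → V × V) (r : V) (S : Finset E) : Matrix {v // v ≠ r} ↥S ℤ :=
  fun v s => inc ends v.val s.val

lemma incS_mulVec (ends : E → V × V) (r : V) (S : Finset E) (γ : E → ℤ)
    (hγ : ∀ e, e ∉ S → γ e = 0) (v : {v // v ≠ r}) :
    (incS ends r S *ᵥ (fun s => γ s.val)) v = boundary ends γ v.val := by
  rw [← inc_mulVec]
  show ∑ s : ↥S, inc ends v.val s.val * γ s.val = ∑ e, inc ends v.val e * γ e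
  calc ∑ s : ↥S, inc ends v.val s.val * γ s.val
      = ∑ e ∈ S, inc ends v.val e * γ e :=
        Finset.sum_coe_sort S (fun e => inc ends v.val e * γ e)
    _ = ∑ e, inc ends v.val e * γ e :=
        Finset.sum_subset (Finset.subset_univ _) (fun e _ he => by rw [hγ e he, mul_zero])

lemma exists_path_flow (ends : E → V × V) (S : Finset E) {a b : V} (h : SConn ends S a b) :
    ∃ γ : E → ℤ, (∀ e, e ∉ S → γ e = 0) ∧
      ∀ v, boundary ends γ v = (if v = b then 1 else 0) - (if v = a then 1 else 0) := by
  induction h with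
  | refl => exact ⟨0, fun _ _ => rfl, fun v => by simp [boundary]⟩
  | @tail c d hac hcd ih =>
    obtain ⟨γ, hsupp, hbd⟩ := ih
    obtain ⟨e, heS, he⟩ := hcd
    rcases he with he | he
    · have h1 : (ends e).1 = c := by rw [he]
      have h2 : (ends e).2 = d := by rw [he]
      refine ⟨γ + Pi.single e 1, ?_, ?_⟩
      · intro e' he'
        have hne : e' ≠ e := fun h => he' (h ▸ heS)
        simp [hsupp e' he', Pi.single_apply, hne]
      · intro v
        rw [boundary_add, hbd, boundary_single, h1, h2]
        simp only [eq_comm (a := v)]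
        ring
    · have h1 : (ends e).1 = d := by rw [he]
      have h2 : (ends e).2 = c := by rw [he]
      refine ⟨γ + Pi.single e (-1), ?_, ?_⟩
      · intro e' he'
        have hne : e' ≠ e := fun h => he' (h ▸ heS)
        simp [hsupp e' he', Pi.single_apply, hne]
      · intro v
        rw [boundary_add, hbd, boundary_single, h1, h2]
        simp only [eq_comm (a := v)]
        split_ifs <;> ring

lemma incS_surjective (ends : E → V × V) (r : V) (S : Finset E)
    (hS : ∀ v w, SConn ends S v w) : Function.Surjective (incS ends r S).mulVec := by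
  intro b
  have hmem : ∀ u : {v // v ≠ r}, (fun j => if u = j then (1:ℤ) else 0) ∈
      LinearMap.range (incS ends r S).mulVecLin := by
    intro u
    obtain ⟨γ, hsupp, hbd⟩ := exists_path_flow ends S (hS r u.val)
    refine ⟨fun s => γ s.val, ?_⟩
    funext v
    rw [Matrix.mulVecLin_apply, incS_mulVec ends r S γ hsupp v, hbd]
    have hv : ¬ (v.val = r) := v.2
    rw [if_neg hv, sub_zero]
    by_cases h : u = v
    · rw [if_pos h, if_pos (congrArg Subtype.val h).symm]
    · rw [if_neg h, if_neg (fun h' => h (Subtype.ext h'.symm))]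
  have hb : b ∈ LinearMap.range (incS ends r S).mulVecLin := by
    have hb' := pi_eq_sum_univ b
    rw [hb']
    exact Submodule.sum_mem _ (fun u _ => Submodule.smul_mem _ _ (hmem u))
  obtain ⟨γ, hγ⟩ := hb
  exact ⟨γ, hγ⟩

lemma det_incS_conn (ends : E → V × V) (r : V) (S : Finset E)
    (hcard : S.card = Fintype.card {v // v ≠ r}) (hS : ∀ v w, SConn ends S v w) :
    ((incS ends r S) * (incS ends r S)ᵀ).det = 1 := by
  classical
  have hc : Fintype.card {v // v ≠ r} = Fintype.card ↥S := by rw [Fintype.card_coe, hcard]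
  obtain ⟨σ⟩ : Nonempty ({v // v ≠ r} ≃ ↥S) := ⟨Fintype.equivOfCardEq hc⟩
  obtain ⟨M, hM⟩ : ∃ M : Matrix {v // v ≠ r} {v // v ≠ r} ℤ,
      M = (incS ends r S).submatrix id σ := ⟨_, rfl⟩
  have hMM : M * Mᵀ = incS ends r S * (incS ends r S)ᵀ := by
    ext a b
    rw [hM]
    simp only [Matrix.mul_apply, Matrix.transpose_apply, Matrix.submatrix_apply, id_eq]
    exact Equiv.sum_comp σ (fun s => incS ends r S a s * incS ends r S b s)
  have hsurj : Function.Surjective M.mulVec := by
    intro b
    obtain ⟨γ, hγ⟩ := incS_surjective ends r S hS b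
    refine ⟨fun v => γ (σ v), ?_⟩
    rw [← hγ, hM]
    funext a
    simp only [Matrix.mulVec, dotProduct, Matrix.submatrix_apply, id_eq]
    exact Equiv.sum_comp σ (fun s => incS ends r S a s * γ s)
  have hunit : IsUnit M.det :=
    (Matrix.isUnit_iff_isUnit_det M).1 (Matrix.mulVec_surjective_iff_isUnit.1 hsurj)
  rw [← hMM, Matrix.det_mul, Matrix.det_transpose]
  rcases Int.isUnit_iff.1 hunit with h | h <;> rw [h] <;> norm_num

lemma det_incS_not_conn (ends : E → V × V) (r : V) (S : Finset E)
    (hS : ¬ ∀ v w, SConn ends S v w) :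
    ((incS ends r S) * (incS ends r S)ᵀ).det = 0 := by
  classical
  obtain ⟨u0, hu0⟩ : ∃ u, ¬ SConn ends S r u := by
    by_contra hcon
    apply hS
    intro v w
    have hv : SConn ends S r v := by
      by_contra h; exact hcon ⟨v, h⟩
    have hw : SConn ends S r w := by
      by_contra h; exact hcon ⟨w, h⟩
    exact (sConn_symm ends S hv).trans hw
  obtain ⟨Y, hY⟩ : ∃ Y : V → ℤ, ∀ u, Y u = if SConn ends S r u then 0 else 1 :=
    ⟨_, fun _ => rfl⟩
  have hYr : Y r = 0 := by
    rw [hY, if_pos (show SConn ends S r r from Relation.ReflTransGen.refl)]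
  have hYe : ∀ e ∈ S, Y (ends e).2 - Y (ends e).1 = 0 := by
    intro e he
    have hiff := sConn_iff_edge ends S he r
    rw [hY, hY]
    by_cases h1 : SConn ends S r (ends e).1
    · rw [if_pos h1, if_pos (hiff.1 h1)]; ring
    · rw [if_neg h1, if_neg (fun h => h1 (hiff.2 h))]; ring
  have hu0r : u0 ≠ r := by
    intro h; apply hu0; rw [h]; exact Relation.ReflTransGen.refl
  apply Matrix.exists_vecMul_eq_zero_iff.1
  refine ⟨fun v => Y v.val, ?_, ?_⟩
  · intro h
    have h1 := congrFun h ⟨u0, hu0r⟩
    simp only [Pi.zero_apply] at h1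
    rw [hY, if_neg hu0] at h1
    exact one_ne_zero h1
  · have h1 : (fun v : {v // v ≠ r} => Y v.val) ᵥ* incS ends r S = 0 := by
      funext s
      simp only [Matrix.vecMul, dotProduct, incS, Pi.zero_apply]
      have h2 := LatGen.sum_split r (fun v => Y v * inc ends v s.val)
      rw [hYr, zero_mul, zero_add] at h2
      rw [← h2]
      have h3 := incT_mulVec ends Y s.val
      rw [Matrix.mulVec, dotProduct] at h3
      simp only [Matrix.transpose_apply] at h3
      rw [hYe s.val s.2] at h3
      exact (Finset.sum_congr rfl (fun v _ => mul_comm _ _)).trans h3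
    rw [← Matrix.vecMul_vecMul, h1, Matrix.zero_vecMul]

/-- Cauchy–Binet expansion of the reduced weighted Laplacian. -/
lemma det_lap_sub (ends : E → V × V) (β : V → ℤ) (r : V) :
    ((lap ends β).submatrix (Subtype.val : {v // v ≠ r} → V)
        (Subtype.val : {v // v ≠ r} → V)).det =
      ∑ S ∈ (univ : Finset E).powersetCard (Fintype.card {v // v ≠ r}),
        (∏ e ∈ S, cw ends β e) * ((incS ends r S) * (incS ends r S)ᵀ).det := by
  have h : (lap ends β).submatrix (Subtype.val : {v // v ≠ r} → V)
      (Subtype.val : {v // v ≠ r} → V) =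
      (inc ends).submatrix Subtype.val id * Matrix.diagonal (cw ends β) *
        ((inc ends).submatrix (Subtype.val : {v // v ≠ r} → V) id)ᵀ := by
    ext a b
    simp only [lap, Matrix.submatrix_apply, Matrix.mul_apply, Matrix.transpose_apply, id_eq]
  rw [h, SymCB.det_mul_diagonal_mul_transpose]
  refine Finset.sum_congr rfl (fun S _ => ?_)
  rfl

/-! ### Trees -/

lemma sConn_mono (ends : E → V × V) {S T : Finset E} (h : S ⊆ T) {a b : V}
    (hc : SConn ends S a b) : SConn ends T a b := by
  have hle : SAdj ends S ≤ SAdj ends T := by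
    intro x y hxy
    obtain ⟨e, he, h'⟩ := hxy
    exact ⟨e, h he, h'⟩
  exact Relation.ReflTransGen.mono hle a b hc

/-- coboundary map -/
def cob (ends : E → V × V) (S : Finset E) : (V → ℤ) →ₗ[ℤ] (↥S → ℤ) where
  toFun g s := g (ends s.val).1 - g (ends s.val).2
  map_add' g g' := by funext s; simp only [Pi.add_apply]; ring
  map_smul' c g := by
    funext s; simp only [Pi.smul_apply, smul_eq_mul, RingHom.id_apply]; ring

lemma cob_apply (ends : E → V × V) (S : Finset E) (g : V → ℤ) (s : ↥S) :
    cob ends S g s = g (ends s.val).1 - g (ends s.val).2 := rfl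

lemma ker_cob (ends : E → V × V) (S : Finset E) (hS : ∀ v w, SConn ends S v w) (r : V) :
    LinearMap.ker (cob ends S) = Submodule.span ℤ {(fun _ : V => (1:ℤ))} := by
  ext g
  rw [LinearMap.mem_ker, Submodule.mem_span_singleton]
  constructor
  · intro hg
    refine ⟨g r, ?_⟩
    funext v
    simp only [Pi.smul_apply, smul_eq_mul, mul_one]
    refine const_of_conn ends (P := S) (h := g) (fun e he => ?_) (hS r v)
    have h1 := congrFun hg ⟨e, he⟩
    rw [cob_apply] at h1
    simp only [Pi.zero_apply] at h1
    exact sub_eq_zero.1 h1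
  · rintro ⟨c, rfl⟩
    funext s
    rw [cob_apply]
    simp

lemma finrank_ker_cob (ends : E → V × V) (S : Finset E) (hS : ∀ v w, SConn ends S v w) (r : V) :
    Module.finrank ℤ (LinearMap.ker (cob ends S)) = 1 := by
  rw [ker_cob ends S hS r]
  have hne : (fun _ : V => (1:ℤ)) ≠ 0 := fun h => one_ne_zero (congrFun h r)
  exact (LinearEquiv.toSpanNonzeroSingleton ℤ (V → ℤ) _ hne).finrank_eq.symm.trans
    (Module.finrank_self ℤ)

lemma finrank_range_cob (ends : E → V × V) (S : Finset E) (hS : ∀ v w, SConn ends S v w)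
    (r : V) :
    Module.finrank ℤ (LinearMap.range (cob ends S)) + 1 = Fintype.card V := by
  have h1 := Submodule.finrank_quotient_add_finrank (LinearMap.ker (cob ends S))
  have h2 : Module.finrank ℤ ((V → ℤ) ⧸ LinearMap.ker (cob ends S)) =
      Module.finrank ℤ (LinearMap.range (cob ends S)) :=
    (LinearMap.quotKerEquivRange (cob ends S)).finrank_eq
  rw [h2, finrank_ker_cob ends S hS r, Module.finrank_pi] at h1
  exact h1

lemma card_ge_of_conn (ends : E → V × V) (S : Finset E) (hS : ∀ v w, SConn ends S v w)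
    (r : V) : Fintype.card V ≤ S.card + 1 := by
  have h1 := finrank_range_cob ends S hS r
  have h2 : Module.finrank ℤ (LinearMap.range (cob ends S)) ≤ Module.finrank ℤ (↥S → ℤ) :=
    Submodule.finrank_le _
  rw [Module.finrank_pi, Fintype.card_coe] at h2
  omega

lemma cob_surjective_of_forest (ends : E → V × V) (S : Finset E)
    (hF : ∀ C : Finset E, C ⊆ S → ¬ IsCircuit ends C) : Function.Surjective (cob ends S) := by
  classical
  intro y
  obtain ⟨g, hg⟩ := forest_potential ends S hF (fun e => if h : e ∈ S then y ⟨e, h⟩ else 0)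
  refine ⟨g, ?_⟩
  funext s
  rw [cob_apply, hg s.val s.2, dif_pos s.2]

lemma card_of_tree (ends : E → V × V) (S : Finset E) (hS : ∀ v w, SConn ends S v w)
    (hF : ∀ C : Finset E, C ⊆ S → ¬ IsCircuit ends C) (r : V) :
    S.card + 1 = Fintype.card V := by
  have h1 := finrank_range_cob ends S hS r
  have h2 : LinearMap.range (cob ends S) = ⊤ :=
    LinearMap.range_eq_top.2 (cob_surjective_of_forest ends S hF)
  rw [h2, finrank_top, Module.finrank_pi, Fintype.card_coe] at h1
  exact h1

lemma sConn_erase (ends : E → V × V) (T : Finset E) (e0 : E)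
    (h0 : SConn ends (T.erase e0) (ends e0).1 (ends e0).2) {a b : V} (hc : SConn ends T a b) :
    SConn ends (T.erase e0) a b := by
  induction hc with
  | refl => exact Relation.ReflTransGen.refl
  | @tail c d _ hcd ih =>
    obtain ⟨e, he, h'⟩ := hcd
    by_cases hee : e = e0
    · rw [hee] at h'
      rcases h' with h' | h'
      · have h1 : (ends e0).1 = c := by rw [h']
        have h2 : (ends e0).2 = d := by rw [h']
        rw [h1, h2] at h0
        exact ih.trans h0
      · have h1 : (ends e0).1 = d := by rw [h']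
        have h2 : (ends e0).2 = c := by rw [h']
        rw [h1, h2] at h0
        exact ih.trans (sConn_symm ends _ h0)
    · exact ih.tail ⟨e, Finset.mem_erase.2 ⟨hee, he⟩, h'⟩

lemma forest_of_card (ends : E → V × V) (T : Finset E) (r : V)
    (hS : ∀ v w, SConn ends T v w) (hcard : T.card + 1 = Fintype.card V) :
    ∀ C : Finset E, C ⊆ T → ¬ IsCircuit ends C := by
  intro C hCT hC
  obtain ⟨e0, he0⟩ := hC.1
  have he0T : e0 ∈ T := hCT he0
  have h0 : SConn ends (T.erase e0) (ends e0).1 (ends e0).2 := by
    by_cases hab : (ends e0).1 = (ends e0).2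
    · rw [hab]; exact Relation.ReflTransGen.refl
    · have heven : ∀ v, (endCount ends C v : ZMod 2) = 0 := fun v =>
        (ZMod.natCast_eq_zero_iff_even).2 (hC.2.1 v)
      have hjoin : IsJoin ends (C.erase e0) (ends e0).1 (ends e0).2 := by
        intro v
        have h1 := heven v
        rw [endCount_eq, ← Finset.add_sum_erase _ _ he0] at h1
        push_cast at h1
        rw [ec_cast] at h1
        rw [endCount_eq]
        push_cast
        linear_combination h1 - (dl (ends e0).1 v + dl (ends e0).2 v) * two_zero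
      exact sConn_mono ends (Finset.erase_subset_erase _ hCT) (conn_of_join ends hab hjoin)
  have hconn : ∀ v w, SConn ends (T.erase e0) v w := fun v w =>
    sConn_erase ends T e0 h0 (hS v w)
  have h1 := card_ge_of_conn ends (T.erase e0) hconn r
  rw [Finset.card_erase_of_mem he0T] at h1
  have h2 : 0 < T.card := Finset.card_pos.2 ⟨e0, he0T⟩
  omega

lemma adj_sub_iff (ends : E → V × V) (T : Finset E) (v w : V) :
    Adj (fun e : ↥T => ends e.1) v w ↔ SAdj ends T v w := by
  constructor
  · rintro ⟨e, h⟩
    exact ⟨e.1, e.2, h⟩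
  · rintro ⟨e, he, h⟩
    exact ⟨⟨e, he⟩, h⟩

lemma endCount_map (ends : E → V × V) (T : Finset E) (C : Finset ↥T) (v : V) :
    endCount (fun e : ↥T => ends e.1) C v =
      endCount ends (C.map (Function.Embedding.subtype _)) v := by
  unfold endCount
  rw [Finset.sum_map]
  rfl

lemma circuit_sub_iff (ends : E → V × V) (T : Finset E) (C : Finset ↥T) :
    IsCircuit (fun e : ↥T => ends e.1) C ↔
      IsCircuit ends (C.map (Function.Embedding.subtype _)) := by
  classical
  unfold IsCircuit
  constructor
  · rintro ⟨hne, hev, hmin⟩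
    refine ⟨hne.map, fun v => by rw [← endCount_map]; exact hev v, ?_⟩
    intro D hD hDne
    have hDsub : D ⊆ C.map (Function.Embedding.subtype _) := hD.1
    have hmap : (C.filter (fun e => e.val ∈ D)).map (Function.Embedding.subtype _) = D := by
      ext e
      simp only [Finset.mem_map, Finset.mem_filter, Function.Embedding.coe_subtype]
      constructor
      · rintro ⟨e', ⟨_, h2⟩, rfl⟩
        exact h2
      · intro he
        obtain ⟨e', he'C, rfl⟩ := Finset.mem_map.1 (hDsub he)
        exact ⟨e', ⟨he'C, he⟩, rfl⟩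
    have hss : C.filter (fun e => e.val ∈ D) ⊂ C := by
      rw [← Finset.map_ssubset_map (f := Function.Embedding.subtype _), hmap]
      exact hD
    have hne' : (C.filter (fun e => e.val ∈ D)).Nonempty := by
      rw [← Finset.map_nonempty (f := Function.Embedding.subtype _), hmap]
      exact hDne
    obtain ⟨v, hv⟩ := hmin _ hss hne'
    refine ⟨v, ?_⟩
    rw [← hmap, ← endCount_map]
    exact hv
  · rintro ⟨hne, hev, hmin⟩
    refine ⟨Finset.map_nonempty.1 hne, fun v => by rw [endCount_map]; exact hev v, ?_⟩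
    intro C' hC' hC'ne
    obtain ⟨v, hv⟩ := hmin (C'.map (Function.Embedding.subtype _))
      (Finset.map_ssubset_map.2 hC') (hC'ne.map)
    exact ⟨v, by rw [endCount_map]; exact hv⟩

lemma isSpanningTree_iff (ends : E → V × V) (T : Finset E) (r : V) :
    IsSpanningTree ends T ↔
      (∀ v w, SConn ends T v w) ∧ (∀ C : Finset E, C ⊆ T → ¬ IsCircuit ends C) := by
  classical
  unfold IsSpanningTree DualGr.IsTree
  constructor
  · rintro ⟨⟨_, hc⟩, hf⟩
    have hle : Adj (fun e : ↥T => ends e.1) ≤ SAdj ends T :=
      fun a b hab => (adj_sub_iff ends T a b).1 hab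
    refine ⟨fun v w => Relation.ReflTransGen.mono hle v w (hc v w), ?_⟩
    intro C hCT hC
    refine hf (C.subtype (· ∈ T)) ((circuit_sub_iff ends T _).2 ?_)
    rw [Finset.subtype_map_of_mem (fun x hx => hCT hx)]
    exact hC
  · rintro ⟨hc, hf⟩
    have hle : SAdj ends T ≤ Adj (fun e : ↥T => ends e.1) :=
      fun a b hab => (adj_sub_iff ends T a b).2 hab
    refine ⟨⟨⟨r⟩, fun v w => Relation.ReflTransGen.mono hle v w (hc v w)⟩, ?_⟩
    intro C hC
    refine hf (C.map (Function.Embedding.subtype _)) ?_ ((circuit_sub_iff ends T C).1 hC)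
    intro e he
    obtain ⟨e', _, rfl⟩ := Finset.mem_map.1 he
    exact e'.2

lemma isSpanningTree_iff_card (ends : E → V × V) (T : Finset E) (r : V) :
    IsSpanningTree ends T ↔ (∀ v w, SConn ends T v w) ∧ T.card + 1 = Fintype.card V := by
  rw [isSpanningTree_iff ends T r]
  constructor
  · rintro ⟨hc, hf⟩
    exact ⟨hc, card_of_tree ends T hc hf r⟩
  · rintro ⟨hc, hcard⟩
    exact ⟨hc, forest_of_card ends T r hc hcard⟩

end Groth.Agent.Lib.helper6.MTree
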