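import Mathlib

/-!
# `p`-th powers in the group algebra of a group of exponent `p` in characteristic `p`
-/

set_option autoImplicit false
universe u v

namespace Groth.Agent.Lib.helper6

section
variable (p : ℕ) [Fact p.Prime] (R : Type u) [CommRing R] [CharP R p]
  (G : Type v) [CommMonoid G]

instance monoidAlgebra_charP : CharP (MonoidAlgebra R G) p :=
  charP_of_injective_algebraMap (Bialgebra.algebraMap_injective (R := R) (MonoidAlgebra R G)) p

/-- If every element of `G` has `p`-th power `1` and `R` has characteristic `p`, then the `p`-th power of any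
element of `R[G]` is a scalar. -/
theorem pow_char_eq_algebraMap (hG : ∀ g : G, g ^ p = 1) (y : MonoidAlgebra R G) :
    y ^ p = algebraMap R (MonoidAlgebra R G) ((Coalgebra.counit (R := R) y) ^ p) := by
  let f₁ : MonoidAlgebra R G →+* MonoidAlgebra R G := frobenius (MonoidAlgebra R G) p
  let f₂ : MonoidAlgebra R G →+* MonoidAlgebra R G :=
    (frobenius (MonoidAlgebra R G) p).comp
      ((algebraMap R (MonoidAlgebra R G)).comp
        (Bialgebra.counitAlgHom R (MonoidAlgebra R G)).toRingHom)
  have h : f₁ = f₂ := by
    apply MonoidAlgebra.ringHom_ext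
    · intro r
      simp [f₁, f₂, frobenius_def, MonoidAlgebra.coe_algebraMap]
    · intro m
      simp [f₁, f₂, frobenius_def, MonoidAlgebra.single_pow, hG]
  have := RingHom.congr_fun h y
  simpa [f₁, f₂, frobenius_def] using this

/-- Idempotents of such a group algebra are scalars. -/
theorem idempotent_eq_algebraMap (hG : ∀ g : G, g ^ p = 1) (e : MonoidAlgebra R G)
    (he : IsIdempotentElem e) : ∃ c : R, e = algebraMap R (MonoidAlgebra R G) c := by
  have hp : p.Prime := Fact.out
  refine ⟨(Coalgebra.counit (R := R) e) ^ p, ?_⟩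
  rw [← pow_char_eq_algebraMap p R G hG e]
  obtain ⟨n, hn⟩ := Nat.exists_eq_succ_of_ne_zero hp.ne_zero
  rw [hn, he.pow_succ_eq]

end

end Groth.Agent.Lib.helper6
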