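import Mathlib

/-!
# A group algebra `R[G]` has no nonzero primitive elements
-/

set_option autoImplicit false
universe u v

namespace Groth.Agent.Lib.helper6

open TensorProduct

section
variable (R : Type u) [CommRing R] (G : Type v) [Monoid G]

/-- the coefficient at the identity, as a linear functional. -/
noncomputable def coeffOne : MonoidAlgebra R G →ₗ[R] R :=
  (Finsupp.lapply (1 : G)) ∘ₗ (MonoidAlgebra.coeffLinearEquiv R).toLinearMap

lemma coeffOne_apply (y : MonoidAlgebra R G) : coeffOne R G y = y.coeff 1 := rfl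

/-- `(coeffOne ⊗ id)` followed by the left unitor. -/
noncomputable def L1 : MonoidAlgebra R G ⊗[R] MonoidAlgebra R G →ₗ[R] MonoidAlgebra R G :=
  (TensorProduct.lid R (MonoidAlgebra R G)).toLinearMap ∘ₗ
    LinearMap.rTensor (MonoidAlgebra R G) (coeffOne R G)

lemma L1_tmul (a b : MonoidAlgebra R G) : L1 R G (a ⊗ₜ b) = a.coeff 1 • b := by
  simp [L1, coeffOne_apply]

lemma L1_comul (y : MonoidAlgebra R G) :
    L1 R G (Coalgebra.comul (R := R) y) = y.coeff 1 • (1 : MonoidAlgebra R G) := by
  classical
  have h : (L1 R G) ∘ₗ (Coalgebra.comul (R := R) (A := MonoidAlgebra R G)) =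
      LinearMap.smulRight (coeffOne R G) (1 : MonoidAlgebra R G) := by
    apply MonoidAlgebra.lhom_ext'
    intro g
    apply LinearMap.ext_ring
    simp only [LinearMap.comp_apply, MonoidAlgebra.lsingle_apply, MonoidAlgebra.comul_single,
      CommSemiring.comul_apply, TensorProduct.map_tmul, L1_tmul, LinearMap.smulRight_apply,
      coeffOne_apply]
    by_cases hg : g = 1
    · subst hg
      simp [MonoidAlgebra.one_def]
    · simp [hg]
  exact LinearMap.congr_fun h y

/-- a primitive element of a monoid algebra vanishes. -/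
theorem eq_zero_of_primitive (y : MonoidAlgebra R G)
    (hy : Coalgebra.comul (R := R) y = y ⊗ₜ[R] 1 + 1 ⊗ₜ[R] y) : y = 0 := by
  have h := L1_comul R G y
  rw [hy, map_add, L1_tmul, L1_tmul, MonoidAlgebra.coeff_one_one, one_smul] at h
  exact add_eq_left.1 h

end

end Groth.Agent.Lib.helper6
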