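import Mathlib
import Groth.Prelude.Def_W4c5qllcourbesmultMultCrv

/-!
# Basic lemmas for modules over `R[X]/(X^n)` (family `MultCrv`)
-/

set_option autoImplicit false
universe u

namespace Groth.Agent.Lib.Helper6.MultCrvLib

open MultCrv Polynomial

theorem z_pow_n (R : Type*) [CommRing R] (n : ℕ) : z R n ^ n = 0 := by
  rw [z, ← map_pow]
  exact Ideal.Quotient.eq_zero_iff_mem.mpr (Ideal.mem_span_singleton_self _)

section basic
variable {R : Type*} [CommRing R] {n : ℕ} {M : Type*} [AddCommGroup M] [Module (Rn R n) M]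

theorem mem_filt {i : ℕ} {v : M} : v ∈ filt R n M i ↔ ∃ w : M, z R n ^ i • w = v := by
  simp [filt, LinearMap.mem_range]

theorem mem_filt2 {i : ℕ} {v : M} : v ∈ filt2 R n M i ↔ z R n ^ i • v = 0 := by
  simp [filt2, Submodule.mem_torsionBy_iff]

theorem exists_last_nonzero {u : M} (hu : u ≠ 0) :
    ∃ k, z R n ^ k • u ≠ 0 ∧ z R n ^ (k + 1) • u = 0 := by
  by_contra hcon
  push Not at hcon
  have : ∀ k, z R n ^ k • u ≠ 0 := by
    intro k
    induction k with
    | zero => simpa using hu
    | succ k ih => exact hcon k ih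
  exact this n (by rw [z_pow_n]; exact zero_smul (Rn R n) u)

theorem filt2_mono {i j : ℕ} (h : i ≤ j) : filt2 R n M i ≤ filt2 R n M j := by
  intro v hv
  rw [mem_filt2] at hv ⊢
  obtain ⟨k, rfl⟩ := Nat.exists_eq_add_of_le h
  rw [pow_add, mul_comm, mul_smul, hv, smul_zero]

theorem filt_anti {i j : ℕ} (h : i ≤ j) : filt R n M j ≤ filt R n M i := by
  intro v hv
  rw [mem_filt] at hv ⊢
  obtain ⟨w, rfl⟩ := hv
  obtain ⟨k, rfl⟩ := Nat.exists_eq_add_of_le h
  exact ⟨z R n ^ k • w, by rw [smul_smul, ← pow_add]⟩

end basic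

section dvr
variable (R : Type u) [CommRing R] (n : ℕ)

instance finite_Rn : Module.Finite R (Rn R n) :=
  (monic_X_pow n).finite_adjoinRoot

instance free_Rn : Module.Free R (Rn R n) :=
  (monic_X_pow n).free_adjoinRoot

variable (M : Type u) [AddCommGroup M] [Module (Rn R n) M] [Module R M]
  [IsScalarTower R (Rn R n) M]

theorem finite_over_base [Module.Finite (Rn R n) M] : Module.Finite R M :=
  Module.Finite.trans (Rn R n) M

variable [IsDomain R] [IsDiscreteValuationRing R]

theorem finite_submodule [Module.Finite (Rn R n) M] (P : Submodule (Rn R n) M) :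
    Module.Finite R ↥P := by
  have := finite_over_base R n M
  have : IsNoetherian R M := isNoetherian_of_isNoetherianRing_of_finite R M
  have : Module.Finite R ↥(P.restrictScalars R) := inferInstance
  exact Module.Finite.equiv ((Submodule.restrictScalarsEquiv R (Rn R n) M P).restrictScalars R)

theorem torsionFree_submodule [Module.IsTorsionFree R M] (P : Submodule (Rn R n) M) :
    Module.IsTorsionFree R ↥P :=
  Function.Injective.moduleIsTorsionFree (fun x : ↥P => (x : M)) Subtype.val_injective
    (fun _ _ => rfl)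

theorem free_submodule [Module.Finite (Rn R n) M] [Module.IsTorsionFree R M]
    (P : Submodule (Rn R n) M) : Module.Free R ↥P := by
  have := finite_submodule R n M P
  have := torsionFree_submodule R n M P
  exact Module.free_of_finite_type_torsion_free'

/-- rank additivity for `A`-submodules `Q ≤ P`. -/
theorem finrank_quot_comap_add [Module.Finite (Rn R n) M] (P Q : Submodule (Rn R n) M)
    (hQP : Q ≤ P) :
    Module.finrank R (↥P ⧸ Submodule.comap P.subtype Q) + Module.finrank R ↥Q =
      Module.finrank R ↥P := by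
  have := finite_submodule R n M P
  have h1 := Submodule.finrank_quotient_add_finrank
    ((Submodule.comap P.subtype Q).restrictScalars R)
  have e1 : (↥P ⧸ (Submodule.comap P.subtype Q).restrictScalars R) ≃ₗ[R]
      (↥P ⧸ Submodule.comap P.subtype Q) :=
    Submodule.Quotient.restrictScalarsEquiv R _
  have e2 : ↥((Submodule.comap P.subtype Q).restrictScalars R) ≃ₗ[R] ↥Q :=
    ((Submodule.restrictScalarsEquiv R (Rn R n) ↥P (Submodule.comap P.subtype Q)).restrictScalars
      R).trans ((Submodule.comapSubtypeEquivOfLe hQP).restrictScalars R)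
  rw [e1.finrank_eq, e2.finrank_eq] at h1
  exact h1

/-- rank-nullity for multiplication by `z^j`. -/
theorem finrank_filt_add_filt2 [Module.Finite (Rn R n) M] (j : ℕ) :
    Module.finrank R ↥(filt R n M j) + Module.finrank R ↥(filt2 R n M j) =
      Module.finrank R M := by
  have := finite_over_base R n M
  let f : M →ₗ[Rn R n] M := (z R n ^ j) • (LinearMap.id : M →ₗ[Rn R n] M)
  have h1 := Submodule.finrank_quotient_add_finrank ((LinearMap.ker f).restrictScalars R)
  have e1 : (M ⧸ (LinearMap.ker f).restrictScalars R) ≃ₗ[R] ↥(filt R n M j) :=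
    (Submodule.Quotient.restrictScalarsEquiv R (LinearMap.ker f)).trans
      (f.quotKerEquivRange.restrictScalars R)
  have hker : LinearMap.ker f = filt2 R n M j := by
    ext v
    rw [LinearMap.mem_ker, mem_filt2]
    rfl
  have e2 : ↥((LinearMap.ker f).restrictScalars R) ≃ₗ[R] ↥(filt2 R n M j) :=
    ((Submodule.restrictScalarsEquiv R (Rn R n) M (LinearMap.ker f)).restrictScalars R).trans
      ((LinearEquiv.ofEq _ _ hker).restrictScalars R)
  rw [e1.finrank_eq, e2.finrank_eq] at h1
  exact h1

end dvr

end Groth.Agent.Lib.Helper6.MultCrvLib
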