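import Mathlib
import Groth.Agent.Lib.Helper6.MultCrvLib

/-!
# Frobenius structure on `A = R[X]/(X^(m+1))`: `Hom_A(M, A) ≃ Hom_R(M, R)` via the top coefficient
-/

set_option autoImplicit false
universe u

namespace Groth.Agent.Lib.Helper6.MultCrvFrob

open MultCrv Polynomial Finset

section tr
variable (R : Type u) [CommRing R] (m : ℕ)

/-- The top coefficient functional `A → R`. -/
noncomputable def tr : Rn R (m + 1) →ₗ[R] R :=
  ((Ideal.span {(X : R[X]) ^ (m + 1)}).restrictScalars R).liftQ (lcoeff R m)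
    (by
      intro p hp
      rw [Submodule.restrictScalars_mem, Ideal.mem_span_singleton] at hp
      obtain ⟨q, rfl⟩ := hp
      rw [LinearMap.mem_ker, lcoeff_apply, coeff_X_pow_mul', if_neg (by omega)]) ∘ₗ
  (Submodule.Quotient.restrictScalarsEquiv R
    (Ideal.span {(X : R[X]) ^ (m + 1)})).symm.toLinearMap

theorem tr_mk (p : R[X]) :
    tr R m (Ideal.Quotient.mk (Ideal.span {(X : R[X]) ^ (m + 1)}) p) = p.coeff m := by
  have h : (Ideal.Quotient.mk (Ideal.span {(X : R[X]) ^ (m + 1)}) p) =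
      Submodule.Quotient.mk p := rfl
  rw [h, tr, LinearMap.comp_apply, LinearEquiv.coe_coe,
    Submodule.Quotient.restrictScalarsEquiv_symm_mk, Submodule.liftQ_apply, lcoeff_apply]

theorem tr_z_pow_mul (k : ℕ) (p : R[X]) :
    tr R m (z R (m + 1) ^ k * Ideal.Quotient.mk _ p) = if k ≤ m then p.coeff (m - k) else 0 := by
  rw [z, ← map_pow, ← map_mul, tr_mk, coeff_X_pow_mul']

theorem tr_z_pow (j : ℕ) : tr R m (z R (m + 1) ^ j) = if j = m then 1 else 0 := by
  rw [z, ← map_pow, tr_mk, coeff_X_pow]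
  by_cases h : j = m
  · simp [h]
  · rw [if_neg h, if_neg (fun h' => h h'.symm)]

theorem eq_zero_of_tr_mul (b : Rn R (m + 1)) (h : ∀ a : Rn R (m + 1), tr R m (a * b) = 0) :
    b = 0 := by
  obtain ⟨p, rfl⟩ := Ideal.Quotient.mk_surjective b
  rw [Ideal.Quotient.eq_zero_iff_mem, Ideal.mem_span_singleton, X_pow_dvd_iff]
  intro d hd
  have := h (z R (m + 1) ^ (m - d))
  rw [tr_z_pow_mul, if_pos (by omega)] at this
  have e : m - (m - d) = d := by omega
  rwa [e] at this

end tr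

section psi
variable {R : Type u} [CommRing R] {m : ℕ} {M : Type u} [AddCommGroup M]
  [Module (Rn R (m + 1)) M] [Module R M] [IsScalarTower R (Rn R (m + 1)) M]

/-- The `R`-linear map underlying `psi`. -/
noncomputable def psiR (g : M →ₗ[R] R) : M →ₗ[R] Rn R (m + 1) :=
  ∑ ij ∈ antidiagonal m,
    (g ∘ₗ ((z R (m + 1) ^ ij.1 • (LinearMap.id : M →ₗ[Rn R (m + 1)] M)).restrictScalars
      R)).smulRight (z R (m + 1) ^ ij.2)

theorem psiR_apply (g : M →ₗ[R] R) (x : M) :
    psiR g x = ∑ ij ∈ antidiagonal m, g (z R (m + 1) ^ ij.1 • x) • z R (m + 1) ^ ij.2 := by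
  simp [psiR, LinearMap.sum_apply]

theorem psiR_z (g : M →ₗ[R] R) (x : M) :
    psiR g (z R (m + 1) • x) = z R (m + 1) * psiR g x := by
  have h1 := Finset.Nat.sum_antidiagonal_succ (n := m)
    (f := fun ij : ℕ × ℕ => g (z R (m + 1) ^ ij.1 • x) • z R (m + 1) ^ ij.2)
  have h2 := Finset.Nat.sum_antidiagonal_succ' (n := m)
    (f := fun ij : ℕ × ℕ => g (z R (m + 1) ^ ij.1 • x) • z R (m + 1) ^ ij.2)
  simp only at h1 h2
  rw [MultCrvLib.z_pow_n, smul_zero, zero_add] at h1
  have hz0 : z R (m + 1) ^ (m + 1) • x = 0 := by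
    rw [MultCrvLib.z_pow_n]; exact zero_smul (Rn R (m + 1)) x
  rw [hz0, map_zero, zero_smul, zero_add] at h2
  rw [psiR_apply, psiR_apply, Finset.mul_sum]
  calc ∑ ij ∈ antidiagonal m, g (z R (m + 1) ^ ij.1 • z R (m + 1) • x) • z R (m + 1) ^ ij.2
      = ∑ ij ∈ antidiagonal m, g (z R (m + 1) ^ (ij.1 + 1) • x) • z R (m + 1) ^ ij.2 := by
        refine Finset.sum_congr rfl fun ij _ => ?_
        rw [smul_smul, ← pow_succ]
    _ = ∑ ij ∈ antidiagonal m, g (z R (m + 1) ^ ij.1 • x) • z R (m + 1) ^ (ij.2 + 1) := by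
        rw [← h1, h2]
    _ = ∑ ij ∈ antidiagonal m, z R (m + 1) * g (z R (m + 1) ^ ij.1 • x) • z R (m + 1) ^ ij.2 := by
        refine Finset.sum_congr rfl fun ij _ => ?_
        rw [mul_smul_comm, ← pow_succ']

theorem psiR_z_pow (g : M →ₗ[R] R) (k : ℕ) (x : M) :
    psiR g (z R (m + 1) ^ k • x) = z R (m + 1) ^ k * psiR g x := by
  induction k with
  | zero => simp
  | succ k ih => rw [pow_succ' (z R (m + 1)) k, mul_smul, psiR_z, ih, mul_assoc]

theorem psiR_smul (g : M →ₗ[R] R) (a : Rn R (m + 1)) (x : M) :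
    psiR g (a • x) = a * psiR g x := by
  obtain ⟨p, rfl⟩ := Ideal.Quotient.mk_surjective a
  induction p using Polynomial.induction_on' with
  | add p q hp hq => rw [map_add, add_smul, map_add, hp, hq, add_mul]
  | monomial k r =>
    have e : Ideal.Quotient.mk (Ideal.span {(X : R[X]) ^ (m + 1)}) (monomial k r) =
        algebraMap R (Rn R (m + 1)) r * z R (m + 1) ^ k := by
      rw [← C_mul_X_pow_eq_monomial, map_mul, map_pow]
      rfl
    rw [e, mul_smul, algebraMap_smul, map_smul, psiR_z_pow, mul_assoc]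
    exact Algebra.smul_def (A := Rn R (m + 1)) r _

/-- The inverse of `f ↦ tr ∘ f`. -/
noncomputable def psi (g : M →ₗ[R] R) : M →ₗ[Rn R (m + 1)] Rn R (m + 1) where
  toFun := psiR g
  map_add' := map_add _
  map_smul' a x := by
    rw [psiR_smul]; rfl

theorem tr_psi (g : M →ₗ[R] R) (x : M) : tr R m (psi g x) = g x := by
  show tr R m (psiR g x) = g x
  rw [psiR_apply, map_sum]
  rw [Finset.sum_eq_single (0, m)]
  · simp [tr_z_pow]
  · rintro ⟨i, j⟩ hij hne
    rw [Finset.HasAntidiagonal.mem_antidiagonal] at hij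
    simp only at hij
    rw [map_smul, tr_z_pow, if_neg, smul_zero]
    rintro rfl
    apply hne
    have : i = 0 := by omega
    rw [this]
  · intro h; exact absurd (Finset.HasAntidiagonal.mem_antidiagonal.mpr (zero_add m)) h

theorem hom_ext_tr (f f' : M →ₗ[Rn R (m + 1)] Rn R (m + 1))
    (h : ∀ x, tr R m (f x) = tr R m (f' x)) : f = f' := by
  ext x
  rw [← sub_eq_zero]
  apply eq_zero_of_tr_mul R m
  intro a
  rw [mul_sub, ← smul_eq_mul, ← smul_eq_mul, ← map_smul, ← map_smul, map_sub, h, sub_self]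

theorem psi_tr (f : M →ₗ[Rn R (m + 1)] Rn R (m + 1)) :
    psi ((tr R m) ∘ₗ (f.restrictScalars R)) = f :=
  hom_ext_tr _ _ fun x => by rw [tr_psi]; rfl

theorem psi_add (g g' : M →ₗ[R] R) : psi (m := m) (g + g') = psi g + psi g' :=
  hom_ext_tr _ _ fun x => by
    rw [tr_psi, LinearMap.add_apply, LinearMap.add_apply, map_add, tr_psi, tr_psi]

theorem psi_smul (r : R) (g : M →ₗ[R] R) : psi (m := m) (r • g) = r • psi g :=
  hom_ext_tr _ _ fun x => by
    rw [tr_psi, LinearMap.smul_apply, LinearMap.smul_apply, map_smul, tr_psi]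

end psi

end Groth.Agent.Lib.Helper6.MultCrvFrob
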