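import Mathlib
import Groth.Agent.Lib.Helper6.MultCrvFrob
import Groth.Agent.S17941

/-!
# Vanishing of `Ext^i_A(M, A)` for `A = R[X]/(X^(m+1))`, `R` a DVR
-/

set_option autoImplicit false
universe u

namespace Groth.Agent.Lib.Helper6.MultCrvExt

open CategoryTheory MultCrv Abelian

section general
variable {A : Type u} [CommRing A]

/-- The presentation short complex `0 → ker φ → A^r → M → 0`. -/
noncomputable def presSC {M : Type u} [AddCommGroup M] [Module A M] {r : ℕ}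
    (φ : (Fin r → A) →ₗ[A] M) : ShortComplex (ModuleCat.{u} A) :=
  ShortComplex.moduleCatMk (LinearMap.ker φ).subtype φ (LinearMap.comp_ker_subtype φ)

theorem presSC_shortExact {M : Type u} [AddCommGroup M] [Module A M] {r : ℕ}
    (φ : (Fin r → A) →ₗ[A] M) (hφ : Function.Surjective φ) : (presSC φ).ShortExact := by
  apply ShortComplex.ShortExact.mk'
  · rw [ShortComplex.moduleCat_exact_iff]
    intro x₂ hx₂
    exact ⟨⟨x₂, hx₂⟩, rfl⟩
  · rw [ModuleCat.mono_iff_injective]; exact Subtype.val_injective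
  · rw [ModuleCat.epi_iff_surjective]; exact hφ

theorem eq_zero_of_lift {M : Type u} [AddCommGroup M] [Module A M] {r : ℕ}
    (φ : (Fin r → A) →ₗ[A] M) (hφ : Function.Surjective φ)
    (Y : ModuleCat.{u} A) (n₀ : ℕ)
    (hK : ∀ x₁ : Ext (ModuleCat.of A (LinearMap.ker φ)) Y n₀,
      ∃ x₂ : Ext (ModuleCat.of A (Fin r → A)) Y n₀,
        (Ext.mk₀ (ModuleCat.ofHom (LinearMap.ker φ).subtype)).comp x₂ (zero_add n₀) = x₁)
    (x₃ : Ext (ModuleCat.of A M) Y (n₀ + 1)) : x₃ = 0 := by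
  have hS := presSC_shortExact φ hφ
  have : Projective (presSC φ).X₂ :=
    (IsProjective.iff_projective (R := A) (Fin r → A)).mp inferInstance
  obtain ⟨x₁, hx₁⟩ := Ext.contravariant_sequence_exact₃ hS Y x₃
    (Ext.eq_zero_of_projective _) (add_comm 1 n₀)
  obtain ⟨x₂, rfl⟩ := hK x₁
  rw [← hx₁]
  exact hS.extClass_comp_assoc x₂

end general

section dvr
variable (R : Type u) [CommRing R] [IsDomain R] [IsDiscreteValuationRing R] (m : ℕ)

theorem ext_one_eq_zero (M : Type u) [AddCommGroup M] [Module (Rn R (m + 1)) M] [Module R M]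
    [IsScalarTower R (Rn R (m + 1)) M] [Module.Finite (Rn R (m + 1)) M]
    [Module.IsTorsionFree R M]
    (x : Ext (ModuleCat.of (Rn R (m + 1)) M) (ModuleCat.of (Rn R (m + 1)) (Rn R (m + 1))) 1) :
    x = 0 := by
  obtain ⟨r, φ, hφ⟩ := Module.Finite.exists_fin' (Rn R (m + 1)) M
  refine eq_zero_of_lift φ hφ _ 0 (fun x₁ => ?_) x
  obtain ⟨h, rfl⟩ := (Ext.mk₀_bijective _ _).2 x₁
  obtain ⟨h', hh'⟩ := Groth.Agent.S17941.result R (m + 1) (by omega) (LinearMap.ker φ)
    (Fin r → Rn R (m + 1)) M (LinearMap.ker φ).subtype φ Subtype.val_injective hφ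
    (by rw [Submodule.range_subtype]) h.hom
  refine ⟨Ext.mk₀ (ModuleCat.ofHom h'), ?_⟩
  rw [Ext.mk₀_comp_mk₀]
  congr 1
  ext : 1
  exact hh'

theorem ext_eq_zero_of_torsionFree (i : ℕ) : ∀ (M : Type u) [AddCommGroup M]
    [Module (Rn R (m + 1)) M] [Module R M]
    [IsScalarTower R (Rn R (m + 1)) M] [Module.Finite (Rn R (m + 1)) M]
    [Module.IsTorsionFree R M]
    (x : Ext (ModuleCat.of (Rn R (m + 1)) M) (ModuleCat.of (Rn R (m + 1)) (Rn R (m + 1)))
      (i + 1)), x = 0 := by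
  induction i with
  | zero => intro M _ _ _ _ _ _ x; exact ext_one_eq_zero R m M x
  | succ i ih =>
    intro M _ _ _ _ _ _ x
    obtain ⟨r, φ, hφ⟩ := Module.Finite.exists_fin' (Rn R (m + 1)) M
    refine eq_zero_of_lift φ hφ _ (i + 1) (fun x₁ => ⟨0, ?_⟩) x
    rw [Ext.comp_zero]
    have := MultCrvLib.torsionFree_submodule R (m + 1) (Fin r → Rn R (m + 1)) (LinearMap.ker φ)
    exact (ih (LinearMap.ker φ) x₁).symm

theorem ext_eq_zero_of_two_le (M : Type u) [AddCommGroup M] [Module (Rn R (m + 1)) M]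
    [Module.Finite (Rn R (m + 1)) M] (i : ℕ)
    (x : Ext (ModuleCat.of (Rn R (m + 1)) M) (ModuleCat.of (Rn R (m + 1)) (Rn R (m + 1)))
      (i + 2)) : x = 0 := by
  obtain ⟨r, φ, hφ⟩ := Module.Finite.exists_fin' (Rn R (m + 1)) M
  refine eq_zero_of_lift φ hφ _ (i + 1) (fun x₁ => ⟨0, ?_⟩) x
  rw [Ext.comp_zero]
  have := MultCrvLib.torsionFree_submodule R (m + 1) (Fin r → Rn R (m + 1)) (LinearMap.ker φ)
  exact (ext_eq_zero_of_torsionFree R m i (LinearMap.ker φ) x₁).symm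

end dvr

end Groth.Agent.Lib.Helper6.MultCrvExt
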