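import Mathlib
import Groth.Agent.Lib.Helper6.MultCrvExt

/-!
# `z^m` kills higher `Ext` out of torsion-free modules over `A = R[X]/(X^(m+1))`
-/

set_option autoImplicit false
universe u

namespace Groth.Agent.Lib.Helper6.MultCrvExt

open CategoryTheory MultCrv Abelian MultCrvFrob

section general
variable {A : Type u} [CommRing A]

theorem smul_ext_eq_zero_of_factor {X P Y : ModuleCat.{u} A} [Projective P] (a : A)
    (α : X ⟶ P) (β : P ⟶ X) (h : α ≫ β = a • 𝟙 X) {j : ℕ} (x : Ext X Y (j + 1)) :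
    a • x = 0 := by
  have h1 : a • x = (Ext.mk₀ (a • 𝟙 X)).comp x (zero_add _) := by
    rw [Ext.mk₀_smul, Ext.smul_comp, Ext.mk₀_id_comp]
  rw [h1, ← h, ← Ext.mk₀_comp_mk₀_assoc,
    Ext.eq_zero_of_projective ((Ext.mk₀ β).comp x (zero_add _)), Ext.comp_zero]

theorem smul_eq_zero_of_kernel {M : Type u} [AddCommGroup M] [Module A M] {r : ℕ}
    (φ : (Fin r → A) →ₗ[A] M) (hφ : Function.Surjective φ)
    (Y : ModuleCat.{u} A) (n₀ : ℕ) (a : A)
    (hK : ∀ x₁ : Ext (ModuleCat.of A (LinearMap.ker φ)) Y (n₀ + 1), a • x₁ = 0)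
    (x₃ : Ext (ModuleCat.of A M) Y (n₀ + 1 + 1)) : a • x₃ = 0 := by
  have hS := presSC_shortExact φ hφ
  have : Projective (presSC φ).X₂ :=
    (IsProjective.iff_projective (R := A) (Fin r → A)).mp inferInstance
  obtain ⟨x₁, hx₁⟩ := Ext.contravariant_sequence_exact₃ hS Y x₃
    (Ext.eq_zero_of_projective _) (add_comm 1 (n₀ + 1))
  rw [← hx₁]
  exact (Ext.comp_smul hS.extClass x₁ (add_comm 1 (n₀ + 1)) a).symm.trans
    (by rw [show a • x₁ = 0 from hK x₁]; exact Ext.comp_zero _ _ _ _ _)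

end general

section dvr
variable (R : Type u) [CommRing R] [IsDomain R] [IsDiscreteValuationRing R] (m : ℕ)

/-- `z^m` on a torsion-free finitely generated module factors through a free module. -/
theorem exists_factor_z_pow (M : Type u) [AddCommGroup M] [Module (Rn R (m + 1)) M] [Module R M]
    [IsScalarTower R (Rn R (m + 1)) M] [Module.Finite (Rn R (m + 1)) M]
    [Module.IsTorsionFree R M] :
    ∃ (r : ℕ) (α : M →ₗ[Rn R (m + 1)] (Fin r → Rn R (m + 1)))
      (β : (Fin r → Rn R (m + 1)) →ₗ[Rn R (m + 1)] M),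
      ∀ x : M, β (α x) = z R (m + 1) ^ m • x := by
  set L : Submodule (Rn R (m + 1)) M := filt R (m + 1) M m with hL
  have hLfree : Module.Free R ↥L := MultCrvLib.free_submodule R (m + 1) M L
  have hLfin : Module.Finite R ↥L := MultCrvLib.finite_submodule R (m + 1) M L
  let b := Module.finBasis R ↥L
  have hu : ∀ j, ∃ u : M, z R (m + 1) ^ m • u = (b j : M) := fun j =>
    MultCrvLib.mem_filt.mp (b j).2
  choose u hu using hu
  let zmap : M →ₗ[Rn R (m + 1)] ↥L :=
    ((z R (m + 1) ^ m) • (LinearMap.id : M →ₗ[Rn R (m + 1)] M)).codRestrict L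
      (fun x => MultCrvLib.mem_filt.mpr ⟨x, rfl⟩)
  have hzmap : ∀ x, (zmap x : M) = z R (m + 1) ^ m • x := fun x => rfl
  let g : Fin (Module.finrank R ↥L) → (M →ₗ[R] R) :=
    fun j => (b.coord j) ∘ₗ (zmap.restrictScalars R)
  have hg : ∀ j x, g j x = b.repr (zmap x) j := fun j x => rfl
  refine ⟨Module.finrank R ↥L, LinearMap.pi (fun j => psi (g j)),
    Fintype.linearCombination (Rn R (m + 1)) u, fun x => ?_⟩
  have hpsi : ∀ j, psi (m := m) (g j) x = g j x • z R (m + 1) ^ m := by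
    intro j
    show psiR (g j) x = _
    rw [psiR_apply, Finset.sum_eq_single (0, m)]
    · simp
    · rintro ⟨i, k⟩ hik hne
      rw [Finset.HasAntidiagonal.mem_antidiagonal] at hik
      simp only at hik
      have hi : i ≠ 0 := by
        rintro rfl
        apply hne
        have : k = m := by omega
        rw [this]
      have hz : zmap (z R (m + 1) ^ i • x) = 0 := by
        apply Subtype.ext
        rw [hzmap, smul_smul, ← pow_add (z R (m + 1)) m i]
        obtain ⟨i', rfl⟩ := Nat.exists_eq_succ_of_ne_zero hi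
        have e : m + (i' + 1) = (m + 1) + i' := by omega
        rw [e, pow_add (z R (m + 1)) (m + 1) i', MultCrvLib.z_pow_n, zero_mul]
        exact zero_smul (Rn R (m + 1)) x
      show g j (z R (m + 1) ^ i • x) • z R (m + 1) ^ k = 0
      rw [hg, hz, map_zero, Finsupp.zero_apply, zero_smul]
    · intro h
      exact absurd (Finset.HasAntidiagonal.mem_antidiagonal.mpr (zero_add m)) h
  rw [Fintype.linearCombination_apply]
  have h1 : ∀ j, (LinearMap.pi (fun j => psi (m := m) (g j)) x) j • u j =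
      ((b.repr (zmap x) j • b j : ↥L) : M) := by
    intro j
    rw [LinearMap.pi_apply, hpsi, hg, smul_assoc, hu]
    rfl
  rw [Finset.sum_congr rfl (fun j _ => h1 j), ← hzmap, ← Submodule.coe_sum, b.sum_repr]

theorem z_pow_smul_ext_eq_zero (M N : Type u) [AddCommGroup M] [Module (Rn R (m + 1)) M]
    [Module R M] [IsScalarTower R (Rn R (m + 1)) M] [Module.Finite (Rn R (m + 1)) M]
    [Module.IsTorsionFree R M] [AddCommGroup N] [Module (Rn R (m + 1)) N] (j : ℕ)
    (x : Ext (ModuleCat.of (Rn R (m + 1)) M) (ModuleCat.of (Rn R (m + 1)) N) (j + 1)) :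
    (z R (m + 1) ^ m) • x = 0 := by
  obtain ⟨r, α, β, h⟩ := exists_factor_z_pow R m M
  have : Projective (ModuleCat.of (Rn R (m + 1)) (Fin r → Rn R (m + 1))) :=
    (IsProjective.iff_projective (R := Rn R (m + 1)) (Fin r → Rn R (m + 1))).mp inferInstance
  refine smul_ext_eq_zero_of_factor (z R (m + 1) ^ m) (ModuleCat.ofHom α) (ModuleCat.ofHom β)
    ?_ x
  ext y
  exact h y

theorem z_pow_smul_ext_eq_zero_of_two_le (M N : Type u) [AddCommGroup M]
    [Module (Rn R (m + 1)) M] [Module.Finite (Rn R (m + 1)) M]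
    [AddCommGroup N] [Module (Rn R (m + 1)) N] (j : ℕ)
    (x : Ext (ModuleCat.of (Rn R (m + 1)) M) (ModuleCat.of (Rn R (m + 1)) N) (j + 1 + 1)) :
    (z R (m + 1) ^ m) • x = 0 := by
  obtain ⟨r, φ, hφ⟩ := Module.Finite.exists_fin' (Rn R (m + 1)) M
  have := MultCrvLib.torsionFree_submodule R (m + 1) (Fin r → Rn R (m + 1)) (LinearMap.ker φ)
  exact smul_eq_zero_of_kernel φ hφ _ j _
    (fun x₁ => z_pow_smul_ext_eq_zero R m (LinearMap.ker φ) N j x₁) x

end dvr

end Groth.Agent.Lib.Helper6.MultCrvExt
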