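import Mathlib
import Groth.Agent.Lib.Helper6.MultCrvLib

/-!
# Freeness of the graded pieces `G1`, `Gam2` over a DVR in terms of saturation
-/

set_option autoImplicit false
universe u

namespace Groth.Agent.Lib.Helper6.MultCrvGam

open MultCrv Polynomial MultCrvLib

variable (R : Type u) [CommRing R] [IsDomain R] [IsDiscreteValuationRing R] (n : ℕ)

theorem free_quot_iff_sat (N : Type u) [AddCommGroup N] [Module (Rn R n) N] [Module R N]
    [IsScalarTower R (Rn R n) N] [Module.Finite (Rn R n) N] (Q : Submodule (Rn R n) N) :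
    Module.Free R (N ⧸ Q) ↔ ∀ s : R, s ≠ 0 → ∀ u : N, s • u ∈ Q → u ∈ Q := by
  have hfin : Module.Finite R N := finite_over_base R n N
  have hfinQ : Module.Finite R (N ⧸ Q) :=
    Module.Finite.of_surjective ((Q.mkQ).restrictScalars R) (Submodule.mkQ_surjective Q)
  constructor
  · intro hfree s hs u hsu
    have htf : Module.IsTorsionFree R (N ⧸ Q) := inferInstance
    have h0 : s • (Submodule.Quotient.mk u : N ⧸ Q) = s • 0 := by
      rw [smul_zero, ← Submodule.Quotient.mk_smul, Submodule.Quotient.mk_eq_zero]; exact hsu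
    have := smul_right_injective (N ⧸ Q) hs h0
    exact (Submodule.Quotient.mk_eq_zero Q).mp this
  · intro hsat
    have htf : Module.IsTorsionFree R (N ⧸ Q) := by
      refine ⟨fun s hs => ?_⟩
      intro ξ ξ' hξ
      have hξ' : s • ξ = s • ξ' := hξ
      obtain ⟨u, rfl⟩ := Submodule.Quotient.mk_surjective Q ξ
      obtain ⟨u', rfl⟩ := Submodule.Quotient.mk_surjective Q ξ'
      rw [← Submodule.Quotient.mk_smul, ← Submodule.Quotient.mk_smul, Submodule.Quotient.eq,
        ← smul_sub] at hξ'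
      rw [Submodule.Quotient.eq]
      exact hsat s hs.ne_zero _ hξ'
    exact Module.free_of_finite_type_torsion_free'

variable (M : Type u) [AddCommGroup M] [Module (Rn R n) M] [Module R M]
  [IsScalarTower R (Rn R n) M] [Module.Finite (Rn R n) M]

/-- saturation of `z^(i+1) M` in `z^i M`. -/
def L (i : ℕ) : Prop :=
  ∀ s : R, s ≠ 0 → ∀ v : M, v ∈ filt R n M i → s • v ∈ filt R n M (i + 1) → v ∈ filt R n M (i + 1)

/-- saturation of `z^(i+1) M` in `z^i M ∩ M^(1)`. -/
def Rr (i : ℕ) : Prop :=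
  ∀ s : R, s ≠ 0 → ∀ v : M, v ∈ filt R n M i → z R n • v = 0 → s • v ∈ filt R n M (i + 1) →
    v ∈ filt R n M (i + 1)

theorem free_G1_iff (i : ℕ) : Module.Free R (G1 R n M i) ↔ L R n M i := by
  refine (free_quot_iff_sat R n ↥(filt R n M i) _).trans ?_
  constructor
  · intro h s hs v hv hsv
    exact h s hs ⟨v, hv⟩ hsv
  · intro h s hs u hsu
    exact h s hs u u.2 hsu

theorem mk_mem_range_lamG2_iff (i : ℕ) (u : ↥(filt2 R n M (i + 1))) :
    (Submodule.Quotient.mk u : G2 R n M (i + 1)) ∈ LinearMap.range (lamG2 R n M i) ↔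
      z R n ^ i • (u : M) ∈ filt R n M (i + 1) := by
  constructor
  · rintro ⟨η, hη⟩
    obtain ⟨w, rfl⟩ := Submodule.Quotient.mk_surjective _ η
    rw [lamG2, Submodule.mapQ_apply, Submodule.Quotient.eq, Submodule.mem_comap] at hη
    have h1 : z R n ^ i • ((z R n • (w : M)) - (u : M)) = 0 := mem_filt2.mp hη
    rw [mem_filt]
    refine ⟨(w : M), ?_⟩
    rw [smul_sub, sub_eq_zero, smul_smul, ← pow_succ] at h1
    exact h1
  · intro h
    rw [mem_filt] at h
    obtain ⟨w, hw⟩ := h
    have hwmem : w ∈ filt2 R n M (i + 2) := by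
      rw [mem_filt2]
      have e : z R n ^ (i + 2) • w = z R n • (z R n ^ (i + 1) • w) := by
        rw [smul_smul, ← pow_succ']
      rw [e, hw, smul_smul, ← pow_succ']
      exact mem_filt2.mp u.2
    refine ⟨Submodule.Quotient.mk ⟨w, hwmem⟩, ?_⟩
    rw [lamG2, Submodule.mapQ_apply, Submodule.Quotient.eq, Submodule.mem_comap]
    apply mem_filt2.mpr
    show z R n ^ i • ((z R n • w) - (u : M)) = 0
    rw [smul_sub, sub_eq_zero, smul_smul, ← pow_succ]
    exact hw

theorem free_Gam2_iff (i : ℕ) : Module.Free R (Gam2 R n M i) ↔ Rr R n M i := by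
  refine (free_quot_iff_sat R n (G2 R n M (i + 1)) _).trans ?_
  constructor
  · intro h s hs v hv hzv hsv
    obtain ⟨u₀, rfl⟩ := mem_filt.mp hv
    have hu₀ : u₀ ∈ filt2 R n M (i + 1) := by
      rw [mem_filt2, pow_succ', mul_smul]; exact hzv
    have h1 := h s hs (Submodule.Quotient.mk ⟨u₀, hu₀⟩) (by
      rw [← Submodule.Quotient.mk_smul, mk_mem_range_lamG2_iff]
      show z R n ^ i • (s • u₀) ∈ filt R n M (i + 1)
      rw [smul_comm]; exact hsv)
    exact (mk_mem_range_lamG2_iff R n M i ⟨u₀, hu₀⟩).mp h1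
  · intro h s hs ξ hξ
    obtain ⟨u, rfl⟩ := Submodule.Quotient.mk_surjective _ ξ
    rw [← Submodule.Quotient.mk_smul, mk_mem_range_lamG2_iff] at hξ
    rw [mk_mem_range_lamG2_iff]
    have hξ' : s • (z R n ^ i • (u : M)) ∈ filt R n M (i + 1) := by
      rw [smul_comm]; exact hξ
    refine h s hs _ (mem_filt.mpr ⟨(u : M), rfl⟩) ?_ hξ'
    rw [smul_smul, ← pow_succ']
    exact mem_filt2.mp u.2

theorem L_of_Rr (h : ∀ i, i < n → Rr R n M i) (i : ℕ) : L R n M i := by
  intro s hs
  have key : ∀ j : ℕ, ∀ v : M, v ∈ filt R n M i → z R n ^ j • v = 0 →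
      s • v ∈ filt R n M (i + 1) → v ∈ filt R n M (i + 1) := by
    intro j
    induction j with
    | zero =>
      intro v _ hv0 _
      rw [pow_zero, one_smul] at hv0
      rw [hv0]; exact Submodule.zero_mem _
    | succ j ih =>
      intro v hv hzv hsv
      -- v' = z^j v
      have hv' : z R n ^ j • v ∈ filt R n M (i + j) := by
        obtain ⟨u, rfl⟩ := mem_filt.mp hv
        exact mem_filt.mpr ⟨u, by rw [smul_smul, ← pow_add, add_comm]⟩
      have hzv' : z R n • (z R n ^ j • v) = 0 := by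
        rw [smul_smul, ← pow_succ']; exact hzv
      have hsv' : s • (z R n ^ j • v) ∈ filt R n M (i + j + 1) := by
        obtain ⟨u, hu⟩ := mem_filt.mp hsv
        refine mem_filt.mpr ⟨u, ?_⟩
        rw [smul_comm, ← hu, smul_smul, ← pow_add]
        congr 2
        omega
      have hmem : z R n ^ j • v ∈ filt R n M (i + j + 1) := by
        by_cases hij : i + j < n
        · exact h (i + j) hij s hs _ hv' hzv' hsv'
        · obtain ⟨u, hu⟩ := mem_filt.mp hv'
          have : z R n ^ (i + j) = 0 := by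
            obtain ⟨k, hk⟩ := Nat.exists_eq_add_of_le (not_lt.mp hij)
            rw [hk, pow_add, z_pow_n, zero_mul]
          rw [← hu, this]
          have h0 : (0 : Rn R n) • u = 0 := zero_smul (Rn R n) u
          rw [h0]; exact Submodule.zero_mem _
      obtain ⟨w, hw⟩ := mem_filt.mp hmem
      -- v₂ = v - z^(i+1) w
      have hv₂ : v - z R n ^ (i + 1) • w ∈ filt R n M (i + 1) := by
        apply ih
        · exact Submodule.sub_mem _ hv (filt_anti (Nat.le_succ i) (mem_filt.mpr ⟨w, rfl⟩))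
        · rw [smul_sub, smul_smul, ← pow_add, sub_eq_zero, ← hw]
          congr 2
          omega
        · rw [smul_sub]
          refine Submodule.sub_mem _ hsv ?_
          exact mem_filt.mpr ⟨s • w, by rw [smul_comm]⟩
      have := Submodule.add_mem _ hv₂ (mem_filt.mpr ⟨w, rfl⟩ : z R n ^ (i + 1) • w ∈ filt R n M (i + 1))
      rwa [sub_add_cancel] at this
  intro v hv hsv
  refine key n v hv ?_ hsv
  rw [z_pow_n]; exact zero_smul (Rn R n) v

end Groth.Agent.Lib.Helper6.MultCrvGam
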