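import Mathlib

/-!
# Nagata's substitution with an arbitrary base, and simultaneous Noether normalisation (helper6)

`T1 B c` is the substitution `X_i ↦ X_i + c • X_0 ^ (B ^ i)` (`i ≠ 0`), `X_0 ↦ X_0` of Mathlib's
proof of Noether normalisation, but with an arbitrary base `B > totalDegree f` (Mathlib fixes
`B = 2 + totalDegree f` and keeps the lemmas private).  `step` eliminates the variable `0` from an
integral presentation; `main_ind` runs the elimination simultaneously for two fibres, perturbing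
only by `N`-th powers.
-/

set_option autoImplicit false
universe u

namespace Groth.Agent.Lib.Helper6.NagataN

open Polynomial MvPolynomial Ideal Nat RingHom List

section equivT

variable {k : Type*} [Field k] {n : ℕ} (f : MvPolynomial (Fin (n + 1)) k)
variable (v w : Fin (n + 1) →₀ ℕ) (B : ℕ)

/-- `T1 B c` maps `X_i` to `X_i + c • X_0 ^ (B ^ i)` for `i ≠ 0`, and `X_0` to `X_0`. -/
noncomputable abbrev T1 (c : k) :
    MvPolynomial (Fin (n + 1)) k →ₐ[k] MvPolynomial (Fin (n + 1)) k :=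
  aeval fun i ↦ if i = 0 then X 0 else X i + c • X 0 ^ (B ^ i.1)

lemma t1_comp_t1_neg (c : k) :
    (T1 (k := k) (n := n) B c).comp (T1 B (-c)) = AlgHom.id _ _ := by
  rw [comp_aeval, ← MvPolynomial.aeval_X_left]
  ext i v
  cases i using Fin.cases <;> simp

/-- `T1 B 1` as an algebra equivalence. -/
noncomputable abbrev T : MvPolynomial (Fin (n + 1)) k ≃ₐ[k] MvPolynomial (Fin (n + 1)) k :=
  AlgEquiv.ofAlgHom (T1 B 1) (T1 B (-1)) (t1_comp_t1_neg B 1)
    (by simpa using t1_comp_t1_neg (k := k) (n := n) B (-1))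

variable {v B} in
lemma lt_B (vlt : ∀ i, v i < B) : ∀ l ∈ ofFn v, l < B := by
  intro l hl
  obtain ⟨i, rfl⟩ := (List.mem_ofFn' _ _).mp hl
  exact vlt i

lemma sum_r_mul_ne (hB1 : 1 < B) (vlt : ∀ i, v i < B) (wlt : ∀ i, w i < B) (ne : v ≠ w) :
    ∑ x : Fin (n + 1), B ^ x.1 * v x ≠ ∑ x : Fin (n + 1), B ^ x.1 * w x := by
  intro h
  refine ne <| Finsupp.ext <| congrFun <| ofFn_inj.mp ?_
  apply ofDigits_inj_of_len_eq hB1
    (by simp) (lt_B vlt) (lt_B wlt)
  simpa only [ofDigits_eq_sum_mapIdx, mapIdx_eq_ofFn, get_ofFn, length_ofFn,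
    Fin.val_cast, mul_comm, sum_ofFn] using! h

lemma degreeOf_zero_t (hB1 : 1 < B) {a : k} (ha : a ≠ 0) :
    ((T B) (monomial v a)).degreeOf 0 = ∑ i : Fin (n + 1), (B ^ i.1) * v i := by
  have hpos : ∀ j : ℕ, 0 < B ^ j := fun j => pow_pos (by omega) j
  rw [← natDegree_finSuccEquiv, monomial_eq, Finsupp.prod_pow v fun a ↦ X a]
  simp only [Fin.prod_univ_succ, Fin.sum_univ_succ, map_mul, map_prod, map_pow,
    AlgEquiv.ofAlgHom_apply, MvPolynomial.aeval_C, MvPolynomial.aeval_X, if_pos, Fin.succ_ne_zero,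
    ite_false, one_smul, map_add, finSuccEquiv_X_zero, finSuccEquiv_X_succ, algebraMap_eq]
  have h (i : Fin n) :
      (Polynomial.C (X (R := k) i) + Polynomial.X ^ (B ^ i.succ.1)) ^ v i.succ ≠ 0 :=
    pow_ne_zero (v i.succ) (leadingCoeff_ne_zero.mp <| by
      simp [add_comm, leadingCoeff_X_pow_add_C, hpos])
  rw [natDegree_mul (by simp [ha]) (mul_ne_zero (by simp) (Finset.prod_ne_zero_iff.mpr
    (fun i _ ↦ h i))), natDegree_mul (by simp) (Finset.prod_ne_zero_iff.mpr (fun i _ ↦ h i)),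
    natDegree_prod _ _ (fun i _ ↦ h i), natDegree_finSuccEquiv, degreeOf_C]
  simpa only [natDegree_pow, zero_add, natDegree_X, mul_one, Fin.val_zero, pow_zero, one_mul,
    add_right_inj] using Finset.sum_congr rfl (fun i _ ↦ by
    rw [add_comm (Polynomial.C _), natDegree_X_pow_add_C, mul_comm])

lemma degreeOf_t_ne_of_ne (hB : f.totalDegree < B) (hB1 : 1 < B) (hv : v ∈ f.support)
    (hw : w ∈ f.support) (ne : v ≠ w) :
    (T B <| monomial v <| coeff v f).degreeOf 0 ≠
    (T B <| monomial w <| coeff w f).degreeOf 0 := by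
  rw [degreeOf_zero_t _ _ hB1 <| mem_support_iff.mp hv,
    degreeOf_zero_t _ _ hB1 <| mem_support_iff.mp hw]
  refine sum_r_mul_ne v w B hB1 (fun i ↦ ?_) (fun i ↦ ?_) ne <;>
  exact lt_of_le_of_lt ((monomial_le_degreeOf i ‹_›).trans (degreeOf_le_totalDegree f i)) hB

lemma leadingCoeff_finSuccEquiv_t (hB1 : 1 < B) :
    (finSuccEquiv k n ((T B) ((monomial v) (coeff v f)))).leadingCoeff =
    algebraMap k _ (coeff v f) := by
  have hpos : ∀ j : ℕ, 0 < B ^ j := fun j => pow_pos (by omega) j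
  rw [monomial_eq, Finsupp.prod_fintype]
  · simp only [map_mul, map_prod, leadingCoeff_mul, leadingCoeff_prod]
    rw [AlgEquiv.ofAlgHom_apply, algHom_C, algebraMap_eq, finSuccEquiv_apply,
      eval₂Hom_C, coe_comp]
    simp only [AlgEquiv.ofAlgHom_apply, Function.comp_apply, leadingCoeff_C, map_pow,
      leadingCoeff_pow, algebraMap_eq]
    have : ∀ j, ((finSuccEquiv k n) ((T1 B) 1 (X j))).leadingCoeff = 1 := fun j ↦ by
      by_cases h : j = 0
      · simp [h, finSuccEquiv_apply]
      · simp only [aeval_eq_bind₁, bind₁_X_right, if_neg h, one_smul, map_add, map_pow]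
        obtain ⟨i, rfl⟩ := Fin.exists_succ_eq.mpr h
        simp [finSuccEquiv_X_succ, finSuccEquiv_X_zero, add_comm, leadingCoeff_X_pow_add_C, hpos]
    simp only [this, one_pow, Finset.prod_const_one, mul_one]
  exact fun i ↦ pow_zero _

/-- `T B` maps `f` into a polynomial in `X_0` whose leading coefficient is invertible. -/
lemma T_leadingcoeff_isUnit (hB : f.totalDegree < B) (hB1 : 1 < B) (fne : f ≠ 0) :
    IsUnit (finSuccEquiv k n (T B f)).leadingCoeff := by
  obtain ⟨v, vin, vs⟩ := Finset.exists_max_image f.support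
    (fun v ↦ (T B ((monomial v) (coeff v f))).degreeOf 0) (support_nonempty.mpr fne)
  set h := fun w ↦ (MvPolynomial.monomial w) (coeff w f)
  simp only [← natDegree_finSuccEquiv] at vs
  replace vs : ∀ x ∈ f.support \ {v}, (finSuccEquiv k n ((T B) (h x))).degree <
      (finSuccEquiv k n ((T B) (h v))).degree := by
    intro x hx
    obtain ⟨h1, h2⟩ := Finset.mem_sdiff.mp hx
    apply degree_lt_degree <| lt_of_le_of_ne (vs x h1) ?_
    simpa only [natDegree_finSuccEquiv]
      using degreeOf_t_ne_of_ne f _ _ B hB hB1 h1 vin <| ne_of_not_mem_cons h2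
  have coeff : (finSuccEquiv k n ((T B) (h v + ∑ x ∈ f.support \ {v}, h x))).leadingCoeff =
      (finSuccEquiv k n ((T B) (h v))).leadingCoeff := by
    simp only [map_add, map_sum]
    rw [add_comm]
    apply leadingCoeff_add_of_degree_lt <| (lt_of_le_of_lt <| degree_sum_le _ _) ?_
    have h2 : h v ≠ 0 := by simpa [h] using mem_support_iff.mp vin
    replace h2 : (finSuccEquiv k n ((T B) (h v))) ≠ 0 := fun eq ↦ h2 <|
      by simpa only [map_eq_zero_iff _ (AlgEquiv.injective _)] using eq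
    exact (Finset.sup_lt_iff <| Ne.bot_lt (fun x ↦ h2 <| degree_eq_bot.mp x)).mpr vs
  nth_rw 1 [← f.support_sum_monomial_coeff]
  rw [Finset.sum_eq_add_sum_sdiff_singleton_of_mem vin h]
  rw [leadingCoeff_finSuccEquiv_t _ _ _ hB1] at coeff
  simpa only [coeff, algebraMap_eq] using (mem_support_iff.mp vin).isUnit.map MvPolynomial.C

end equivT

section step

variable {F : Type*} [Field F] {S : Type*} [CommRing S] [Algebra F S]

/-- `aeval` in `n + 1` variables through `finSuccEquiv`. -/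
lemma aeval_cons_eq_eval₂ {n : ℕ} (s : Fin n → S) (y : S) (p : MvPolynomial (Fin (n + 1)) F) :
    MvPolynomial.aeval (Fin.cons y s : Fin (n + 1) → S) p =
      Polynomial.eval₂ (MvPolynomial.aeval s : MvPolynomial (Fin n) F →ₐ[F] S).toRingHom y
        (MvPolynomial.finSuccEquiv F n p) := by
  induction p using MvPolynomial.induction_on with
  | C a =>
    rw [MvPolynomial.aeval_C, MvPolynomial.finSuccEquiv_apply, MvPolynomial.eval₂Hom_C]
    simp
  | add p q hp hq => rw [map_add, map_add, Polynomial.eval₂_add, hp, hq]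
  | mul_X p i hp =>
    rw [map_mul, map_mul, Polynomial.eval₂_mul, hp, MvPolynomial.aeval_X]
    congr 1
    cases i using Fin.cases with
    | zero => rw [MvPolynomial.finSuccEquiv_X_zero, Polynomial.eval₂_X, Fin.cons_zero]
    | succ j =>
      rw [MvPolynomial.finSuccEquiv_X_succ, Polynomial.eval₂_C, Fin.cons_succ]
      simp

/-- Element-wise transitivity of integrality. -/
lemma isIntegralElem_trans {R Q S : Type*} [CommRing R] [CommRing Q] [CommRing S]
    (f : R →+* S) (g : Q →+* S) (hg : ∀ q, f.IsIntegralElem (g q)) {x : S}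
    (hx : g.IsIntegralElem x) : f.IsIntegralElem x := by
  let _ := f.toAlgebra
  have hgC : ∀ q, g q ∈ integralClosure R S := fun q => hg q
  let g' : Q →+* integralClosure R S := g.codRestrict (integralClosure R S) hgC
  obtain ⟨p, pmonic, hp⟩ := hx
  have hxC : IsIntegral (integralClosure R S) x := by
    refine ⟨p.map g', pmonic.map g', ?_⟩
    rw [Polynomial.eval₂_map]
    have : (algebraMap (integralClosure R S) S).comp g' = g := RingHom.ext fun q => rfl
    rw [this]
    exact hp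
  exact isIntegral_trans (R := R) (A := integralClosure R S) x hxC

/-- One step of Nagata's elimination: if `S` is integral over `F[w_0, …, w_n]` and the `w_i`
satisfy a nonzero polynomial `f`, then for every `B > max (1, totalDegree f)`, `S` is integral over
`F[w_1 - w_0 ^ B, …, w_n - w_0 ^ (B ^ n)]`. -/
theorem step {n : ℕ} (w : Fin (n + 1) → S) (f : MvPolynomial (Fin (n + 1)) F) (hf : f ≠ 0)
    (hfw : MvPolynomial.aeval w f = 0) (B : ℕ) (hB : f.totalDegree < B) (hB1 : 1 < B)
    (hint : (MvPolynomial.aeval w : MvPolynomial (Fin (n + 1)) F →ₐ[F] S).toRingHom.IsIntegral) :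
    (MvPolynomial.aeval (fun i : Fin n => w i.succ - w 0 ^ (B ^ (i.1 + 1))) :
      MvPolynomial (Fin n) F →ₐ[F] S).toRingHom.IsIntegral := by
  obtain ⟨w', hw'⟩ : ∃ w' : Fin n → S, w' = fun i : Fin n => w i.succ - w 0 ^ (B ^ (i.1 + 1)) :=
    ⟨_, rfl⟩
  rw [← hw']
  obtain ⟨φ', hφ'⟩ : ∃ φ' : MvPolynomial (Fin n) F →ₐ[F] S, φ' = MvPolynomial.aeval w' := ⟨_, rfl⟩
  rw [← hφ']
  have hcomp : ∀ p, MvPolynomial.aeval (Fin.cons (w 0) w' : Fin (n + 1) → S) (T1 (k := F) B 1 p) =
      MvPolynomial.aeval w p := by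
    intro p
    have : (MvPolynomial.aeval (Fin.cons (w 0) w' : Fin (n + 1) → S)).comp (T1 (k := F) B 1) =
        MvPolynomial.aeval w := by
      apply MvPolynomial.algHom_ext
      intro i
      rw [AlgHom.comp_apply, MvPolynomial.aeval_X, MvPolynomial.aeval_X]
      cases i using Fin.cases with
      | zero => simp
      | succ j => simp [hw', Fin.succ_ne_zero]
    exact DFunLike.congr_fun this p
  have hunit := T_leadingcoeff_isUnit f B hB hB1 hf
  have hTf : (T B f : MvPolynomial (Fin (n + 1)) F) = T1 (k := F) B 1 f := rfl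
  rw [hTf] at hunit
  have hroot : Polynomial.eval₂ φ'.toRingHom (w 0)
      (MvPolynomial.finSuccEquiv F n (T1 (k := F) B 1 f)) = 0 := by
    rw [hφ', ← aeval_cons_eq_eval₂, hcomp, hfw]
  have hmonic := Polynomial.monic_of_isUnit_leadingCoeff_inv_smul hunit
  have h0 : φ'.toRingHom.IsIntegralElem (w 0) := by
    refine ⟨_, hmonic, ?_⟩
    rw [Units.smul_def, Polynomial.eval₂_smul, hroot, mul_zero]
  have hpow : ∀ (x : S) (m : ℕ), φ'.toRingHom.IsIntegralElem x →
      φ'.toRingHom.IsIntegralElem (x ^ m) := by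
    intro x m hx
    induction m with
    | zero => rw [pow_zero]; exact φ'.toRingHom.isIntegralElem_one
    | succ m ih => rw [pow_succ]; exact RingHom.IsIntegralElem.mul _ ih hx
  have hw : ∀ j, φ'.toRingHom.IsIntegralElem (w j) := by
    intro j
    cases j using Fin.cases with
    | zero => exact h0
    | succ i =>
      have e : w i.succ = w' i + w 0 ^ (B ^ (i.1 + 1)) := by simp [hw']
      rw [e]
      refine RingHom.IsIntegralElem.add _ ?_ (hpow _ _ h0)
      have : w' i = φ'.toRingHom (MvPolynomial.X i) := by simp [hφ']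
      rw [this]
      exact φ'.toRingHom.isIntegralElem_map
  have hall : ∀ p : MvPolynomial (Fin (n + 1)) F, φ'.toRingHom.IsIntegralElem
      ((MvPolynomial.aeval w : MvPolynomial (Fin (n + 1)) F →ₐ[F] S).toRingHom p) := by
    intro p
    induction p using MvPolynomial.induction_on with
    | C a =>
      have : (MvPolynomial.aeval w : MvPolynomial (Fin (n + 1)) F →ₐ[F] S).toRingHom
          (MvPolynomial.C a) = φ'.toRingHom (MvPolynomial.C a) := by simp [hφ']
      rw [this]
      exact φ'.toRingHom.isIntegralElem_map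
    | add p q hp hq => rw [map_add]; exact RingHom.IsIntegralElem.add _ hp hq
    | mul_X p i hp =>
      rw [map_mul]
      refine RingHom.IsIntegralElem.mul _ hp ?_
      have : (MvPolynomial.aeval w : MvPolynomial (Fin (n + 1)) F →ₐ[F] S).toRingHom
          (MvPolynomial.X i) = w i := by simp
      rw [this]
      exact hw i
  intro x
  exact isIntegralElem_trans φ'.toRingHom _ hall (hint x)

/-- Going up: an injective integral ring map does not lower the Krull dimension. -/
theorem ringKrullDim_le_of_isIntegral_of_injective {A B : Type*} [CommRing A] [CommRing B]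
    (f : A →+* B) (hf : f.IsIntegral) (hinj : Function.Injective f) :
    ringKrullDim A ≤ ringKrullDim B := by
  algebraize [f]
  have : Algebra.IsIntegral A B := ⟨hf⟩
  have hinj' : Function.Injective (algebraMap A B) := hinj
  unfold ringKrullDim Order.krullDim
  apply iSup_le
  intro l
  obtain ⟨P, -, hP, hPl⟩ := Ideal.exists_ideal_over_prime_of_isIntegral
    (S := B) l.head.asIdeal (⊥ : Ideal B) (by
      rw [← RingHom.ker_eq_comap_bot, (RingHom.injective_iff_ker_eq_bot _).mp hinj']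
      exact bot_le)
  have : P.LiesOver l.head.asIdeal := ⟨hPl.symm⟩
  obtain ⟨L, hL, -, -⟩ := Ideal.exists_ltSeries_of_hasGoingUp l P
  rw [← hL]
  exact le_iSup (fun p : LTSeries (PrimeSpectrum B) => (p.length : WithBot ℕ∞)) L

/-- More than `dim S` elements over which `S` is integral are algebraically dependent. -/
theorem exists_rel {m d : ℕ} (u : Fin m → S)
    (hint : (MvPolynomial.aeval u : MvPolynomial (Fin m) F →ₐ[F] S).toRingHom.IsIntegral)
    (hdim : ringKrullDim S ≤ d) (hdm : d < m) :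
    ∃ f : MvPolynomial (Fin m) F, f ≠ 0 ∧ MvPolynomial.aeval u f = 0 := by
  by_contra hc
  push Not at hc
  have hinj : Function.Injective
      (MvPolynomial.aeval u : MvPolynomial (Fin m) F →ₐ[F] S).toRingHom := by
    rw [injective_iff_map_eq_zero]
    intro f hf
    by_contra hne
    exact hc f hne hf
  have h1 := ringKrullDim_le_of_isIntegral_of_injective _ hint hinj
  rw [MvPolynomial.ringKrullDim_of_isNoetherianRing, ringKrullDim_eq_zero_of_field, zero_add,
    Nat.card_eq_fintype_card, Fintype.card_fin] at h1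
  have h2 : ((m : ℕ) : WithBot ℕ∞) ≤ (d : WithBot ℕ∞) := h1.trans hdim
  have : m ≤ d := by exact_mod_cast h2
  omega

end step

section main

open scoped TensorProduct

/-- Simultaneous Noether normalisation of two fibres, perturbing only by `N`-th powers. -/
theorem main_ind {R : Type*} [CommRing R] {F₁ F₂ S₁ S₂ : Type*} [Field F₁] [Field F₂]
    [CommRing S₁] [CommRing S₂] [Algebra F₁ S₁] [Algebra F₂ S₂] (ψ₁ : R →+* S₁) (ψ₂ : R →+* S₂)
    (d N : ℕ) (hN : 1 ≤ N) (hd₁ : ringKrullDim S₁ ≤ d) (hd₂ : ringKrullDim S₂ ≤ d) :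
    ∀ m, d ≤ m → ∀ w : Fin m → R,
      (MvPolynomial.aeval (fun i => ψ₁ (w i)) :
        MvPolynomial (Fin m) F₁ →ₐ[F₁] S₁).toRingHom.IsIntegral →
      (MvPolynomial.aeval (fun i => ψ₂ (w i)) :
        MvPolynomial (Fin m) F₂ →ₐ[F₂] S₂).toRingHom.IsIntegral →
      ∃ w'' : Fin d → R,
        (MvPolynomial.aeval (fun i => ψ₁ (w'' i)) :
          MvPolynomial (Fin d) F₁ →ₐ[F₁] S₁).toRingHom.IsIntegral ∧
        (MvPolynomial.aeval (fun i => ψ₂ (w'' i)) :
          MvPolynomial (Fin d) F₂ →ₐ[F₂] S₂).toRingHom.IsIntegral ∧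
        ∀ (i : Fin d) (hi : i.1 + (m - d) < m), w'' i - w ⟨i.1 + (m - d), hi⟩ ∈
          Subring.closure (Set.range fun r : R => r ^ N) := by
  intro m hm
  induction m, hm using Nat.le_induction with
  | base =>
    intro w h1 h2
    refine ⟨w, h1, h2, fun i hi => ?_⟩
    have : (⟨i.1 + (d - d), hi⟩ : Fin d) = i := Fin.ext (by simp)
    rw [this, sub_self]
    exact Subring.zero_mem _
  | succ m hm ih =>
    intro w h1 h2
    obtain ⟨f₁, hf₁, hz₁⟩ := exists_rel _ h1 hd₁ (by omega)
    obtain ⟨f₂, hf₂, hz₂⟩ := exists_rel _ h2 hd₂ (by omega)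
    obtain ⟨B, hB⟩ : ∃ B, B = N * (2 + f₁.totalDegree + f₂.totalDegree) := ⟨_, rfl⟩
    have hle : 2 + f₁.totalDegree + f₂.totalDegree ≤ B := by
      rw [hB]
      exact Nat.le_mul_of_pos_left _ hN
    have hB1 : f₁.totalDegree < B := by omega
    have hB2 : f₂.totalDegree < B := by omega
    have hB3 : 1 < B := by omega
    obtain ⟨w', hw'⟩ : ∃ w' : Fin m → R, w' = fun i => w i.succ - w 0 ^ (B ^ (i.1 + 1)) :=
      ⟨_, rfl⟩
    have s1 := step (fun i => ψ₁ (w i)) f₁ hf₁ hz₁ B hB1 hB3 h1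
    have s2 := step (fun i => ψ₂ (w i)) f₂ hf₂ hz₂ B hB2 hB3 h2
    have e1 : (fun i : Fin m => ψ₁ (w i.succ) - ψ₁ (w 0) ^ (B ^ (i.1 + 1))) =
        fun i => ψ₁ (w' i) := by
      funext i
      simp [hw']
    have e2 : (fun i : Fin m => ψ₂ (w i.succ) - ψ₂ (w 0) ^ (B ^ (i.1 + 1))) =
        fun i => ψ₂ (w' i) := by
      funext i
      simp [hw']
    rw [e1] at s1
    rw [e2] at s2
    obtain ⟨w'', i1, i2, hw''⟩ := ih w' s1 s2
    refine ⟨w'', i1, i2, fun i hi => ?_⟩
    have hi' : i.1 + (m - d) < m := by omega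
    have h3 := hw'' i hi'
    have e3 : (⟨i.1 + (m + 1 - d), hi⟩ : Fin (m + 1)) =
        (⟨i.1 + (m - d), hi'⟩ : Fin m).succ := Fin.ext (by simp; omega)
    rw [e3]
    have hpowmem : w 0 ^ (B ^ (i.1 + (m - d) + 1)) ∈
        Subring.closure (Set.range fun r : R => r ^ N) := by
      obtain ⟨c, hc⟩ : N ∣ B ^ (i.1 + (m - d) + 1) := by
        rw [pow_succ]
        exact Dvd.dvd.mul_left (hB ▸ dvd_mul_right N _) _
      rw [hc, pow_mul']
      exact Subring.subset_closure ⟨_, rfl⟩
    have e4 : w'' i - w (⟨i.1 + (m - d), hi'⟩ : Fin m).succ =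
        (w'' i - w' ⟨i.1 + (m - d), hi'⟩) - w 0 ^ (B ^ (i.1 + (m - d) + 1)) := by
      rw [hw']
      ring
    rw [e4]
    exact Subring.sub_mem _ h3 hpowmem

/-- The fibre `F ⊗ R` is generated over `F` by the images of generators of `R`. -/
theorem aeval_tmul_surjective {V R F : Type*} [CommRing V] [CommRing R] [Algebra V R] [Field F]
    [Algebra V F] {e : ℕ} (f : MvPolynomial (Fin e) V →ₐ[V] R) (hf : Function.Surjective f)
    {m : ℕ} (w : Fin m → R) (hw : ∀ j, ∃ i, w i = f (MvPolynomial.X j)) :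
    Function.Surjective (MvPolynomial.aeval (fun i => (1 : F) ⊗ₜ[V] w i) :
      MvPolynomial (Fin m) F →ₐ[F] F ⊗[V] R) := by
  obtain ⟨ph, hph⟩ : ∃ ph : MvPolynomial (Fin m) F →ₐ[F] F ⊗[V] R,
      ph = MvPolynomial.aeval (fun i => (1 : F) ⊗ₜ[V] w i) := ⟨_, rfl⟩
  rw [← hph]
  have h1 : ∀ r : R, (1 : F) ⊗ₜ[V] r ∈ ph.range := by
    intro r
    obtain ⟨p, rfl⟩ := hf r
    induction p using MvPolynomial.induction_on with
    | C v =>
      have : (1 : F) ⊗ₜ[V] f (MvPolynomial.C v) =
          algebraMap F (F ⊗[V] R) (algebraMap V F v) := by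
        calc (1 : F) ⊗ₜ[V] f (MvPolynomial.C v) = (1 : F) ⊗ₜ[V] (v • (1 : R)) := by
              rw [← MvPolynomial.algebraMap_eq, AlgHom.commutes, Algebra.algebraMap_eq_smul_one]
          _ = (v • (1 : F)) ⊗ₜ[V] (1 : R) := by
              rw [TensorProduct.tmul_smul, TensorProduct.smul_tmul']
          _ = algebraMap F (F ⊗[V] R) (algebraMap V F v) := by
              rw [Algebra.TensorProduct.algebraMap_apply, Algebra.algebraMap_self, RingHom.id_apply,
                Algebra.algebraMap_eq_smul_one]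
      rw [this]
      exact Subalgebra.algebraMap_mem _ _
    | add p q hp hq =>
      rw [map_add, TensorProduct.tmul_add]
      exact Subalgebra.add_mem _ hp hq
    | mul_X p j hp =>
      obtain ⟨i, hi⟩ := hw j
      have : (1 : F) ⊗ₜ[V] f (p * MvPolynomial.X j) =
          ((1 : F) ⊗ₜ[V] f p) * ((1 : F) ⊗ₜ[V] w i) := by
        rw [Algebra.TensorProduct.tmul_mul_tmul, one_mul, map_mul, hi]
      rw [this]
      refine Subalgebra.mul_mem _ hp ⟨MvPolynomial.X i, ?_⟩
      rw [hph]
      simp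
  intro t
  have : t ∈ ph.range := by
    induction t using TensorProduct.induction_on with
    | zero => exact Subalgebra.zero_mem _
    | tmul a r =>
      have : a ⊗ₜ[V] r = a • ((1 : F) ⊗ₜ[V] r) := by
        rw [TensorProduct.smul_tmul', smul_eq_mul, mul_one]
      rw [this]
      exact Subalgebra.smul_mem _ (h1 r) a
    | add x y hx hy => exact Subalgebra.add_mem _ hx hy
  exact this

/-- Relative Noether normalisation on two fibres with perturbation by `N`-th powers. -/
theorem noether_two_fibres {V R : Type*} [CommRing V] [CommRing R] [Algebra V R]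
    [Algebra.FiniteType V R] {F₁ F₂ : Type*} [Field F₁] [Field F₂] [Algebra V F₁] [Algebra V F₂]
    (d : ℕ) (hs : ringKrullDim (F₁ ⊗[V] R) ≤ d) (hη : ringKrullDim (F₂ ⊗[V] R) ≤ d)
    (x : Fin d → R) (N : ℕ) (hN : 1 ≤ N) :
    ∃ y : Fin d → R, (∀ i, y i ∈ Subring.closure (Set.range fun r : R => r ^ N)) ∧
      (MvPolynomial.aeval (fun i => (1 : F₁) ⊗ₜ[V] (x i + y i)) :
          MvPolynomial (Fin d) F₁ →ₐ[F₁] F₁ ⊗[V] R).toRingHom.Finite ∧
      (MvPolynomial.aeval (fun i => (1 : F₂) ⊗ₜ[V] (x i + y i)) :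
          MvPolynomial (Fin d) F₂ →ₐ[F₂] F₂ ⊗[V] R).toRingHom.Finite := by
  obtain ⟨e, f, hfsurj⟩ := Algebra.FiniteType.iff_quotient_mvPolynomial''.mp
    (inferInstance : Algebra.FiniteType V R)
  obtain ⟨w₀, hw₀⟩ : ∃ w₀ : Fin (e + d) → R,
      w₀ = Fin.append (fun j => f (MvPolynomial.X j)) x := ⟨_, rfl⟩
  have hgen : ∀ j, ∃ i, w₀ i = f (MvPolynomial.X j) := fun j =>
    ⟨Fin.castAdd d j, by rw [hw₀, Fin.append_left]⟩
  have sur₁ := aeval_tmul_surjective (F := F₁) f hfsurj w₀ hgen
  have sur₂ := aeval_tmul_surjective (F := F₂) f hfsurj w₀ hgen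
  let ψ₁ : R →+* F₁ ⊗[V] R :=
    (Algebra.TensorProduct.includeRight : R →ₐ[V] F₁ ⊗[V] R).toRingHom
  let ψ₂ : R →+* F₂ ⊗[V] R :=
    (Algebra.TensorProduct.includeRight : R →ₐ[V] F₂ ⊗[V] R).toRingHom
  have int₁ : (MvPolynomial.aeval (fun i => ψ₁ (w₀ i)) :
      MvPolynomial (Fin (e + d)) F₁ →ₐ[F₁] F₁ ⊗[V] R).toRingHom.IsIntegral :=
    RingHom.isIntegral_of_surjective _ sur₁
  have int₂ : (MvPolynomial.aeval (fun i => ψ₂ (w₀ i)) :
      MvPolynomial (Fin (e + d)) F₂ →ₐ[F₂] F₂ ⊗[V] R).toRingHom.IsIntegral :=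
    RingHom.isIntegral_of_surjective _ sur₂
  obtain ⟨w'', i1, i2, hw''⟩ :=
    main_ind ψ₁ ψ₂ d N hN hs hη (e + d) (by omega) w₀ int₁ int₂
  have ft₁ : Algebra.FiniteType F₁ (F₁ ⊗[V] R) := Algebra.FiniteType.of_surjective _ sur₁
  have ft₂ : Algebra.FiniteType F₂ (F₂ ⊗[V] R) := Algebra.FiniteType.of_surjective _ sur₂
  refine ⟨fun i => w'' i - x i, fun i => ?_, ?_, ?_⟩
  · have hi : i.1 + (e + d - d) < e + d := by omega
    have h := hw'' i hi
    have e5 : (⟨i.1 + (e + d - d), hi⟩ : Fin (e + d)) = Fin.natAdd e i :=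
      Fin.ext (by simp; omega)
    rw [e5, hw₀, Fin.append_right] at h
    exact h
  · have e6 : (fun i => (1 : F₁) ⊗ₜ[V] (x i + (w'' i - x i))) = fun i => ψ₁ (w'' i) := by
      funext i
      rw [add_sub_cancel]
      rfl
    rw [e6]
    refine RingHom.IsIntegral.to_finite i1 ?_
    have hcomp : algebraMap F₁ (F₁ ⊗[V] R) =
        (MvPolynomial.aeval (fun i => ψ₁ (w'' i)) :
          MvPolynomial (Fin d) F₁ →ₐ[F₁] F₁ ⊗[V] R).toRingHom.comp
          (algebraMap F₁ (MvPolynomial (Fin d) F₁)) :=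
      RingHom.ext fun a => by
        rw [RingHom.comp_apply]
        exact (AlgHom.commutes _ a).symm
    have h := RingHom.finiteType_algebraMap.mpr ft₁
    rw [hcomp] at h
    exact RingHom.FiniteType.of_comp_finiteType h
  · have e6 : (fun i => (1 : F₂) ⊗ₜ[V] (x i + (w'' i - x i))) = fun i => ψ₂ (w'' i) := by
      funext i
      rw [add_sub_cancel]
      rfl
    rw [e6]
    refine RingHom.IsIntegral.to_finite i2 ?_
    have hcomp : algebraMap F₂ (F₂ ⊗[V] R) =
        (MvPolynomial.aeval (fun i => ψ₂ (w'' i)) :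
          MvPolynomial (Fin d) F₂ →ₐ[F₂] F₂ ⊗[V] R).toRingHom.comp
          (algebraMap F₂ (MvPolynomial (Fin d) F₂)) :=
      RingHom.ext fun a => by
        rw [RingHom.comp_apply]
        exact (AlgHom.commutes _ a).symm
    have h := RingHom.finiteType_algebraMap.mpr ft₂
    rw [hcomp] at h
    exact RingHom.FiniteType.of_comp_finiteType h

end main

end Groth.Agent.Lib.Helper6.NagataN
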