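import Mathlib.RingTheory.HopkinsLevitzki
import Mathlib.RingTheory.Finiteness.Ideal
import Mathlib.Algebra.Module.Torsion.Basic

/-!
# A ring with a finitely generated nilpotent ideal and Noetherian quotient is Noetherian
-/

set_option autoImplicit false
universe u v

namespace Groth.Agent.Lib.helper6

/-- If `I` is a finitely generated ideal with `R ⧸ I` Noetherian, every finite `R`-module killed by
a power of `I` is Noetherian. -/
theorem isNoetherian_of_pow_smul_eq_zero {R : Type u} [CommRing R] (I : Ideal R) (hI : I.FG)
    [IsNoetherianRing (R ⧸ I)] (n : ℕ) :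
    ∀ (M : Type v) [AddCommGroup M] [Module R M] [Module.Finite R M],
      (∀ a ∈ I ^ n, ∀ m : M, a • m = 0) → IsNoetherian R M := by
  induction n with
  | zero =>
    intro M _ _ _ h
    have : Subsingleton M := ⟨fun x y => by
      have hx := h 1 (by simp) x
      have hy := h 1 (by simp) y
      rw [one_smul] at hx hy
      rw [hx, hy]⟩
    infer_instance
  | succ n ih =>
    intro M _ _ _ h
    let N : Submodule R M := I • (⊤ : Submodule R M)
    rw [isNoetherian_iff_submodule_quotient N]
    constructor
    · have hfin : Module.Finite R N := Module.Finite.of_fg (Submodule.FG.smul hI Module.Finite.fg_top)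
      apply ih N
      intro a ha ⟨x, hx⟩
      ext
      change a • x = 0
      refine Submodule.smul_induction_on (p := fun x => a • x = 0) hx ?_ ?_
      · intro r hr m _
        rw [← mul_smul]
        exact h _ (by rw [pow_succ]; exact Ideal.mul_mem_mul ha hr) m
      · intro x y hx hy
        rw [smul_add, hx, hy, add_zero]
    · have hJ : Module.IsTorsionBySet R (M ⧸ N) I := by
        rw [Module.isTorsionBySet_quotient_iff]
        intro x r hr
        exact Submodule.smul_mem_smul hr trivial
      let _ := hJ.module
      have h1 : Module.Finite (R ⧸ I) (M ⧸ N) :=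
        (hJ.semilinearMap.finite_iff_of_bijective Function.bijective_id).mp inferInstance
      have h2 : IsNoetherian (R ⧸ I) (M ⧸ N) := isNoetherian_of_isNoetherianRing_of_finite _ _
      exact (hJ.semilinearMap.isNoetherian_iff_of_bijective Function.bijective_id).mpr h2

/-- A ring with a finitely generated nilpotent ideal `I` such that `R ⧸ I` is Noetherian is
Noetherian. -/
theorem isNoetherianRing_of_fg_of_pow_eq_bot {R : Type u} [CommRing R] (I : Ideal R) (hI : I.FG)
    [IsNoetherianRing (R ⧸ I)] (n : ℕ) (hn : I ^ n = ⊥) : IsNoetherianRing R := by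
  apply isNoetherian_of_pow_smul_eq_zero I hI n R
  intro a ha m
  rw [hn, Ideal.mem_bot] at ha
  rw [ha, zero_smul]

end Groth.Agent.Lib.helper6
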