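import Mathlib
import Groth.Agent.Lib.Helper6.McCoy

/-!
# Generic lemmas on norms/determinants over commutative rings (helper6)

* `det_smul_eq_zero_of_apply_eq_zero`: `f y = 0 → det f • y = 0` on a finite free module.
* `eq_zero_of_mul_det_eq_zero`: McCoy for an injective endomorphism of a finite free module:
  `det f` is a nonzerodivisor.
* `isIntegral_norm_of_isIntegral`: for a finite free algebra `E` over a domain `D'`, the norm of an
  element integral over `D` is integral over `D`.
-/

set_option autoImplicit false
open scoped TensorProduct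
open Matrix

namespace Groth.Agent.Lib.helper6.NormBC

theorem det_smul_eq_zero_of_apply_eq_zero {S E ι : Type*} [CommRing S] [AddCommGroup E]
    [Module S E] [Fintype ι] [DecidableEq ι] (𝔟 : Module.Basis ι S E) (f : E →ₗ[S] E) (y : E)
    (h : f y = 0) : LinearMap.det f • y = 0 := by
  have h1 : (LinearMap.toMatrix 𝔟 𝔟 f) *ᵥ (𝔟.repr y) = 0 := by
    rw [LinearMap.toMatrix_mulVec_repr, h, map_zero]
    rfl
  have h2 := Groth.Agent.Lib.Helper6.McCoy.det_smul_eq_zero_of_mulVec_eq_zero _ _ h1
  rw [LinearMap.det_toMatrix] at h2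
  apply 𝔟.repr.injective
  rw [map_smul, map_zero]
  ext i
  exact congrFun h2 i

theorem eq_zero_of_mul_det_eq_zero {S E : Type*} [CommRing S] [AddCommGroup E] [Module S E]
    {s : ℕ} (𝔟 : Module.Basis (Fin s) S E) (f : E →ₗ[S] E) (hf : Function.Injective f) (c : S)
    (hc : c * LinearMap.det f = 0) : c = 0 := by
  classical
  obtain ⟨M, hM⟩ : ∃ M, M = LinearMap.toMatrix 𝔟 𝔟 f := ⟨_, rfl⟩
  have key : ∀ u : Fin s → S, M *ᵥ u = 𝔟.equivFun (f (𝔟.equivFun.symm u)) := by
    intro u
    have h0 := LinearMap.toMatrix_mulVec_repr 𝔟 𝔟 f (𝔟.equivFun.symm u)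
    have e1 : (𝔟.repr (𝔟.equivFun.symm u) : Fin s → S) = u := by
      rw [← Module.Basis.equivFun_apply, LinearEquiv.apply_symm_apply]
    rw [e1] at h0
    rw [hM, h0, Module.Basis.equivFun_apply]
  have hinj : Function.Injective M.mulVecLin := by
    intro v w hvw
    simp only [Matrix.mulVecLin_apply] at hvw
    rw [key, key] at hvw
    exact 𝔟.equivFun.symm.injective (hf (𝔟.equivFun.injective hvw))
  have hdet : M.det = LinearMap.det f := by rw [hM]; exact LinearMap.det_toMatrix 𝔟 f
  refine Groth.Agent.Lib.Helper6.McCoy.mccoy_aux M hinj c ?_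
  intro p q
  by_cases hq : Function.Injective q
  · by_cases hp : Function.Injective p
    · have hpb : Function.Bijective p := Finite.injective_iff_bijective.mp hp
      have hqb : Function.Bijective q := Finite.injective_iff_bijective.mp hq
      have e : M.submatrix p q =
          (M.submatrix (Equiv.ofBijective p hpb) id).submatrix id (Equiv.ofBijective q hqb) := by
        ext i j; rfl
      rw [e, Matrix.det_permute', Matrix.det_permute, hdet]
      rw [mul_left_comm c, mul_left_comm c, hc, mul_zero, mul_zero]
    · obtain ⟨i, j, hij, hne⟩ := Function.not_injective_iff.mp hp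
      rw [Matrix.det_zero_of_row_eq hne (by
        funext l
        simp only [Matrix.submatrix_apply, hij]), mul_zero]
  · obtain ⟨i, j, hij, hne⟩ := Function.not_injective_iff.mp hq
    rw [Matrix.det_zero_of_column_eq hne (by
      intro l
      simp only [Matrix.submatrix_apply, hij]), mul_zero]

theorem isIntegral_norm_of_isIntegral {D D' E ι : Type*} [CommRing D] [CommRing D'] [IsDomain D']
    [CommRing E] [Algebra D D'] [Algebra D' E] [Algebra D E] [IsScalarTower D D' E]
    [Fintype ι] [DecidableEq ι] (𝔟 : Module.Basis ι D' E) (x : E)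
    (hx : IsIntegral D x) : IsIntegral D (Algebra.norm D' x) := by
  obtain ⟨f, hfm, hf0⟩ := hx
  have hinj : Function.Injective (algebraMap D' (AlgebraicClosure (FractionRing D'))) := by
    rw [IsScalarTower.algebraMap_eq D' (FractionRing D') (AlgebraicClosure (FractionRing D'))]
    exact (algebraMap (FractionRing D') (AlgebraicClosure (FractionRing D'))).injective.comp
      (IsFractionRing.injective D' (FractionRing D'))
  rw [← isIntegral_algebraMap_iff hinj]
  obtain ⟨M, hM⟩ : ∃ M, M = Algebra.leftMulMatrix 𝔟 x := ⟨_, rfl⟩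
  rw [Algebra.norm_eq_matrix_det 𝔟 x, RingHom.map_det, ← hM]
  obtain ⟨N, hN⟩ : ∃ N : Matrix ι ι (AlgebraicClosure (FractionRing D')),
    N = (Algebra.ofId D' (AlgebraicClosure (FractionRing D'))).mapMatrix M := ⟨_, rfl⟩
  have hN' : (algebraMap D' (AlgebraicClosure (FractionRing D'))).mapMatrix M = N := by
    rw [hN]; rfl
  rw [hN', Matrix.det_eq_prod_roots_charpoly]
  apply IsIntegral.multiset_prod
  intro μ hμ
  have hμroot : N.charpoly.IsRoot μ := Polynomial.isRoot_of_mem_roots hμ
  have hg : Polynomial.aeval N (f.map (algebraMap D (AlgebraicClosure (FractionRing D')))) = 0 := by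
    have h1 : Polynomial.aeval M (f.map (algebraMap D D')) = 0 := by
      rw [hM, Polynomial.aeval_algHom_apply, Polynomial.aeval_map_algebraMap,
        Polynomial.aeval_def, hf0, map_zero]
    have h2 : f.map (algebraMap D (AlgebraicClosure (FractionRing D'))) =
        (f.map (algebraMap D D')).map (algebraMap D' (AlgebraicClosure (FractionRing D'))) := by
      rw [Polynomial.map_map, ← IsScalarTower.algebraMap_eq]
    rw [h2, Polynomial.aeval_map_algebraMap, hN, Polynomial.aeval_algHom_apply, h1, map_zero]
  have hev : Polynomial.eval μ (f.map (algebraMap D (AlgebraicClosure (FractionRing D')))) = 0 := by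
    have hμs : μ ∈ spectrum (AlgebraicClosure (FractionRing D')) N :=
      Matrix.mem_spectrum_iff_isRoot_charpoly.mpr hμroot
    have h1 := spectrum.subset_polynomial_aeval N
      (f.map (algebraMap D (AlgebraicClosure (FractionRing D')))) ⟨μ, hμs, rfl⟩
    rw [hg] at h1
    rcases subsingleton_or_nontrivial (Matrix ι ι (AlgebraicClosure (FractionRing D'))) with hs | hn
    · rw [spectrum.of_subsingleton] at hμs
      exact absurd hμs (Set.notMem_empty _)
    · rw [spectrum.zero_eq] at h1
      exact h1
  exact ⟨f, hfm, by rw [← Polynomial.eval_map]; exact hev⟩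

end Groth.Agent.Lib.helper6.NormBC
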