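import Mathlib
import Groth.Agent.Lib.Helper6.NormBC1

/-!
# Norm of base changes `S ⊗[K] L` of a finite free algebra (helper6)

* `leftMulMatrix_tmul`, `leftMulMatrix_map`, `norm_map`: compatibility of the norm of `S ⊗[K] L`
  over `S` with a `K`-algebra map `S → S'`.
* `norm_sum_X_tmul_mem_range`: the "norm form" `N(∑ X_j ⊗ β_j) ∈ K[X]` of integral elements `β_j`
  over an integrally closed domain `A` has coefficients in `A`.
-/

set_option autoImplicit false
open scoped TensorProduct
open Matrix

namespace Groth.Agent.Lib.helper6.NormBC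

section norm

variable {K L ι : Type*} [CommRing K] [CommRing L] [Algebra K L] [Fintype ι] [DecidableEq ι]
  (b : Module.Basis ι K L)

theorem leftMulMatrix_tmul (S : Type*) [CommRing S] [Algebra K S] (c : S) (x : L) :
    Algebra.leftMulMatrix (Algebra.TensorProduct.basis S b) (c ⊗ₜ[K] x) =
      c • (Algebra.leftMulMatrix b x).map (algebraMap K S) := by
  ext i j
  rw [Algebra.leftMulMatrix_eq_repr_mul, Algebra.TensorProduct.basis_apply,
    Algebra.TensorProduct.tmul_mul_tmul, mul_one, Algebra.TensorProduct.basis_repr_tmul]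
  simp [Algebra.leftMulMatrix_eq_repr_mul]

theorem leftMulMatrix_map {S S' : Type*} [CommRing S] [Algebra K S] [CommRing S'] [Algebra K S']
    (φ : S →ₐ[K] S') (y : S ⊗[K] L) :
    Algebra.leftMulMatrix (Algebra.TensorProduct.basis S' b)
        (Algebra.TensorProduct.map φ (AlgHom.id K L) y) =
      φ.toRingHom.mapMatrix (Algebra.leftMulMatrix (Algebra.TensorProduct.basis S b) y) := by
  induction y using TensorProduct.induction_on with
  | zero => simp
  | tmul c x =>
    rw [Algebra.TensorProduct.map_tmul, leftMulMatrix_tmul, leftMulMatrix_tmul]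
    ext i j
    simp [Matrix.map_apply, Matrix.smul_apply]
  | add y z hy hz => rw [map_add, map_add, hy, hz, map_add, map_add]

include b in
theorem norm_map {S S' : Type*} [CommRing S] [Algebra K S] [CommRing S'] [Algebra K S']
    (φ : S →ₐ[K] S') (y : S ⊗[K] L) :
    Algebra.norm S' (Algebra.TensorProduct.map φ (AlgHom.id K L) y) = φ (Algebra.norm S y) := by
  rw [Algebra.norm_eq_matrix_det (Algebra.TensorProduct.basis S' b),
    Algebra.norm_eq_matrix_det (Algebra.TensorProduct.basis S b), leftMulMatrix_map]
  exact (RingHom.map_det φ.toRingHom _).symm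

end norm

section integral

attribute [local instance] MvPolynomial.algebraMvPolynomial

theorem norm_sum_X_tmul_mem_range (A K L : Type*) [CommRing A] [IsDomain A]
    [IsIntegrallyClosed A] [Field K] [Algebra A K] [IsFractionRing A K] [Field L] [Algebra K L]
    [Algebra A L] [IsScalarTower A K L] [FiniteDimensional K L] (m : ℕ) (β : Fin m → L)
    (hβ : ∀ j, IsIntegral A (β j)) :
    Algebra.norm (MvPolynomial (Fin m) K)
        (∑ j, (MvPolynomial.X j : MvPolynomial (Fin m) K) ⊗ₜ[K] β j) ∈
      Set.range (MvPolynomial.map (σ := Fin m) (algebraMap A K)) := by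
  classical
  have hy : IsIntegral (MvPolynomial (Fin m) A)
      (∑ j, (MvPolynomial.X j : MvPolynomial (Fin m) K) ⊗ₜ[K] β j) := by
    refine IsIntegral.sum _ (fun j _ => ?_)
    have e1 : (MvPolynomial.X j : MvPolynomial (Fin m) K) ⊗ₜ[K] β j =
        algebraMap (MvPolynomial (Fin m) A) (MvPolynomial (Fin m) K ⊗[K] L) (MvPolynomial.X j) *
          ((1 : MvPolynomial (Fin m) K) ⊗ₜ[K] β j) := by
      rw [Algebra.TensorProduct.algebraMap_apply, MvPolynomial.algebraMap_def, MvPolynomial.map_X,
        Algebra.TensorProduct.tmul_mul_tmul, mul_one, one_mul]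
    rw [e1]
    refine IsIntegral.mul isIntegral_algebraMap ?_
    obtain ⟨f, hfm, hf0⟩ := hβ j
    refine ⟨f.map (MvPolynomial.C), hfm.map _, ?_⟩
    rw [Polynomial.eval₂_map]
    have e2 : (algebraMap (MvPolynomial (Fin m) A) (MvPolynomial (Fin m) K ⊗[K] L)).comp
        (MvPolynomial.C) =
        (Algebra.TensorProduct.includeRight :
          L →ₐ[K] (MvPolynomial (Fin m) K ⊗[K] L)).toRingHom.comp (algebraMap A L) := by
      ext a
      show algebraMap (MvPolynomial (Fin m) A) (MvPolynomial (Fin m) K ⊗[K] L) (MvPolynomial.C a) =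
        (1 : MvPolynomial (Fin m) K) ⊗ₜ[K] (algebraMap A L a)
      rw [Algebra.TensorProduct.algebraMap_apply, MvPolynomial.algebraMap_def, MvPolynomial.map_C]
      have h1 : (MvPolynomial.C (algebraMap A K a) : MvPolynomial (Fin m) K) =
          (algebraMap A K a) • (1 : MvPolynomial (Fin m) K) := by
        rw [MvPolynomial.smul_eq_C_mul, mul_one]
      rw [h1, TensorProduct.smul_tmul, IsScalarTower.algebraMap_apply A K L,
        Algebra.algebraMap_eq_smul_one (algebraMap A K a)]
    rw [e2]
    have h3 := Polynomial.hom_eval₂ f (algebraMap A L)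
      (Algebra.TensorProduct.includeRight :
          L →ₐ[K] (MvPolynomial (Fin m) K ⊗[K] L)).toRingHom (β j)
    rw [hf0, map_zero] at h3
    exact h3.symm
  have hP := isIntegral_norm_of_isIntegral (D := MvPolynomial (Fin m) A)
    (D' := MvPolynomial (Fin m) K)
    (Algebra.TensorProduct.basis (MvPolynomial (Fin m) K) (Module.finBasis K L)) _ hy
  rw [MvPolynomial.isIntegral_iff_isIntegral_coeff] at hP
  rw [MvPolynomial.mem_range_map_iff_coeffs_subset]
  intro c hc
  obtain ⟨n, -, rfl⟩ := MvPolynomial.mem_coeffs_iff.mp (Finset.mem_coe.mp hc)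
  exact IsIntegrallyClosed.isIntegral_iff.mp (hP n)

end integral

end Groth.Agent.Lib.helper6.NormBC
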