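import Mathlib

/-!
# A power-series "norm" lemma (helper6)

Let `ι i : A' →+* Ω` (`i : Fin n`) be ring maps of commutative rings, `G` a subring of `Ω`, and `P` a set of
additive generators of `A'` such that all "elementary symmetric" expressions
`sig ι c j = ∑_{|I| = j} ∏_{i ∈ I} ι i c` (`c ∈ P`) lie in `G`.  Then for every power series `f` over `A'` without
constant term all coefficients of `Nps ι (1 + f) = ∏ i, (ι i)(1 + f)` lie in `G` (`coeff_Nps_mem`).  The proof is the
classical factorisation `1 + f = ∏ (1 + c X^r) ⋯`.  `coeff_top` extracts `∏ i, ι i y` as the `n`-th coefficient of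
`Nps ι (1 + X * C y)`.
-/

universe u v

open PowerSeries

namespace Groth.Agent.Lib.helper6.PSNorm

variable {A' : Type u} {Ω : Type v} [CommRing A'] [CommRing Ω] {n : ℕ}

/-- the "norm" `u ↦ ∏ i, ι_i(u)` on power series -/
noncomputable def Nps (ι : Fin n → (A' →+* Ω)) (u : A'⟦X⟧) : Ω⟦X⟧ :=
  ∏ i, PowerSeries.map (ι i) u

theorem Nps_mul (ι : Fin n → (A' →+* Ω)) (u v : A'⟦X⟧) :
    Nps ι (u * v) = Nps ι u * Nps ι v := by
  unfold Nps
  simp only [map_mul, Finset.prod_mul_distrib]

/-- elementary symmetric expressions -/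
def sig (ι : Fin n → (A' →+* Ω)) (c : A') (j : ℕ) : Ω :=
  ∑ I ∈ (Finset.univ : Finset (Fin n)).powersetCard j, ∏ i ∈ I, ι i c

theorem prod_one_add_X_pow_mul_C (z : Fin n → Ω) (r : ℕ) :
    ∏ i, (1 + (X : Ω⟦X⟧) ^ r * C (z i)) =
      ∑ j ∈ Finset.range (n + 1),
        C (∑ I ∈ (Finset.univ : Finset (Fin n)).powersetCard j, ∏ i ∈ I, z i) * X ^ (r * j) := by
  rw [Finset.prod_one_add, Finset.sum_powerset, Finset.card_fin]
  refine Finset.sum_congr rfl fun j _ => ?_
  rw [map_sum, Finset.sum_mul]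
  refine Finset.sum_congr rfl fun I hI => ?_
  rw [Finset.prod_mul_distrib, Finset.prod_const, (Finset.mem_powersetCard.mp hI).2,
    map_prod (C : Ω →+* Ω⟦X⟧), ← pow_mul, mul_comm]

/-- all coefficients of index `< m` lie in `G` -/
def GoodUpTo (G : Subring Ω) (m : ℕ) (u : Ω⟦X⟧) : Prop := ∀ b, b < m → coeff b u ∈ G

theorem GoodUpTo.mul {G : Subring Ω} {m : ℕ} {u v : Ω⟦X⟧} (hu : GoodUpTo G m u)
    (hv : GoodUpTo G m v) : GoodUpTo G m (u * v) := by
  intro b hb
  rw [PowerSeries.coeff_mul]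
  refine Subring.sum_mem _ fun p hp => ?_
  have h : p.1 + p.2 = b := by simpa using hp
  exact Subring.mul_mem _ (hu _ (by omega)) (hv _ (by omega))

theorem Nps_one_add (ι : Fin n → (A' →+* Ω)) (r : ℕ) (c : A') :
    Nps ι (1 + X ^ r * C c) = ∑ j ∈ Finset.range (n + 1), C (sig ι c j) * X ^ (r * j) := by
  unfold Nps sig
  simp only [map_add, map_one, map_mul, map_pow, PowerSeries.map_X, PowerSeries.map_C]
  exact prod_one_add_X_pow_mul_C (fun i => ι i c) r

theorem good_Nps_one_add (ι : Fin n → (A' →+* Ω)) (G : Subring Ω) (r : ℕ) (c : A')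
    (hc : ∀ j, sig ι c j ∈ G) (m : ℕ) : GoodUpTo G m (Nps ι (1 + X ^ r * C c)) := by
  intro b _
  rw [Nps_one_add, map_sum]
  refine Subring.sum_mem _ fun j _ => ?_
  rw [PowerSeries.coeff_C_mul_X_pow]
  split_ifs
  · exact hc j
  · exact Subring.zero_mem _

theorem exists_prod_one_add (r : ℕ) (s : Finset (Fin n)) (h : Fin n → Ω⟦X⟧) :
    ∃ w : Ω⟦X⟧, ∏ i ∈ s, (1 + X ^ r * h i) = 1 + X ^ r * w := by
  classical
  induction s using Finset.induction_on with
  | empty => exact ⟨0, by simp⟩
  | insert i s hi ih =>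
    obtain ⟨w, hw⟩ := ih
    refine ⟨h i + w + X ^ r * (h i * w), ?_⟩
    rw [Finset.prod_insert hi, hw]
    ring

theorem good_base (ι : Fin n → (A' →+* Ω)) (G : Subring Ω) (r : ℕ) (g : A'⟦X⟧) :
    GoodUpTo G r (Nps ι (1 + X ^ r * g)) := by
  intro b hb
  unfold Nps
  simp only [map_add, map_one, map_mul, map_pow, PowerSeries.map_X]
  obtain ⟨w, hw⟩ := exists_prod_one_add r Finset.univ (fun i => PowerSeries.map (ι i) g)
  rw [hw, map_add, PowerSeries.coeff_X_pow_mul', if_neg (by omega), add_zero, PowerSeries.coeff_one]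
  split_ifs
  · exact Subring.one_mem _
  · exact Subring.zero_mem _

theorem good_main (ι : Fin n → (A' →+* Ω)) (G : Subring Ω) (P : Set A')
    (hP : ∀ c : A', c ∈ AddSubmonoid.closure P) (hσ : ∀ c ∈ P, ∀ j, sig ι c j ∈ G) :
    ∀ (k r : ℕ), 1 ≤ r → ∀ g : A'⟦X⟧, GoodUpTo G (r + k) (Nps ι (1 + X ^ r * g)) := by
  intro k
  induction k with
  | zero => intro r _ g; exact good_base ι G r g
  | succ k ih =>
    intro r hr
    have hr0 : r ≠ 0 := by omega
    have hunit : ∀ c : A', ∃ v : A'⟦X⟧, (1 + X ^ r * C c) * v = 1 := by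
      intro c
      have h1 : IsUnit (1 + (X : A'⟦X⟧) ^ r * C c) := by
        rw [PowerSeries.isUnit_iff_constantCoeff, map_add, map_one, map_mul, map_pow,
          PowerSeries.constantCoeff_X, zero_pow hr0, zero_mul, add_zero]
        exact isUnit_one
      obtain ⟨u, hu⟩ := h1
      exact ⟨↑u⁻¹, by rw [← hu]; exact u.mul_inv⟩
    have key : ∀ c : A', c ∈ AddSubmonoid.closure P → ∀ g : A'⟦X⟧, constantCoeff g = c →
        GoodUpTo G (r + (k + 1)) (Nps ι (1 + X ^ r * g)) := by
      intro c hc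
      induction hc using AddSubmonoid.closure_induction with
      | mem c hcP =>
        intro g hg
        obtain ⟨v, hv⟩ := hunit c
        have h0 : constantCoeff (g - C c) = 0 := by
          rw [map_sub, hg, PowerSeries.constantCoeff_C, sub_self]
        obtain ⟨g'', hg''⟩ := PowerSeries.X_dvd_iff.mpr h0
        have hfac : 1 + X ^ r * g = (1 + X ^ r * C c) * (1 + X ^ (r + 1) * (v * g'')) := by
          linear_combination (X ^ r) * hg'' - (X ^ (r + 1) * g'') * hv
        rw [hfac, Nps_mul]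
        refine GoodUpTo.mul (good_Nps_one_add ι G r c (hσ c hcP) _) ?_
        have h2 := ih (r + 1) (by omega) (v * g'')
        rwa [show r + 1 + k = r + (k + 1) by omega] at h2
      | zero =>
        intro g hg
        obtain ⟨g'', hg''⟩ := PowerSeries.X_dvd_iff.mpr hg
        have hfac : 1 + X ^ r * g = 1 + X ^ (r + 1) * g'' := by rw [hg'']; ring
        rw [hfac]
        have h2 := ih (r + 1) (by omega) g''
        rwa [show r + 1 + k = r + (k + 1) by omega] at h2
      | add c1 c2 _ _ h1 h2 =>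
        intro g hg
        obtain ⟨v, hv⟩ := hunit c1
        have hfac : 1 + X ^ r * g = (1 + X ^ r * C c1) * (1 + X ^ r * (v * (g - C c1))) := by
          linear_combination (- X ^ r * (g - C c1)) * hv
        have hcv : constantCoeff v = 1 := by
          have h3 := congrArg constantCoeff hv
          rwa [map_mul, map_add, map_one, map_mul, map_pow, PowerSeries.constantCoeff_X,
            zero_pow hr0, zero_mul, add_zero, one_mul] at h3
        rw [hfac, Nps_mul]
        refine GoodUpTo.mul (h1 (C c1) (PowerSeries.constantCoeff_C c1)) (h2 _ ?_)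
        rw [map_mul, hcv, one_mul, map_sub, hg, PowerSeries.constantCoeff_C, add_sub_cancel_left]
    intro g
    exact key _ (hP _) g rfl

/-- **Main lemma**: all coefficients of `Nps ι (1 + f)` lie in `G`. -/
theorem coeff_Nps_mem (ι : Fin n → (A' →+* Ω)) (G : Subring Ω) (P : Set A')
    (hP : ∀ c : A', c ∈ AddSubmonoid.closure P) (hσ : ∀ c ∈ P, ∀ j, sig ι c j ∈ G)
    (f : A'⟦X⟧) (hf : constantCoeff f = 0) (b : ℕ) : coeff b (Nps ι (1 + f)) ∈ G := by
  obtain ⟨g, hg⟩ := PowerSeries.X_dvd_iff.mpr hf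
  have h := good_main ι G P hP hσ b 1 le_rfl g b (by omega)
  rwa [pow_one, ← hg] at h

theorem coeff_top (ι : Fin n → (A' →+* Ω)) (y : A') :
    coeff n (Nps ι (1 + X * C y)) = ∏ i, ι i y := by
  have h := Nps_one_add ι 1 y
  rw [pow_one] at h
  rw [h, map_sum]
  simp only [PowerSeries.coeff_C_mul_X_pow, one_mul]
  rw [Finset.sum_ite_eq (Finset.range (n + 1)) n,
    if_pos (Finset.mem_range.mpr (Nat.lt_succ_self n))]
  unfold sig
  have h2 : (Finset.univ : Finset (Fin n)).powersetCard n = {Finset.univ} := by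
    have h3 := Finset.powersetCard_self (Finset.univ : Finset (Fin n))
    rwa [Finset.card_fin] at h3
  rw [h2, Finset.sum_singleton]

end Groth.Agent.Lib.helper6.PSNorm
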