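import Mathlib
import Groth.Prelude.Def_W4c1limliniiiiRamP1

/-!
# Pencils of polynomials with three prescribed ramification points (helper6)

The "solution space" of pairs `(F, G)` with `(X - P₀)^e₀ ∣ F`, `(X - P₁)^e₁ ∣ G`,
`(X - P₂)^e₂ ∣ F + G`, degrees `≤ d`, where `e₀ + e₁ + e₂ = 2d + 1`; Wronskian divisibility.
-/

set_option autoImplicit false
universe u

namespace Groth.Agent.Lib.helper6.Pencil

open Polynomial

variable {k : Type u} [Field k]

lemma natDegree_lin_pow (a : k) (m : ℕ) : ((X - C a) ^ m : k[X]).natDegree = m := by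
  rw [natDegree_pow, natDegree_X_sub_C, mul_one]

lemma lin_pow_ne_zero (a : k) (m : ℕ) : ((X - C a) ^ m : k[X]) ≠ 0 :=
  pow_ne_zero _ (X_sub_C_ne_zero a)

lemma coprime_lin_pow {a b : k} (h : a ≠ b) (m n : ℕ) :
    IsCoprime ((X - C a) ^ m : k[X]) ((X - C b) ^ n) :=
  (isCoprime_X_sub_C_of_isUnit_sub (sub_ne_zero_of_ne h).isUnit).pow

lemma two_dvd {a b : k} (hab : a ≠ b) {m n : ℕ} {H : k[X]} (hH : H ≠ 0)
    (h1 : (X - C a) ^ m ∣ H) (h2 : (X - C b) ^ n ∣ H) : m + n ≤ H.natDegree := by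
  have h := (coprime_lin_pow hab m n).mul_dvd h1 h2
  have h' := natDegree_le_of_dvd h hH
  rwa [natDegree_mul (lin_pow_ne_zero a m) (lin_pow_ne_zero b n), natDegree_lin_pow,
    natDegree_lin_pow] at h'

lemma three_mul_dvd {a b c : k} (hab : a ≠ b) (hac : a ≠ c) (hbc : b ≠ c) {m n l : ℕ} {H : k[X]}
    (h1 : (X - C a) ^ m ∣ H) (h2 : (X - C b) ^ n ∣ H) (h3 : (X - C c) ^ l ∣ H) :
    (X - C a) ^ m * (X - C b) ^ n * (X - C c) ^ l ∣ H := by
  have h12 := (coprime_lin_pow hab m n).mul_dvd h1 h2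
  have hc : IsCoprime ((X - C a) ^ m * (X - C b) ^ n) ((X - C c) ^ l) :=
    IsCoprime.mul_left (coprime_lin_pow hac m l) (coprime_lin_pow hbc n l)
  exact hc.mul_dvd h12 h3

lemma three_ne_zero (a b c : k) (m n l : ℕ) :
    ((X - C a) ^ m * (X - C b) ^ n * (X - C c) ^ l : k[X]) ≠ 0 :=
  mul_ne_zero (mul_ne_zero (lin_pow_ne_zero a m) (lin_pow_ne_zero b n)) (lin_pow_ne_zero c l)

lemma natDegree_three (a b c : k) (m n l : ℕ) :
    ((X - C a) ^ m * (X - C b) ^ n * (X - C c) ^ l : k[X]).natDegree = m + n + l := by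
  rw [natDegree_mul (mul_ne_zero (lin_pow_ne_zero a m) (lin_pow_ne_zero b n))
    (lin_pow_ne_zero c l),
    natDegree_mul (lin_pow_ne_zero a m) (lin_pow_ne_zero b n), natDegree_lin_pow,
    natDegree_lin_pow, natDegree_lin_pow]

lemma three_dvd {a b c : k} (hab : a ≠ b) (hac : a ≠ c) (hbc : b ≠ c) {m n l : ℕ} {H : k[X]}
    (hH : H ≠ 0)
    (h1 : (X - C a) ^ m ∣ H) (h2 : (X - C b) ^ n ∣ H) (h3 : (X - C c) ^ l ∣ H) :
    m + n + l ≤ H.natDegree := by
  have h := natDegree_le_of_dvd (three_mul_dvd hab hac hbc h1 h2 h3) hH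
  rwa [natDegree_three] at h

/-! ### Wronskian lemmas -/

lemma pow_dvd_wronskian_right (F t : k[X]) (a : k) (m : ℕ) (h : (X - C a) ^ m ∣ t) :
    (X - C a) ^ (m - 1) ∣ wronskian F t := by
  obtain ⟨u, rfl⟩ := h
  rcases m with _ | n
  · simp
  · refine ⟨C ((n + 1 : ℕ) : k) * F * u + (X - C a) * (F * derivative u - derivative F * u), ?_⟩
    simp only [wronskian, derivative_mul, derivative_X_sub_C_pow, Nat.add_sub_cancel]
    rw [pow_succ]
    ring

lemma pow_dvd_wronskian_of_root (s t : k[X]) (a : k) (m : ℕ) (h : (X - C a) ^ m ∣ t)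
    (hs : s.eval a = 0) : (X - C a) ^ m ∣ wronskian s t := by
  obtain ⟨u, rfl⟩ := h
  obtain ⟨s1, rfl⟩ := dvd_iff_isRoot.mpr hs
  rcases m with _ | n
  · simp
  · refine ⟨C ((n + 1 : ℕ) : k) * s1 * u + (X - C a) * s1 * derivative u
      - (s1 + (X - C a) * derivative s1) * u, ?_⟩
    simp only [wronskian, derivative_mul, derivative_X_sub_C_pow, derivative_X_sub_C,
      Nat.add_sub_cancel, one_mul]
    rw [pow_succ]
    ring

lemma wronskian_comb (F G : k[X]) (a b c e' : k) :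
    wronskian (a • F + b • G) (c • F + e' • G) = C (a * e' - b * c) * wronskian F G := by
  simp only [smul_eq_C_mul, wronskian, derivative_add, derivative_mul, derivative_C, zero_mul,
    zero_add, map_sub, map_mul]
  ring

lemma natDegree_wronskian_le {F G : k[X]} {d : ℕ} (hF : F.natDegree ≤ d) (hG : G.natDegree ≤ d)
    (hd : 1 ≤ d) : (wronskian F G).natDegree ≤ 2 * d - 2 := by
  have hF' : (derivative F).natDegree ≤ d - 1 :=
    (natDegree_derivative_le F).trans (Nat.sub_le_sub_right hF 1)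
  have hG' : (derivative G).natDegree ≤ d - 1 :=
    (natDegree_derivative_le G).trans (Nat.sub_le_sub_right hG 1)
  have h1 : (F * derivative G).natDegree ≤ d + (d - 1) := natDegree_mul_le_of_le hF hG'
  have h2 : (derivative F * G).natDegree ≤ (d - 1) + d := natDegree_mul_le_of_le hF' hG
  rw [natDegree_le_iff_coeff_eq_zero]
  intro N hN
  rw [wronskian, coeff_sub]
  by_cases hN' : N = d + (d - 1)
  · subst hN'
    rw [coeff_mul_add_eq_of_natDegree_le hF hG', show d + (d - 1) = (d - 1) + d by omega,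
      coeff_mul_add_eq_of_natDegree_le hF' hG, coeff_derivative, coeff_derivative,
      Nat.sub_add_cancel hd]
    ring
  · rw [coeff_eq_zero_of_natDegree_lt (lt_of_le_of_lt h1 (by omega)),
      coeff_eq_zero_of_natDegree_lt (lt_of_le_of_lt h2 (by omega)), sub_zero]

/-! ### The solution condition -/

/-- `(F, G)` solves the three-point problem. -/
structure Sol (d : ℕ) (P : Fin 3 → k) (e : Fin 3 → ℕ) (F G : k[X]) : Prop where
  degF : F.natDegree ≤ d
  degG : G.natDegree ≤ d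
  dvdF : (X - C (P 0)) ^ e 0 ∣ F
  dvdG : (X - C (P 1)) ^ e 1 ∣ G
  dvdH : (X - C (P 2)) ^ e 2 ∣ F + G

/-- Numerical hypotheses. -/
structure Num (d : ℕ) (e : Fin 3 → ℕ) : Prop where
  sum : e 0 + e 1 + e 2 = 2 * d + 1
  le : ∀ i, e i ≤ d
  two : ∀ i, 2 ≤ e i

lemma num_of_admissible {p d : ℕ} {e : Fin 3 → ℕ} (he : W4c1limliniiii.Admissible p d e) :
    Num d e := by
  obtain ⟨h1, h2⟩ := he
  rw [Fin.sum_univ_three] at h2
  exact ⟨by omega, fun i => (h1 i).2.1, fun i => (h1 i).1⟩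

variable {d : ℕ} {P : Fin 3 → k} {e : Fin 3 → ℕ}

lemma sol_ne (hP : Function.Injective P) (hn : Num d e) {F G : k[X]} (hs : Sol d P e F G)
    (hne : F ≠ 0 ∨ G ≠ 0) : F ≠ 0 ∧ G ≠ 0 ∧ F + G ≠ 0 := by
  have h01 : P 0 ≠ P 1 := hP.ne (by decide)
  have h02 : P 0 ≠ P 2 := hP.ne (by decide)
  have h12 : P 1 ≠ P 2 := hP.ne (by decide)
  have hsum := hn.sum
  have l0 := hn.le 0
  have l1 := hn.le 1
  have l2 := hn.le 2
  have hF : F ≠ 0 := by
    rintro rfl
    have hG : G ≠ 0 := by simpa using hne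
    have h3 := hs.dvdH
    rw [zero_add] at h3
    have := two_dvd h12 hG hs.dvdG h3
    have := hs.degG
    omega
  have hG : G ≠ 0 := by
    rintro rfl
    have h3 := hs.dvdH
    rw [add_zero] at h3
    have := two_dvd h02 hF hs.dvdF h3
    have := hs.degF
    omega
  refine ⟨hF, hG, ?_⟩
  intro h
  have hGF : G = -F := eq_neg_of_add_eq_zero_right h
  have h2 : (X - C (P 1)) ^ e 1 ∣ F := by
    have := hs.dvdG
    rw [hGF] at this
    exact (dvd_neg).mp this
  have := two_dvd h01 hF hs.dvdF h2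
  have := hs.degF
  omega

lemma sol_indep (hP : Function.Injective P) (hn : Num d e) {F G : k[X]} (hs : Sol d P e F G)
    (hne : F ≠ 0 ∨ G ≠ 0) : LinearIndependent k ![F, G] := by
  have h01 : P 0 ≠ P 1 := hP.ne (by decide)
  obtain ⟨hF, hG, -⟩ := sol_ne hP hn hs hne
  rw [LinearIndependent.pair_iff' hF]
  intro a ha
  have h2 : (X - C (P 0)) ^ e 0 ∣ G := by
    rw [← ha, smul_eq_C_mul]
    exact Dvd.dvd.mul_left hs.dvdF _
  have := two_dvd h01 hG h2 hs.dvdG
  have := hs.degG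
  have := hn.sum
  have := hn.le 2
  omega

lemma sol_finrank (hP : Function.Injective P) (hn : Num d e) {F G : k[X]} (hs : Sol d P e F G)
    (hne : F ≠ 0 ∨ G ≠ 0) : Module.finrank k (Submodule.span k ({F, G} : Set k[X])) = 2 := by
  have h := finrank_span_eq_card (sol_indep hP hn hs hne)
  rw [Matrix.range_cons_cons_empty] at h
  simpa using h

lemma span_le_degreeLE {F G : k[X]} (hs : Sol d P e F G) :
    Submodule.span k ({F, G} : Set k[X]) ≤ degreeLE k d := by
  rw [Submodule.span_le]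
  intro x hx
  rcases hx with rfl | rfl
  · exact mem_degreeLE.mpr (natDegree_le_iff_degree_le.mp hs.degF)
  · exact mem_degreeLE.mpr (natDegree_le_iff_degree_le.mp hs.degG)

lemma sections_of_sol (hP : Function.Injective P) (hn : Num d e) {F G : k[X]}
    (hs : Sol d P e F G) (hne : F ≠ 0 ∨ G ≠ 0) :
    ∀ i, ∃ s ∈ Submodule.span k ({F, G} : Set k[X]), s ≠ 0 ∧
      e i ≤ rootMultiplicity (P i) s := by
  obtain ⟨hF0, hG0, hH0⟩ := sol_ne hP hn hs hne
  have hFV : F ∈ Submodule.span k ({F, G} : Set k[X]) := Submodule.subset_span (by simp)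
  have hGV : G ∈ Submodule.span k ({F, G} : Set k[X]) := Submodule.subset_span (by simp)
  intro i
  fin_cases i
  · exact ⟨F, hFV, hF0, (le_rootMultiplicity_iff hF0).mpr hs.dvdF⟩
  · exact ⟨G, hGV, hG0, (le_rootMultiplicity_iff hG0).mpr hs.dvdG⟩
  · exact ⟨F + G, Submodule.add_mem _ hFV hGV, hH0, (le_rootMultiplicity_iff hH0).mpr hs.dvdH⟩


/-! ### From sections to solutions -/

lemma exists_sol_of_sections (hP : Function.Injective P) (hn : Num d e) {V : Submodule k k[X]}
    (hV : V ≤ degreeLE k d) (hfr : Module.finrank k V = 2)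
    (hsec : ∀ i, ∃ s ∈ V, s ≠ 0 ∧ e i ≤ rootMultiplicity (P i) s) :
    ∃ F G : k[X], Sol d P e F G ∧ (F ≠ 0 ∨ G ≠ 0) ∧
      Submodule.span k ({F, G} : Set k[X]) = V := by
  have h01 : P 0 ≠ P 1 := hP.ne (by decide)
  obtain ⟨s0, hs0V, hs0, hm0⟩ := hsec 0
  obtain ⟨s1, hs1V, hs1, hm1⟩ := hsec 1
  obtain ⟨s2, hs2V, hs2, hm2⟩ := hsec 2
  have d0 := (le_rootMultiplicity_iff hs0).mp hm0
  have d1 := (le_rootMultiplicity_iff hs1).mp hm1
  have d2 := (le_rootMultiplicity_iff hs2).mp hm2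
  have deg : ∀ s ∈ V, s.natDegree ≤ d := fun s hs =>
    natDegree_le_iff_degree_le.mpr (mem_degreeLE.mp (hV hs))
  have hind : LinearIndependent k ![s0, s1] := by
    rw [LinearIndependent.pair_iff' hs0]
    intro a ha
    have h2 : (X - C (P 0)) ^ e 0 ∣ s1 := by
      rw [← ha, smul_eq_C_mul]
      exact Dvd.dvd.mul_left d0 _
    have := two_dvd h01 hs1 h2 d1
    have := deg s1 hs1V
    have := hn.sum
    have := hn.le 2
    omega
  have : Module.Finite k V := Module.finite_of_finrank_pos (by omega)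
  have hspan : Submodule.span k ({s0, s1} : Set k[X]) = V := by
    apply Submodule.eq_of_le_of_finrank_eq
    · rw [Submodule.span_le]
      intro x hx
      rcases hx with rfl | rfl
      · exact hs0V
      · exact hs1V
    · have h := finrank_span_eq_card hind
      rw [Matrix.range_cons_cons_empty] at h
      rw [h, hfr]
      simp
  have hs2' : s2 ∈ Submodule.span k ({s0, s1} : Set k[X]) := by rw [hspan]; exact hs2V
  obtain ⟨α, β, hαβ⟩ := Submodule.mem_span_pair.mp hs2'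
  have hsol : Sol d P e (α • s0) (β • s1) :=
    { degF := (natDegree_smul_le α s0).trans (deg s0 hs0V)
      degG := (natDegree_smul_le β s1).trans (deg s1 hs1V)
      dvdF := by rw [smul_eq_C_mul]; exact Dvd.dvd.mul_left d0 _
      dvdG := by rw [smul_eq_C_mul]; exact Dvd.dvd.mul_left d1 _
      dvdH := by rw [hαβ]; exact d2 }
  have hne : α • s0 ≠ 0 ∨ β • s1 ≠ 0 := by
    by_contra h
    push Not at h
    rw [h.1, h.2, add_zero] at hαβ
    exact hs2 hαβ.symm
  refine ⟨α • s0, β • s1, hsol, hne, ?_⟩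
  apply Submodule.eq_of_le_of_finrank_eq
  · rw [Submodule.span_le]
    intro x hx
    rcases hx with rfl | rfl
    · exact Submodule.smul_mem _ _ hs0V
    · exact Submodule.smul_mem _ _ hs1V
  · rw [sol_finrank hP hn hsol hne, hfr]

lemma sol_proportional (hP : Function.Injective P) (hn : Num d e) {F1 G1 F2 G2 : k[X]}
    (h1 : Sol d P e F1 G1) (hne1 : F1 ≠ 0 ∨ G1 ≠ 0) (h2 : Sol d P e F2 G2)
    (hspan : Submodule.span k ({F1, G1} : Set k[X]) = Submodule.span k ({F2, G2} : Set k[X])) :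
    ∃ c : k, F2 = c • F1 ∧ G2 = c • G1 := by
  have h01 : P 0 ≠ P 1 := hP.ne (by decide)
  have h02 : P 0 ≠ P 2 := hP.ne (by decide)
  have hsum := hn.sum
  have l0 := hn.le 0
  have l1 := hn.le 1
  have l2 := hn.le 2
  obtain ⟨hF1, hG1, hH1⟩ := sol_ne hP hn h1 hne1
  have hF2mem : F2 ∈ Submodule.span k ({F1, G1} : Set k[X]) := by
    rw [hspan]; exact Submodule.subset_span (by simp)
  have hG2mem : G2 ∈ Submodule.span k ({F1, G1} : Set k[X]) := by
    rw [hspan]; exact Submodule.subset_span (by simp)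
  obtain ⟨α, β, hF2⟩ := Submodule.mem_span_pair.mp hF2mem
  obtain ⟨γ, δ, hG2⟩ := Submodule.mem_span_pair.mp hG2mem
  have hβ : β = 0 := by
    by_contra hβ
    have hd : (X - C (P 0)) ^ e 0 ∣ β • G1 := by
      have : β • G1 = F2 - α • F1 := by rw [← hF2]; ring
      rw [this]
      exact dvd_sub h2.dvdF (by rw [smul_eq_C_mul]; exact Dvd.dvd.mul_left h1.dvdF _)
    have hd' : (X - C (P 0)) ^ e 0 ∣ G1 := by
      rw [smul_eq_C_mul] at hd
      exact (IsUnit.dvd_mul_left (isUnit_C.mpr (isUnit_iff_ne_zero.mpr hβ))).mp hd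
    have := two_dvd h01 hG1 hd' h1.dvdG
    have := h1.degG
    omega
  have hγ : γ = 0 := by
    by_contra hγ
    have hd : (X - C (P 1)) ^ e 1 ∣ γ • F1 := by
      have : γ • F1 = G2 - δ • G1 := by rw [← hG2]; ring
      rw [this]
      exact dvd_sub h2.dvdG (by rw [smul_eq_C_mul]; exact Dvd.dvd.mul_left h1.dvdG _)
    have hd' : (X - C (P 1)) ^ e 1 ∣ F1 := by
      rw [smul_eq_C_mul] at hd
      exact (IsUnit.dvd_mul_left (isUnit_C.mpr (isUnit_iff_ne_zero.mpr hγ))).mp hd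
    have := two_dvd h01 hF1 h1.dvdF hd'
    have := h1.degF
    omega
  subst hβ
  subst hγ
  rw [zero_smul, add_zero] at hF2
  rw [zero_smul, zero_add] at hG2
  have hαδ : α = δ := by
    by_contra hαδ
    have hd : (X - C (P 2)) ^ e 2 ∣ (α - δ) • F1 := by
      have : (α - δ) • F1 = (F2 + G2) - δ • (F1 + G1) := by
        rw [← hF2, ← hG2, sub_smul, smul_add]; ring
      rw [this]
      exact dvd_sub h2.dvdH (by rw [smul_eq_C_mul]; exact Dvd.dvd.mul_left h1.dvdH _)
    have hd' : (X - C (P 2)) ^ e 2 ∣ F1 := by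
      rw [smul_eq_C_mul] at hd
      exact (IsUnit.dvd_mul_left (isUnit_C.mpr (isUnit_iff_ne_zero.mpr
        (sub_ne_zero.mpr hαδ)))).mp hd
    have := two_dvd h02 hF1 h1.dvdF hd'
    have := h1.degF
    omega
  exact ⟨α, hF2.symm, by rw [hαδ]; exact hG2.symm⟩

lemma sol_cross (hP : Function.Injective P) (hn : Num d e) {F1 G1 F2 G2 : k[X]}
    (h1 : Sol d P e F1 G1) (h2 : Sol d P e F2 G2) : F1 * G2 = F2 * G1 := by
  have h01 : P 0 ≠ P 1 := hP.ne (by decide)
  have h02 : P 0 ≠ P 2 := hP.ne (by decide)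
  have h12 : P 1 ≠ P 2 := hP.ne (by decide)
  by_contra hne
  have hN : F1 * G2 - F2 * G1 ≠ 0 := sub_ne_zero.mpr hne
  have dA : (X - C (P 0)) ^ e 0 ∣ F1 * G2 - F2 * G1 :=
    dvd_sub (Dvd.dvd.mul_right h1.dvdF _) (Dvd.dvd.mul_right h2.dvdF _)
  have dB : (X - C (P 1)) ^ e 1 ∣ F1 * G2 - F2 * G1 :=
    dvd_sub (Dvd.dvd.mul_left h2.dvdG _) (Dvd.dvd.mul_left h1.dvdG _)
  have dC : (X - C (P 2)) ^ e 2 ∣ F1 * G2 - F2 * G1 := by
    have : F1 * G2 - F2 * G1 = F1 * (F2 + G2) - F2 * (F1 + G1) := by ring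
    rw [this]
    exact dvd_sub (Dvd.dvd.mul_left h2.dvdH _) (Dvd.dvd.mul_left h1.dvdH _)
  have h3 := three_dvd h01 h02 h12 hN dA dB dC
  have hdeg : (F1 * G2 - F2 * G1).natDegree ≤ d + d := by
    refine (natDegree_sub_le _ _).trans (max_le ?_ ?_)
    · exact natDegree_mul_le_of_le h1.degF h2.degG
    · exact natDegree_mul_le_of_le h2.degF h1.degG
  have := hn.sum
  omega

lemma span_eq_of_sol (hP : Function.Injective P) (hn : Num d e) {F1 G1 F2 G2 : k[X]}
    (h1 : Sol d P e F1 G1) (hne1 : F1 ≠ 0 ∨ G1 ≠ 0) (h2 : Sol d P e F2 G2)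
    (hne2 : F2 ≠ 0 ∨ G2 ≠ 0) (hcop : IsCoprime F2 G2)
    (hdeg : ∃ s ∈ Submodule.span k ({F2, G2} : Set k[X]), s.natDegree = d) :
    Submodule.span k ({F1, G1} : Set k[X]) = Submodule.span k ({F2, G2} : Set k[X]) := by
  obtain ⟨hF1, hG1, -⟩ := sol_ne hP hn h1 hne1
  obtain ⟨hF2, hG2, -⟩ := sol_ne hP hn h2 hne2
  have hx := sol_cross hP hn h1 h2
  have hdv : F2 ∣ F1 := by
    apply hcop.dvd_of_dvd_mul_right
    rw [hx]
    exact dvd_mul_right _ _
  obtain ⟨u, hu⟩ := hdv
  have hG : G1 = G2 * u := by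
    have : F2 * G1 = F2 * (G2 * u) := by rw [← hx, hu]; ring
    exact mul_left_cancel₀ hF2 this
  have hu0 : u ≠ 0 := by
    rintro rfl
    exact hF1 (by rw [hu, mul_zero])
  obtain ⟨s, hs, hsd⟩ := hdeg
  obtain ⟨α, β, hαβ⟩ := Submodule.mem_span_pair.mp hs
  have hd1 : 1 ≤ d := by
    have := hn.two 0
    have := hn.le 0
    omega
  have hs0 : s ≠ 0 := by
    intro h
    rw [h, natDegree_zero] at hsd
    omega
  have hsu : (s * u).natDegree ≤ d := by
    have : s * u = α • F1 + β • G1 := by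
      rw [← hαβ, hu, hG]
      simp only [smul_eq_C_mul]
      ring
    rw [this]
    exact (natDegree_add_le _ _).trans (max_le ((natDegree_smul_le _ _).trans h1.degF)
      ((natDegree_smul_le _ _).trans h1.degG))
  rw [natDegree_mul hs0 hu0, hsd] at hsu
  have hu' : u.natDegree = 0 := by omega
  have huC : u = C (u.coeff 0) := eq_C_of_natDegree_eq_zero hu'
  have : Module.Finite k (Submodule.span k ({F2, G2} : Set k[X])) :=
    Module.finite_of_finrank_pos (by rw [sol_finrank hP hn h2 hne2]; norm_num)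
  apply Submodule.eq_of_le_of_finrank_eq
  · rw [Submodule.span_le]
    intro x hx
    rcases hx with rfl | rfl
    · rw [hu, huC, mul_comm, ← smul_eq_C_mul]
      exact Submodule.smul_mem _ _ (Submodule.subset_span (by simp))
    · rw [hG, huC, mul_comm, ← smul_eq_C_mul]
      exact Submodule.smul_mem _ _ (Submodule.subset_span (by simp))
  · rw [sol_finrank hP hn h1 hne1, sol_finrank hP hn h2 hne2]

lemma coprime_of_bpf [IsAlgClosed k] {F G : k[X]}
    (h : ∀ a : k, ∃ s ∈ Submodule.span k ({F, G} : Set k[X]), s.eval a ≠ 0) : IsCoprime F G := by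
  rw [Polynomial.isCoprime_iff_aeval_ne_zero_of_isAlgClosed k k F G]
  intro a
  by_contra hcon
  push Not at hcon
  obtain ⟨s, hs, hsa⟩ := h a
  obtain ⟨α, β, rfl⟩ := Submodule.mem_span_pair.mp hs
  apply hsa
  have h1 : F.eval a = 0 := by simpa using hcon.1
  have h2 : G.eval a = 0 := by simpa using hcon.2
  simp [eval_add, eval_smul, h1, h2]

/-! ### Existence of a nonzero solution (dimension count) -/

lemma mem_degreeLT_succ {n : ℕ} {f : k[X]} : f ∈ degreeLT k (n + 1) ↔ f.natDegree ≤ n := by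
  rw [degreeLT_succ_eq_degreeLE, mem_degreeLE, natDegree_le_iff_degree_le]

lemma finrank_degreeLT (n : ℕ) : Module.finrank k (degreeLT k n) = n := by
  rw [(degreeLTEquiv k n).finrank_eq, Module.finrank_fin_fun]

instance finite_degreeLT (n : ℕ) : Module.Finite k (degreeLT k n) :=
  Module.Finite.equiv (degreeLTEquiv k n).symm

lemma exists_ker (A B Cc : k[X]) {a b c n0 n1 n2 D : ℕ} (hA : A.natDegree ≤ a)
    (hB : B.natDegree ≤ b) (hC : Cc.natDegree ≤ c) (h0 : a + n0 ≤ D) (h1 : b + n1 ≤ D)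
    (h2 : c + n2 ≤ D) (hdim : D + 1 < (n0 + 1) + ((n1 + 1) + (n2 + 1))) :
    ∃ g0 g1 g2 : k[X], g0.natDegree ≤ n0 ∧ g1.natDegree ≤ n1 ∧ g2.natDegree ≤ n2 ∧
      A * g0 + B * g1 = Cc * g2 ∧ ¬ (g0 = 0 ∧ g1 = 0 ∧ g2 = 0) := by
  let ψ : (degreeLT k (n0 + 1) × degreeLT k (n1 + 1) × degreeLT k (n2 + 1)) →ₗ[k] k[X] :=
    (LinearMap.mulLeft k A) ∘ₗ (degreeLT k (n0 + 1)).subtype ∘ₗ
        (LinearMap.fst k (degreeLT k (n0 + 1)) (degreeLT k (n1 + 1) × degreeLT k (n2 + 1))) +
    (LinearMap.mulLeft k B) ∘ₗ (degreeLT k (n1 + 1)).subtype ∘ₗ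
        (LinearMap.fst k (degreeLT k (n1 + 1)) (degreeLT k (n2 + 1))) ∘ₗ
        (LinearMap.snd k (degreeLT k (n0 + 1)) (degreeLT k (n1 + 1) × degreeLT k (n2 + 1))) -
    (LinearMap.mulLeft k Cc) ∘ₗ (degreeLT k (n2 + 1)).subtype ∘ₗ
        (LinearMap.snd k (degreeLT k (n1 + 1)) (degreeLT k (n2 + 1))) ∘ₗ
        (LinearMap.snd k (degreeLT k (n0 + 1)) (degreeLT k (n1 + 1) × degreeLT k (n2 + 1)))
  have hψ : ∀ x : degreeLT k (n0 + 1) × degreeLT k (n1 + 1) × degreeLT k (n2 + 1),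
      ψ x = A * (x.1 : k[X]) + B * (x.2.1 : k[X]) - Cc * (x.2.2 : k[X]) := fun x => rfl
  have hmem : ∀ x, ψ x ∈ degreeLT k (D + 1) := by
    intro x
    rw [mem_degreeLT_succ, hψ]
    have e0 : (x.1 : k[X]).natDegree ≤ n0 := mem_degreeLT_succ.mp x.1.2
    have e1 : (x.2.1 : k[X]).natDegree ≤ n1 := mem_degreeLT_succ.mp x.2.1.2
    have e2 : (x.2.2 : k[X]).natDegree ≤ n2 := mem_degreeLT_succ.mp x.2.2.2
    refine (natDegree_sub_le _ _).trans (max_le ((natDegree_add_le _ _).trans (max_le ?_ ?_)) ?_)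
    · exact (natDegree_mul_le_of_le hA e0).trans h0
    · exact (natDegree_mul_le_of_le hB e1).trans h1
    · exact (natDegree_mul_le_of_le hC e2).trans h2
  have hker : LinearMap.ker (LinearMap.codRestrict (degreeLT k (D + 1)) ψ hmem) ≠ ⊥ := by
    apply LinearMap.ker_ne_bot_of_finrank_lt
    rw [Module.finrank_prod, Module.finrank_prod, finrank_degreeLT, finrank_degreeLT,
      finrank_degreeLT, finrank_degreeLT]
    exact hdim
  obtain ⟨x, hx, hx0⟩ := Submodule.exists_mem_ne_zero_of_ne_bot hker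
  rw [LinearMap.ker_codRestrict, LinearMap.mem_ker, hψ] at hx
  refine ⟨x.1, x.2.1, x.2.2, mem_degreeLT_succ.mp x.1.2, mem_degreeLT_succ.mp x.2.1.2,
    mem_degreeLT_succ.mp x.2.2.2, sub_eq_zero.mp hx, ?_⟩
  rintro ⟨z0, z1, z2⟩
  apply hx0
  refine Prod.ext (Subtype.ext z0) (Prod.ext (Subtype.ext z1) (Subtype.ext z2))

theorem exists_sol (hn : Num d e) (P : Fin 3 → k) :
    ∃ F G : k[X], Sol d P e F G ∧ (F ≠ 0 ∨ G ≠ 0) := by
  have hsum := hn.sum
  have l0 := hn.le 0
  have l1 := hn.le 1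
  have l2 := hn.le 2
  obtain ⟨g0, g1, g2, e0, e1, e2, heq, hnz⟩ :=
    exists_ker ((X - C (P 0)) ^ e 0) ((X - C (P 1)) ^ e 1) ((X - C (P 2)) ^ e 2)
      (a := e 0) (b := e 1) (c := e 2) (n0 := d - e 0) (n1 := d - e 1) (n2 := d - e 2) (D := d)
      (natDegree_lin_pow _ _).le (natDegree_lin_pow _ _).le (natDegree_lin_pow _ _).le
      (by omega) (by omega) (by omega) (by omega)
  refine ⟨(X - C (P 0)) ^ e 0 * g0, (X - C (P 1)) ^ e 1 * g1, ⟨?_, ?_, Dvd.intro _ rfl,
    Dvd.intro _ rfl, ?_⟩, ?_⟩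
  · exact (natDegree_mul_le_of_le (natDegree_lin_pow _ _).le e0).trans (by omega)
  · exact (natDegree_mul_le_of_le (natDegree_lin_pow _ _).le e1).trans (by omega)
  · rw [heq]; exact Dvd.intro _ rfl
  · by_contra h
    push Not at h
    obtain ⟨hF, hG⟩ := h
    have z0 : g0 = 0 := (mul_eq_zero.mp hF).resolve_left (lin_pow_ne_zero _ _)
    have z1 : g1 = 0 := (mul_eq_zero.mp hG).resolve_left (lin_pow_ne_zero _ _)
    have z2 : g2 = 0 := by
      rw [hF, hG, add_zero] at heq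
      exact (mul_eq_zero.mp heq.symm).resolve_left (lin_pow_ne_zero _ _)
    exact hnz ⟨z0, z1, z2⟩


/-! ### A separable solution is a ramified map -/

theorem mem_ramMaps_of_sol (hP : Function.Injective P) (hn : Num d e) {F G : k[X]}
    (hs : Sol d P e F G) (hne : F ≠ 0 ∨ G ≠ 0)
    (hsep : W4c1limliniiii.IsSeparable (Submodule.span k ({F, G} : Set k[X]))) :
    Submodule.span k ({F, G} : Set k[X]) ∈ W4c1limliniiii.ramMaps d P e := by
  have h01 : P 0 ≠ P 1 := hP.ne (by decide)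
  have h02 : P 0 ≠ P 2 := hP.ne (by decide)
  have h12 : P 1 ≠ P 2 := hP.ne (by decide)
  have hsum := hn.sum
  have l0 := hn.le 0
  have l1 := hn.le 1
  have l2 := hn.le 2
  have t0 := hn.two 0
  have t1 := hn.two 1
  have t2 := hn.two 2
  have hd1 : 1 ≤ d := by omega
  obtain ⟨hF0, hG0, hH0⟩ := sol_ne hP hn hs hne
  have hFV : F ∈ Submodule.span k ({F, G} : Set k[X]) := Submodule.subset_span (by simp)
  have hGV : G ∈ Submodule.span k ({F, G} : Set k[X]) := Submodule.subset_span (by simp)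
  have hW : wronskian F G ≠ 0 := by
    obtain ⟨F', hF', G', hG', hne'⟩ := hsep
    obtain ⟨a, b, rfl⟩ := Submodule.mem_span_pair.mp hF'
    obtain ⟨c, e', rfl⟩ := Submodule.mem_span_pair.mp hG'
    intro h0
    apply hne'
    rw [wronskian_comb, h0, mul_zero]
  have dA : (X - C (P 0)) ^ (e 0 - 1) ∣ wronskian F G := by
    have h := pow_dvd_wronskian_right G F (P 0) (e 0) hs.dvdF
    rw [← wronskian_neg_eq F G] at h
    exact (dvd_neg).mp h
  have dB : (X - C (P 1)) ^ (e 1 - 1) ∣ wronskian F G :=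
    pow_dvd_wronskian_right F G (P 1) (e 1) hs.dvdG
  have hWH : wronskian F (F + G) = wronskian F G := by
    rw [wronskian_add_right, wronskian_self_eq_zero, zero_add]
  have dC : (X - C (P 2)) ^ (e 2 - 1) ∣ wronskian F G := by
    rw [← hWH]
    exact pow_dvd_wronskian_right F (F + G) (P 2) (e 2) hs.dvdH
  have hdegW : (wronskian F G).natDegree ≤ 2 * d - 2 :=
    natDegree_wronskian_le hs.degF hs.degG hd1
  have hlow : 2 * d - 2 ≤ (wronskian F G).natDegree := by
    have := three_dvd h01 h02 h12 hW dA dB dC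
    omega
  have key0 : ¬ (X - C (P 0)) ^ e 0 ∣ wronskian F G := fun h => by
    have := three_dvd h01 h02 h12 hW h dB dC
    omega
  have key1 : ¬ (X - C (P 1)) ^ e 1 ∣ wronskian F G := fun h => by
    have := three_dvd h01 h02 h12 hW dA h dC
    omega
  have key2 : ¬ (X - C (P 2)) ^ e 2 ∣ wronskian F G := fun h => by
    have := three_dvd h01 h02 h12 hW dA dB h
    omega
  have key : ∀ i, ¬ (X - C (P i)) ^ e i ∣ wronskian F G := by
    intro i
    fin_cases i
    · exact key0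
    · exact key1
    · exact key2
  -- the Wronskian is a constant multiple of the expected product
  obtain ⟨q, hq⟩ := three_mul_dvd h01 h02 h12 dA dB dC
  have hq0 : q ≠ 0 := by
    rintro rfl
    exact hW (by rw [hq, mul_zero])
  have hqdeg : q.natDegree = 0 := by
    have h := congrArg natDegree hq
    rw [natDegree_mul (three_ne_zero _ _ _ _ _ _) hq0, natDegree_three] at h
    omega
  have hqC : q = C (q.coeff 0) := eq_C_of_natDegree_eq_zero hqdeg
  have hc : q.coeff 0 ≠ 0 := by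
    intro h
    apply hq0
    rw [hqC, h, C_0]
  have hroots : ∀ a : k, (wronskian F G).eval a = 0 → a = P 0 ∨ a = P 1 ∨ a = P 2 := by
    intro a ha
    rw [hq, hqC] at ha
    simp only [eval_mul, eval_pow, eval_sub, eval_X, eval_C, mul_eq_zero] at ha
    rcases ha with ((h | h) | h) | h
    · exact Or.inl (sub_eq_zero.mp (eq_zero_of_pow_eq_zero h))
    · exact Or.inr (Or.inl (sub_eq_zero.mp (eq_zero_of_pow_eq_zero h)))
    · exact Or.inr (Or.inr (sub_eq_zero.mp (eq_zero_of_pow_eq_zero h)))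
    · exact absurd h hc
  -- wronskian of a member with F or G
  have hmember : ∀ s ∈ Submodule.span k ({F, G} : Set k[X]), s ≠ 0 →
      ∀ (a : k) (m : ℕ), (X - C a) ^ (m + 1) ∣ s → (X - C a) ^ m ∣ wronskian F G := by
    intro s hs' hs0 a m hdv
    obtain ⟨α, β, rfl⟩ := Submodule.mem_span_pair.mp hs'
    by_cases hα : α = 0
    · have hβ : β ≠ 0 := by
        rintro rfl
        apply hs0
        rw [hα, zero_smul, zero_smul, add_zero]
      have h := pow_dvd_wronskian_right F (α • F + β • G) a (m + 1) hdv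
      have hw : wronskian F (α • F + β • G) = C β * wronskian F G := by
        have := wronskian_comb F G 1 0 α β
        simpa using this
      rw [hw, Nat.add_sub_cancel] at h
      exact (IsUnit.dvd_mul_left (isUnit_C.mpr (isUnit_iff_ne_zero.mpr hβ))).mp h
    · have h := pow_dvd_wronskian_right G (α • F + β • G) a (m + 1) hdv
      have hw : wronskian G (α • F + β • G) = C (-α) * wronskian F G := by
        have := wronskian_comb F G 0 1 α β
        simpa using this
      rw [hw, Nat.add_sub_cancel] at h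
      exact (IsUnit.dvd_mul_left (isUnit_C.mpr (isUnit_iff_ne_zero.mpr
        (neg_ne_zero.mpr hα)))).mp h
  refine ⟨⟨span_le_degreeLE hs, sol_finrank hP hn hs hne, ?_, ?_⟩, hsep, ?_⟩
  · -- a member of degree exactly d
    by_contra hno
    push Not at hno
    have hFd : F.natDegree < d := lt_of_le_of_ne hs.degF (hno F hFV)
    have hGd : G.natDegree < d := lt_of_le_of_ne hs.degG (hno G hGV)
    have := natDegree_wronskian_lt_add hW
    omega
  · -- base point freeness
    intro a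
    by_contra hno
    push Not at hno
    have hFa : F.eval a = 0 := hno F hFV
    have hGa : G.eval a = 0 := hno G hGV
    have hWa : (wronskian F G).eval a = 0 := by
      simp [wronskian, hFa, hGa]
    rcases hroots a hWa with rfl | rfl | rfl
    · -- a = P 0
      have h := pow_dvd_wronskian_of_root G F (P 0) (e 0) hs.dvdF hGa
      rw [← wronskian_neg_eq F G] at h
      exact key0 ((dvd_neg).mp h)
    · exact key1 (pow_dvd_wronskian_of_root F G (P 1) (e 1) hs.dvdG hFa)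
    · have h := pow_dvd_wronskian_of_root F (F + G) (P 2) (e 2) hs.dvdH hFa
      rw [hWH] at h
      exact key2 h
  · -- exact ramification indices
    intro i
    refine ⟨sections_of_sol hP hn hs hne i, ?_⟩
    intro s hs' hs0
    by_contra hlt
    push Not at hlt
    have hdv : (X - C (P i)) ^ (e i + 1) ∣ s := (le_rootMultiplicity_iff hs0).mp hlt
    exact key i (hmember s hs' hs0 (P i) (e i) hdv)

/-! ### The solution space as a submodule -/

/-- The space of solutions `(F, G)`. -/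
noncomputable def solSpace (d : ℕ) (P : Fin 3 → k) (e : Fin 3 → ℕ) : Submodule k (k[X] × k[X]) :=
  (degreeLE k d).comap (LinearMap.fst k k[X] k[X]) ⊓
  (degreeLE k d).comap (LinearMap.snd k k[X] k[X]) ⊓
  ((Ideal.span {(X - C (P 0)) ^ e 0} : Ideal k[X]).restrictScalars k).comap
    (LinearMap.fst k k[X] k[X]) ⊓
  ((Ideal.span {(X - C (P 1)) ^ e 1} : Ideal k[X]).restrictScalars k).comap
    (LinearMap.snd k k[X] k[X]) ⊓
  ((Ideal.span {(X - C (P 2)) ^ e 2} : Ideal k[X]).restrictScalars k).comap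
    (LinearMap.fst k k[X] k[X] + LinearMap.snd k k[X] k[X])

lemma mem_solSpace {v : k[X] × k[X]} : v ∈ solSpace d P e ↔ Sol d P e v.1 v.2 := by
  simp only [solSpace, Submodule.mem_inf, Submodule.mem_comap, LinearMap.fst_apply,
    LinearMap.snd_apply, LinearMap.add_apply, Submodule.restrictScalars_mem,
    Ideal.mem_span_singleton, mem_degreeLE, ← natDegree_le_iff_degree_le]
  constructor
  · rintro ⟨⟨⟨⟨h1, h2⟩, h3⟩, h4⟩, h5⟩
    exact ⟨h1, h2, h3, h4, h5⟩
  · rintro ⟨h1, h2, h3, h4, h5⟩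
    exact ⟨⟨⟨⟨h1, h2⟩, h3⟩, h4⟩, h5⟩

end Groth.Agent.Lib.helper6.Pencil
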