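import Mathlib
import Groth.Agent.Lib.Helper6.PfLines3

/-!
# Lines on cubic surfaces: Galois descent of a double line, lines avoiding finitely many lines
(helper6)
-/

set_option autoImplicit false

namespace Groth.Agent.Lib.Helper6.PfLines

open MvPolynomial
open Groth.Agent.S16352
open Groth.Agent.Lib.Helper6.TPoint
open Groth.Agent.Lib.Helper6.FivePts (dot dot_add dot_smul dot_single ann3 dotL' bc bc_eval
  bc_ne_zero)
open Groth.Agent.S10897 (lin eval_lin lin_homog dvd_of_vanish lin_ne_zero lin_irreducible)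
open Groth.Agent.S12424 (eval_smul_of_homog)

universe u v

section single

variable {K : Type u} [Field K]

theorem dd_zero_of_sing (G : MvPolynomial (Fin 4) K) (p x : Fin 4 → K)
    (hs : ∀ i, eval p (pderiv i G) = 0) : dd G p x = 0 := by
  unfold dd
  apply Finset.sum_eq_zero
  intro i _
  rw [hs, zero_mul]

theorem eval_zero_of_sing [CharZero K] (G : MvPolynomial (Fin 4) K) (hG : G.IsHomogeneous 3)
    (p : Fin 4 → K) (hs : ∀ i, eval p (pderiv i G) = 0) : eval p G = 0 := by
  have h := dd_self G hG p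
  rw [dd_zero_of_sing G p p hs] at h
  rcases mul_eq_zero.mp h.symm with h3 | h3
  · norm_num at h3
  · exact h3

/-- a line of singular points of an irreducible cubic surface contains all singular points -/
theorem sing_mem_double [CharZero K] (G : MvPolynomial (Fin 4) K) (hG : G.IsHomogeneous 3)
    (hirr : Irreducible G) (D : Submodule K (Fin 4 → K)) (hD : Module.finrank K D = 2)
    (hDs : ∀ p ∈ D, ∀ i, eval p (pderiv i G) = 0) (p : Fin 4 → K)
    (hp : ∀ i, eval p (pderiv i G) = 0) : p ∈ D := by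
  by_contra hpD
  obtain ⟨d₁, hd₁, d₂, hd₂, hli, hDspan⟩ := exists_basis_pair hD
  have hpD' : p ∉ Submodule.span K ({d₁, d₂} : Set (Fin 4 → K)) := by
    rw [← hDspan]; exact hpD
  have hli3 := li3_of_not_mem hli hpD'
  obtain ⟨x, hx, hGx⟩ := exists_nonzero_on_plane G hG hirr
    (Submodule.span K (Set.range ![d₁, d₂, p]))
    (by rw [finrank_span_eq_card hli3, Fintype.card_fin])
  apply hGx
  rw [Submodule.mem_span_range_iff_exists_fun] at hx
  obtain ⟨g, rfl⟩ := hx
  have hvec : ∑ i, g i • ![d₁, d₂, p] i = (g 0 • d₁ + g 1 • d₂) + g 2 • p := by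
    simp [Fin.sum_univ_three]
  rw [hvec]
  have hd : g 0 • d₁ + g 1 • d₂ ∈ D := D.add_mem (D.smul_mem _ hd₁) (D.smul_mem _ hd₂)
  rw [taylor3 G hG, eval_zero_of_sing G hG _ (hDs _ hd), dd_zero_of_sing G _ _ (hDs _ hd),
    dd_zero_of_sing G _ _ hp, eval_zero_of_sing G hG _ hp]
  ring

theorem exists_plane2 : ∃ U₀ : Submodule K (Fin 4 → K), Module.finrank K U₀ = 2 := by
  have hli : LinearIndependent K ![(Pi.single 0 1 : Fin 4 → K), Pi.single 1 1] := by
    rw [LinearIndependent.pair_iff]
    intro s t hst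
    have h0 := congrFun hst 0
    have h1 := congrFun hst 1
    simp at h0 h1
    exact ⟨h0, h1⟩
  exact ⟨_, finrank_span_pair hli⟩

end single

section density

variable {k : Type u} [Field k] [Infinite k] {K : Type v} [Field K] [Algebra k K]

/-- the rational points are dense -/
theorem exists_rational_nonroot (Q : MvPolynomial (Fin 4) K) (hQ : Q ≠ 0) :
    ∃ w : Fin 4 → k, eval (bc w : Fin 4 → K) Q ≠ 0 := by
  by_contra hcon
  push Not at hcon
  apply hQ
  apply MvPolynomial.funext_set (fun _ => Set.range (algebraMap k K))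
    (fun _ => Set.infinite_range_of_injective (algebraMap k K).injective)
  intro x hx
  rw [map_zero]
  have h : ∀ i, ∃ y : k, algebraMap k K y = x i := fun i => hx i (Set.mem_univ i)
  choose w hw using h
  have hxw : x = bc w := by funext i; exact (hw i).symm
  rw [hxw]
  exact hcon w

/-- a line defined over `k` missing finitely many given lines over `K` -/
theorem avoid_finite (S : Set (Submodule K (Fin 4 → K))) (hS : S.Finite)
    (h2 : ∀ U ∈ S, Module.finrank K U = 2) (Q : MvPolynomial (Fin 4) K) (hQ : Q ≠ 0) :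
    ∃ o w : Fin 4 → k, eval (bc w : Fin 4 → K) Q ≠ 0 ∧
      ∀ θ : K, ∀ U ∈ S, (bc o + θ • bc w : Fin 4 → K) ∉ U := by
  classical
  have hA : ∀ U : Submodule K (Fin 4 → K), ∃ c : Fin 4 → K,
      U ∈ S → (c ≠ 0 ∧ ∀ x ∈ U, dot c x = 0) := by
    intro U
    by_cases hU : U ∈ S
    · obtain ⟨u₁, hu₁, u₂, hu₂, hli, hspan⟩ := exists_basis_pair (h2 U hU)
      obtain ⟨c, hc, h1, h2', -⟩ := ann3 u₁ u₂ u₂
      refine ⟨c, fun _ => ⟨hc, ?_⟩⟩
      intro x hx
      rw [hspan] at hx
      obtain ⟨α, β, rfl⟩ := Submodule.mem_span_pair.mp hx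
      rw [dot_add, dot_smul, dot_smul, h1, h2', mul_zero, mul_zero, add_zero]
    · exact ⟨0, fun h => absurd h hU⟩
  choose c hc using hA
  obtain ⟨o, ho⟩ := exists_rational_nonroot (k := k) (∏ U ∈ hS.toFinset, lin (c U)) (by
    rw [Finset.prod_ne_zero_iff]
    intro U hU
    exact lin_ne_zero _ (hc U (hS.mem_toFinset.mp hU)).1)
  rw [map_prod, Finset.prod_ne_zero_iff] at ho
  have hoU : ∀ U ∈ S, dot (c U) (bc o) ≠ 0 := by
    intro U hU
    have := ho U (hS.mem_toFinset.mpr hU)
    rw [eval_lin] at this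
    exact this
  have hB : ∀ U : Submodule K (Fin 4 → K), ∃ l : Fin 4 → K,
      U ∈ S → (l ≠ 0 ∧ (∀ x ∈ U, dot l x = 0) ∧ dot l (bc o) = 0) := by
    intro U
    by_cases hU : U ∈ S
    · obtain ⟨u₁, hu₁, u₂, hu₂, hli, hspan⟩ := exists_basis_pair (h2 U hU)
      obtain ⟨l, hl, h1, h2', h3⟩ := ann3 u₁ u₂ (bc o : Fin 4 → K)
      refine ⟨l, fun _ => ⟨hl, ?_, h3⟩⟩
      intro x hx
      rw [hspan] at hx
      obtain ⟨α, β, rfl⟩ := Submodule.mem_span_pair.mp hx
      rw [dot_add, dot_smul, dot_smul, h1, h2', mul_zero, mul_zero, add_zero]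
    · exact ⟨0, fun h => absurd h hU⟩
  choose l hl using hB
  obtain ⟨w, hw⟩ := exists_rational_nonroot (k := k) (Q * ∏ U ∈ hS.toFinset, lin (l U))
    (mul_ne_zero hQ (by
      rw [Finset.prod_ne_zero_iff]
      intro U hU
      exact lin_ne_zero _ (hl U (hS.mem_toFinset.mp hU)).1))
  rw [map_mul, map_prod] at hw
  have hw1 := left_ne_zero_of_mul hw
  have hw2 := right_ne_zero_of_mul hw
  rw [Finset.prod_ne_zero_iff] at hw2
  refine ⟨o, w, hw1, ?_⟩
  intro θ U hU hmem
  have hlU := hl U hU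
  have h0 := hlU.2.1 _ hmem
  rw [dot_add, dot_smul, hlU.2.2, zero_add] at h0
  have hwU : dot (l U) (bc w) ≠ 0 := by
    have := hw2 U (hS.mem_toFinset.mpr hU)
    rw [eval_lin] at this
    exact this
  rcases mul_eq_zero.mp h0 with hθ | h
  · rw [hθ, zero_smul, add_zero] at hmem
    exact hoU U hU ((hc U hU).2 _ hmem)
  · exact hwU h

end density

section descent

variable {k : Type u} [Field k] {K : Type v} [Field K] [Algebra k K]

theorem eval_galois (σ : K ≃ₐ[k] K) (P : MvPolynomial (Fin 4) k) (x : Fin 4 → K) :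
    eval (fun i => σ (x i)) (map (algebraMap k K) P) = σ (eval x (map (algebraMap k K) P)) := by
  rw [eval_map, eval_map]
  have h := MvPolynomial.eval₂_comp_left (σ : K →+* K) (algebraMap k K) x P
  have hc : ((σ : K →+* K)).comp (algebraMap k K) = algebraMap k K := by
    ext r
    simp
  rw [hc] at h
  exact h.symm

variable [CharZero k] [IsAlgClosure k K]

/-- a line of singular points contains a rational point -/
theorem exists_rational_singular (F : MvPolynomial (Fin 4) k) (hF : F.IsHomogeneous 3)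
    (hirr : Irreducible (map (algebraMap k K) F))
    (D : Submodule K (Fin 4 → K)) (hD : Module.finrank K D = 2)
    (hDs : ∀ p ∈ D, ∀ i, eval p (pderiv i (map (algebraMap k K) F)) = 0) :
    ∃ a : Fin 4 → k, a ≠ 0 ∧ ∀ i, eval a (pderiv i F) = 0 := by
  classical
  have hac : IsAlgClosed K := IsAlgClosure.isAlgClosed k
  have hc0 : CharZero K := charZero_of_injective_algebraMap (algebraMap k K).injective
  have hgal : IsGalois k K := IsAlgClosure.isGalois k K
  obtain ⟨G, hGdef⟩ : ∃ G, G = map (algebraMap k K) F := ⟨_, rfl⟩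
  have hG : G.IsHomogeneous 3 := by rw [hGdef]; exact hF.map _
  rw [← hGdef] at hirr hDs
  have hstab : ∀ σ : K ≃ₐ[k] K, ∀ p ∈ D, (fun i => σ (p i)) ∈ D := by
    intro σ p hp
    apply sing_mem_double G hG hirr D hD hDs
    intro i
    rw [hGdef, pderiv_map, eval_galois, ← pderiv_map, ← hGdef, hDs p hp i, map_zero]
  obtain ⟨d₁, hd₁, d₂, hd₂, hli, hDspan⟩ := exists_basis_pair hD
  have hd₁0 : d₁ ≠ 0 := by
    rintro rfl
    have := (LinearIndependent.pair_iff.mp hli) 1 0 (by simp)
    exact one_ne_zero this.1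
  obtain ⟨j, hj⟩ : ∃ j, d₁ j ≠ 0 := by
    by_contra h
    push Not at h
    exact hd₁0 (funext h)
  obtain ⟨w, hwdef⟩ : ∃ w, w = (d₁ j) • d₂ + (-(d₂ j)) • d₁ := ⟨_, rfl⟩
  have hwD : w ∈ D := by
    rw [hwdef]; exact D.add_mem (D.smul_mem _ hd₂) (D.smul_mem _ hd₁)
  have hwj : w j = 0 := by
    rw [hwdef]
    simp only [Pi.add_apply, Pi.smul_apply, smul_eq_mul]
    ring
  have hw0 : w ≠ 0 := by
    intro h0
    rw [hwdef] at h0
    have := (LinearIndependent.pair_iff.mp hli) (-(d₂ j)) (d₁ j) (by rw [add_comm]; exact h0)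
    exact hj this.2
  obtain ⟨i₀, hi₀⟩ : ∃ i, w i ≠ 0 := by
    by_contra h
    push Not at h
    exact hw0 (funext h)
  have hmult : ∀ x ∈ D, x j = 0 → ∃ c : K, x = c • w := by
    intro x hx hxj
    rw [hDspan] at hx
    obtain ⟨α, β, rfl⟩ := Submodule.mem_span_pair.mp hx
    simp only [Pi.add_apply, Pi.smul_apply, smul_eq_mul] at hxj
    refine ⟨β / d₁ j, ?_⟩
    have hα : α = (-(β * d₂ j)) / d₁ j := by
      rw [eq_div_iff hj]
      linear_combination hxj
    have h1 : β / d₁ j * d₁ j = β := div_mul_cancel₀ β hj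
    have h2 : β / d₁ j * -(d₂ j) = -(β * d₂ j) / d₁ j := by ring
    rw [hwdef, hα, smul_add, smul_smul, smul_smul, h1, h2, add_comm]
  obtain ⟨w', hw'def⟩ : ∃ w', w' = (w i₀)⁻¹ • w := ⟨_, rfl⟩
  have hw'D : w' ∈ D := by rw [hw'def]; exact D.smul_mem _ hwD
  have hw'j : w' j = 0 := by rw [hw'def, Pi.smul_apply, hwj, smul_zero]
  have hw'i : w' i₀ = 1 := by
    rw [hw'def, Pi.smul_apply, smul_eq_mul, inv_mul_cancel₀ hi₀]
  have hfix : ∀ σ : K ≃ₐ[k] K, ∀ l, σ (w' l) = w' l := by
    intro σ l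
    have hσD := hstab σ w' hw'D
    have hσj : (fun i => σ (w' i)) j = 0 := by
      show σ (w' j) = 0
      rw [hw'j, map_zero]
    obtain ⟨c, hc⟩ := hmult _ hσD hσj
    have hci := congrFun hc i₀
    simp only [Pi.smul_apply, smul_eq_mul] at hci
    rw [hw'i, map_one] at hci
    have hcl := congrFun hc l
    simp only [Pi.smul_apply, smul_eq_mul] at hcl
    rw [hcl, hw'def, Pi.smul_apply, smul_eq_mul]
    have : c = (w i₀)⁻¹ := eq_inv_of_mul_eq_one_left hci.symm
    rw [this]
  have hrat : ∀ l, ∃ y : k, algebraMap k K y = w' l := by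
    intro l
    exact (InfiniteGalois.mem_range_algebraMap_iff_fixed (w' l)).mpr (fun σ => hfix σ l)
  choose a ha using hrat
  have hbc : (bc a : Fin 4 → K) = w' := funext ha
  refine ⟨a, ?_, ?_⟩
  · intro h0
    have : w' i₀ = 0 := by rw [← ha i₀, h0, Pi.zero_apply, map_zero]
    rw [hw'i] at this
    exact one_ne_zero this
  · intro i
    have h1 : algebraMap k K (eval a (pderiv i F)) = 0 := by
      rw [← bc_eval, hbc, ← pderiv_map, ← hGdef]
      exact hDs w' hw'D i
    exact (map_eq_zero (algebraMap k K)).mp h1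

/-- either a rational singular point, or a rational line all of whose points lie on no line of the
surface -/
theorem exists_good_line (F : MvPolynomial (Fin 4) k) (hF : F.IsHomogeneous 3)
    (hirr : Irreducible (map (algebraMap k K) F))
    (hcone : ¬ ∃ v : Fin 4 → K, v ≠ 0 ∧
      ∑ i : Fin 4, v i • pderiv i (map (algebraMap k K) F) = 0) :
    (∃ a : Fin 4 → k, a ≠ 0 ∧ ∀ i, eval a (pderiv i F) = 0) ∨
    (∃ o w : Fin 4 → k, eval w F ≠ 0 ∧ ∀ θ : K, (bc o + θ • bc w : Fin 4 → K) ≠ 0 ∧
      ∀ U, IsLineOf (map (algebraMap k K) F) U → (bc o + θ • bc w : Fin 4 → K) ∉ U) := by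
  classical
  have hac : IsAlgClosed K := IsAlgClosure.isAlgClosed k
  have hc0 : CharZero K := charZero_of_injective_algebraMap (algebraMap k K).injective
  rcases lines_finite_or_double (map (algebraMap k K) F) (hF.map _) hirr hcone with
    ⟨D, hD, hDs⟩ | hfin
  · exact Or.inl (exists_rational_singular F hF hirr D hD hDs)
  · right
    obtain ⟨U₀, hU₀⟩ := exists_plane2 (K := K)
    obtain ⟨o, w, hw, hav⟩ := avoid_finite (k := k)
      (insert U₀ {U | IsLineOf (map (algebraMap k K) F) U}) (hfin.insert U₀)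
      (by
        intro U hU
        rcases hU with rfl | hU
        · exact hU₀
        · exact hU.1) (map (algebraMap k K) F) hirr.ne_zero
    refine ⟨o, w, ?_, ?_⟩
    · intro h0
      apply hw
      rw [bc_eval, h0, map_zero]
    · intro θ
      constructor
      · intro h0
        apply hav θ U₀ (Set.mem_insert _ _)
        rw [h0]
        exact U₀.zero_mem
      · intro U hU
        exact hav θ U (Set.mem_insert_of_mem _ hU)

end descent

end Groth.Agent.Lib.Helper6.PfLines
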