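import Mathlib
import Groth.Agent.Lib.Helper6.CubicSurf3
import Groth.Agent.S12424

/-!
# Pfaffian representation of a cubic surface through five rational points in general position (helper6)

The explicit `6 × 6` alternating matrix `pfMat` bordering the Buchsbaum–Eisenbud matrix of the five
points `e₀, …, e₃, (1,1,1,1)`, its determinant, and the fact that every cubic form through these five
points is a linear combination (with linear forms as coefficients) of the five `4 × 4` Pfaffians.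
-/

set_option autoImplicit false

namespace Groth.Agent.Lib.Helper6.PfRep

open MvPolynomial
open Groth.Agent.Lib.Helper6.CubicSurf (T3 T3_12 T3_23 six_eval expand3 E3 Lf subst Tmap eval_Lf
  Lf_homog subst_homog eval_subst)
open Groth.Agent.S12424 (eval_smul_of_homog)

section Det

variable {R : Type*} [CommRing R]

/-- the bordered Buchsbaum–Eisenbud matrix -/
def pfMat (x0 x1 x2 x3 l1 l2 l3 l4 l5 : R) : Matrix (Fin 6) (Fin 6) R :=
  !![0, x0, x2, 0, 0, l1;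
     -x0, 0, 0, x3, x3, l2;
     -x2, 0, 0, x1, x2, l3;
     0, -x3, -x1, 0, x3 - x1, l4;
     0, -x3, -x2, x1 - x3, 0, l5;
     -l1, -l2, -l3, -l4, -l5, 0]

/-- its Pfaffian -/
def pfOf (x0 x1 x2 x3 l1 l2 l3 l4 l5 : R) : R :=
  l1 * (x1 * x3 - x2 * x3) - l2 * (x2 * (x3 - x1)) + l3 * (x0 * (x3 - x1))
    - l4 * (x0 * x2 - x2 * x3) + l5 * (x0 * x1 - x2 * x3)

set_option maxHeartbeats 4000000 in
theorem det_pfMat (x0 x1 x2 x3 l1 l2 l3 l4 l5 : R) :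
    (pfMat x0 x1 x2 x3 l1 l2 l3 l4 l5).det = (pfOf x0 x1 x2 x3 l1 l2 l3 l4 l5) ^ 2 := by
  unfold pfMat pfOf
  simp [Matrix.det_succ_row_zero, Fin.sum_univ_succ, Fin.succAbove]
  ring

theorem pfMat_transpose (x0 x1 x2 x3 l1 l2 l3 l4 l5 : R) :
    (pfMat x0 x1 x2 x3 l1 l2 l3 l4 l5).transpose = -(pfMat x0 x1 x2 x3 l1 l2 l3 l4 l5) := by
  ext i j
  fin_cases i <;> fin_cases j <;> simp [pfMat]

theorem pfMat_diag (x0 x1 x2 x3 l1 l2 l3 l4 l5 : R) (i : Fin 6) :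
    pfMat x0 x1 x2 x3 l1 l2 l3 l4 l5 i i = 0 := by
  fin_cases i <;> rfl

theorem pfMat_ind (P : R → Prop) (x0 x1 x2 x3 l1 l2 l3 l4 l5 : R) (h0 : P 0)
    (hneg : ∀ a, P a → P (-a)) (hsub : ∀ a b, P a → P b → P (a - b))
    (hx0 : P x0) (hx1 : P x1) (hx2 : P x2) (hx3 : P x3)
    (hl1 : P l1) (hl2 : P l2) (hl3 : P l3) (hl4 : P l4) (hl5 : P l5) :
    ∀ i j, P (pfMat x0 x1 x2 x3 l1 l2 l3 l4 l5 i j) := by
  intro i j
  fin_cases i <;> fin_cases j <;>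
    first
    | exact h0 | exact hx0 | exact hx1 | exact hx2 | exact hx3
    | exact hl1 | exact hl2 | exact hl3 | exact hl4 | exact hl5
    | exact hneg _ hx0 | exact hneg _ hx1 | exact hneg _ hx2 | exact hneg _ hx3
    | exact hneg _ hl1 | exact hneg _ hl2 | exact hneg _ hl3 | exact hneg _ hl4 | exact hneg _ hl5
    | exact hsub _ _ hx3 hx1 | exact hsub _ _ hx1 hx3

end Det

section Structure

variable {k : Type*} [Field k]

/-- a linear form in four variables -/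
noncomputable def lf4 (a b c d : k) : MvPolynomial (Fin 4) k := C a * X 0 + C b * X 1 + C c * X 2 + C d * X 3

theorem lf4_homog (a b c d : k) : (lf4 a b c d).IsHomogeneous 1 := by
  unfold lf4
  exact (((isHomogeneous_C_mul_X a 0).add (isHomogeneous_C_mul_X b 1)).add
    (isHomogeneous_C_mul_X c 2)).add (isHomogeneous_C_mul_X d 3)

theorem eval_lf4 (a b c d : k) (x : Fin 4 → k) :
    eval x (lf4 a b c d) = a * x 0 + b * x 1 + c * x 2 + d * x 3 := by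
  unfold lf4
  simp only [map_add, map_mul, eval_C, eval_X]

/-- every cubic form through `e₀, …, e₃, (1,1,1,1)` is a combination of the five Pfaffians -/
theorem structure_lemma [CharZero k] (G : MvPolynomial (Fin 4) k) (hG : G.IsHomogeneous 3)
    (h0 : eval ![1, 0, 0, 0] G = 0) (h1 : eval ![0, 1, 0, 0] G = 0)
    (h2 : eval ![0, 0, 1, 0] G = 0) (h3 : eval ![0, 0, 0, 1] G = 0)
    (h4 : eval ![1, 1, 1, 1] G = 0) :
    ∃ l1 l2 l3 l4 l5 : MvPolynomial (Fin 4) k, l1.IsHomogeneous 1 ∧ l2.IsHomogeneous 1 ∧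
      l3.IsHomogeneous 1 ∧ l4.IsHomogeneous 1 ∧ l5.IsHomogeneous 1 ∧
      G = pfOf (X 0) (X 1) (X 2) (X 3) l1 l2 l3 l4 l5 := by
  have h12 := T3_12 G
  have h23 := T3_23 G
  have key : ∀ x : Fin 4 → k, 6 * eval x G = E3 (T3 G) (x 0) (x 1) (x 2) (x 3) := by
    intro x
    rw [six_eval G hG x, expand3 (T3 G) h12 h23]
  have e0 : 6 * eval ![1, 0, 0, 0] G = E3 (T3 G) 1 0 0 0 := key ![1, 0, 0, 0]
  have e1 : 6 * eval ![0, 1, 0, 0] G = E3 (T3 G) 0 1 0 0 := key ![0, 1, 0, 0]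
  have e2 : 6 * eval ![0, 0, 1, 0] G = E3 (T3 G) 0 0 1 0 := key ![0, 0, 1, 0]
  have e3 : 6 * eval ![0, 0, 0, 1] G = E3 (T3 G) 0 0 0 1 := key ![0, 0, 0, 1]
  have e4 : 6 * eval ![1, 1, 1, 1] G = E3 (T3 G) 1 1 1 1 := key ![1, 1, 1, 1]
  rw [h0, mul_zero] at e0
  rw [h1, mul_zero] at e1
  rw [h2, mul_zero] at e2
  rw [h3, mul_zero] at e3
  rw [h4, mul_zero] at e4
  have : Infinite k := Infinite.of_injective Nat.cast Nat.cast_injective
  obtain ⟨T, hT⟩ : ∃ T : Fin 4 → Fin 4 → Fin 4 → k, T = T3 G := ⟨_, rfl⟩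
  rw [← hT] at e0 e1 e2 e3 e4 key
  refine ⟨lf4 (T 0 1 3) (T 1 1 3 / 2) ((T 0 1 1 + T 1 1 2 + T 1 1 3) / 2 + T 1 2 3) (T 1 3 3 / 2),
    lf4 (T 0 1 2) (T 1 1 2 / 2) (T 1 2 2 / 2) 0,
    lf4 (T 0 0 3 / 2) 0
      (-((T 0 1 1 + T 1 1 2 + T 1 1 3) / 2 + T 1 2 3 + (T 0 2 2 + T 1 2 2 + T 2 2 3) / 2))
      (T 0 3 3 / 2),
    lf4 (-(T 0 0 2 / 2)) 0 (-(T 0 2 2 / 2)) ((T 0 3 3 + T 1 3 3 + T 2 3 3) / 2),
    lf4 ((T 0 0 1 + T 0 0 3) / 2) (T 0 1 1 / 2)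
      (-((T 0 1 1 + T 1 1 2 + T 1 1 3) / 2 + T 1 2 3 + (T 0 2 2 + T 1 2 2 + T 2 2 3) / 2))
      (T 0 3 3 / 2),
    lf4_homog _ _ _ _, lf4_homog _ _ _ _, lf4_homog _ _ _ _, lf4_homog _ _ _ _,
    lf4_homog _ _ _ _, ?_⟩
  apply MvPolynomial.funext
  intro x
  have hx := key x
  unfold pfOf
  simp only [map_add, map_sub, map_mul, eval_X, eval_lf4]
  unfold E3 at hx e0 e1 e2 e3 e4
  linear_combination (1 / 6) * hx - ((x 0 ^ 3 - x 0 * x 2 * x 3) / 6) * e0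
    - ((x 1 ^ 3 - x 0 * x 2 * x 3) / 6) * e1 - ((x 2 ^ 3 - x 0 * x 2 * x 3) / 6) * e2
    - ((x 3 ^ 3 - x 0 * x 2 * x 3) / 6) * e3 - (x 0 * x 2 * x 3 / 6) * e4

end Structure

end Groth.Agent.Lib.Helper6.PfRep
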