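import Mathlib
import Groth.Agent.Lib.Helper6.PfRep1

/-!
# Pfaffian representation of a cubic surface through five rational points in general position, II (helper6)

Change of coordinates moving five points in general position to `e₀, …, e₃, (1,1,1,1)` and the
resulting Pfaffian representation.
-/

set_option autoImplicit false

namespace Groth.Agent.Lib.Helper6.PfRep

open MvPolynomial
open Groth.Agent.Lib.Helper6.CubicSurf (T3 T3_12 T3_23 six_eval expand3 E3 Lf subst Tmap eval_Lf
  Lf_homog subst_homog eval_subst)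
open Groth.Agent.S12424 (eval_smul_of_homog)

variable {k : Type*} [Field k]

theorem subst_homog1 (e : Fin 4 → Fin 4 → k) (l : MvPolynomial (Fin 4) k) (hl : l.IsHomogeneous 1) :
    (subst e l).IsHomogeneous 1 := by
  have := hl.aeval (Lf e) (Lf_homog e)
  simpa [subst] using this

theorem subst_subst_of_inv [Infinite k] (e e' : Fin 4 → Fin 4 → k)
    (h : ∀ x, Tmap e (Tmap e' x) = x) (F : MvPolynomial (Fin 4) k) :
    subst e' (subst e F) = F := by
  apply MvPolynomial.funext
  intro x
  rw [eval_subst, eval_subst, h]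

theorem subst_X (e : Fin 4 → Fin 4 → k) (i : Fin 4) : subst e (X i) = Lf e i := by
  unfold subst
  rw [aeval_X]

theorem subst_pfOf (e : Fin 4 → Fin 4 → k) (l1 l2 l3 l4 l5 : MvPolynomial (Fin 4) k) :
    subst e (pfOf (X 0) (X 1) (X 2) (X 3) l1 l2 l3 l4 l5) =
      pfOf (Lf e 0) (Lf e 1) (Lf e 2) (Lf e 3) (subst e l1) (subst e l2) (subst e l3)
        (subst e l4) (subst e l5) := by
  unfold pfOf subst
  simp only [map_add, map_sub, map_mul, aeval_X]

theorem pfaffian_of_points [CharZero k] (F : MvPolynomial (Fin 4) k) (hF : F.IsHomogeneous 3)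
    (p : Fin 5 → (Fin 4 → k)) (hp : ∀ j, eval (p j) F = 0)
    (hli : ∀ j : Fin 5, LinearIndependent k (fun i : Fin 4 => p (j.succAbove i))) :
    ∃ M : Matrix (Fin 6) (Fin 6) (MvPolynomial (Fin 4) k), (∀ i j, (M i j).IsHomogeneous 1) ∧
      M.transpose = -M ∧ (∀ i, M i i = 0) ∧ M.det = F ^ 2 := by
  classical
  have hinf : Infinite k := Infinite.of_injective Nat.cast Nat.cast_injective
  obtain ⟨q, hq⟩ : ∃ q : Fin 4 → (Fin 4 → k), q = fun j => p j.succ := ⟨_, rfl⟩
  have hqa : ∀ j, q j = p j.succ := fun j => by rw [hq]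
  have hqS : ∀ j, eval (q j) F = 0 := fun j => by rw [hqa]; exact hp _
  have hqli : LinearIndependent k q := by
    have h := hli 0
    rw [Fin.succAbove_zero] at h
    rw [hq]
    exact h
  have hPu : IsUnit (Matrix.of q) :=
    (Matrix.linearIndependent_rows_iff_isUnit (A := Matrix.of q)).mp hqli
  have hPdet : IsUnit (Matrix.of q).det := (Matrix.isUnit_iff_isUnit_det _).mp hPu
  obtain ⟨α, hα⟩ : ∃ α : Fin 4 → k, Matrix.vecMul α (Matrix.of q) = p 0 := by
    refine ⟨Matrix.vecMul (p 0) (Matrix.of q)⁻¹, ?_⟩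
    rw [Matrix.vecMul_vecMul, Matrix.nonsing_inv_mul _ hPdet, Matrix.vecMul_one]
  have hα' : ∀ i, p 0 i = ∑ j, α j * q j i := by
    intro i
    rw [← hα]
    rfl
  have hαne : ∀ j, α j ≠ 0 := by
    intro j hj
    have h := hli j.succ
    rw [Fintype.linearIndependent_iff] at h
    have h1 := h (Fin.cons 1 (fun i => - α (j.succAbove i))) ?_ 0
    · rw [Fin.cons_zero] at h1
      exact one_ne_zero h1
    · funext i
      have e1 : ∑ j', α j' * q j' i
          = α j * q j i + ∑ l : Fin 3, α (j.succAbove l) * q (j.succAbove l) i :=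
        Fin.sum_univ_succAbove (fun j' => α j' * q j' i) j
      rw [Fin.sum_univ_succ]
      simp only [Fin.cons_zero, Fin.cons_succ, Fin.succ_succAbove_zero, Fin.succ_succAbove_succ,
        one_smul, Pi.add_apply, Finset.sum_apply, Pi.smul_apply, smul_eq_mul, Pi.zero_apply]
      rw [hα' i, e1, hj, zero_mul, zero_add, ← Finset.sum_add_distrib]
      apply Finset.sum_eq_zero
      intro l _
      rw [hqa]
      ring
  obtain ⟨e, he⟩ : ∃ e : Fin 4 → Fin 4 → k, e = fun j i => α j * q j i := ⟨_, rfl⟩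
  have hee : ∀ j i, e j i = α j * q j i := fun j i => by rw [he]
  have hEdet : IsUnit (Matrix.of e).det := by
    have : Matrix.of e = Matrix.diagonal α * Matrix.of q := by
      ext j i
      rw [Matrix.diagonal_mul, Matrix.of_apply, Matrix.of_apply, hee]
    rw [this, Matrix.det_mul, Matrix.det_diagonal]
    exact (IsUnit.mk0 _ (Finset.prod_ne_zero_iff.mpr fun j _ => hαne j)).mul hPdet
  obtain ⟨e', he'⟩ : ∃ e' : Fin 4 → Fin 4 → k, e' = fun l j => (Matrix.of e)⁻¹ l j := ⟨_, rfl⟩
  have hinv : ∀ x, Tmap e (Tmap e' x) = x := by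
    intro x
    have h1 : ∀ (f : Fin 4 → Fin 4 → k) (y : Fin 4 → k),
        Tmap f y = Matrix.vecMul y (Matrix.of f) := fun f y => rfl
    rw [h1, h1, Matrix.vecMul_vecMul]
    have : Matrix.of e' = (Matrix.of e)⁻¹ := by
      rw [he']
      rfl
    rw [this, Matrix.nonsing_inv_mul _ hEdet, Matrix.vecMul_one]
  have hG : (subst e F).IsHomogeneous 3 := subst_homog e F hF
  have hrow : ∀ j, eval (e j) F = 0 := by
    intro j
    have : e j = α j • q j := by
      funext i
      rw [hee]
      rfl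
    rw [this, eval_smul_of_homog hF, hqS, mul_zero]
  have hT0 : Tmap e ![1, 0, 0, 0] = e 0 := by
    funext i
    simp [Tmap, Fin.sum_univ_four]
  have hT1 : Tmap e ![0, 1, 0, 0] = e 1 := by
    funext i
    simp [Tmap, Fin.sum_univ_four]
  have hT2 : Tmap e ![0, 0, 1, 0] = e 2 := by
    funext i
    simp [Tmap, Fin.sum_univ_four]
  have hT3 : Tmap e ![0, 0, 0, 1] = e 3 := by
    funext i
    simp [Tmap, Fin.sum_univ_four]
  have hT4 : Tmap e ![1, 1, 1, 1] = p 0 := by
    funext i
    rw [hα' i]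
    simp [Tmap, Fin.sum_univ_four, hee]
  obtain ⟨l1, l2, l3, l4, l5, h1, h2, h3, h4, h5, hGeq⟩ := structure_lemma (subst e F) hG
    (by rw [eval_subst, hT0]; exact hrow 0) (by rw [eval_subst, hT1]; exact hrow 1)
    (by rw [eval_subst, hT2]; exact hrow 2) (by rw [eval_subst, hT3]; exact hrow 3)
    (by rw [eval_subst, hT4]; exact hp 0)
  refine ⟨pfMat (Lf e' 0) (Lf e' 1) (Lf e' 2) (Lf e' 3) (subst e' l1) (subst e' l2) (subst e' l3)
    (subst e' l4) (subst e' l5), ?_, pfMat_transpose _ _ _ _ _ _ _ _ _,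
    pfMat_diag _ _ _ _ _ _ _ _ _, ?_⟩
  · apply pfMat_ind (fun f : MvPolynomial (Fin 4) k => f.IsHomogeneous 1)
    · exact isHomogeneous_zero _ _ _
    · intro a ha
      exact ha.neg
    · intro a b ha hb
      exact ha.sub hb
    · exact Lf_homog e' 0
    · exact Lf_homog e' 1
    · exact Lf_homog e' 2
    · exact Lf_homog e' 3
    · exact subst_homog1 e' l1 h1
    · exact subst_homog1 e' l2 h2
    · exact subst_homog1 e' l3 h3
    · exact subst_homog1 e' l4 h4
    · exact subst_homog1 e' l5 h5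
  · rw [det_pfMat, ← subst_pfOf, ← hGeq, subst_subst_of_inv e e' hinv F]

end Groth.Agent.Lib.Helper6.PfRep
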