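import Mathlib
import Groth.Agent.Lib.Helper6.PfLines4
import Groth.Agent.Lib.Helper6.PfRep2

/-!
# Pfaffian representations over an extension of degree at most three (helper6)
-/

set_option autoImplicit false

namespace Groth.Agent.Lib.Helper6.PfLines

open MvPolynomial
open Groth.Agent.S16352
open Groth.Agent.Lib.Helper6.TPoint
open Groth.Agent.Lib.Helper6.FivePts (dot dot_add dot_smul dot_single ann3 dotL' bc bc_eval
  bc_ne_zero bc_dd)
open Groth.Agent.S10897 (lin eval_lin lin_homog dvd_of_vanish lin_ne_zero lin_irreducible)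
open Groth.Agent.S12424 (eval_smul_of_homog)

universe u v w

section cone

variable {k : Type u} [Field k] {E : Type v} [Field E] [Algebra k E]

/-- not being a cone is stable under base field extension -/
theorem cone_bc (F : MvPolynomial (Fin 4) k)
    (hcone : ¬ ∃ v : Fin 4 → k, v ≠ 0 ∧ ∑ i : Fin 4, v i • pderiv i F = 0) :
    ¬ ∃ v : Fin 4 → E, v ≠ 0 ∧ ∑ i : Fin 4, v i • pderiv i (map (algebraMap k E) F) = 0 := by
  rintro ⟨v, hv, hsum⟩
  apply hv
  funext i₀
  rw [Pi.zero_apply]
  by_contra hne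
  obtain ⟨φ, hφ⟩ : ∃ φ : Module.Dual k E, φ (v i₀) ≠ 0 := by
    by_contra h
    push Not at h
    exact hne ((Module.forall_dual_apply_eq_zero_iff k (v i₀)).mp h)
  apply hcone
  refine ⟨fun i => φ (v i), ?_, ?_⟩
  · intro h0
    exact hφ (congrFun h0 i₀)
  · show ∑ i : Fin 4, φ (v i) • pderiv i F = 0
    ext m
    have h1 := congrArg (coeff m) hsum
    rw [coeff_sum, MvPolynomial.coeff_zero] at h1
    have h2 : ∀ i, coeff m (v i • pderiv i (map (algebraMap k E) F))
        = (coeff m (pderiv i F)) • v i := by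
      intro i
      rw [coeff_smul, pderiv_map, coeff_map, smul_eq_mul, Algebra.smul_def, mul_comm]
    simp only [h2] at h1
    have h3 := congrArg φ h1
    rw [map_sum, map_zero] at h3
    rw [coeff_sum, MvPolynomial.coeff_zero, ← h3]
    refine Finset.sum_congr rfl fun i _ => ?_
    rw [coeff_smul, map_smul, smul_eq_mul, smul_eq_mul, mul_comm]

end cone

section nofactor

variable {K : Type u} [Field K]

theorem not_isUnit_of_homog1 (L : MvPolynomial (Fin 4) K) (hL : L.IsHomogeneous 1) :
    ¬ IsUnit L := by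
  intro hu
  have hne := hu.ne_zero
  obtain ⟨q, -, rfl⟩ := (MvPolynomial.isUnit_iff_eq_C_of_isReduced).mp hu
  have h0 : (C q : MvPolynomial (Fin 4) K).IsHomogeneous 0 := isHomogeneous_C _ q
  have := IsHomogeneous.inj_right hL h0 hne
  omega

theorem finrank_ker_ge (f : (Fin 4 → K) →ₗ[K] K) :
    3 ≤ Module.finrank K (LinearMap.ker f) := by
  have h := LinearMap.finrank_range_add_finrank_ker f
  rw [Module.finrank_fin_fun] at h
  have h1 : Module.finrank K (LinearMap.range f) ≤ 1 := by
    have := Submodule.finrank_le (LinearMap.range f)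
    rwa [Module.finrank_self] at this
  omega

theorem exists_line_in_inter (f₁ f₂ : (Fin 4 → K) →ₗ[K] K) (a : Fin 4 → K) (ha : a ≠ 0)
    (h1 : f₁ a = 0) (h2 : f₂ a = 0) :
    ∃ U : Submodule K (Fin 4 → K), Module.finrank K U = 2 ∧ a ∈ U ∧
      ∀ x ∈ U, f₁ x = 0 ∧ f₂ x = 0 := by
  obtain ⟨W, hW⟩ : ∃ W, W = LinearMap.ker f₁ ⊓ LinearMap.ker f₂ := ⟨_, rfl⟩
  have hdim := Submodule.finrank_sup_add_finrank_inf_eq (LinearMap.ker f₁) (LinearMap.ker f₂)
  have hle4 : Module.finrank K ↥(LinearMap.ker f₁ ⊔ LinearMap.ker f₂) ≤ 4 := by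
    have := Submodule.finrank_le (LinearMap.ker f₁ ⊔ LinearMap.ker f₂)
    rwa [Module.finrank_fin_fun] at this
  have hk1 := finrank_ker_ge f₁
  have hk2 := finrank_ker_ge f₂
  have hW2 : 2 ≤ Module.finrank K W := by
    rw [hW]
    omega
  have haW : a ∈ W := by
    rw [hW]
    exact Submodule.mem_inf.mpr ⟨LinearMap.mem_ker.mpr h1, LinearMap.mem_ker.mpr h2⟩
  have hle : Submodule.span K ({a} : Set (Fin 4 → K)) ≤ W := by
    rw [Submodule.span_le]
    rintro x rfl
    exact haW
  have hlt : Submodule.span K ({a} : Set (Fin 4 → K)) < W := by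
    apply Submodule.lt_of_le_of_finrank_lt_finrank hle
    rw [finrank_span_singleton ha]
    omega
  obtain ⟨z, hzW, hz⟩ := SetLike.exists_of_lt hlt
  have hli := li_pair_of_not_mem ha hz
  refine ⟨Submodule.span K ({a, z} : Set (Fin 4 → K)), finrank_span_pair hli,
    Submodule.subset_span (by simp), ?_⟩
  intro x hx
  have hxW := span_pair_le haW hzW hx
  rw [hW] at hxW
  obtain ⟨hx1, hx2⟩ := Submodule.mem_inf.mp hxW
  exact ⟨LinearMap.mem_ker.mp hx1, LinearMap.mem_ker.mp hx2⟩

/-- a point on no line of the surface (or a singular point) is not a T-point -/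
theorem no_factor_of_no_line [CharZero K] (G : MvPolynomial (Fin 4) K) (hG : G.IsHomogeneous 3)
    (hirr : Irreducible G) (a : Fin 4 → K) (ha : a ≠ 0) (hGa : eval a G = 0)
    (hno : (∀ i, eval a (pderiv i G) = 0) ∨ ∀ U, IsLineOf G U → a ∉ U) :
    ¬ ∃ L₁ L₂ L₃ : MvPolynomial (Fin 4) K, L₁.IsHomogeneous 1 ∧ L₂.IsHomogeneous 1 ∧
      L₃.IsHomogeneous 1 ∧
      G - L₁ * L₂ * L₃ ∈ Ideal.span {lin (fun i => eval a (pderiv i G))} := by
  rintro ⟨L₁, L₂, L₃, h₁, h₂, h₃, hmem⟩
  obtain ⟨Q, hQ⟩ := Ideal.mem_span_singleton'.mp hmem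
  have hGeq : G = L₁ * L₂ * L₃ + Q * lin (fun i => eval a (pderiv i G)) := by
    rw [hQ]; ring
  rcases hno with hs | hno
  · have hg0 : (fun i => eval a (pderiv i G)) = (0 : Fin 4 → K) := funext hs
    have hlin0 : lin (0 : Fin 4 → K) = 0 := by
      unfold lin
      simp
    rw [hg0, hlin0, mul_zero, add_zero] at hGeq
    rw [hGeq] at hirr
    rcases (irreducible_mul_iff.mp hirr) with ⟨-, hu⟩ | ⟨-, hu⟩
    · exact not_isUnit_of_homog1 L₃ h₃ hu
    · exact not_isUnit_of_homog1 L₁ h₁ (isUnit_of_mul_isUnit_left hu)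
  · have hlina : eval a (lin (fun i => eval a (pderiv i G))) = 0 := by
      have h := dd_self G hG a
      unfold dd at h
      rw [eval_lin]
      exact h.trans (by rw [hGa, mul_zero])
    have hevalG : ∀ x, eval x G = eval x L₁ * eval x L₂ * eval x L₃
        + eval x Q * eval x (lin (fun i => eval a (pderiv i G))) := by
      intro x
      have h := congrArg (eval x) hGeq
      rwa [map_add, map_mul, map_mul, map_mul] at h
    have hprod : eval a L₁ * eval a L₂ * eval a L₃ = 0 := by
      have h := hevalG a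
      rw [hlina, mul_zero, add_zero, hGa] at h
      exact h.symm
    have key : ∀ L : MvPolynomial (Fin 4) K, L.IsHomogeneous 1 → eval a L = 0 →
        (∀ x, eval x L = 0 → eval x (lin (fun i => eval a (pderiv i G))) = 0 → eval x G = 0) →
        False := by
      intro L hL hLa hvan
      obtain ⟨U, hU2, haU, hU⟩ := exists_line_in_inter (linFun L hL)
        (linFun _ (lin_homog (fun i => eval a (pderiv i G)))) a ha hLa hlina
      exact hno U ⟨hU2, fun x hx => hvan x (hU x hx).1 (hU x hx).2⟩ haU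
    rcases mul_eq_zero.mp hprod with h12 | h3
    · rcases mul_eq_zero.mp h12 with h1 | h2
      · exact key L₁ h₁ h1 (fun x hx hl => by rw [hevalG, hx, hl]; ring)
      · exact key L₂ h₂ h2 (fun x hx hl => by rw [hevalG, hx, hl]; ring)
    · exact key L₃ h₃ h3 (fun x hx hl => by rw [hevalG, hx, hl]; ring)

end nofactor

section consumer

variable {k : Type u} [Field k] [CharZero k] {E K : Type v} [Field E] [Field K] [Algebra k E]
  [Algebra k K] [IsAlgClosed K]

/-- the Pfaffian representation from a good point, for a tower `k → E → K` -/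
theorem pfaffian_of_good_point [Algebra E K] [IsScalarTower k E K]
    (F : MvPolynomial (Fin 4) k) (hF : F.IsHomogeneous 3)
    (hirr : Irreducible (map (algebraMap k K) F))
    (hcone : ¬ ∃ v : Fin 4 → k, v ≠ 0 ∧ ∑ i : Fin 4, v i • pderiv i F = 0)
    (a : Fin 4 → E) (ha : a ≠ 0) (hFa : eval a (map (algebraMap k E) F) = 0)
    (hgood : (∀ i, eval a (pderiv i (map (algebraMap k E) F)) = 0) ∨
      ∀ U, IsLineOf (map (algebraMap k K) F) U → (bc a : Fin 4 → K) ∉ U) :
    ∃ M : Matrix (Fin 6) (Fin 6) (MvPolynomial (Fin 4) E), (∀ i j, (M i j).IsHomogeneous 1) ∧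
      M.transpose = -M ∧ (∀ i, M i i = 0) ∧ M.det = (map (algebraMap k E) F) ^ 2 := by
  classical
  have hcE : CharZero E := charZero_of_injective_algebraMap (algebraMap k E).injective
  have hcK : CharZero K := charZero_of_injective_algebraMap (algebraMap k K).injective
  obtain ⟨FE, hFE⟩ : ∃ FE, FE = map (algebraMap k E) F := ⟨_, rfl⟩
  have hmm : map (algebraMap E K) FE = map (algebraMap k K) F := by
    rw [hFE, MvPolynomial.map_map, ← IsScalarTower.algebraMap_eq]
  have hFEh : FE.IsHomogeneous 3 := by rw [hFE]; exact hF.map _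
  rw [← hFE] at hFa hgood ⊢
  have hirr' : Irreducible (map (algebraMap E K) FE) := by rw [hmm]; exact hirr
  have hconeE : ¬ ∃ v : Fin 4 → E, v ≠ 0 ∧ ∑ i : Fin 4, v i • pderiv i FE = 0 := by
    rw [hFE]; exact cone_bc F hcone
  have hg : (fun i => algebraMap E K (eval a (pderiv i FE)))
      = fun i => eval (bc a : Fin 4 → K) (pderiv i (map (algebraMap E K) FE)) := by
    funext i
    rw [pderiv_map, bc_eval]
  have hT : ¬ ∃ L₁ L₂ L₃ : MvPolynomial (Fin 4) K, L₁.IsHomogeneous 1 ∧ L₂.IsHomogeneous 1 ∧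
      L₃.IsHomogeneous 1 ∧ map (algebraMap E K) FE - L₁ * L₂ * L₃ ∈
        Ideal.span {lin (fun i => algebraMap E K (eval a (pderiv i FE)))} := by
    rw [hg]
    apply no_factor_of_no_line _ (hFEh.map _) hirr' (bc a) (bc_ne_zero a ha)
      (by rw [bc_eval, hFa, map_zero])
    rcases hgood with hs | hno
    · left
      intro i
      rw [pderiv_map, bc_eval, hs i, map_zero]
    · right
      rw [hmm]
      exact hno
  obtain ⟨p₁, p₂, p₃, p₄, hS1, hS2, hS3, hS4, h1, h2, h3, h4, h5⟩ :=
    Groth.Agent.Lib.Helper6.FivePts.five_points (K := K) FE hFEh hirr' hconeE a ha hFa hT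
  exact Groth.Agent.Lib.Helper6.PfRep.pfaffian_of_points FE hFEh ![a, p₁, p₂, p₃, p₄]
    (by
      intro j
      fin_cases j
      exacts [hFa, hS1, hS2, hS3, hS4])
    (by
      intro j
      fin_cases j
      · convert h1 using 1
        funext i; fin_cases i <;> rfl
      · convert h2 using 1
        funext i; fin_cases i <;> rfl
      · convert h3 using 1
        funext i; fin_cases i <;> rfl
      · convert h4 using 1
        funext i; fin_cases i <;> rfl
      · convert h5 using 1
        funext i; fin_cases i <;> rfl)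

/-- the Pfaffian representation from a good point, for an algebraic extension `E` of `k` -/
theorem pfaffian_of_good_point' [Algebra.IsAlgebraic k E]
    (F : MvPolynomial (Fin 4) k) (hF : F.IsHomogeneous 3)
    (hirr : Irreducible (map (algebraMap k K) F))
    (hcone : ¬ ∃ v : Fin 4 → k, v ≠ 0 ∧ ∑ i : Fin 4, v i • pderiv i F = 0)
    (a : Fin 4 → E) (ha : a ≠ 0) (hFa : eval a (map (algebraMap k E) F) = 0)
    (hgood : (∀ i, eval a (pderiv i (map (algebraMap k E) F)) = 0) ∨
      ∀ φ : E →ₐ[k] K, ∀ U, IsLineOf (map (algebraMap k K) F) U → (fun i => φ (a i)) ∉ U) :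
    ∃ M : Matrix (Fin 6) (Fin 6) (MvPolynomial (Fin 4) E), (∀ i j, (M i j).IsHomogeneous 1) ∧
      M.transpose = -M ∧ (∀ i, M i i = 0) ∧ M.det = (map (algebraMap k E) F) ^ 2 := by
  obtain ⟨φ, -⟩ : ∃ φ : E →ₐ[k] K, True := ⟨IsAlgClosed.lift, trivial⟩
  let _ : Algebra E K := φ.toRingHom.toAlgebra
  have : IsScalarTower k E K := IsScalarTower.of_algebraMap_eq (fun x => (φ.commutes x).symm)
  exact pfaffian_of_good_point F hF hirr hcone a ha hFa
    (hgood.imp id (fun h => h φ))

end consumer

section cubic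

variable {k : Type u} [Field k]

/-- the cubic polynomial `F(o + t w)` -/
noncomputable def cubicP (F : MvPolynomial (Fin 4) k) (o w : Fin 4 → k) : Polynomial k :=
  Polynomial.C (eval w F) * Polynomial.X ^ 3 + Polynomial.C (dd F w o) * Polynomial.X ^ 2
    + Polynomial.C (dd F o w) * Polynomial.X + Polynomial.C (eval o F)

theorem eval_line_eq_aeval {K : Type v} [Field K] [Infinite K] [Algebra k K]
    (F : MvPolynomial (Fin 4) k) (hF : F.IsHomogeneous 3) (o w : Fin 4 → k) (θ : K) :
    eval (bc o + θ • bc w : Fin 4 → K) (map (algebraMap k K) F)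
      = Polynomial.aeval θ (cubicP F o w) := by
  rw [taylor3 _ (hF.map _), bc_eval, bc_eval, bc_dd, bc_dd]
  unfold cubicP
  simp only [map_add, map_mul, map_pow, Polynomial.aeval_C, Polynomial.aeval_X]
  ring

end cubic

section closures

variable {k : Type u} [Field k] {K₁ : Type v} {K₂ : Type w} [Field K₁] [Field K₂] [Algebra k K₁]
  [Algebra k K₂] [IsAlgClosure k K₁] [IsAlgClosure k K₂]

/-- geometric irreducibility does not depend on the choice of algebraic closure -/
theorem irreducible_map_of_isAlgClosure (F : MvPolynomial (Fin 4) k)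
    (h : Irreducible (map (algebraMap k K₁) F)) : Irreducible (map (algebraMap k K₂) F) := by
  obtain ⟨e, -⟩ : ∃ e : K₁ ≃ₐ[k] K₂, True := ⟨IsAlgClosure.equiv k K₁ K₂, trivial⟩
  have hmap : map (algebraMap k K₂) F
      = MvPolynomial.mapEquiv (Fin 4) (e : K₁ ≃+* K₂) (map (algebraMap k K₁) F) := by
    have hc : ((e : K₁ ≃+* K₂) : K₁ →+* K₂).comp (algebraMap k K₁) = algebraMap k K₂ :=
      RingHom.ext (fun r => e.commutes r)
    rw [MvPolynomial.mapEquiv_apply, MvPolynomial.map_map]
    exact congrArg (fun f : k →+* K₂ => map f F) hc.symm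
  rw [hmap]
  exact (MulEquiv.irreducible_iff (MvPolynomial.mapEquiv (Fin 4) (e : K₁ ≃+* K₂))).mpr h

end closures

section main

variable {k : Type u} [Field k] [CharZero k] {K R : Type v} [Field K] [Algebra k K]
  [IsAlgClosure k K] [Field R] [Algebra k R]

/-- the Pfaffian representation over an extension of degree at most three inside a field `R`
in which cubics over `k` have roots -/
theorem pfaffian_exists
    (hroot : ∀ a b c d : k, a ≠ 0 → ∃ t : R, algebraMap k R a * t ^ 3 + algebraMap k R b * t ^ 2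
      + algebraMap k R c * t + algebraMap k R d = 0)
    (F : MvPolynomial (Fin 4) k) (hF : F.IsHomogeneous 3)
    (hirr : Irreducible (map (algebraMap k K) F))
    (hcone : ¬ ∃ v : Fin 4 → k, v ≠ 0 ∧ ∑ i : Fin 4, v i • pderiv i F = 0) :
    ∃ E : IntermediateField k R, FiniteDimensional k ↥E ∧ Module.finrank k ↥E ≤ 3 ∧
      ∃ M : Matrix (Fin 6) (Fin 6) (MvPolynomial (Fin 4) ↥E), (∀ i j, (M i j).IsHomogeneous 1) ∧
        M.transpose = -M ∧ (∀ i, M i i = 0) ∧
        ∃ c : ↥E, c ≠ 0 ∧ M.det = C c * (map (algebraMap k ↥E) F) ^ 2 := by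
  classical
  have hac : IsAlgClosed K := IsAlgClosure.isAlgClosed k
  rcases exists_good_line (K := K) F hF hirr (cone_bc F hcone) with
    ⟨a, ha, hs⟩ | ⟨o, w, hw, hav⟩
  · have hfd : FiniteDimensional k ↥(⊥ : IntermediateField k R) := inferInstance
    have hal : Algebra.IsAlgebraic k ↥(⊥ : IntermediateField k R) :=
      Algebra.IsAlgebraic.of_finite k _
    obtain ⟨M, h1, h2, h3, h4⟩ := pfaffian_of_good_point'
      (E := ↥(⊥ : IntermediateField k R)) (K := K) F hF hirr hcone (bc a) (bc_ne_zero a ha)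
      (by rw [bc_eval, eval_zero_of_sing F hF a hs, map_zero])
      (Or.inl (fun i => by rw [pderiv_map, bc_eval, hs i, map_zero]))
    exact ⟨⊥, hfd, by rw [IntermediateField.finrank_bot]; norm_num, M, h1, h2, h3, 1,
      one_ne_zero, by rw [h4, map_one, one_mul]⟩
  · obtain ⟨θ, hθ'⟩ := hroot (eval w F) (dd F w o) (dd F o w) (eval o F) hw
    have hnat : (cubicP F o w).natDegree = 3 := by
      unfold cubicP
      exact Polynomial.natDegree_cubic hw
    have hP0 : cubicP F o w ≠ 0 := Polynomial.ne_zero_of_natDegree_gt (n := 0) (by omega)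
    have hθ : Polynomial.aeval θ (cubicP F o w) = 0 := by
      unfold cubicP
      simp only [map_add, map_mul, map_pow, Polynomial.aeval_C, Polynomial.aeval_X]
      exact hθ'
    have hint : IsIntegral k θ := IsAlgebraic.isIntegral ⟨cubicP F o w, hP0, hθ⟩
    have hfd : FiniteDimensional k ↥(IntermediateField.adjoin k {θ}) :=
      IntermediateField.adjoin.finiteDimensional hint
    have hal : Algebra.IsAlgebraic k ↥(IntermediateField.adjoin k {θ}) :=
      Algebra.IsAlgebraic.of_finite k _
    have hfr : Module.finrank k ↥(IntermediateField.adjoin k {θ}) ≤ 3 := by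
      rw [IntermediateField.adjoin.finrank hint]
      have hdvd := minpoly.dvd k θ hθ
      have := Polynomial.natDegree_le_of_dvd hdvd hP0
      rwa [hnat] at this
    have hinfE : Infinite ↥(IntermediateField.adjoin k {θ}) :=
      Infinite.of_injective (algebraMap k ↥(IntermediateField.adjoin k {θ}))
        (algebraMap k ↥(IntermediateField.adjoin k {θ})).injective
    obtain ⟨θE, hθE⟩ : ∃ θE : ↥(IntermediateField.adjoin k {θ}),
        θE = IntermediateField.AdjoinSimple.gen k θ := ⟨_, rfl⟩
    have hθE0 : Polynomial.aeval θE (cubicP F o w) = 0 := by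
      rw [← Polynomial.aeval_algebraMap_eq_zero_iff R, hθE,
        IntermediateField.AdjoinSimple.algebraMap_gen]
      exact hθ
    have hφa : ∀ φ : ↥(IntermediateField.adjoin k {θ}) →ₐ[k] K,
        (fun i => φ ((bc o + θE • bc w : Fin 4 → ↥(IntermediateField.adjoin k {θ})) i))
          = (bc o + φ θE • bc w : Fin 4 → K) := by
      intro φ
      funext i
      simp only [bc, Pi.add_apply, Pi.smul_apply, smul_eq_mul, map_add, map_mul,
        AlgHom.commutes]
    obtain ⟨M, h1, h2, h3, h4⟩ := pfaffian_of_good_point'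
      (E := ↥(IntermediateField.adjoin k {θ})) (K := K) F hF hirr hcone
      (bc o + θE • bc w)
      (by
        intro h0
        obtain ⟨φ, -⟩ : ∃ φ : ↥(IntermediateField.adjoin k {θ}) →ₐ[k] K, True :=
          ⟨IsAlgClosed.lift, trivial⟩
        apply (hav (φ θE)).1
        rw [← hφa φ, h0]
        funext i
        simp)
      (by rw [eval_line_eq_aeval F hF, hθE0])
      (Or.inr (fun φ U hU => by
        rw [hφa φ]
        exact (hav (φ θE)).2 U hU))
    exact ⟨IntermediateField.adjoin k {θ}, hfd, hfr, M, h1, h2, h3, 1, one_ne_zero,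
      by rw [h4, map_one, one_mul]⟩

end main

end Groth.Agent.Lib.Helper6.PfLines
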