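import Mathlib
import Groth.Prelude.Def_W4c3degenlocivbPfaff

/-!
# Sub-Pfaffians of a general alternating matrix of binary linear forms span (helper6)
-/

set_option autoImplicit false
set_option linter.unusedVariables false
set_option linter.unusedSectionVars false
set_option linter.unnecessarySeqFocus false
set_option linter.unusedSimpArgs false

namespace Groth.Agent.Lib.helper6.PfaffSpan

open MvPolynomial W4c3degenlocivb

noncomputable section

/-! ## General facts on `pf` -/

section General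

variable {R : Type*} [CommRing R]

lemma pf_zero (T : Matrix (Fin 0) (Fin 0) R) : pf 0 T = 1 := by
  rw [pf]

lemma pf_one (T : Matrix (Fin 1) (Fin 1) R) : pf 1 T = 0 := by
  rw [pf]

lemma pf_succ_succ (n : ℕ) (T : Matrix (Fin (n + 2)) (Fin (n + 2)) R) :
    pf (n + 2) T = ∑ j : Fin (n + 1),
      (-1) ^ ((j : ℕ) + 1) * T (Fin.last (n + 1)) (Fin.castSucc j) *
        pf n (T.submatrix (Fin.castSucc ∘ j.succAbove) (Fin.castSucc ∘ j.succAbove)) := by
  rw [pf]

lemma pf_map {S : Type*} [CommRing S] (f : R →+* S) :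
    ∀ (n : ℕ) (T : Matrix (Fin n) (Fin n) R), f (pf n T) = pf n (T.map f)
  | 0, T => by rw [pf_zero, pf_zero, map_one]
  | 1, T => by rw [pf_one, pf_one, map_zero]
  | n + 2, T => by
    rw [pf_succ_succ, pf_succ_succ, map_sum]
    refine Finset.sum_congr rfl (fun j _ => ?_)
    rw [map_mul, map_mul, map_pow, map_neg, map_one, pf_map f n]
    rfl

lemma pf_isHomogeneous {σ : Type*} {A : Type*} [CommRing A] :
    ∀ (n : ℕ) (T : Matrix (Fin n) (Fin n) (MvPolynomial σ A)),
      (∀ a b, (T a b).IsHomogeneous 1) → (pf n T).IsHomogeneous (n / 2)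
  | 0, T, _ => by
    rw [pf_zero]
    exact isHomogeneous_one σ A
  | 1, T, _ => by
    rw [pf_one]
    exact isHomogeneous_zero σ A _
  | n + 2, T, hT => by
    rw [pf_succ_succ]
    have hdeg : (n + 2) / 2 = 0 + 1 + n / 2 := by omega
    rw [hdeg]
    refine IsHomogeneous.sum _ _ _ (fun j _ => ?_)
    refine IsHomogeneous.mul (IsHomogeneous.mul ?_ (hT _ _))
      (pf_isHomogeneous n _ (fun a b => hT _ _))
    have h1 : ((-1 : MvPolynomial σ A) ^ ((j : ℕ) + 1)) = C ((-1 : A) ^ ((j : ℕ) + 1)) := by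
      rw [map_pow, map_neg, map_one]
    rw [h1]
    exact isHomogeneous_C σ _

/-! ## Tridiagonal alternating matrices -/

/-- the tridiagonal alternating matrix with superdiagonal `t 0, t 1, …` -/
def tri (n : ℕ) (t : ℕ → R) : Matrix (Fin n) (Fin n) R :=
  Matrix.of fun a b =>
    if (b : ℕ) = (a : ℕ) + 1 then t a else if (a : ℕ) = (b : ℕ) + 1 then - t b else 0

lemma tri_apply (n : ℕ) (t : ℕ → R) (a b : Fin n) :
    tri n t a b =
      if (b : ℕ) = (a : ℕ) + 1 then t a else if (a : ℕ) = (b : ℕ) + 1 then - t b else 0 := rfl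

lemma pf_tri_succ_succ (n : ℕ) (t : ℕ → R) :
    pf (n + 2) (tri (n + 2) t) = (-1) ^ n * t n * pf n (tri n t) := by
  rw [pf_succ_succ, Finset.sum_eq_single (Fin.last n)]
  · have h1 : tri (n + 2) t (Fin.last (n + 1)) (Fin.castSucc (Fin.last n)) = - t n := by
      rw [tri_apply]
      simp only [Fin.val_last, Fin.val_castSucc]
      rw [if_neg (by omega), if_pos trivial]
    have h2 : (tri (n + 2) t).submatrix (Fin.castSucc ∘ (Fin.last n).succAbove)
        (Fin.castSucc ∘ (Fin.last n).succAbove) = tri n t := by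
      refine Matrix.ext (fun a b => ?_)
      rw [Matrix.submatrix_apply, tri_apply, tri_apply]
      simp only [Function.comp_apply, Fin.succAbove_last, Fin.val_castSucc]
    rw [h1, h2, Fin.val_last]
    ring
  · intro j _ hj
    have hj' : (j : ℕ) ≠ n := fun h => hj (Fin.ext (by rw [Fin.val_last]; exact h))
    have hjlt : (j : ℕ) < n + 1 := j.isLt
    have h1 : tri (n + 2) t (Fin.last (n + 1)) (Fin.castSucc j) = 0 := by
      rw [tri_apply]
      simp only [Fin.val_last, Fin.val_castSucc]
      rw [if_neg (by omega), if_neg (by omega)]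
    rw [h1, mul_zero, zero_mul]
  · intro h
    exact absurd (Finset.mem_univ _) h

lemma pf_tri_even (r : ℕ) (t : ℕ → R) :
    pf (2 * r) (tri (2 * r) t) = ∏ a ∈ Finset.range r, t (2 * a) := by
  induction r with
  | zero =>
    rw [Finset.range_zero, Finset.prod_empty]
    exact pf_zero _
  | succ r ih =>
    have hs : ((-1 : R)) ^ (2 * r) = 1 := by rw [pow_mul, neg_one_sq, one_pow]
    have h : pf (2 * r + 2) (tri (2 * r + 2) t) = ∏ a ∈ Finset.range (r + 1), t (2 * a) := by
      rw [pf_tri_succ_succ, ih, Finset.prod_range_succ, hs, one_mul, mul_comm]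
    exact h

lemma succAbove_val {n : ℕ} (i : Fin (n + 1)) (a : Fin n) :
    ((i.succAbove a : Fin (n + 1)) : ℕ) =
      if (a : ℕ) < (i : ℕ) then (a : ℕ) else (a : ℕ) + 1 := by
  by_cases h : Fin.castSucc a < i
  · rw [Fin.succAbove_of_castSucc_lt i a h, Fin.val_castSucc]
    have h' : (a : ℕ) < (i : ℕ) := by
      have := Fin.lt_def.mp h
      rwa [Fin.val_castSucc] at this
    rw [if_pos h']
  · have h2 : i ≤ Fin.castSucc a := Fin.not_lt.mp h
    rw [Fin.succAbove_of_le_castSucc i a h2, Fin.val_succ]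
    have h' : ¬ (a : ℕ) < (i : ℕ) := by
      have := Fin.le_def.mp h2
      rw [Fin.val_castSucc] at this
      omega
    rw [if_neg h']

/-- shifted parameters after deleting index `i` -/
def tdel (t : ℕ → R) (i : ℕ) (a : ℕ) : R :=
  if a + 1 < i then t a else if a + 1 = i then 0 else t (a + 1)

lemma tri_submatrix_succAbove (n : ℕ) (t : ℕ → R) (i : Fin (n + 1)) :
    (tri (n + 1) t).submatrix i.succAbove i.succAbove = tri n (tdel t i) := by
  refine Matrix.ext (fun a b => ?_)
  rw [Matrix.submatrix_apply, tri_apply, tri_apply, succAbove_val, succAbove_val]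
  unfold tdel
  split_ifs <;> first | rfl | omega | simp

lemma prod_tdel_even (x y : R) (r j : ℕ) (hj : j ≤ r) (t : ℕ → R)
    (ht : ∀ a, t a = if a % 2 = 0 then x else y) :
    ∏ a ∈ Finset.range r, tdel t (2 * j) (2 * a) = x ^ j * y ^ (r - j) := by
  obtain ⟨m, rfl⟩ : ∃ m, r = j + m := ⟨r - j, by omega⟩
  rw [Finset.prod_range_add]
  have h1 : ∀ a ∈ Finset.range j, tdel t (2 * j) (2 * a) = x := by
    intro a ha
    rw [Finset.mem_range] at ha
    unfold tdel
    rw [if_pos (by omega), ht, if_pos (by omega)]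
  have h2 : ∀ a ∈ Finset.range m, tdel t (2 * j) (2 * (j + a)) = y := by
    intro a _
    unfold tdel
    rw [if_neg (by omega), if_neg (by omega), ht, if_neg (by omega)]
  rw [Finset.prod_congr rfl h1, Finset.prod_congr rfl h2, Finset.prod_const, Finset.prod_const,
    Finset.card_range, Finset.card_range, Nat.add_sub_cancel_left]

end General

/-! ## Matrices of binary linear forms -/

section Poly

variable {k : Type*} [Field k]

lemma fin2 : ∀ i : Fin 2, i = 0 ∨ i = 1 := by decide

/-- the matrix of linear forms with coefficient array `c` -/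
def NN (n : ℕ) (c : Fin n → Fin n → Fin 2 → k) :
    Matrix (Fin n) (Fin n) (MvPolynomial (Fin 2) k) :=
  Matrix.of fun a b => ∑ l : Fin 2, C (c a b l) * X l

lemma NN_isHomogeneous (n : ℕ) (c : Fin n → Fin n → Fin 2 → k) (a b : Fin n) :
    (NN n c a b).IsHomogeneous 1 := by
  show (∑ l : Fin 2, C (c a b l) * X l).IsHomogeneous 1
  refine IsHomogeneous.sum _ _ _ (fun l _ => ?_)
  have h := (isHomogeneous_C (Fin 2) (c a b l)).mul (isHomogeneous_X k l)
  rwa [zero_add] at h

/-- coefficient selecting `y_0` for even `a`, `y_1` for odd `a` -/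
def e0 (a : ℕ) (l : Fin 2) : k := if (l : ℕ) = a % 2 then 1 else 0

/-- the tridiagonal witness -/
def c0 (n : ℕ) : Fin n → Fin n → Fin 2 → k := fun a b l =>
  if (b : ℕ) = (a : ℕ) + 1 then e0 a l else if (a : ℕ) = (b : ℕ) + 1 then - e0 b l else 0

/-- `y_0` for even `a`, `y_1` for odd `a` -/
def yv (a : ℕ) : MvPolynomial (Fin 2) k := if a % 2 = 0 then X 0 else X 1

lemma sum_e0 (a : ℕ) : ∑ l : Fin 2, C (e0 (k := k) a l) * X l = yv a := by
  rw [Fin.sum_univ_two]
  unfold e0 yv
  rcases Nat.mod_two_eq_zero_or_one a with h | h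
  · rw [h]
    simp
  · rw [h]
    simp

lemma NN_c0 (n : ℕ) : NN n (c0 (k := k) n) = tri n yv := by
  refine Matrix.ext (fun a b => ?_)
  show ∑ l : Fin 2, C (c0 n a b l) * X l = tri n yv a b
  rw [tri_apply]
  unfold c0
  by_cases h1 : (b : ℕ) = (a : ℕ) + 1
  · simp only [if_pos h1]
    exact sum_e0 a
  · by_cases h2 : (a : ℕ) = (b : ℕ) + 1
    · simp only [if_neg h1, if_pos h2]
      rw [← sum_e0 (k := k) b, ← Finset.sum_neg_distrib]
      refine Finset.sum_congr rfl (fun l _ => ?_)
      rw [map_neg, neg_mul]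
    · simp only [if_neg h1, if_neg h2, map_zero, zero_mul, Finset.sum_const_zero]

lemma c0_antisymm (n : ℕ) (i j : Fin n) (l : Fin 2) :
    c0 (k := k) n j i l = - c0 n i j l := by
  unfold c0
  by_cases h1 : (j : ℕ) = (i : ℕ) + 1
  · have h2 : ¬ (i : ℕ) = (j : ℕ) + 1 := by omega
    simp only [if_neg h2, if_pos h1]
  · by_cases h2 : (i : ℕ) = (j : ℕ) + 1
    · simp only [if_pos h2, if_neg h1, neg_neg]
    · simp only [if_neg h2, if_neg h1, neg_zero]

/-- even indices -/
def idx (r : ℕ) (j : Fin (r + 1)) : Fin (2 * r + 1) :=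
  ⟨2 * (j : ℕ), by have := j.isLt; omega⟩

/-- the exponent of `y_0 ^ j * y_1 ^ (r - j)` -/
def mono (r : ℕ) (j : Fin (r + 1)) : Fin 2 →₀ ℕ :=
  Finsupp.single 0 (j : ℕ) + Finsupp.single 1 (r - (j : ℕ))

lemma mono_apply_zero (r : ℕ) (j : Fin (r + 1)) : mono r j 0 = (j : ℕ) := by
  simp [mono, Finsupp.single_apply]

lemma mono_apply_one (r : ℕ) (j : Fin (r + 1)) : mono r j 1 = r - (j : ℕ) := by
  simp [mono, Finsupp.single_apply]

lemma mono_injective (r : ℕ) : Function.Injective (mono r) := by
  intro i j h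
  have h0 := congrArg (fun d => d 0) h
  simp only [mono_apply_zero] at h0
  exact Fin.ext h0

lemma degree_mono (r : ℕ) (j : Fin (r + 1)) : (mono r j).degree = r := by
  rw [Finsupp.degree_eq_sum, Fin.sum_univ_two, mono_apply_zero, mono_apply_one]
  have := j.isLt
  omega

lemma monomial_mono (r : ℕ) (j : Fin (r + 1)) :
    monomial (mono r j) (1 : k) = X 0 ^ (j : ℕ) * X 1 ^ (r - (j : ℕ)) := by
  unfold mono
  rw [monomial_single_add, ← X_pow_eq_monomial]

lemma pf_c0_even (r : ℕ) (j : Fin (r + 1)) :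
    pf (2 * r) ((NN (2 * r + 1) (c0 (k := k) (2 * r + 1))).submatrix
      (idx r j).succAbove (idx r j).succAbove) = X 0 ^ (j : ℕ) * X 1 ^ (r - (j : ℕ)) := by
  rw [NN_c0, tri_submatrix_succAbove, pf_tri_even]
  have hidx : ((idx r j : Fin (2 * r + 1)) : ℕ) = 2 * (j : ℕ) := rfl
  rw [hidx]
  exact prod_tdel_even (X 0) (X 1) r j (by have := j.isLt; omega) yv (fun a => rfl)

/-! ## Binary forms of degree `r` -/

lemma eq_sum_of_isHomogeneous (r : ℕ) (p : MvPolynomial (Fin 2) k) (hp : p.IsHomogeneous r) :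
    p = ∑ j : Fin (r + 1), coeff (mono r j) p • monomial (mono r j) (1 : k) := by
  classical
  ext d
  rw [coeff_sum]
  simp only [coeff_smul, coeff_monomial, smul_eq_mul, mul_ite, mul_one, mul_zero]
  by_cases hd : d.degree = r
  · have hd' : d 0 + d 1 = r := by
      rw [Finsupp.degree_eq_sum, Fin.sum_univ_two] at hd
      exact hd
    have hlt : d 0 < r + 1 := by omega
    have hdm : mono r ⟨d 0, hlt⟩ = d := by
      refine Finsupp.ext (fun l => ?_)
      rcases fin2 l with rfl | rfl
      · rw [mono_apply_zero]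
      · rw [mono_apply_one]
        show r - d 0 = d 1
        omega
    rw [Finset.sum_eq_single (⟨d 0, hlt⟩ : Fin (r + 1))]
    · rw [if_pos hdm, hdm]
    · intro j _ hj
      rw [if_neg]
      intro h
      apply hj
      apply mono_injective r
      rw [h, hdm]
    · intro h
      exact absurd (Finset.mem_univ _) h
  · rw [hp.coeff_eq_zero hd]
    symm
    apply Finset.sum_eq_zero
    intro j _
    rw [if_neg]
    intro h
    apply hd
    rw [← h]
    exact degree_mono r j

/-! ## The generic matrix and the polynomial `Φ` -/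

/-- the generic matrix of linear forms -/
def GG (n : ℕ) :
    Matrix (Fin n) (Fin n) (MvPolynomial (Fin 2) (MvPolynomial (Fin n × Fin n × Fin 2) k)) :=
  Matrix.of fun a b => ∑ l : Fin 2, C (X (a, b, l)) * X l

/-- evaluation at a coefficient array -/
def evc (n : ℕ) (c : Fin n → Fin n → Fin 2 → k) :
    MvPolynomial (Fin n × Fin n × Fin 2) k →+* k :=
  eval (fun p => c p.1 p.2.1 p.2.2)

lemma GG_map (n : ℕ) (c : Fin n → Fin n → Fin 2 → k) :
    (GG n).map (MvPolynomial.map (evc n c)) = NN n c := by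
  refine Matrix.ext (fun a b => ?_)
  show MvPolynomial.map (evc n c) (∑ l : Fin 2, C (X (a, b, l)) * X l) =
    ∑ l : Fin 2, C (c a b l) * X l
  rw [map_sum]
  refine Finset.sum_congr rfl (fun l _ => ?_)
  rw [map_mul, MvPolynomial.map_C, MvPolynomial.map_X]
  unfold evc
  rw [eval_X]

/-- the generic coefficient matrix of the even sub-Pfaffians -/
def Mgen (r : ℕ) : Matrix (Fin (r + 1)) (Fin (r + 1))
    (MvPolynomial (Fin (2 * r + 1) × Fin (2 * r + 1) × Fin 2) k) :=
  Matrix.of fun i j => coeff (mono r j)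
    (pf (2 * r) ((GG (k := k) (2 * r + 1)).submatrix (idx r i).succAbove (idx r i).succAbove))

/-- the polynomial `Φ` -/
def Phi (r : ℕ) : MvPolynomial (Fin (2 * r + 1) × Fin (2 * r + 1) × Fin 2) k := (Mgen r).det

/-- the coefficient matrix of the even sub-Pfaffians at `c` -/
def Mc (r : ℕ) (c : Fin (2 * r + 1) → Fin (2 * r + 1) → Fin 2 → k) :
    Matrix (Fin (r + 1)) (Fin (r + 1)) k :=
  Matrix.of fun i j => coeff (mono r j)
    (pf (2 * r) ((NN (2 * r + 1) c).submatrix (idx r i).succAbove (idx r i).succAbove))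

lemma eval_Phi (r : ℕ) (c : Fin (2 * r + 1) → Fin (2 * r + 1) → Fin 2 → k) :
    evc (2 * r + 1) c (Phi r) = (Mc r c).det := by
  unfold Phi
  rw [RingHom.map_det]
  congr 1
  refine Matrix.ext (fun i j => ?_)
  rw [RingHom.mapMatrix_apply, Matrix.map_apply]
  show evc (2 * r + 1) c (coeff (mono r j) (pf (2 * r)
      ((GG (k := k) (2 * r + 1)).submatrix (idx r i).succAbove (idx r i).succAbove))) =
    coeff (mono r j) (pf (2 * r)
      ((NN (2 * r + 1) c).submatrix (idx r i).succAbove (idx r i).succAbove))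
  rw [← coeff_map (evc (2 * r + 1) c), pf_map (MvPolynomial.map (evc (2 * r + 1) c)),
    ← GG_map (2 * r + 1) c]
  rfl

lemma Mc_c0 (r : ℕ) : Mc r (c0 (k := k) (2 * r + 1)) = 1 := by
  classical
  refine Matrix.ext (fun i j => ?_)
  show coeff (mono r j) (pf (2 * r) ((NN (2 * r + 1) (c0 (k := k) (2 * r + 1))).submatrix
    (idx r i).succAbove (idx r i).succAbove)) = (1 : Matrix (Fin (r + 1)) (Fin (r + 1)) k) i j
  rw [pf_c0_even, Matrix.one_apply, ← monomial_mono, coeff_monomial]
  by_cases h : i = j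
  · rw [if_pos h, if_pos (by rw [h])]
  · rw [if_neg h, if_neg (fun h' => h (mono_injective r h'))]

lemma span_eq (r : ℕ) (c : Fin (2 * r + 1) → Fin (2 * r + 1) → Fin 2 → k)
    (hdet : (Mc r c).det ≠ 0) :
    Submodule.span k (Set.range fun i : Fin (2 * r + 1) =>
      pf (2 * r) ((NN (2 * r + 1) c).submatrix i.succAbove i.succAbove)) =
      homogeneousSubmodule (Fin 2) k r := by
  classical
  have hhom : ∀ i : Fin (2 * r + 1),
      (pf (2 * r) ((NN (2 * r + 1) c).submatrix i.succAbove i.succAbove)).IsHomogeneous r := by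
    intro i
    have h := pf_isHomogeneous (2 * r) ((NN (2 * r + 1) c).submatrix i.succAbove i.succAbove)
      (fun a b => NN_isHomogeneous _ c _ _)
    have h2 : 2 * r / 2 = r := by omega
    rwa [h2] at h
  apply le_antisymm
  · rw [Submodule.span_le]
    rintro _ ⟨i, rfl⟩
    exact hhom i
  · intro p hp
    have hp' : p.IsHomogeneous r := hp
    rw [eq_sum_of_isHomogeneous r p hp']
    refine Submodule.sum_mem _ (fun j _ => Submodule.smul_mem _ _ ?_)
    have hW : IsUnit (Mc r c).det := isUnit_iff_ne_zero.mpr hdet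
    have hinv : (Mc r c)⁻¹ * Mc r c = 1 := Matrix.nonsing_inv_mul _ hW
    have hP : ∀ i : Fin (r + 1),
        pf (2 * r) ((NN (2 * r + 1) c).submatrix (idx r i).succAbove (idx r i).succAbove) =
          ∑ l : Fin (r + 1), Mc r c i l • monomial (mono r l) (1 : k) := by
      intro i
      exact eq_sum_of_isHomogeneous r _ (hhom (idx r i))
    have key : ∀ l : Fin (r + 1),
        ∑ i : Fin (r + 1), ((Mc r c)⁻¹ j i * Mc r c i l) = if j = l then 1 else 0 := by
      intro l
      have h1 := congrFun (congrFun hinv j) l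
      rw [Matrix.mul_apply, Matrix.one_apply] at h1
      exact h1
    have hm : monomial (mono r j) (1 : k) = ∑ i : Fin (r + 1), (Mc r c)⁻¹ j i •
        pf (2 * r) ((NN (2 * r + 1) c).submatrix (idx r i).succAbove (idx r i).succAbove) := by
      calc monomial (mono r j) (1 : k)
          = ∑ l : Fin (r + 1), (if j = l then (1 : k) else 0) • monomial (mono r l) (1 : k) := by
            rw [Finset.sum_eq_single j]
            · rw [if_pos rfl, one_smul]
            · intro l _ hl
              rw [if_neg (Ne.symm hl), zero_smul]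
            · intro h
              exact absurd (Finset.mem_univ _) h
        _ = ∑ l : Fin (r + 1), (∑ i : Fin (r + 1), ((Mc r c)⁻¹ j i * Mc r c i l)) •
              monomial (mono r l) (1 : k) := by
            refine Finset.sum_congr rfl (fun l _ => ?_)
            rw [key]
        _ = ∑ l : Fin (r + 1), ∑ i : Fin (r + 1), ((Mc r c)⁻¹ j i * Mc r c i l) •
              monomial (mono r l) (1 : k) := by
            refine Finset.sum_congr rfl (fun l _ => ?_)
            rw [Finset.sum_smul]
        _ = ∑ i : Fin (r + 1), ∑ l : Fin (r + 1), ((Mc r c)⁻¹ j i * Mc r c i l) •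
              monomial (mono r l) (1 : k) := Finset.sum_comm
        _ = ∑ i : Fin (r + 1), (Mc r c)⁻¹ j i • pf (2 * r)
              ((NN (2 * r + 1) c).submatrix (idx r i).succAbove (idx r i).succAbove) := by
            refine Finset.sum_congr rfl (fun i _ => ?_)
            rw [hP i, Finset.smul_sum]
            refine Finset.sum_congr rfl (fun l _ => ?_)
            rw [smul_smul]
    rw [hm]
    exact Submodule.sum_mem _ (fun i _ => Submodule.smul_mem _ _
      (Submodule.subset_span ⟨idx r i, rfl⟩))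

/-- **Main theorem.** -/
theorem main (r : ℕ) :
    ∃ Φ : MvPolynomial (Fin (2 * r + 1) × Fin (2 * r + 1) × Fin 2) k,
      (∃ c : Fin (2 * r + 1) → Fin (2 * r + 1) → Fin 2 → k, (∀ i j l, c j i l = -c i j l) ∧
        MvPolynomial.eval (fun p => c p.1 p.2.1 p.2.2) Φ ≠ 0) ∧
      ∀ c : Fin (2 * r + 1) → Fin (2 * r + 1) → Fin 2 → k, (∀ i j l, c j i l = -c i j l) →
        MvPolynomial.eval (fun p => c p.1 p.2.1 p.2.2) Φ ≠ 0 →
        Submodule.span k (Set.range fun i : Fin (2 * r + 1) =>
            W4c3degenlocivb.pf (2 * r) ((Matrix.of fun a b => ∑ l : Fin 2,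
              MvPolynomial.C (c a b l) * MvPolynomial.X l).submatrix i.succAbove i.succAbove)) =
          MvPolynomial.homogeneousSubmodule (Fin 2) k r := by
  refine ⟨Phi r, ⟨c0 (2 * r + 1), c0_antisymm _, ?_⟩, fun c _ hc => ?_⟩
  · have h := eval_Phi (k := k) r (c0 (2 * r + 1))
    unfold evc at h
    rw [h, Mc_c0, Matrix.det_one]
    exact one_ne_zero
  · have h := eval_Phi r c
    unfold evc at h
    rw [h] at hc
    exact span_eq r c hc

end Poly

end

end Groth.Agent.Lib.helper6.PfaffSpan
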