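import Mathlib

/-!
# A quadric in the square of an ideal of colength `> 1` of `κ[x,y]` is a square (helper6)
-/

set_option autoImplicit false
set_option linter.unusedVariables false
set_option linter.unusedSectionVars false
set_option linter.unnecessarySeqFocus false

namespace Groth.Agent.Lib.helper6.QuadSq

open MvPolynomial

noncomputable section

variable {k : Type*} [Field k]

/-- the affine-linear form `γ + α x + β y` -/
def lin (γ α β : k) : MvPolynomial (Fin 2) k := C γ + C α * X 0 + C β * X 1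

/-- restriction to the line through `(x0, y0)` with direction `(β, -α)` -/
def theta (α β x0 y0 : k) : MvPolynomial (Fin 2) k →ₐ[k] Polynomial k :=
  aeval ![Polynomial.C x0 + Polynomial.C β * Polynomial.X,
    Polynomial.C y0 - Polynomial.C α * Polynomial.X]

/-- a coordinate function on the line -/
def uu (x0 y0 lam mu : k) : MvPolynomial (Fin 2) k :=
  C lam * (X 0 - C x0) + C mu * (X 1 - C y0)

/-- a section of `theta` -/
def iota (x0 y0 lam mu : k) : Polynomial k →ₐ[k] MvPolynomial (Fin 2) k :=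
  Polynomial.aeval (uu x0 y0 lam mu)

lemma fin2 : ∀ i : Fin 2, i = 0 ∨ i = 1 := by decide

lemma theta_X0 (α β x0 y0 : k) :
    theta α β x0 y0 (X 0) = Polynomial.C x0 + Polynomial.C β * Polynomial.X := by
  unfold theta
  rw [aeval_X]
  rfl

lemma theta_X1 (α β x0 y0 : k) :
    theta α β x0 y0 (X 1) = Polynomial.C y0 - Polynomial.C α * Polynomial.X := by
  unfold theta
  rw [aeval_X]
  rfl

lemma theta_C (α β x0 y0 c : k) : theta α β x0 y0 (C c) = Polynomial.C c := by
  unfold theta
  rw [aeval_C]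
  rfl

lemma iota_C (x0 y0 lam mu c : k) : iota x0 y0 lam mu (Polynomial.C c) = C c := by
  unfold iota
  rw [Polynomial.aeval_C]
  rfl

lemma iota_X (x0 y0 lam mu : k) : iota x0 y0 lam mu Polynomial.X = uu x0 y0 lam mu := by
  unfold iota
  rw [Polynomial.aeval_X]

lemma theta_uu (α β x0 y0 lam mu : k) (hdet : lam * β - mu * α = 1) :
    theta α β x0 y0 (uu x0 y0 lam mu) = Polynomial.X := by
  unfold uu
  simp only [map_add, map_mul, map_sub, theta_X0, theta_X1, theta_C]
  have h : (Polynomial.C lam * Polynomial.C β - Polynomial.C mu * Polynomial.C α :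
      Polynomial k) = 1 := by
    rw [← Polynomial.C_mul, ← Polynomial.C_mul, ← Polynomial.C_sub, hdet, Polynomial.C_1]
  linear_combination Polynomial.X * h

lemma theta_iota (α β x0 y0 lam mu : k) (hdet : lam * β - mu * α = 1) (s : Polynomial k) :
    theta α β x0 y0 (iota x0 y0 lam mu s) = s := by
  have h : (theta α β x0 y0).comp (iota x0 y0 lam mu) = AlgHom.id k (Polynomial k) := by
    apply Polynomial.algHom_ext
    rw [AlgHom.comp_apply, AlgHom.id_apply, iota_X]
    exact theta_uu α β x0 y0 lam mu hdet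
  exact AlgHom.congr_fun h s

lemma theta_surjective (α β x0 y0 lam mu : k) (hdet : lam * β - mu * α = 1) :
    Function.Surjective (theta α β x0 y0) :=
  fun s => ⟨iota x0 y0 lam mu s, theta_iota α β x0 y0 lam mu hdet s⟩

lemma sub_iota_theta_mem (α β γ x0 y0 lam mu : k) (hpt : α * x0 + β * y0 + γ = 0)
    (hdet : lam * β - mu * α = 1) (F : MvPolynomial (Fin 2) k) :
    F - iota x0 y0 lam mu (theta α β x0 y0 F) ∈ Ideal.span {lin γ α β} := by
  have hdetC : (C lam * C β - C mu * C α : MvPolynomial (Fin 2) k) = 1 := by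
    rw [← C_mul, ← C_mul, ← C_sub, hdet, C_1]
  have hptC : (C α * C x0 + C β * C y0 + C γ : MvPolynomial (Fin 2) k) = 0 := by
    rw [← C_mul, ← C_mul, ← C_add, ← C_add, hpt, C_0]
  have h : (Ideal.Quotient.mkₐ k (Ideal.span {lin γ α β})).comp
      ((iota x0 y0 lam mu).comp (theta α β x0 y0))
      = Ideal.Quotient.mkₐ k (Ideal.span {lin γ α β}) := by
    apply MvPolynomial.algHom_ext
    intro i
    rw [AlgHom.comp_apply, AlgHom.comp_apply, Ideal.Quotient.mkₐ_eq_mk, Ideal.Quotient.eq,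
      Ideal.mem_span_singleton']
    rcases fin2 i with rfl | rfl
    · refine ⟨C mu, ?_⟩
      rw [theta_X0]
      simp only [map_add, map_mul, iota_C, iota_X]
      unfold uu lin
      linear_combination (-(X 0 - C x0)) * hdetC + C mu * hptC
    · refine ⟨-C lam, ?_⟩
      rw [theta_X1]
      simp only [map_sub, map_mul, iota_C, iota_X]
      unfold uu lin
      linear_combination (-(X 1 - C y0)) * hdetC - C lam * hptC
  have h1 := AlgHom.congr_fun h F
  rw [AlgHom.comp_apply, AlgHom.comp_apply, Ideal.Quotient.mkₐ_eq_mk, Ideal.Quotient.eq] at h1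
  have h2 := (Ideal.span {lin γ α β}).neg_mem h1
  rwa [neg_sub] at h2

lemma theta_lin (α β γ x0 y0 : k) (hpt : α * x0 + β * y0 + γ = 0) :
    theta α β x0 y0 (lin γ α β) = 0 := by
  unfold lin
  simp only [map_add, map_mul, theta_X0, theta_X1, theta_C]
  have h : (Polynomial.C α * Polynomial.C x0 + Polynomial.C β * Polynomial.C y0
      + Polynomial.C γ : Polynomial k) = 0 := by
    rw [← Polynomial.C_mul, ← Polynomial.C_mul, ← Polynomial.C_add, ← Polynomial.C_add, hpt,
      Polynomial.C_0]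
  linear_combination h

lemma mem_span_lin_of_theta_eq_zero (α β γ x0 y0 lam mu : k) (hpt : α * x0 + β * y0 + γ = 0)
    (hdet : lam * β - mu * α = 1) (F : MvPolynomial (Fin 2) k) (hF : theta α β x0 y0 F = 0) :
    F ∈ Ideal.span {lin γ α β} := by
  have := sub_iota_theta_mem α β γ x0 y0 lam mu hpt hdet F
  rwa [hF, map_zero, sub_zero] at this

lemma exists_params (α β γ : k) (h : α ≠ 0 ∨ β ≠ 0) :
    ∃ x0 y0 lam mu : k, α * x0 + β * y0 + γ = 0 ∧ lam * β - mu * α = 1 := by
  by_cases hβ : β = 0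
  · have hα : α ≠ 0 := by
      rcases h with h | h
      · exact h
      · exact absurd hβ h
    refine ⟨-γ / α, 0, 0, -1 / α, ?_, ?_⟩
    · field_simp
      ring
    · field_simp
      ring
  · refine ⟨0, -γ / β, 1 / β, 0, ?_, ?_⟩
    · field_simp
      ring
    · field_simp
      ring

/-! ## Degree bounds -/

lemma natDegree_theta_le (α β x0 y0 : k) (F : MvPolynomial (Fin 2) k) :
    (theta α β x0 y0 F).natDegree ≤ F.totalDegree := by
  have hg : ∀ i : Fin 2, (![Polynomial.C x0 + Polynomial.C β * Polynomial.X,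
      Polynomial.C y0 - Polynomial.C α * Polynomial.X] i : Polynomial k).natDegree ≤ 1 := by
    intro i
    rcases fin2 i with rfl | rfl
    · show (Polynomial.C x0 + Polynomial.C β * Polynomial.X : Polynomial k).natDegree ≤ 1
      refine (Polynomial.natDegree_add_le _ _).trans (max_le ?_ ?_)
      · rw [Polynomial.natDegree_C]
        exact Nat.zero_le _
      · exact (Polynomial.natDegree_C_mul_le _ _).trans Polynomial.natDegree_X_le
    · show (Polynomial.C y0 - Polynomial.C α * Polynomial.X : Polynomial k).natDegree ≤ 1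
      refine (Polynomial.natDegree_sub_le _ _).trans (max_le ?_ ?_)
      · rw [Polynomial.natDegree_C]
        exact Nat.zero_le _
      · exact (Polynomial.natDegree_C_mul_le _ _).trans Polynomial.natDegree_X_le
  unfold theta
  rw [aeval_def, eval₂_eq']
  refine Polynomial.natDegree_sum_le_of_forall_le _ _ (fun d hd => ?_)
  refine (Polynomial.natDegree_mul_le).trans ?_
  have h1 : (algebraMap k (Polynomial k) (coeff d F)).natDegree = 0 := Polynomial.natDegree_C _
  rw [h1, zero_add]
  refine (Polynomial.natDegree_prod_le _ _).trans ?_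
  have h2 : ∀ i ∈ (Finset.univ : Finset (Fin 2)),
      ((![Polynomial.C x0 + Polynomial.C β * Polynomial.X,
        Polynomial.C y0 - Polynomial.C α * Polynomial.X] i : Polynomial k) ^ d i).natDegree
        ≤ d i := by
    intro i _
    refine Polynomial.natDegree_pow_le.trans ?_
    calc d i * _ ≤ d i * 1 := Nat.mul_le_mul_left _ (hg i)
      _ = d i := Nat.mul_one _
  refine (Finset.sum_le_sum h2).trans ?_
  have h3 := le_totalDegree hd
  rw [Finsupp.sum_fintype _ _ (fun _ => rfl)] at h3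
  exact h3

/-! ## Leibniz -/

lemma pderiv_mem_of_mem_sq (I : Ideal (MvPolynomial (Fin 2) k)) (i : Fin 2)
    {F : MvPolynomial (Fin 2) k} (hF : F ∈ I ^ 2) : pderiv i F ∈ I := by
  rw [pow_two] at hF
  refine Submodule.mul_induction_on hF (fun m hm n hn => ?_) (fun x y hx hy => ?_)
  · rw [pderiv_mul]
    exact I.add_mem (I.mul_mem_left _ hn) (I.mul_mem_right _ hm)
  · rw [map_add]
    exact I.add_mem hx hy


/-! ## Colength -/

lemma colength_le_one_of_forall_const (I : Ideal (MvPolynomial (Fin 2) k))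
    (h : ∀ F : MvPolynomial (Fin 2) k, ∃ c : k, F - C c ∈ I) :
    Module.Finite k (MvPolynomial (Fin 2) k ⧸ I) ∧
      Module.finrank k (MvPolynomial (Fin 2) k ⧸ I) ≤ 1 := by
  have hsurj : Function.Surjective (Algebra.linearMap k (MvPolynomial (Fin 2) k ⧸ I)) := by
    intro x
    obtain ⟨F, rfl⟩ := Ideal.Quotient.mk_surjective x
    obtain ⟨c, hc⟩ := h F
    refine ⟨c, ?_⟩
    rw [Algebra.linearMap_apply]
    have h1 : algebraMap k (MvPolynomial (Fin 2) k ⧸ I) c = Ideal.Quotient.mk I (C c) := by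
      rw [← Ideal.Quotient.mk_algebraMap, MvPolynomial.algebraMap_eq]
    rw [h1]
    exact ((Ideal.Quotient.eq).mpr hc).symm
  have hfin : Module.Finite k (MvPolynomial (Fin 2) k ⧸ I) :=
    Module.Finite.of_surjective _ hsurj
  refine ⟨hfin, ?_⟩
  have h2 := LinearMap.finrank_le_finrank_of_surjective hsurj
  rwa [Module.finrank_self] at h2

lemma two_le_natDegree_of_mem_map (I : Ideal (MvPolynomial (Fin 2) k))
    (hI : ¬ (Module.Finite k (MvPolynomial (Fin 2) k ⧸ I) ∧
      Module.finrank k (MvPolynomial (Fin 2) k ⧸ I) ≤ 1))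
    (α β γ x0 y0 lam mu : k) (hpt : α * x0 + β * y0 + γ = 0) (hdet : lam * β - mu * α = 1)
    (hl : lin γ α β ∈ I) (G : Polynomial k) (hG : G ∈ Ideal.map (theta α β x0 y0) I)
    (hG0 : G ≠ 0) : 2 ≤ G.natDegree := by
  by_contra hlt
  have hlt' : G.natDegree ≤ 1 := by omega
  apply hI
  apply colength_le_one_of_forall_const
  intro F
  have hspan : Ideal.span {lin γ α β} ≤ I := by
    rw [Ideal.span_le]
    intro x hx
    rw [Set.mem_singleton_iff] at hx
    rw [hx]
    exact hl
  obtain ⟨F0, hF0I, hF0⟩ := (Ideal.mem_map_iff_of_surjective (theta α β x0 y0)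
    (theta_surjective α β x0 y0 lam mu hdet)).mp hG
  have hιG : iota x0 y0 lam mu G ∈ I := by
    have h1 := hspan (sub_iota_theta_mem α β γ x0 y0 lam mu hpt hdet F0)
    rw [hF0] at h1
    have h2 := I.sub_mem hF0I h1
    rwa [sub_sub_cancel] at h2
  have hdm := EuclideanDomain.div_add_mod (theta α β x0 y0 F) G
  have hdeg : (theta α β x0 y0 F % G).natDegree = 0 := by
    by_cases h0 : theta α β x0 y0 F % G = 0
    · rw [h0]
      exact Polynomial.natDegree_zero
    · have := Polynomial.natDegree_lt_natDegree h0 (Polynomial.degree_mod_lt _ hG0)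
      omega
  obtain ⟨c, hc⟩ : ∃ c, theta α β x0 y0 F % G = Polynomial.C c :=
    ⟨_, Polynomial.eq_C_of_natDegree_eq_zero hdeg⟩
  refine ⟨c, ?_⟩
  have h1 := hspan (sub_iota_theta_mem α β γ x0 y0 lam mu hpt hdet F)
  have h2 : iota x0 y0 lam mu (theta α β x0 y0 F) =
      iota x0 y0 lam mu G * iota x0 y0 lam mu (theta α β x0 y0 F / G) + C c := by
    rw [← iota_C x0 y0 lam mu c, ← hc, ← map_mul, ← map_add, hdm]
  have h3 : F - C c =
      (F - iota x0 y0 lam mu (theta α β x0 y0 F)) +
        iota x0 y0 lam mu G * iota x0 y0 lam mu (theta α β x0 y0 F / G) := by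
    rw [h2]
    ring
  rw [h3]
  exact I.add_mem h1 (I.mul_mem_right _ hιG)

/-! ## Derivatives of linear forms -/

lemma h10 : (1 : Fin 2) ≠ 0 := by decide
lemma h01 : (0 : Fin 2) ≠ 1 := by decide

lemma pderiv0_lin (γ α β : k) : pderiv 0 (lin γ α β) = C α := by
  unfold lin
  rw [map_add, map_add, pderiv_C, pderiv_C_mul, pderiv_C_mul, pderiv_X_self,
    pderiv_X_of_ne h10]
  ring

lemma pderiv1_lin (γ α β : k) : pderiv 1 (lin γ α β) = C β := by
  unfold lin
  rw [map_add, map_add, pderiv_C, pderiv_C_mul, pderiv_C_mul, pderiv_X_self,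
    pderiv_X_of_ne h01]
  ring

lemma one_le_totalDegree_lin (γ α β : k) (hab : α ≠ 0 ∨ β ≠ 0) :
    1 ≤ (lin γ α β).totalDegree := by
  by_contra h
  have h0 : (lin γ α β).totalDegree = 0 := by omega
  rw [totalDegree_eq_zero_iff_eq_C] at h0
  have h1 : ∀ i : Fin 2, pderiv i (lin γ α β) = 0 := by
    intro i
    rw [h0, pderiv_C]
  rcases hab with hα | hβ
  · have h2 := h1 0
    rw [pderiv0_lin] at h2
    exact hα (C_eq_zero.mp h2)
  · have h2 := h1 1
    rw [pderiv1_lin] at h2
    exact hβ (C_eq_zero.mp h2)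

lemma lin_ne_zero (γ α β : k) (hab : α ≠ 0 ∨ β ≠ 0) : lin γ α β ≠ 0 := by
  intro h0
  have h1 := one_le_totalDegree_lin γ α β hab
  rw [h0, totalDegree_zero] at h1
  omega

/-! ## The line lemma -/

lemma line_lemma (I : Ideal (MvPolynomial (Fin 2) k))
    (hI : ¬ (Module.Finite k (MvPolynomial (Fin 2) k ⧸ I) ∧
      Module.finrank k (MvPolynomial (Fin 2) k ⧸ I) ≤ 1))
    (α β γ : k) (hab : α ≠ 0 ∨ β ≠ 0) (hl : lin γ α β ∈ I)
    (q : MvPolynomial (Fin 2) k) (hq0 : q ≠ 0) (hqd : q.totalDegree ≤ 2) (hq : q ∈ I ^ 2) :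
    ∃ j : k, q = C j * lin γ α β ^ 2 := by
  obtain ⟨x0, y0, lam, mu, hpt, hdet⟩ := exists_params α β γ hab
  obtain ⟨p, hp⟩ : ∃ p, Ideal.map (theta α β x0 y0) I = Ideal.span {p} :=
    Submodule.IsPrincipal.principal (Ideal.map (theta α β x0 y0) I)
  have hp2 : p = 0 ∨ 2 ≤ p.natDegree := by
    by_cases hp0 : p = 0
    · exact Or.inl hp0
    · refine Or.inr (two_le_natDegree_of_mem_map I hI α β γ x0 y0 lam mu hpt hdet hl p ?_ hp0)
      rw [hp]
      exact Ideal.mem_span_singleton_self p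
  have hvanish : ∀ s : Polynomial k, s ∈ Ideal.span {p} → s.natDegree ≤ 1 → s = 0 := by
    intro s hs hs1
    by_contra hne
    have hdvd : p ∣ s := Ideal.mem_span_singleton.mp hs
    rcases hp2 with hp0 | hp2
    · rw [hp0, zero_dvd_iff] at hdvd
      exact hne hdvd
    · have h1 := Polynomial.natDegree_le_of_dvd hdvd hne
      omega
  have hθq0 : theta α β x0 y0 q = 0 := by
    by_contra hne
    have h1 := Ideal.mem_map_of_mem (theta α β x0 y0) hq
    rw [Ideal.map_pow, hp, Ideal.span_singleton_pow] at h1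
    have hdvd : p ^ 2 ∣ theta α β x0 y0 q := Ideal.mem_span_singleton.mp h1
    rcases hp2 with hp0 | hp2
    · rw [hp0, zero_pow two_ne_zero, zero_dvd_iff] at hdvd
      exact hne hdvd
    · have h2 := Polynomial.natDegree_le_of_dvd hdvd hne
      rw [Polynomial.natDegree_pow] at h2
      have h3 := natDegree_theta_le α β x0 y0 q
      omega
  obtain ⟨ℓ1, hℓ1⟩ := Ideal.mem_span_singleton'.mp
    (mem_span_lin_of_theta_eq_zero α β γ x0 y0 lam mu hpt hdet q hθq0)
  have hℓ0ne : lin γ α β ≠ 0 := lin_ne_zero γ α β hab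
  have hℓ1ne : ℓ1 ≠ 0 := by
    intro h0
    apply hq0
    rw [← hℓ1, h0, zero_mul]
  have htd0 := one_le_totalDegree_lin γ α β hab
  have htd : q.totalDegree = ℓ1.totalDegree + (lin γ α β).totalDegree := by
    rw [← hℓ1]
    exact totalDegree_mul_of_isDomain hℓ1ne hℓ0ne
  have hmemI : ∀ i : Fin 2, ℓ1 * pderiv i (lin γ α β) ∈ I := by
    intro i
    have h1 := pderiv_mem_of_mem_sq I i hq
    rw [← hℓ1, pderiv_mul] at h1
    have h2 : pderiv i ℓ1 * lin γ α β ∈ I := I.mul_mem_left _ hl
    have h3 := I.sub_mem h1 h2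
    rwa [add_sub_cancel_left] at h3
  have hℓ1I : ℓ1 ∈ I := by
    rcases hab with hα | hβ
    · have h1 := hmemI 0
      rw [pderiv0_lin] at h1
      have h2 := I.mul_mem_right (C α⁻¹) h1
      have h3 : ℓ1 * C α * C α⁻¹ = ℓ1 := by
        rw [mul_assoc, ← C_mul, mul_inv_cancel₀ hα, C_1, mul_one]
      rwa [h3] at h2
    · have h1 := hmemI 1
      rw [pderiv1_lin] at h1
      have h2 := I.mul_mem_right (C β⁻¹) h1
      have h3 : ℓ1 * C β * C β⁻¹ = ℓ1 := by
        rw [mul_assoc, ← C_mul, mul_inv_cancel₀ hβ, C_1, mul_one]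
      rwa [h3] at h2
  have hθℓ1 : theta α β x0 y0 ℓ1 = 0 := by
    apply hvanish
    · rw [← hp]
      exact Ideal.mem_map_of_mem _ hℓ1I
    · have h1 := natDegree_theta_le α β x0 y0 ℓ1
      omega
  obtain ⟨j', hj'⟩ := Ideal.mem_span_singleton'.mp
    (mem_span_lin_of_theta_eq_zero α β γ x0 y0 lam mu hpt hdet ℓ1 hθℓ1)
  have hj'ne : j' ≠ 0 := by
    intro h0
    apply hℓ1ne
    rw [← hj', h0, zero_mul]
  have htd1 : ℓ1.totalDegree = j'.totalDegree + (lin γ α β).totalDegree := by
    rw [← hj']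
    exact totalDegree_mul_of_isDomain hj'ne hℓ0ne
  have htdj : j'.totalDegree = 0 := by omega
  rw [totalDegree_eq_zero_iff_eq_C] at htdj
  refine ⟨coeff 0 j', ?_⟩
  rw [← hℓ1, ← hj', ← htdj]
  ring

/-! ## A linear form whose square lies in `J ^ 2` lies in `J` -/

lemma lin_mem_of_sq_mem_sq (J : Ideal (MvPolynomial (Fin 2) k)) (α β γ : k)
    (hab : α ≠ 0 ∨ β ≠ 0) (h : lin γ α β ^ 2 ∈ J ^ 2) : lin γ α β ∈ J := by
  obtain ⟨x0, y0, lam, mu, hpt, hdet⟩ := exists_params α β γ hab
  have hℓ0 := lin_ne_zero γ α β hab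
  have hθℓ := theta_lin α β γ x0 y0 hpt
  have hsurj := theta_surjective α β x0 y0 lam mu hdet
  obtain ⟨p, hp⟩ : ∃ p, Ideal.map (theta α β x0 y0) J = Ideal.span {p} :=
    Submodule.IsPrincipal.principal (Ideal.map (theta α β x0 y0) J)
  have hpmem : p ∈ Ideal.map (theta α β x0 y0) J := by
    rw [hp]
    exact Ideal.mem_span_singleton_self p
  obtain ⟨F, hFJ, hFp⟩ := (Ideal.mem_map_iff_of_surjective (theta α β x0 y0) hsurj).mp hpmem
  have hker : ∀ H : MvPolynomial (Fin 2) k, theta α β x0 y0 H = 0 →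
      ∃ G, H = lin γ α β * G := by
    intro H hH
    obtain ⟨G, hG⟩ := Ideal.mem_span_singleton'.mp
      (mem_span_lin_of_theta_eq_zero α β γ x0 y0 lam mu hpt hdet H hH)
    exact ⟨G, by rw [← hG, mul_comm]⟩
  have step1 : ∀ H ∈ J, ∃ r G, lin γ α β * G ∈ J ∧ H = r * F + lin γ α β * G := by
    intro H hH
    have h1 : theta α β x0 y0 H ∈ Ideal.span {p} := by
      rw [← hp]
      exact Ideal.mem_map_of_mem _ hH
    obtain ⟨s, hs⟩ := Ideal.mem_span_singleton'.mp h1
    have h2 : theta α β x0 y0 (H - iota x0 y0 lam mu s * F) = 0 := by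
      rw [map_sub, map_mul, theta_iota α β x0 y0 lam mu hdet, hFp, hs, sub_self]
    obtain ⟨G, hG⟩ := hker _ h2
    refine ⟨iota x0 y0 lam mu s, G, ?_, ?_⟩
    · rw [← hG]
      exact J.sub_mem hH (J.mul_mem_left _ hFJ)
    · rw [← hG]
      ring
  have step2 : ∀ Q ∈ J * J, ∃ A B C', lin γ α β * C' ∈ J ∧
      Q = A * F ^ 2 + lin γ α β * F * B + lin γ α β * lin γ α β * C' := by
    intro Q hQ
    refine Submodule.mul_induction_on hQ (fun m hm n hn => ?_) (fun x y hx hy => ?_)
    · obtain ⟨r1, G1, hG1, hm1⟩ := step1 m hm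
      obtain ⟨r2, G2, hG2, hn2⟩ := step1 n hn
      refine ⟨r1 * r2, r1 * G2 + r2 * G1, G1 * G2, ?_, ?_⟩
      · rw [← mul_assoc]
        exact J.mul_mem_right _ hG1
      · rw [hm1, hn2]
        ring
    · obtain ⟨A1, B1, C1, hC1, hx1⟩ := hx
      obtain ⟨A2, B2, C2, hC2, hy2⟩ := hy
      refine ⟨A1 + A2, B1 + B2, C1 + C2, ?_, ?_⟩
      · rw [mul_add]
        exact J.add_mem hC1 hC2
      · rw [hx1, hy2]
        ring
  rw [pow_two, pow_two] at h
  obtain ⟨A, B, C', hC', hQ⟩ := step2 _ h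
  by_cases hp0 : p = 0
  · -- everything in `J` is divisible by the linear form
    obtain ⟨F', hF'⟩ := hker F (hFp.trans hp0)
    have h2 : lin γ α β * lin γ α β =
        lin γ α β * (A * F' * F + F * B + lin γ α β * C') := by
      linear_combination hQ + A * F * hF'
    have h3 := mul_left_cancel₀ hℓ0 h2
    rw [h3]
    exact J.add_mem (J.add_mem (J.mul_mem_left _ hFJ) (J.mul_mem_right _ hFJ)) hC'
  · have hθ : theta α β x0 y0 A * p ^ 2 = 0 := by
      have h1 := congrArg (theta α β x0 y0) hQ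
      simp only [map_add, map_mul, map_pow, hθℓ, hFp] at h1
      linear_combination -h1
    have hθA : theta α β x0 y0 A = 0 := by
      rcases mul_eq_zero.mp hθ with h1 | h1
      · exact h1
      · exact absurd (pow_eq_zero_iff two_ne_zero |>.mp h1) hp0
    obtain ⟨A', hA'⟩ := hker A hθA
    have h2 : lin γ α β * lin γ α β =
        lin γ α β * (A' * F ^ 2 + F * B + lin γ α β * C') := by
      linear_combination hQ + F ^ 2 * hA'
    have h3 := mul_left_cancel₀ hℓ0 h2
    have hθ2 : p * (theta α β x0 y0 A' * p + theta α β x0 y0 B) = 0 := by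
      have h1 := congrArg (theta α β x0 y0) h3
      simp only [map_add, map_mul, map_pow, hθℓ, hFp] at h1
      linear_combination -h1
    have hθ3 : theta α β x0 y0 (A' * F + B) = 0 := by
      rw [map_add, map_mul, hFp]
      rcases mul_eq_zero.mp hθ2 with h1 | h1
      · exact absurd h1 hp0
      · exact h1
    obtain ⟨B', hB'⟩ := hker _ hθ3
    have h4 : lin γ α β = (lin γ α β * B') * F + lin γ α β * C' := by
      linear_combination h3 + F * hB'
    rw [h4]
    exact J.add_mem (J.mul_mem_left _ hFJ) hC'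

/-! ## Descent along a field extension -/

section Descent

variable {K : Type*} [Field K] [Algebra k K]

/-- apply a `k`-linear functional coefficientwise -/
def piT (π : K →ₗ[k] k) (H : MvPolynomial (Fin 2) K) : MvPolynomial (Fin 2) k :=
  ∑ m ∈ H.support, monomial m (π (coeff m H))

lemma coeff_piT (π : K →ₗ[k] k) (H : MvPolynomial (Fin 2) K) (m : Fin 2 →₀ ℕ) :
    coeff m (piT π H) = π (coeff m H) := by
  classical
  unfold piT
  rw [coeff_sum]
  simp only [coeff_monomial, Finset.sum_ite_eq']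
  split_ifs with h
  · rfl
  · rw [notMem_support_iff.mp h, map_zero]

lemma piT_add (π : K →ₗ[k] k) (H1 H2 : MvPolynomial (Fin 2) K) :
    piT π (H1 + H2) = piT π H1 + piT π H2 := by
  ext m
  simp only [coeff_piT, coeff_add, map_add]

lemma piT_zero (π : K →ₗ[k] k) : piT π (0 : MvPolynomial (Fin 2) K) = 0 := by
  ext m
  simp only [coeff_piT, coeff_zero, map_zero]

lemma piT_C (π : K →ₗ[k] k) (z : K) : piT π (C z) = C (π z) := by
  classical
  ext m
  rw [coeff_piT, coeff_C, coeff_C]
  split_ifs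
  · rfl
  · exact map_zero π

lemma piT_map_mul (π : K →ₗ[k] k) (F : MvPolynomial (Fin 2) k)
    (H : MvPolynomial (Fin 2) K) :
    piT π (map (algebraMap k K) F * H) = F * piT π H := by
  classical
  ext m
  rw [coeff_piT, coeff_mul, coeff_mul, map_sum]
  refine Finset.sum_congr rfl (fun x _ => ?_)
  rw [coeff_map, coeff_piT, ← Algebra.smul_def, map_smul, smul_eq_mul]

lemma piT_mem_of_mem_map (π : K →ₗ[k] k) (I : Ideal (MvPolynomial (Fin 2) k))
    (H : MvPolynomial (Fin 2) K) (hH : H ∈ Ideal.map (map (algebraMap k K)) I) :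
    piT π H ∈ I := by
  have key : ∀ H' : MvPolynomial (Fin 2) K, piT π (H' * H) ∈ I := by
    have hH' : H ∈ Submodule.span (MvPolynomial (Fin 2) K)
        ((map (algebraMap k K)) '' (I : Set (MvPolynomial (Fin 2) k))) := hH
    refine Submodule.span_induction
      (p := fun H _ => ∀ H' : MvPolynomial (Fin 2) K, piT π (H' * H) ∈ I) ?_ ?_ ?_ ?_ hH'
    · rintro x ⟨F, hF, rfl⟩ H'
      rw [mul_comm, piT_map_mul]
      exact I.mul_mem_right _ hF
    · intro H'
      rw [mul_zero, piT_zero]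
      exact I.zero_mem
    · intro x y _ _ hx hy H'
      rw [mul_add, piT_add]
      exact I.add_mem (hx H') (hy H')
    · intro a x _ hx H'
      rw [smul_eq_mul, ← mul_assoc]
      exact hx (H' * a)
  have h1 := key 1
  rwa [one_mul] at h1

lemma exists_functional (z : K) (hz : z ≠ 0) : ∃ π : K →ₗ[k] k, π z = 1 := by
  obtain ⟨g, hg⟩ := LinearMap.exists_leftInverse_of_injective (LinearMap.toSpanSingleton k K z)
    (LinearMap.ker_toSpanSingleton k hz)
  refine ⟨g, ?_⟩
  have h1 := LinearMap.congr_fun hg 1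
  rw [LinearMap.comp_apply, LinearMap.toSpanSingleton_apply_one, LinearMap.id_apply] at h1
  exact h1

end Descent

/-! ## Characteristic two -/

lemma exists_lin_mem_char_two (I : Ideal (MvPolynomial (Fin 2) k)) (h2 : (2 : k) = 0)
    (a d f : k) (hdf : d ≠ 0 ∨ f ≠ 0)
    (hq : C a + C d * X 0 ^ 2 + C f * X 1 ^ 2 ∈ I ^ 2) :
    ∃ γ α β : k, (α ≠ 0 ∨ β ≠ 0) ∧ lin γ α β ∈ I := by
  obtain ⟨ra, hra⟩ := IsAlgClosed.exists_pow_nat_eq
    (algebraMap k (AlgebraicClosure k) a) zero_lt_two
  obtain ⟨rd, hrd⟩ := IsAlgClosed.exists_pow_nat_eq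
    (algebraMap k (AlgebraicClosure k) d) zero_lt_two
  obtain ⟨rf, hrf⟩ := IsAlgClosed.exists_pow_nat_eq
    (algebraMap k (AlgebraicClosure k) f) zero_lt_two
  have h2K : (2 : AlgebraicClosure k) = 0 := by
    have h := congrArg (algebraMap k (AlgebraicClosure k)) h2
    rwa [map_ofNat, map_zero] at h
  have h2R : (2 : MvPolynomial (Fin 2) (AlgebraicClosure k)) = 0 := by
    have h := congrArg (C : AlgebraicClosure k → MvPolynomial (Fin 2) (AlgebraicClosure k)) h2K
    rwa [map_ofNat, map_zero] at h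
  have hsq : lin ra rd rf ^ 2 = map (algebraMap k (AlgebraicClosure k))
      (C a + C d * X 0 ^ 2 + C f * X 1 ^ 2) := by
    simp only [map_add, map_mul, map_pow, map_C, map_X]
    rw [← hra, ← hrd, ← hrf, C_pow, C_pow, C_pow]
    unfold lin
    linear_combination
      (C ra * (C rd * X 0) + C ra * (C rf * X 1) + C rd * X 0 * (C rf * X 1)) * h2R
  have hmem : lin ra rd rf ^ 2 ∈
      (Ideal.map (map (algebraMap k (AlgebraicClosure k))) I) ^ 2 := by
    rw [hsq, ← Ideal.map_pow]
    exact Ideal.mem_map_of_mem _ hq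
  have hinj : Function.Injective (algebraMap k (AlgebraicClosure k)) :=
    (algebraMap k (AlgebraicClosure k)).injective
  have hr : ∀ (r : AlgebraicClosure k) (t : k),
      r ^ 2 = algebraMap k (AlgebraicClosure k) t → t ≠ 0 → r ≠ 0 := by
    intro r t hrt ht hr0
    apply ht
    apply hinj
    rw [← hrt, hr0, map_zero, zero_pow two_ne_zero]
  have hrdf : rd ≠ 0 ∨ rf ≠ 0 := by
    rcases hdf with hd | hf
    · exact Or.inl (hr rd d hrd hd)
    · exact Or.inr (hr rf f hrf hf)
  have hlin := lin_mem_of_sq_mem_sq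
    (Ideal.map (map (algebraMap k (AlgebraicClosure k))) I) rd rf ra hrdf hmem
  have hdesc : ∀ π : AlgebraicClosure k →ₗ[k] k, lin (π ra) (π rd) (π rf) ∈ I := by
    intro π
    have h1 := piT_mem_of_mem_map π I _ hlin
    have h3 : piT π (lin ra rd rf) = lin (π ra) (π rd) (π rf) := by
      have h4 : lin ra rd rf = C ra + (map (algebraMap k (AlgebraicClosure k)) (X 0) * C rd
          + map (algebraMap k (AlgebraicClosure k)) (X 1) * C rf) := by
        simp only [map_X]
        unfold lin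
        ring
      rw [h4, piT_add, piT_add, piT_map_mul, piT_map_mul, piT_C, piT_C, piT_C]
      unfold lin
      ring
    rwa [h3] at h1
  rcases hrdf with hd | hf
  · obtain ⟨π, hπ⟩ := exists_functional (k := k) rd hd
    refine ⟨π ra, π rd, π rf, Or.inl ?_, hdesc π⟩
    rw [hπ]
    exact one_ne_zero
  · obtain ⟨π, hπ⟩ := exists_functional (k := k) rf hf
    refine ⟨π ra, π rd, π rf, Or.inr ?_, hdesc π⟩
    rw [hπ]
    exact one_ne_zero

/-! ## The quadric -/

/-- the quadric -/
def quad (a b c d e f : k) : MvPolynomial (Fin 2) k :=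
  C a + C b * X 0 + C c * X 1 + C d * X 0 ^ 2 + C e * X 0 * X 1 + C f * X 1 ^ 2

lemma pderiv0_quad (a b c d e f : k) : pderiv 0 (quad a b c d e f) = lin b (d + d) e := by
  unfold quad lin
  simp only [pow_two, map_add, pderiv_mul, pderiv_C, pderiv_X_self, pderiv_X_of_ne h10, C_add]
  ring

lemma pderiv1_quad (a b c d e f : k) : pderiv 1 (quad a b c d e f) = lin c e (f + f) := by
  unfold quad lin
  simp only [pow_two, map_add, pderiv_mul, pderiv_C, pderiv_X_self, pderiv_X_of_ne h01, C_add]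
  ring

lemma totalDegree_quad_le (a b c d e f : k) : (quad a b c d e f).totalDegree ≤ 2 := by
  have hC : ∀ z : k, (C z : MvPolynomial (Fin 2) k).totalDegree ≤ 2 := by
    intro z
    rw [totalDegree_C]
    omega
  have hX : ∀ i : Fin 2, (X i : MvPolynomial (Fin 2) k).totalDegree ≤ 1 :=
    fun i => (totalDegree_X i).le
  have hCX : ∀ (z : k) (i : Fin 2), (C z * X i : MvPolynomial (Fin 2) k).totalDegree ≤ 1 := by
    intro z i
    refine (totalDegree_mul _ _).trans ?_
    rw [totalDegree_C, totalDegree_X]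
  have hCX2 : ∀ (z : k) (i : Fin 2),
      (C z * X i ^ 2 : MvPolynomial (Fin 2) k).totalDegree ≤ 2 := by
    intro z i
    refine (totalDegree_mul _ _).trans ?_
    have h1 := totalDegree_pow (X i : MvPolynomial (Fin 2) k) 2
    rw [totalDegree_X] at h1
    rw [totalDegree_C]
    omega
  have hCXX : (C e * X 0 * X 1 : MvPolynomial (Fin 2) k).totalDegree ≤ 2 :=
    (totalDegree_mul _ _).trans (add_le_add (hCX e 0) (hX 1))
  unfold quad
  refine (totalDegree_add _ _).trans (max_le ?_ (hCX2 f 1))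
  refine (totalDegree_add _ _).trans (max_le ?_ hCXX)
  refine (totalDegree_add _ _).trans (max_le ?_ (hCX2 d 0))
  refine (totalDegree_add _ _).trans (max_le ?_ ((hCX c 1).trans one_le_two))
  exact (totalDegree_add _ _).trans (max_le (hC a) ((hCX b 0).trans one_le_two))

lemma exists_lin_mem (I : Ideal (MvPolynomial (Fin 2) k))
    (hI : ¬ (Module.Finite k (MvPolynomial (Fin 2) k ⧸ I) ∧
      Module.finrank k (MvPolynomial (Fin 2) k ⧸ I) ≤ 1))
    (a b c d e f : k)
    (hne : ¬ (a = 0 ∧ b = 0 ∧ c = 0 ∧ d = 0 ∧ e = 0 ∧ f = 0))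
    (hq : quad a b c d e f ∈ I ^ 2) :
    ∃ γ α β : k, (α ≠ 0 ∨ β ≠ 0) ∧ lin γ α β ∈ I := by
  have h0 := pderiv_mem_of_mem_sq I 0 hq
  have h1 := pderiv_mem_of_mem_sq I 1 hq
  rw [pderiv0_quad] at h0
  rw [pderiv1_quad] at h1
  by_cases hA : d + d ≠ 0 ∨ e ≠ 0
  · exact ⟨b, d + d, e, hA, h0⟩
  by_cases hB : e ≠ 0 ∨ f + f ≠ 0
  · exact ⟨c, e, f + f, hB, h1⟩
  have hdd : d + d = 0 := not_not.mp (not_or.mp hA).1
  have he : e = 0 := not_not.mp (not_or.mp hA).2
  have hff : f + f = 0 := not_not.mp (not_or.mp hB).2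
  have hItop : I ≠ ⊤ := by
    intro htop
    apply hI
    apply colength_le_one_of_forall_const
    intro F
    exact ⟨0, by rw [htop]; exact Submodule.mem_top⟩
  have hCmem : ∀ z : k, C z ∈ I → z = 0 := by
    intro z hz
    by_contra hz0
    exact hItop (Ideal.eq_top_of_isUnit_mem I hz ((isUnit_iff_ne_zero.mpr hz0).map C))
  have hb : b = 0 := by
    apply hCmem
    have h3 : lin b (d + d) e = C b := by
      unfold lin
      rw [hdd, he, C_0]
      ring
    rwa [h3] at h0
  have hc : c = 0 := by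
    apply hCmem
    have h3 : lin c e (f + f) = C c := by
      unfold lin
      rw [hff, he, C_0]
      ring
    rwa [h3] at h1
  by_cases h2 : (2 : k) = 0
  · have hdf : d ≠ 0 ∨ f ≠ 0 := by
      by_contra hcon
      have hd : d = 0 := not_not.mp (not_or.mp hcon).1
      have hf : f = 0 := not_not.mp (not_or.mp hcon).2
      have ha : a = 0 := by
        apply hCmem
        have hqa : quad a b c d e f = C a := by
          unfold quad
          rw [hb, hc, hd, he, hf, C_0]
          ring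
        rw [hqa] at hq
        exact Ideal.pow_le_self two_ne_zero hq
      exact hne ⟨ha, hb, hc, hd, he, hf⟩
    have hq' : C a + C d * X 0 ^ 2 + C f * X 1 ^ 2 ∈ I ^ 2 := by
      have hqa : quad a b c d e f = C a + C d * X 0 ^ 2 + C f * X 1 ^ 2 := by
        unfold quad
        rw [hb, hc, he, C_0]
        ring
      rwa [hqa] at hq
    exact exists_lin_mem_char_two I h2 a d f hdf hq'
  · exfalso
    have hd : d = 0 := by
      have h3 : (2 : k) * d = 0 := by
        rw [two_mul]
        exact hdd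
      rcases mul_eq_zero.mp h3 with h | h
      · exact absurd h h2
      · exact h
    have hf : f = 0 := by
      have h3 : (2 : k) * f = 0 := by
        rw [two_mul]
        exact hff
      rcases mul_eq_zero.mp h3 with h | h
      · exact absurd h h2
      · exact h
    have ha : a = 0 := by
      apply hCmem
      have hqa : quad a b c d e f = C a := by
        unfold quad
        rw [hb, hc, hd, he, hf, C_0]
        ring
      rw [hqa] at hq
      exact Ideal.pow_le_self two_ne_zero hq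
    exact hne ⟨ha, hb, hc, hd, he, hf⟩

/-- **Main theorem.** -/
theorem quadric_sq (I : Ideal (MvPolynomial (Fin 2) k))
    (hI : ¬ (Module.Finite k (MvPolynomial (Fin 2) k ⧸ I) ∧
      Module.finrank k (MvPolynomial (Fin 2) k ⧸ I) ≤ 1))
    (a b c d e f : k) (hne : (a, b, c, d, e, f) ≠ (0, 0, 0, 0, 0, 0))
    (hmem : (C a + C b * X 0 + C c * X 1 + C d * X 0 ^ 2 + C e * X 0 * X 1 + C f * X 1 ^ 2 :
      MvPolynomial (Fin 2) k) ∈ I ^ 2) :
    ∃ j g h i : k,
      (C a + C b * X 0 + C c * X 1 + C d * X 0 ^ 2 + C e * X 0 * X 1 + C f * X 1 ^ 2 :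
        MvPolynomial (Fin 2) k) = C j * (C g + C h * X 0 + C i * X 1) ^ 2 := by
  have hne' : ¬ (a = 0 ∧ b = 0 ∧ c = 0 ∧ d = 0 ∧ e = 0 ∧ f = 0) := by
    rintro ⟨rfl, rfl, rfl, rfl, rfl, rfl⟩
    exact hne rfl
  have hq : quad a b c d e f ∈ I ^ 2 := hmem
  by_cases hq0 : quad a b c d e f = 0
  · refine ⟨0, 0, 0, 0, ?_⟩
    have h1 : (C a + C b * X 0 + C c * X 1 + C d * X 0 ^ 2 + C e * X 0 * X 1 + C f * X 1 ^ 2 :
      MvPolynomial (Fin 2) k) = 0 := hq0
    rw [h1, C_0, zero_mul]
  · have hqd := totalDegree_quad_le a b c d e f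
    obtain ⟨γ, α, β, hab, hl⟩ := exists_lin_mem I hI a b c d e f hne' hq
    obtain ⟨j, hj⟩ := line_lemma I hI α β γ hab hl _ hq0 hqd hq
    exact ⟨j, γ, α, β, hj⟩

end

end Groth.Agent.Lib.helper6.QuadSq
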