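import Mathlib
import Groth.Agent.Lib.Helper6.Quartic1

/-!
# Plane quartics without a linear factor have at most four singular points (helper6)

The proof uses the quadratic (Cremona) transformation centred at three of the singular points.
-/

set_option autoImplicit false

namespace Groth.Agent.Lib.Helper6.Quartic

open MvPolynomial
open Groth.Agent.S12424 (eval_smul_of_homog)
open Groth.Agent.S10897 (lin eval_lin lin_homog lin_ne_zero dvd_of_vanish lin_irreducible dotL
  dotL_apply dotL_ne_zero)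
open Groth.Agent.Lib.Helper6.LineGen (lineP dd lineP_eval lineP_natDegree coeff_top coeff_top'
  binary_form dd_self eval_add1 eval_smul1)
open Groth.Agent.Lib.Helper6.LinAlgGen

universe u

variable {k : Type u} [Field k]

/-! ### Linear change of coordinates -/

section Coord

variable (a : Fin 3 → Fin 3 → k)

/-- `x ↦ ∑ j, x j • a j` -/
def Tm (x : Fin 3 → k) : Fin 3 → k := fun i => ∑ j, a j i * x j

theorem Tm_eq (x : Fin 3 → k) : Tm a x = ∑ j, x j • a j := by
  funext i
  simp [Tm, Finset.sum_apply, mul_comm]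

theorem Tm_zero : Tm a 0 = 0 := by
  funext i
  simp [Tm]

theorem Tm_single (j : Fin 3) : Tm a (Pi.single j 1) = a j := by
  funext i
  simp [Tm, Pi.single_apply]

theorem Tm_lin (s t : k) (y z : Fin 3 → k) :
    Tm a (s • y + t • z) = s • Tm a y + t • Tm a z := by
  funext i
  simp only [Tm, Pi.add_apply, Pi.smul_apply, smul_eq_mul, Finset.mul_sum,
    ← Finset.sum_add_distrib]
  refine Finset.sum_congr rfl fun j _ => ?_
  ring

/-- the substitution `f ↦ f (∑ j, x j • a j)` -/
noncomputable def phi : MvPolynomial (Fin 3) k →ₐ[k] MvPolynomial (Fin 3) k :=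
  aeval (fun i => lin (fun j => a j i))

theorem eval_phi (p : MvPolynomial (Fin 3) k) (x : Fin 3 → k) :
    eval x (phi a p) = eval (Tm a x) p := by
  unfold phi
  rw [eval_aeval]
  have : (fun i => eval x (lin fun j => a j i)) = Tm a x := by
    funext i
    rw [eval_lin]
    rfl
  rw [this]

theorem eval_pderiv_phi (p : MvPolynomial (Fin 3) k) (x : Fin 3 → k) (j : Fin 3) :
    eval x (pderiv j (phi a p)) = dd p (Tm a x) (a j) := by
  have h := fun i => eval_phi a (pderiv i p) x
  unfold phi at h ⊢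
  rw [pderiv_aeval, map_sum]
  unfold dd
  refine Finset.sum_congr rfl fun i _ => ?_
  rw [map_mul, pderiv_lin, eval_C, h]

theorem singV_phi (p : MvPolynomial (Fin 3) k) (x : Fin 3 → k) (h : SingV p (Tm a x)) :
    SingV (phi a p) x := by
  refine ⟨by rw [eval_phi]; exact h.1, fun j => ?_⟩
  rw [eval_pderiv_phi]
  unfold dd
  apply Finset.sum_eq_zero
  intro i _
  rw [h.2 i, zero_mul]

theorem phi_homog (p : MvPolynomial (Fin 3) k) (n : ℕ) (hp : p.IsHomogeneous n) :
    (phi a p).IsHomogeneous n := by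
  have := hp.aeval (fun i => lin (fun j => a j i)) (n := 1) (fun i => lin_homog _)
  rw [one_mul] at this
  exact this

theorem phi_C (r : k) : phi a (C r) = C r := by
  unfold phi
  rw [aeval_C, algebraMap_eq]

theorem exists_inverse (hli : LinearIndependent k a) :
    ∃ a' : Fin 3 → Fin 3 → k, ∀ p, phi a' (phi a p) = p := by
  classical
  let b := basisOfLinearIndependentOfCardEqFinrank hli (by simp)
  have hb : ∀ j, b j = a j := fun j => by simp [b]
  obtain ⟨N, hNdef⟩ : ∃ N : Fin 3 → Fin 3 → k,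
      N = fun l j => b.repr (Pi.single l (1 : k) : Fin 3 → k) j := ⟨_, rfl⟩
  have hN : ∀ l i, ∑ j, a j i * N l j = (Pi.single l (1 : k) : Fin 3 → k) i := by
    intro l i
    have := congrFun (b.sum_repr (Pi.single l (1 : k) : Fin 3 → k)) i
    rw [Finset.sum_apply] at this
    rw [← this, hNdef]
    refine Finset.sum_congr rfl fun j _ => ?_
    rw [Pi.smul_apply, smul_eq_mul, hb, mul_comm]
  refine ⟨N, fun p => ?_⟩
  have hcomp : (phi N).comp (phi a) = AlgHom.id k _ := by
    apply MvPolynomial.algHom_ext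
    intro i
    simp only [AlgHom.comp_apply, AlgHom.id_apply, phi, aeval_X, lin, map_sum, map_mul, aeval_C,
      algebraMap_eq]
    have key : ∀ l, ∑ j, C (a j i) * (C (N l j) * X l)
        = C ((Pi.single l (1 : k) : Fin 3 → k) i) * (X l : MvPolynomial (Fin 3) k) := by
      intro l
      rw [← hN l i, map_sum, Finset.sum_mul]
      refine Finset.sum_congr rfl fun j _ => ?_
      rw [map_mul, mul_assoc]
    simp_rw [Finset.mul_sum]
    rw [Finset.sum_comm]
    simp_rw [key]
    rw [Finset.sum_eq_single i]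
    · rw [Pi.single_eq_same, map_one, one_mul]
    · intro l _ hl
      rw [Pi.single_eq_of_ne hl.symm, map_zero, zero_mul]
    · intro h
      exact absurd (Finset.mem_univ i) h
  exact AlgHom.congr_fun hcomp p

theorem exists_coords (hli : LinearIndependent k a) (w : Fin 3 → k) :
    ∃ y : Fin 3 → k, Tm a y = w := by
  let b := basisOfLinearIndependentOfCardEqFinrank hli (by simp)
  refine ⟨fun j => b.repr w j, ?_⟩
  rw [Tm_eq]
  have := b.sum_repr w
  simp only [b, coe_basisOfLinearIndependentOfCardEqFinrank] at this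
  exact this

end Coord

/-! ### Coefficients of a quartic singular at the three coordinate points -/

theorem eval_single {σ : Type*} [Fintype σ] [DecidableEq σ] (G : MvPolynomial σ k) (n : ℕ)
    (hG : G.IsHomogeneous n) (j : σ) :
    eval (Pi.single j (1 : k)) G = coeff (Finsupp.single j n) G := by
  rw [eval_eq']
  have hterm : ∀ d ∈ G.support, d ≠ Finsupp.single j n →
      coeff d G * ∏ i, ((Pi.single j (1 : k) : σ → k) i) ^ d i = 0 := by
    intro d hd hne
    have hdeg : d.degree = n := by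
      by_contra h
      exact (mem_support_iff.mp hd) (hG.coeff_eq_zero h)
    obtain ⟨i, hij, hi⟩ : ∃ i, i ≠ j ∧ d i ≠ 0 := by
      by_contra hh
      push Not at hh
      apply hne
      ext i
      by_cases hij : i = j
      · subst hij
        rw [Finsupp.single_eq_same, ← hdeg, Finsupp.degree_eq_sum, Finset.sum_eq_single i]
        · intro b _ hb
          exact hh b hb
        · intro h
          exact absurd (Finset.mem_univ i) h
      · rw [Finsupp.single_apply, if_neg (Ne.symm hij)]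
        exact hh i hij
    rw [Finset.prod_eq_zero (Finset.mem_univ i), mul_zero]
    rw [Pi.single_apply, if_neg hij, zero_pow hi]
  have hprod : ∏ i, ((Pi.single j (1 : k) : σ → k) i) ^ (Finsupp.single j n i) = 1 := by
    apply Finset.prod_eq_one
    intro i _
    by_cases hij : i = j
    · subst hij
      rw [Pi.single_eq_same, one_pow]
    · rw [Finsupp.single_apply, if_neg (Ne.symm hij), pow_zero]
  by_cases hs : Finsupp.single j n ∈ G.support
  · rw [Finset.sum_eq_single_of_mem _ hs (fun d hd hne => hterm d hd hne), hprod, mul_one]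
  · rw [notMem_support_iff.mp hs, Finset.sum_eq_zero]
    intro d hd
    apply hterm d hd
    rintro rfl
    exact hs hd

/-- the exponent vector `(a, b, c)` -/
noncomputable def mono (a b c : ℕ) : Fin 3 →₀ ℕ :=
  Finsupp.single 0 a + Finsupp.single 1 b + Finsupp.single 2 c

theorem mono_apply (a b c : ℕ) : mono a b c 0 = a ∧ mono a b c 1 = b ∧ mono a b c 2 = c := by
  refine ⟨?_, ?_, ?_⟩ <;> simp [mono]

theorem mono_inj (a b c a' b' c' : ℕ) :
    mono a b c = mono a' b' c' ↔ a = a' ∧ b = b' ∧ c = c' := by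
  constructor
  · intro h
    have h0 := DFunLike.congr_fun h 0
    have h1 := DFunLike.congr_fun h 1
    have h2 := DFunLike.congr_fun h 2
    rw [(mono_apply a b c).1, (mono_apply a' b' c').1] at h0
    rw [(mono_apply a b c).2.1, (mono_apply a' b' c').2.1] at h1
    rw [(mono_apply a b c).2.2, (mono_apply a' b' c').2.2] at h2
    exact ⟨h0, h1, h2⟩
  · rintro ⟨rfl, rfl, rfl⟩
    rfl

theorem eq_mono (d : Fin 3 →₀ ℕ) : d = mono (d 0) (d 1) (d 2) := by
  ext i
  fin_cases i <;> simp [mono]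

theorem degree_mono (a b c : ℕ) : (mono a b c).degree = a + b + c := by
  rw [Finsupp.degree_eq_sum, Fin.sum_univ_three, (mono_apply a b c).1, (mono_apply a b c).2.1,
    (mono_apply a b c).2.2]

theorem monoP_eq (r : k) (a b c : ℕ) :
    C r * X 0 ^ a * X 1 ^ b * X 2 ^ c = (monomial (mono a b c) r : MvPolynomial (Fin 3) k) := by
  rw [X_pow_eq_monomial, X_pow_eq_monomial, X_pow_eq_monomial, C_apply, monomial_mul,
    monomial_mul, monomial_mul]
  simp [mono]

theorem structure_thm (F : MvPolynomial (Fin 3) k) (hF : F.IsHomogeneous 4)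
    (hbad : ∀ a b c : ℕ, a + b + c = 4 → (3 ≤ a ∨ 3 ≤ b ∨ 3 ≤ c) → coeff (mono a b c) F = 0) :
    F = monomial (mono 0 2 2) (coeff (mono 0 2 2) F) + monomial (mono 2 0 2) (coeff (mono 2 0 2) F)
      + monomial (mono 2 2 0) (coeff (mono 2 2 0) F) + monomial (mono 2 1 1) (coeff (mono 2 1 1) F)
      + monomial (mono 1 2 1) (coeff (mono 1 2 1) F)
      + monomial (mono 1 1 2) (coeff (mono 1 1 2) F) := by
  classical
  have key : ∀ a b c : ℕ, coeff (mono a b c) F = coeff (mono a b c)
      (monomial (mono 0 2 2) (coeff (mono 0 2 2) F) + monomial (mono 2 0 2) (coeff (mono 2 0 2) F)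
      + monomial (mono 2 2 0) (coeff (mono 2 2 0) F) + monomial (mono 2 1 1) (coeff (mono 2 1 1) F)
      + monomial (mono 1 2 1) (coeff (mono 1 2 1) F)
      + monomial (mono 1 1 2) (coeff (mono 1 1 2) F)) := by
    intro a b c
    simp only [coeff_add, coeff_monomial, mono_inj]
    by_cases hdeg : a + b + c = 4
    · by_cases h3 : 3 ≤ a ∨ 3 ≤ b ∨ 3 ≤ c
      · rw [hbad a b c hdeg h3]
        rw [if_neg (by omega), if_neg (by omega), if_neg (by omega), if_neg (by omega),
          if_neg (by omega), if_neg (by omega)]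
        simp
      · have ha2 : a ≤ 2 := by omega
        interval_cases a
        · obtain ⟨rfl, rfl⟩ : b = 2 ∧ c = 2 := by omega
          simp
        · have hc : (b = 2 ∧ c = 1) ∨ (b = 1 ∧ c = 2) := by omega
          rcases hc with ⟨rfl, rfl⟩ | ⟨rfl, rfl⟩ <;> simp
        · have hc : (b = 0 ∧ c = 2) ∨ (b = 2 ∧ c = 0) ∨ (b = 1 ∧ c = 1) := by omega
          rcases hc with ⟨rfl, rfl⟩ | ⟨rfl, rfl⟩ | ⟨rfl, rfl⟩ <;> simp
    · have h0 : coeff (mono a b c) F = 0 :=
        hF.coeff_eq_zero (by rw [degree_mono]; exact hdeg)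
      rw [h0]
      rw [if_neg (by omega), if_neg (by omega), if_neg (by omega), if_neg (by omega),
        if_neg (by omega), if_neg (by omega)]
      simp
  ext d
  rw [eq_mono d]
  exact key _ _ _

theorem coeff_single_four (F : MvPolynomial (Fin 3) k) (hF : F.IsHomogeneous 4) (j : Fin 3)
    (h : eval (Pi.single j (1 : k)) F = 0) : coeff (Finsupp.single j 4) F = 0 := by
  rw [← eval_single F 4 hF j]
  exact h

theorem coeff_single_three (F : MvPolynomial (Fin 3) k) (hF : F.IsHomogeneous 4) (i j : Fin 3)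
    (hij : i ≠ j) (h : eval (Pi.single j (1 : k)) (pderiv i F) = 0) :
    coeff (Finsupp.single j 3 + Finsupp.single i 1) F = 0 := by
  have hp : (pderiv i F).IsHomogeneous 3 := hF.pderiv
  have h1 := eval_single (pderiv i F) 3 hp j
  rw [h, coeff_pderiv, Finsupp.single_apply, if_neg (Ne.symm hij), Nat.cast_zero, zero_add,
    mul_one] at h1
  exact h1.symm

theorem bad_coeffs (F : MvPolynomial (Fin 3) k) (hF : F.IsHomogeneous 4)
    (hs : ∀ j : Fin 3, SingV F (Pi.single j 1)) (a b c : ℕ) (hsum : a + b + c = 4)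
    (h3 : 3 ≤ a ∨ 3 ≤ b ∨ 3 ≤ c) : coeff (mono a b c) F = 0 := by
  have c4 : ∀ j, coeff (Finsupp.single j 4) F = 0 := fun j =>
    coeff_single_four F hF j (hs j).1
  have c3 : ∀ i j, i ≠ j → coeff (Finsupp.single j 3 + Finsupp.single i 1) F = 0 :=
    fun i j hij => coeff_single_three F hF i j hij ((hs j).2 i)
  rcases h3 with h | h | h
  · have hcases : (a = 4 ∧ b = 0 ∧ c = 0) ∨ (a = 3 ∧ b = 1 ∧ c = 0) ∨ (a = 3 ∧ b = 0 ∧ c = 1) := by
      omega
    rcases hcases with ⟨rfl, rfl, rfl⟩ | ⟨rfl, rfl, rfl⟩ | ⟨rfl, rfl, rfl⟩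
    · have : mono 4 0 0 = Finsupp.single 0 4 := by
        ext i; fin_cases i <;> simp [mono]
      rw [this]
      exact c4 0
    · have : mono 3 1 0 = Finsupp.single 0 3 + Finsupp.single 1 1 := by
        ext i; fin_cases i <;> simp [mono]
      rw [this]
      exact c3 1 0 (by decide)
    · have : mono 3 0 1 = Finsupp.single 0 3 + Finsupp.single 2 1 := by
        ext i; fin_cases i <;> simp [mono]
      rw [this]
      exact c3 2 0 (by decide)
  · have hcases : (a = 0 ∧ b = 4 ∧ c = 0) ∨ (a = 1 ∧ b = 3 ∧ c = 0) ∨ (a = 0 ∧ b = 3 ∧ c = 1) := by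
      omega
    rcases hcases with ⟨rfl, rfl, rfl⟩ | ⟨rfl, rfl, rfl⟩ | ⟨rfl, rfl, rfl⟩
    · have : mono 0 4 0 = Finsupp.single 1 4 := by
        ext i; fin_cases i <;> simp [mono]
      rw [this]
      exact c4 1
    · have : mono 1 3 0 = Finsupp.single 1 3 + Finsupp.single 0 1 := by
        ext i; fin_cases i <;> simp [mono]
      rw [this]
      exact c3 0 1 (by decide)
    · have : mono 0 3 1 = Finsupp.single 1 3 + Finsupp.single 2 1 := by
        ext i; fin_cases i <;> simp [mono]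
      rw [this]
      exact c3 2 1 (by decide)
  · have hcases : (a = 0 ∧ b = 0 ∧ c = 4) ∨ (a = 1 ∧ b = 0 ∧ c = 3) ∨ (a = 0 ∧ b = 1 ∧ c = 3) := by
      omega
    rcases hcases with ⟨rfl, rfl, rfl⟩ | ⟨rfl, rfl, rfl⟩ | ⟨rfl, rfl, rfl⟩
    · have : mono 0 0 4 = Finsupp.single 2 4 := by
        ext i; fin_cases i <;> simp [mono]
      rw [this]
      exact c4 2
    · have : mono 1 0 3 = Finsupp.single 2 3 + Finsupp.single 0 1 := by
        ext i; fin_cases i <;> simp [mono]
      rw [this]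
      exact c3 0 2 (by decide)
    · have : mono 0 1 3 = Finsupp.single 2 3 + Finsupp.single 1 1 := by
        ext i; fin_cases i <;> simp [mono]
      rw [this]
      exact c3 1 2 (by decide)

/-! ### The quadratic transformation -/

/-- the general conic -/
noncomputable def conicP (A B Cc D E G : k) : MvPolynomial (Fin 3) k :=
  C A * X 0 ^ 2 + C B * X 1 ^ 2 + C Cc * X 2 ^ 2 + C D * (X 1 * X 2) + C E * (X 0 * X 2)
    + C G * (X 0 * X 1)

/-- the standard quadratic transformation, as polynomials -/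
noncomputable def crP : Fin 3 → MvPolynomial (Fin 3) k := ![X 1 * X 2, X 0 * X 2, X 0 * X 1]

/-- the standard quadratic transformation, on vectors -/
def cr (x : Fin 3 → k) : Fin 3 → k := ![x 1 * x 2, x 0 * x 2, x 0 * x 1]

theorem crP_0 : (crP 0 : MvPolynomial (Fin 3) k) = X 1 * X 2 := rfl
theorem crP_1 : (crP 1 : MvPolynomial (Fin 3) k) = X 0 * X 2 := rfl
theorem crP_2 : (crP 2 : MvPolynomial (Fin 3) k) = X 0 * X 1 := rfl
theorem cr_0 (x : Fin 3 → k) : cr x 0 = x 1 * x 2 := rfl
theorem cr_1 (x : Fin 3 → k) : cr x 1 = x 0 * x 2 := rfl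
theorem cr_2 (x : Fin 3 → k) : cr x 2 = x 0 * x 1 := rfl

theorem conicP_homog (A B Cc D E G : k) : (conicP A B Cc D E G).IsHomogeneous 2 := by
  unfold conicP
  have hX : ∀ i j : Fin 3, ((X i : MvPolynomial (Fin 3) k) * X j).IsHomogeneous 2 :=
    fun i j => (isHomogeneous_X k i).mul (isHomogeneous_X k j)
  exact (((((isHomogeneous_C_mul_X_pow A 0 2).add (isHomogeneous_C_mul_X_pow B 1 2)).add
    (isHomogeneous_C_mul_X_pow Cc 2 2)).add ((hX 1 2).C_mul D)).add ((hX 0 2).C_mul E)).add
    ((hX 0 1).C_mul G)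

theorem F_eq_aeval (F : MvPolynomial (Fin 3) k) (hF : F.IsHomogeneous 4)
    (hs : ∀ j : Fin 3, SingV F (Pi.single j 1)) :
    ∃ A B Cc D E G : k, F = aeval crP (conicP A B Cc D E G) := by
  have h := structure_thm F hF (bad_coeffs F hF hs)
  refine ⟨coeff (mono 0 2 2) F, coeff (mono 2 0 2) F, coeff (mono 2 2 0) F,
    coeff (mono 2 1 1) F, coeff (mono 1 2 1) F, coeff (mono 1 1 2) F, ?_⟩
  obtain ⟨A, hA⟩ : ∃ A, A = coeff (mono 0 2 2) F := ⟨_, rfl⟩
  obtain ⟨B, hB⟩ : ∃ B, B = coeff (mono 2 0 2) F := ⟨_, rfl⟩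
  obtain ⟨Cc, hCc⟩ : ∃ Cc, Cc = coeff (mono 2 2 0) F := ⟨_, rfl⟩
  obtain ⟨D, hD⟩ : ∃ D, D = coeff (mono 2 1 1) F := ⟨_, rfl⟩
  obtain ⟨E, hE⟩ : ∃ E, E = coeff (mono 1 2 1) F := ⟨_, rfl⟩
  obtain ⟨G, hG⟩ : ∃ G, G = coeff (mono 1 1 2) F := ⟨_, rfl⟩
  rw [← hA, ← hB, ← hCc, ← hD, ← hE, ← hG] at h ⊢
  rw [h]
  simp only [← monoP_eq]
  simp only [conicP, map_add, map_mul, map_pow, aeval_C, aeval_X, algebraMap_eq, crP_0, crP_1,
    crP_2]
  ring

theorem eval_pderiv_crP (x : Fin 3 → k) :
    eval x (pderiv 0 (crP 0 : MvPolynomial (Fin 3) k)) = 0 ∧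
    eval x (pderiv 0 (crP 1 : MvPolynomial (Fin 3) k)) = x 2 ∧
    eval x (pderiv 0 (crP 2 : MvPolynomial (Fin 3) k)) = x 1 ∧
    eval x (pderiv 1 (crP 0 : MvPolynomial (Fin 3) k)) = x 2 ∧
    eval x (pderiv 1 (crP 1 : MvPolynomial (Fin 3) k)) = 0 ∧
    eval x (pderiv 1 (crP 2 : MvPolynomial (Fin 3) k)) = x 0 ∧
    eval x (pderiv 2 (crP 0 : MvPolynomial (Fin 3) k)) = x 1 ∧
    eval x (pderiv 2 (crP 1 : MvPolynomial (Fin 3) k)) = x 0 ∧
    eval x (pderiv 2 (crP 2 : MvPolynomial (Fin 3) k)) = 0 := by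
  refine ⟨?_, ?_, ?_, ?_, ?_, ?_, ?_, ?_, ?_⟩ <;>
    simp [crP_0, crP_1, crP_2, pderiv_X]

theorem singV_conic (Gp : MvPolynomial (Fin 3) k) (hGp : Gp.IsHomogeneous 2) (x : Fin 3 → k)
    (hx : SingV (aeval crP Gp) x) (h0 : x 0 ≠ 0) (h1 : x 1 ≠ 0) (h2 : x 2 ≠ 0) :
    SingV Gp (cr x) := by
  have hev : ∀ p : MvPolynomial (Fin 3) k, eval x (aeval crP p) = eval (cr x) p := by
    intro p
    rw [eval_aeval]
    have : (fun i => eval x (crP i)) = cr x := by
      funext i
      fin_cases i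
      · show eval x (crP 0) = cr x 0
        rw [crP_0, cr_0, map_mul, eval_X, eval_X]
      · show eval x (crP 1) = cr x 1
        rw [crP_1, cr_1, map_mul, eval_X, eval_X]
      · show eval x (crP 2) = cr x 2
        rw [crP_2, cr_2, map_mul, eval_X, eval_X]
    rw [this]
  have hG0 : eval (cr x) Gp = 0 := by
    rw [← hev]
    exact hx.1
  have hE := dd_self Gp 2 hGp (cr x)
  rw [hG0, mul_zero] at hE
  unfold dd at hE
  rw [Fin.sum_univ_three, cr_0, cr_1, cr_2] at hE
  have hd : ∀ j, ∑ i, eval (cr x) (pderiv i Gp) * eval x (pderiv j (crP i)) = 0 := by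
    intro j
    have := hx.2 j
    rw [pderiv_aeval, map_sum] at this
    simp only [map_mul, hev] at this
    exact this
  have hd0 := hd 0
  have hd1 := hd 1
  have hd2 := hd 2
  obtain ⟨e00, e01, e02, e10, e11, e12, e20, e21, e22⟩ := eval_pderiv_crP x
  rw [Fin.sum_univ_three, e00, e01, e02] at hd0
  rw [Fin.sum_univ_three, e10, e11, e12] at hd1
  rw [Fin.sum_univ_three, e20, e21, e22] at hd2
  refine ⟨hG0, fun i => ?_⟩
  fin_cases i
  · show eval (cr x) (pderiv 0 Gp) = 0
    have : eval (cr x) (pderiv 0 Gp) * (x 1 * x 2) = 0 := by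
      linear_combination hE - x 0 * hd0
    exact (mul_eq_zero.mp this).resolve_right (mul_ne_zero h1 h2)
  · show eval (cr x) (pderiv 1 Gp) = 0
    have : eval (cr x) (pderiv 1 Gp) * (x 0 * x 2) = 0 := by
      linear_combination hE - x 1 * hd1
    exact (mul_eq_zero.mp this).resolve_right (mul_ne_zero h0 h2)
  · show eval (cr x) (pderiv 2 Gp) = 0
    have : eval (cr x) (pderiv 2 Gp) * (x 0 * x 1) = 0 := by
      linear_combination hE - x 2 * hd2
    exact (mul_eq_zero.mp this).resolve_right (mul_ne_zero h0 h1)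

theorem cr_indep (y z : Fin 3 → k) (hy : ∀ i, y i ≠ 0) (hz : ∀ i, z i ≠ 0)
    (hyz : LinearIndependent k ![y, z]) : LinearIndependent k ![cr y, cr z] := by
  rw [LinearIndependent.pair_iff]
  intro s t hst
  have e0 := congrFun hst 0
  have e1 := congrFun hst 1
  have e2 := congrFun hst 2
  simp only [Pi.add_apply, Pi.smul_apply, smul_eq_mul, cr_0, cr_1, cr_2, Pi.zero_apply]
    at e0 e1 e2
  by_cases hs : s = 0
  · refine ⟨hs, ?_⟩
    rw [hs, zero_mul, zero_add] at e0
    exact (mul_eq_zero.mp e0).resolve_right (mul_ne_zero (hz 1) (hz 2))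
  · exfalso
    have k1 : s * y 2 * z 2 * (y 1 * z 0 - y 0 * z 1) = 0 := by
      linear_combination (z 0 * z 2) * e0 - (z 1 * z 2) * e1
    have k2 : s * y 1 * z 1 * (y 2 * z 0 - y 0 * z 2) = 0 := by
      linear_combination (z 0 * z 1) * e0 - (z 1 * z 2) * e2
    have r1 : y 1 * z 0 - y 0 * z 1 = 0 :=
      (mul_eq_zero.mp k1).resolve_left (mul_ne_zero (mul_ne_zero hs (hy 2)) (hz 2))
    have r2 : y 2 * z 0 - y 0 * z 2 = 0 :=
      (mul_eq_zero.mp k2).resolve_left (mul_ne_zero (mul_ne_zero hs (hy 1)) (hz 1))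
    have hall : ∀ i, z 0 * y i + (- y 0) * z i = 0 := by
      intro i
      fin_cases i
      · show z 0 * y 0 + (- y 0) * z 0 = 0
        ring
      · show z 0 * y 1 + (- y 0) * z 1 = 0
        linear_combination r1
      · show z 0 * y 2 + (- y 0) * z 2 = 0
        linear_combination r2
    rw [LinearIndependent.pair_iff] at hyz
    have := hyz (z 0) (- y 0) (by
      funext i
      rw [Pi.add_apply, Pi.smul_apply, Pi.smul_apply, smul_eq_mul, smul_eq_mul, Pi.zero_apply]
      exact hall i)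
    exact hz 0 this.1

/-! ### The main contradiction -/

theorem not_mem_span_of_sing [Infinite k] (f : MvPolynomial (Fin 3) k) (hf : f.IsHomogeneous 4)
    (hno : ∀ c : Fin 3 → k, c ≠ 0 → ¬ lin c ∣ f) (a b w : Fin 3 → k) (ha : SingV f a)
    (hb : SingV f b) (hw : eval w f = 0) (hab : LinearIndependent k ![a, b])
    (haw : LinearIndependent k ![a, w]) (hbw : LinearIndependent k ![b, w]) :
    w ∉ Submodule.span k ({a, b} : Set (Fin 3 → k)) := by
  intro hmem
  rw [Submodule.mem_span_pair] at hmem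
  obtain ⟨s, t, hst⟩ := hmem
  have hs : s ≠ 0 := by
    rintro rfl
    rw [zero_smul, zero_add] at hst
    rw [LinearIndependent.pair_iff] at hbw
    have := hbw t (-1) (by rw [hst, neg_smul, one_smul, add_neg_cancel])
    have h1 : (-1 : k) = 0 := this.2
    rw [neg_eq_zero] at h1
    exact one_ne_zero h1
  have ht : t ≠ 0 := by
    rintro rfl
    rw [zero_smul, add_zero] at hst
    rw [LinearIndependent.pair_iff] at haw
    have := haw s (-1) (by rw [hst, neg_smul, one_smul, add_neg_cancel])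
    have h1 : (-1 : k) = 0 := this.2
    rw [neg_eq_zero] at h1
    exact one_ne_zero h1
  have hv := vanish_of_two_sing4 f hf a b ha hb s t hs ht (by rw [hst]; exact hw)
  obtain ⟨hm, hdvd⟩ := lin_dvd_of_vanish_span f a b hab hv
  exact hno _ hm hdvd

theorem coords_ne_zero [Infinite k] (f : MvPolynomial (Fin 3) k) (hf : f.IsHomogeneous 4)
    (hno : ∀ c : Fin 3 → k, c ≠ 0 → ¬ lin c ∣ f) (a₀ a₁ a₂ w : Fin 3 → k)
    (h0 : SingV f a₀) (h1 : SingV f a₁) (h2 : SingV f a₂) (hw : eval w f = 0)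
    (l01 : LinearIndependent k ![a₀, a₁]) (l02 : LinearIndependent k ![a₀, a₂])
    (l12 : LinearIndependent k ![a₁, a₂]) (l0w : LinearIndependent k ![a₀, w])
    (l1w : LinearIndependent k ![a₁, w]) (l2w : LinearIndependent k ![a₂, w])
    (y : Fin 3 → k) (hy : y 0 • a₀ + y 1 • a₁ + y 2 • a₂ = w) : ∀ i, y i ≠ 0 := by
  intro i
  fin_cases i
  · show y 0 ≠ 0
    intro h
    apply not_mem_span_of_sing f hf hno a₁ a₂ w h1 h2 hw l12 l1w l2w
    rw [Submodule.mem_span_pair]
    exact ⟨y 1, y 2, by rw [← hy, h, zero_smul, zero_add]⟩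
  · show y 1 ≠ 0
    intro h
    apply not_mem_span_of_sing f hf hno a₀ a₂ w h0 h2 hw l02 l0w l2w
    rw [Submodule.mem_span_pair]
    exact ⟨y 0, y 2, by rw [← hy, h, zero_smul, add_zero]⟩
  · show y 2 ≠ 0
    intro h
    apply not_mem_span_of_sing f hf hno a₀ a₁ w h0 h1 hw l01 l0w l1w
    rw [Submodule.mem_span_pair]
    exact ⟨y 0, y 1, by rw [← hy, h, zero_smul, add_zero]⟩

theorem five_sing_contra [Infinite k] (f : MvPolynomial (Fin 3) k) (hf : f.IsHomogeneous 4)
    (hsq : Squarefree f) (hno : ∀ c : Fin 3 → k, c ≠ 0 → ¬ lin c ∣ f)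
    (v : Fin 5 → Fin 3 → k) (hs : ∀ i, SingV f (v i))
    (hli : ∀ i j, i ≠ j → LinearIndependent k ![v i, v j]) : False := by
  have l01 := hli 0 1 (by decide)
  have l02 := hli 0 2 (by decide)
  have l12 := hli 1 2 (by decide)
  have l03 := hli 0 3 (by decide)
  have l13 := hli 1 3 (by decide)
  have l23 := hli 2 3 (by decide)
  have l04 := hli 0 4 (by decide)
  have l14 := hli 1 4 (by decide)
  have l24 := hli 2 4 (by decide)
  have l34 := hli 3 4 (by decide)
  have hnm : v 2 ∉ Submodule.span k ({v 0, v 1} : Set (Fin 3 → k)) :=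
    not_mem_span_of_sing f hf hno (v 0) (v 1) (v 2) (hs 0) (hs 1) (hs 2).1 l01 l02 l12
  have hli3 : LinearIndependent k ![v 0, v 1, v 2] := li3_of_not_mem l01 hnm
  obtain ⟨a, ha⟩ : ∃ a : Fin 3 → Fin 3 → k, a = ![v 0, v 1, v 2] := ⟨_, rfl⟩
  have ha0 : a 0 = v 0 := by rw [ha]; rfl
  have ha1 : a 1 = v 1 := by rw [ha]; rfl
  have ha2 : a 2 = v 2 := by rw [ha]; rfl
  have hlia : LinearIndependent k a := by rw [ha]; exact hli3
  obtain ⟨y, hy⟩ := exists_coords a hlia (v 3)
  obtain ⟨z, hz⟩ := exists_coords a hlia (v 4)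
  have hy' : y 0 • v 0 + y 1 • v 1 + y 2 • v 2 = v 3 := by
    rw [← hy, Tm_eq, Fin.sum_univ_three, ha0, ha1, ha2]
  have hz' : z 0 • v 0 + z 1 • v 1 + z 2 • v 2 = v 4 := by
    rw [← hz, Tm_eq, Fin.sum_univ_three, ha0, ha1, ha2]
  have hyne := coords_ne_zero f hf hno (v 0) (v 1) (v 2) (v 3) (hs 0) (hs 1) (hs 2) (hs 3).1
    l01 l02 l12 l03 l13 l23 y hy'
  have hzne := coords_ne_zero f hf hno (v 0) (v 1) (v 2) (v 4) (hs 0) (hs 1) (hs 2) (hs 4).1
    l01 l02 l12 l04 l14 l24 z hz'
  have hyz : LinearIndependent k ![y, z] := by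
    rw [LinearIndependent.pair_iff]
    intro s t hst
    have := congrArg (Tm a) hst
    rw [Tm_lin, hy, hz, Tm_zero] at this
    exact (LinearIndependent.pair_iff.mp l34) s t this
  obtain ⟨F, hFdef⟩ : ∃ F, F = phi a f := ⟨_, rfl⟩
  have hFh : F.IsHomogeneous 4 := by
    rw [hFdef]
    exact phi_homog a f 4 hf
  have hFs : ∀ j : Fin 3, SingV F (Pi.single j 1) := by
    intro j
    rw [hFdef]
    apply singV_phi
    rw [Tm_single]
    fin_cases j
    · show SingV f (a 0)
      rw [ha0]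
      exact hs 0
    · show SingV f (a 1)
      rw [ha1]
      exact hs 1
    · show SingV f (a 2)
      rw [ha2]
      exact hs 2
  have hFy : SingV F y := by
    rw [hFdef]
    apply singV_phi
    rw [hy]
    exact hs 3
  have hFz : SingV F z := by
    rw [hFdef]
    apply singV_phi
    rw [hz]
    exact hs 4
  obtain ⟨A, B, Cc, D, E, G, hFG⟩ := F_eq_aeval F hFh hFs
  have hGh := conicP_homog A B Cc D E G
  have hGy : SingV (conicP A B Cc D E G) (cr y) :=
    singV_conic _ hGh y (by rw [← hFG]; exact hFy) (hyne 0) (hyne 1) (hyne 2)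
  have hGz : SingV (conicP A B Cc D E G) (cr z) :=
    singV_conic _ hGh z (by rw [← hFG]; exact hFz) (hzne 0) (hzne 1) (hzne 2)
  have hcr := cr_indep y z hyne hzne hyz
  obtain ⟨m, hm, r, hr⟩ := double_line _ hGh (cr y) (cr z) hcr hGy hGz
  obtain ⟨a', ha'⟩ := exists_inverse a hlia
  have hf_eq : f = phi a' (aeval crP (lin m)) * phi a' (aeval crP (lin m)) * C r := by
    rw [← ha' f, ← hFdef, hFG, hr]
    simp only [map_mul, aeval_C, algebraMap_eq, phi_C]
    ring
  have hunit : IsUnit (phi a' (aeval crP (lin m))) := hsq _ ⟨C r, hf_eq⟩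
  have hev0 : eval 0 (phi a' (aeval crP (lin m))) = 0 := by
    rw [eval_phi, Tm_zero, eval_aeval]
    have : (fun i => eval (0 : Fin 3 → k) (crP i)) = 0 := by
      funext i
      fin_cases i
      · show eval 0 (crP 0) = 0
        rw [crP_0, map_mul, eval_X]
        simp
      · show eval 0 (crP 1) = 0
        rw [crP_1, map_mul, eval_X]
        simp
      · show eval 0 (crP 2) = 0
        rw [crP_2, map_mul, eval_X]
        simp
    rw [this, eval_lin]
    simp
  have h0 := hunit.map (eval (0 : Fin 3 → k))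
  rw [hev0] at h0
  exact not_isUnit_zero h0

/-- a squarefree plane quartic has at most six singular points -/
theorem N4 [Infinite k] (f : MvPolynomial (Fin 3) k) (hf : f.IsHomogeneous 4)
    (hsq : Squarefree f) : (SingP f).encard ≤ 6 := by
  by_cases h : ∃ c : Fin 3 → k, c ≠ 0 ∧ lin c ∣ f
  · obtain ⟨c, hc, hd⟩ := h
    exact N4_lin f hf hsq c hc hd
  · push Not at h
    have h4 : (SingP f).encard ≤ ((4 : ℕ) : ℕ∞) := by
      apply encard_le_of_no_inj
      intro p hp hmem
      apply five_sing_contra f hf hsq h (fun i => (p i).rep) (fun i => hmem i)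
      intro i j hij
      exact Projectivization.linearIndependent_pair_iff_ne.mpr (fun e => hij (hp e))
    exact h4.trans (by norm_num)

end Groth.Agent.Lib.Helper6.Quartic
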