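import Mathlib

/-!
# Reducedness of tensor products and tensor powers over a field (helper6)

`isReduced_tensor`: if `R` is geometrically reduced over the field `K` and `R'` is reduced then
`R ⊗[K] R'` is reduced. `isReduced_tpower`: tensor powers of a geometrically reduced algebra are
reduced.
-/

set_option autoImplicit false
set_option linter.style.haveILetI false
set_option linter.unusedVariables false
universe u
open scoped TensorProduct

namespace Groth.Agent.Lib.helper6.RedTensor

theorem isReduced_tensor (K : Type u) [Field K] (R R' : Type u) [CommRing R] [Algebra K R]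
    [CommRing R'] [Algebra K R']
    (hR : ∀ (L : Type u) [Field L] [Algebra K L], IsReduced (R ⊗[K] L)) [IsReduced R'] :
    IsReduced (R ⊗[K] R') := by
  classical
  constructor
  intro z hz
  by_contra hne
  obtain ⟨ι, ⟨ℬ⟩⟩ : ∃ ι : Type u, Nonempty (Module.Basis ι K R) :=
    ⟨_, ⟨Module.Free.chooseBasis K R⟩⟩
  have h1 : TensorProduct.equivFinsuppOfBasisLeft (N := R') ℬ z ≠ 0 := fun h =>
    hne ((LinearEquiv.map_eq_zero_iff _).1 h)
  obtain ⟨i, hi⟩ : ∃ i, TensorProduct.equivFinsuppOfBasisLeft (N := R') ℬ z i ≠ 0 := by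
    by_contra hh
    push Not at hh
    exact h1 (Finsupp.ext hh)
  have hnn : TensorProduct.equivFinsuppOfBasisLeft (N := R') ℬ z i ∉ nilradical R' := by
    rw [nilradical_eq_zero, Ideal.zero_eq_bot, Ideal.mem_bot]
    exact hi
  rw [nilradical_eq_sInf, Ideal.mem_sInf] at hnn
  push Not at hnn
  obtain ⟨p, hp, hnot⟩ := hnn
  haveI : p.IsPrime := hp
  have hφ : algebraMap R' p.ResidueField
      (TensorProduct.equivFinsuppOfBasisLeft (N := R') ℬ z i) ≠ 0 := by
    rw [Ne, Ideal.algebraMap_residueField_eq_zero]
    exact hnot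
  have hnil : IsNilpotent (Algebra.TensorProduct.map (AlgHom.id K R)
      (IsScalarTower.toAlgHom K R' p.ResidueField) z) := hz.map _
  haveI := hR p.ResidueField
  have hz0 := hnil.eq_zero
  have hcoord : ∀ w : R ⊗[K] R',
      TensorProduct.equivFinsuppOfBasisLeft (N := p.ResidueField) ℬ
        (Algebra.TensorProduct.map (AlgHom.id K R)
          (IsScalarTower.toAlgHom K R' p.ResidueField) w) i =
      algebraMap R' p.ResidueField (TensorProduct.equivFinsuppOfBasisLeft (N := R') ℬ w i) := by
    intro w
    induction w using TensorProduct.induction_on with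
    | zero => simp
    | tmul r r' =>
      rw [Algebra.TensorProduct.map_tmul, TensorProduct.equivFinsuppOfBasisLeft_apply_tmul_apply,
        TensorProduct.equivFinsuppOfBasisLeft_apply_tmul_apply]
      show (ℬ.repr r) i • (IsScalarTower.toAlgHom K R' p.ResidueField) r' =
        (IsScalarTower.toAlgHom K R' p.ResidueField) ((ℬ.repr r) i • r')
      rw [map_smul]
    | add w w' h h' =>
      rw [map_add, map_add, Finsupp.add_apply, h, h', map_add, Finsupp.add_apply, map_add]
  have h3 := hcoord z
  rw [hz0, map_zero, Finsupp.zero_apply] at h3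
  exact hφ h3.symm

section tpower

variable (K : Type u) [Field K] (R : Type u) [CommRing R] [Algebra K R]

/-- split off the first factor of a tensor power -/
noncomputable def splitHom (d : ℕ) :
    (⨂[K] _ : Fin (d + 1), R) →ₐ[K] R ⊗[K] (⨂[K] _ : Fin d, R) :=
  PiTensorProduct.liftAlgHom
    (LinearMap.uncurryLeft (M := fun _ : Fin (d + 1) => R)
      { toFun := fun r => (TensorProduct.mk K R (⨂[K] _ : Fin d, R) r).compMultilinearMap
          (PiTensorProduct.tprod K)
        map_add' := fun r r' => by
          ext s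
          simp only [LinearMap.compMultilinearMap_apply, TensorProduct.mk_apply,
            MultilinearMap.add_apply, TensorProduct.add_tmul]
        map_smul' := fun c r => by
          ext s
          simp only [LinearMap.compMultilinearMap_apply, TensorProduct.mk_apply,
            MultilinearMap.smul_apply, RingHom.id_apply, TensorProduct.smul_tmul'] })
    (by
      rw [LinearMap.uncurryLeft_apply]
      rfl)
    (by
      intro x y
      rw [LinearMap.uncurryLeft_apply, LinearMap.uncurryLeft_apply, LinearMap.uncurryLeft_apply]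
      show (x 0 * y 0) ⊗ₜ[K] PiTensorProduct.tprod K (Fin.tail (x * y)) =
        (x 0 ⊗ₜ[K] PiTensorProduct.tprod K (Fin.tail x)) *
          (y 0 ⊗ₜ[K] PiTensorProduct.tprod K (Fin.tail y))
      rw [Algebra.TensorProduct.tmul_mul_tmul, PiTensorProduct.tprod_mul_tprod]
      rfl)

theorem splitHom_tprod (d : ℕ) (r : Fin (d + 1) → R) :
    splitHom K R d (PiTensorProduct.tprod K r) =
      r 0 ⊗ₜ[K] PiTensorProduct.tprod K (Fin.tail r) := by
  unfold splitHom
  rw [PiTensorProduct.liftAlgHom_apply, PiTensorProduct.lift.tprod, LinearMap.uncurryLeft_apply]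
  rfl

/-- the inverse map -/
noncomputable def joinLin (d : ℕ) :
    R ⊗[K] (⨂[K] _ : Fin d, R) →ₗ[K] (⨂[K] _ : Fin (d + 1), R) :=
  TensorProduct.lift
    ((PiTensorProduct.lift (R := K) (s := fun _ : Fin d => R)
        (E := ⨂[K] _ : Fin (d + 1), R)).toLinearMap ∘ₗ
      (MultilinearMap.curryLeft
        (PiTensorProduct.tprod K : MultilinearMap K (fun _ : Fin (d + 1) => R) _)))

theorem joinLin_tmul (d : ℕ) (r : R) (s : Fin d → R) :
    joinLin K R d (r ⊗ₜ[K] PiTensorProduct.tprod K s) =
      PiTensorProduct.tprod K (Fin.cons r s : Fin (d + 1) → R) := by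
  unfold joinLin
  rw [TensorProduct.lift.tmul, LinearMap.comp_apply]
  show PiTensorProduct.lift _ (PiTensorProduct.tprod K s) = _
  rw [PiTensorProduct.lift.tprod, MultilinearMap.curryLeft_apply]

theorem join_split (d : ℕ) (z : ⨂[K] _ : Fin (d + 1), R) :
    joinLin K R d (splitHom K R d z) = z := by
  induction z using PiTensorProduct.induction_on with
  | smul_tprod c r =>
    rw [map_smul, map_smul, splitHom_tprod, joinLin_tmul, Fin.cons_self_tail]
  | add x y hx hy => rw [map_add, map_add, hx, hy]

theorem splitHom_injective (d : ℕ) : Function.Injective (splitHom K R d) :=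
  Function.LeftInverse.injective (join_split K R d)

theorem isReduced_tpower_zero : IsReduced (⨂[K] _ : Fin 0, R) := by
  have hsurj : ∀ z : ⨂[K] _ : Fin 0, R, ∃ a : K, algebraMap K (⨂[K] _ : Fin 0, R) a = z := by
    intro z
    induction z using PiTensorProduct.induction_on with
    | smul_tprod r f =>
      refine ⟨r, ?_⟩
      rw [Algebra.algebraMap_eq_smul_one, PiTensorProduct.one_def]
      congr 2
      exact Subsingleton.elim _ _
    | add x y hx hy =>
      obtain ⟨a, rfl⟩ := hx
      obtain ⟨b, rfl⟩ := hy
      exact ⟨a + b, map_add _ _ _⟩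
  constructor
  intro z hz
  obtain ⟨a, rfl⟩ := hsurj z
  by_cases ha : a = 0
  · rw [ha, map_zero]
  · obtain ⟨n, hn⟩ := hz
    have hu : IsUnit (algebraMap K (⨂[K] _ : Fin 0, R) a) := (isUnit_iff_ne_zero.2 ha).map _
    have hu' : IsUnit ((algebraMap K (⨂[K] _ : Fin 0, R) a) ^ n) := hu.pow n
    rw [hn] at hu'
    have h01 : (0 : ⨂[K] _ : Fin 0, R) = 1 := isUnit_zero_iff.1 hu'
    calc algebraMap K (⨂[K] _ : Fin 0, R) a = algebraMap K (⨂[K] _ : Fin 0, R) a * 1 :=
          (mul_one _).symm
      _ = algebraMap K (⨂[K] _ : Fin 0, R) a * 0 := by rw [h01]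
      _ = 0 := mul_zero _

theorem isReduced_tpower
    (hR : ∀ (L : Type u) [Field L] [Algebra K L], IsReduced (R ⊗[K] L)) (d : ℕ) :
    IsReduced (⨂[K] _ : Fin d, R) := by
  induction d with
  | zero => exact isReduced_tpower_zero K R
  | succ d ih =>
    haveI := ih
    haveI := isReduced_tensor K R (⨂[K] _ : Fin d, R) hR
    exact isReduced_of_injective (splitHom K R d) (splitHom_injective K R d)

end tpower

end Groth.Agent.Lib.helper6.RedTensor
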