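import Mathlib
import Groth.Prelude.Def_W4c1hurwitzcptBd

/-!
# Lattices in the root disk `k⟦x⟧` over `k⟦t⟧`, `t = x ^ p` (helper6)

Main result `exists_basis`: an `R = k⟦t⟧`-submodule `M` of `k⟦x⟧` (with `t ↦ x^p`) of `finrank` `p`
has a basis indexed by `Fin p` whose `x`-adic valuations are pairwise incongruent modulo `p`.
-/

set_option autoImplicit false
universe u

namespace Groth.Agent.Lib.helper6.RootLat

open W4c1hurwitzcpt PowerSeries

variable {p : ℕ} [NeZero p] {k : Type u} [Field k]

theorem val_smul (r : PowerSeries k) (f : RootDisk p k) :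
    RootDisk.val (r • f) = expand p (NeZero.ne p) r * RootDisk.val f := rfl

variable (p k) in
/-- `x ^ j` as an element of the root disk. -/
noncomputable def xpow (j : ℕ) : RootDisk p k := (RootDisk.val (p := p) (k := k)).symm (X ^ j)

theorem val_xpow (j : ℕ) : RootDisk.val (xpow p k j) = (X : PowerSeries k) ^ j := rfl

theorem span_pow :
    Submodule.span (PowerSeries k) (Set.range (fun j : Fin p => xpow p k (j : ℕ))) = ⊤ := by
  have hp : 0 < p := Nat.pos_of_ne_zero (NeZero.ne p)
  rw [eq_top_iff]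
  intro f _
  have key : f = ∑ j : Fin p,
      (PowerSeries.mk fun n => coeff (p * n + j) (RootDisk.val f)) • xpow p k (j : ℕ) := by
    apply RootDisk.val.injective
    rw [map_sum]
    refine PowerSeries.ext fun m => ?_
    rw [map_sum]
    simp only [val_smul, val_xpow]
    rw [Finset.sum_eq_single (⟨m % p, Nat.mod_lt _ hp⟩ : Fin p)]
    · rw [coeff_mul_X_pow', if_pos (Nat.mod_le m p), coeff_expand, if_pos (Nat.dvd_sub_mod m),
        coeff_mk]
      congr 1
      rw [Nat.mul_div_cancel' (Nat.dvd_sub_mod m), Nat.sub_add_cancel (Nat.mod_le m p)]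
    · intro j _ hj
      rw [coeff_mul_X_pow']
      split_ifs with h1
      · rw [coeff_expand, if_neg]
        intro hdvd
        apply hj
        have h2 : (j : ℕ) ≡ m [MOD p] := (Nat.modEq_iff_dvd' h1).2 hdvd
        have h3 : (j : ℕ) % p = m % p := h2
        rw [Nat.mod_eq_of_lt j.2] at h3
        exact Fin.ext h3
      · rfl
    · intro h; exact absurd (Finset.mem_univ _) h
  rw [key]
  exact Submodule.sum_mem _ (fun j _ => Submodule.smul_mem _ _ (Submodule.subset_span ⟨j, rfl⟩))

variable (p k) in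
theorem finite_S : Module.Finite (PowerSeries k) (RootDisk p k) := by
  rw [Module.finite_def, ← span_pow (p := p) (k := k)]
  exact Submodule.fg_span (Set.finite_range _)

theorem finrank_S_le : Module.finrank (PowerSeries k) (RootDisk p k) ≤ p := by
  have h := finrank_range_le_card (R := PowerSeries k) (fun j : Fin p => xpow p k (j : ℕ))
  rw [Set.finrank, span_pow, finrank_top, Fintype.card_fin] at h
  exact h

theorem exists_smul_mem (M : Submodule (PowerSeries k) (RootDisk p k))
    (hM : Module.finrank (PowerSeries k) M = p) (f : RootDisk p k) :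
    ∃ r : PowerSeries k, r ≠ 0 ∧ r • f ∈ M := by
  have := finite_S p k
  have h1 := Submodule.finrank_quotient_add_finrank M
  have h2 := finrank_S_le (p := p) (k := k)
  have h3 : Module.finrank (PowerSeries k) (RootDisk p k ⧸ M) = 0 := by omega
  have h4 := Module.finrank_eq_zero_iff_isTorsion.1 h3
  obtain ⟨a, ha⟩ := @h4 (Submodule.Quotient.mk f)
  refine ⟨a, nonZeroDivisors.coe_ne_zero a, ?_⟩
  have ha' : (a : PowerSeries k) • (Submodule.Quotient.mk f : RootDisk p k ⧸ M) = 0 := ha
  rw [← Submodule.Quotient.mk_smul, Submodule.Quotient.mk_eq_zero] at ha'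
  exact ha'

theorem exists_pow_smul_mem (M : Submodule (PowerSeries k) (RootDisk p k))
    (hM : Module.finrank (PowerSeries k) M = p) :
    ∃ N0 : ℕ, ∀ f : RootDisk p k, ((X : PowerSeries k) ^ N0) • f ∈ M := by
  have h1 : ∀ j : Fin p, ∃ n : ℕ, ((X : PowerSeries k) ^ n) • xpow p k (j : ℕ) ∈ M := by
    intro j
    obtain ⟨r, hr, hmem⟩ := exists_smul_mem M hM (xpow p k (j : ℕ))
    obtain ⟨n, u, hu⟩ := IsDiscreteValuationRing.eq_unit_mul_pow_irreducible hr
      (PowerSeries.X_prime (R := k)).irreducible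
    refine ⟨n, ?_⟩
    have h2 : ((X : PowerSeries k) ^ n) • xpow p k (j : ℕ)
        = ((u⁻¹ : (PowerSeries k)ˣ) : PowerSeries k) • (r • xpow p k (j : ℕ)) := by
      rw [smul_smul, hu, ← mul_assoc, Units.inv_mul, one_mul]
    rw [h2]
    exact M.smul_mem _ hmem
  choose n hn using h1
  refine ⟨∑ j, n j, fun f => ?_⟩
  have h3 : Submodule.span (PowerSeries k) (Set.range (fun j : Fin p => xpow p k (j : ℕ)))
      ≤ M.comap (LinearMap.lsmul (PowerSeries k) (RootDisk p k) ((X : PowerSeries k) ^ ∑ j, n j)) := by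
    rw [Submodule.span_le]
    rintro _ ⟨j, rfl⟩
    show ((X : PowerSeries k) ^ ∑ j, n j) • xpow p k (j : ℕ) ∈ M
    have h4 : ∑ j, n j = (∑ j, n j - n j) + n j :=
      (Nat.sub_add_cancel (Finset.single_le_sum (fun _ _ => Nat.zero_le _) (Finset.mem_univ j))).symm
    rw [h4, pow_add, mul_smul]
    exact M.smul_mem _ (hn j)
  have h5 : f ∈ Submodule.span (PowerSeries k)
      (Set.range (fun j : Fin p => xpow p k (j : ℕ))) := by
    rw [span_pow]; trivial
  exact h3 h5

theorem mem_smul_of_large (M : Submodule (PowerSeries k) (RootDisk p k)) (N0 : ℕ)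
    (hN0 : ∀ f : RootDisk p k, ((X : PowerSeries k) ^ N0) • f ∈ M) (f : RootDisk p k)
    (hf : ((p * (N0 + 1) : ℕ) : ℕ∞) ≤ (RootDisk.val f).order) :
    f ∈ (Ideal.span {(X : PowerSeries k)}) • M := by
  have hdvd : (X : PowerSeries k) ^ (p * (N0 + 1)) ∣ RootDisk.val f := by
    rw [X_pow_dvd_iff]
    intro m hm
    exact coeff_of_lt_order m (lt_of_lt_of_le (by exact_mod_cast hm) hf)
  obtain ⟨q, hq⟩ := hdvd
  have h1 : f = (X : PowerSeries k) •
      ((X : PowerSeries k) ^ N0 • (RootDisk.val (p := p) (k := k)).symm q) := by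
    apply RootDisk.val.injective
    rw [val_smul, val_smul, RingEquiv.apply_symm_apply, hq, map_pow, expand_X]
    ring
  rw [h1]
  exact Submodule.smul_mem_smul (Ideal.subset_span (Set.mem_singleton _)) (hN0 _)

theorem reduce (g f : RootDisk p k) (n vc : ℕ)
    (hn : (RootDisk.val f).order = n) (hvc : (RootDisk.val g).order = vc) (hle : vc ≤ n)
    (hdvd : p ∣ n - vc) :
    ∃ s : PowerSeries k, ((n + 1 : ℕ) : ℕ∞) ≤ (RootDisk.val (f - s • g)).order := by
  have hgc : coeff vc (RootDisk.val g) ≠ 0 := (order_eq_nat.1 hvc).1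
  refine ⟨C (coeff n (RootDisk.val f) / coeff vc (RootDisk.val g)) * X ^ ((n - vc) / p), ?_⟩
  refine nat_le_order _ _ (fun i hi => ?_)
  rw [map_sub, val_smul, map_mul, expand_C, map_pow, expand_X, ← pow_mul,
    Nat.mul_div_cancel' hdvd, map_sub, mul_assoc, coeff_C_mul, coeff_X_pow_mul']
  rcases Nat.lt_or_ge i n with h | h
  · have h1 : coeff i (RootDisk.val f) = 0 := coeff_of_lt_order i (by rw [hn]; exact_mod_cast h)
    rw [h1]
    split_ifs with h2
    · have h3 : coeff (i - (n - vc)) (RootDisk.val g) = 0 :=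
        coeff_of_lt_order _ (by rw [hvc]; exact_mod_cast (by omega : i - (n - vc) < vc))
      rw [h3, mul_zero, sub_zero]
    · rw [mul_zero, sub_zero]
  · have h1 : i = n := by omega
    subst h1
    rw [if_pos (Nat.sub_le _ _), Nat.sub_sub_self hle, div_mul_cancel₀ _ hgc, sub_self]

theorem mem_sup (M : Submodule (PowerSeries k) (RootDisk p k)) (N0 : ℕ)
    (hN0 : ∀ f : RootDisk p k, ((X : PowerSeries k) ^ N0) • f ∈ M)
    (g : Fin p → RootDisk p k) (hgM : ∀ c, g c ∈ M) (v : Fin p → ℕ)
    (hv : ∀ c, (RootDisk.val (g c)).order = v c)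
    (hvc : ∀ c : Fin p, v c % p = c)
    (hmin : ∀ (c : Fin p) (f : RootDisk p k), f ∈ M → ∀ n : ℕ,
      (RootDisk.val f).order = n → n % p = c → v c ≤ n) :
    ∀ (d : ℕ) (f : RootDisk p k), f ∈ M →
      ((p * (N0 + 1) : ℕ) : ℕ∞) ≤ (RootDisk.val f).order + d →
      f ∈ Submodule.span (PowerSeries k) (Set.range g) ⊔ (Ideal.span {(X : PowerSeries k)}) • M := by
  have hp : 0 < p := Nat.pos_of_ne_zero (NeZero.ne p)
  intro d
  induction d with
  | zero =>
    intro f hf hB
    rw [Nat.cast_zero, add_zero] at hB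
    exact Submodule.mem_sup_right (mem_smul_of_large M N0 hN0 f hB)
  | succ d ih =>
    intro f hf hB
    by_cases hf0 : f = 0
    · rw [hf0]; exact Submodule.zero_mem _
    have hvf0 : RootDisk.val f ≠ 0 := fun h => hf0 (RootDisk.val.injective (by rw [h, map_zero]))
    obtain ⟨n, hn⟩ : ∃ n : ℕ, (RootDisk.val f).order = n := by
      refine ⟨(RootDisk.val f).order.toNat, (ENat.natCast_toNat ?_).symm⟩
      rw [Ne, order_eq_top]; exact hvf0
    let c : Fin p := ⟨n % p, Nat.mod_lt _ hp⟩
    have hle : v c ≤ n := hmin c f hf n hn rfl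
    have hmod : v c ≡ n [MOD p] := by
      show v c % p = n % p
      rw [hvc c]
    have hdvd : p ∣ n - v c := (Nat.modEq_iff_dvd' hle).1 hmod
    obtain ⟨s, hs⟩ := reduce (g c) f n (v c) hn (hv c) hle hdvd
    have hf' : f - s • g c ∈ M := M.sub_mem hf (M.smul_mem _ (hgM c))
    have hB' : ((p * (N0 + 1) : ℕ) : ℕ∞) ≤ (RootDisk.val (f - s • g c)).order + d := by
      calc ((p * (N0 + 1) : ℕ) : ℕ∞) ≤ (RootDisk.val f).order + ((d + 1 : ℕ) : ℕ∞) := hB
        _ = ((n + 1 : ℕ) : ℕ∞) + d := by rw [hn]; push_cast; ring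
        _ ≤ (RootDisk.val (f - s • g c)).order + d := by gcongr
    have h1 := ih (f - s • g c) hf' hB'
    have h2 : s • g c ∈ Submodule.span (PowerSeries k) (Set.range g)
        ⊔ (Ideal.span {(X : PowerSeries k)}) • M :=
      Submodule.mem_sup_left (Submodule.smul_mem _ _ (Submodule.subset_span ⟨c, rfl⟩))
    have h3 : f = (f - s • g c) + s • g c := by abel
    rw [h3]
    exact Submodule.add_mem _ h1 h2

theorem exists_class (M : Submodule (PowerSeries k) (RootDisk p k))
    (hM : Module.finrank (PowerSeries k) M = p) (c : Fin p) :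
    ∃ n : ℕ, ∃ f : RootDisk p k, f ∈ M ∧ (RootDisk.val f).order = n ∧ n % p = c := by
  obtain ⟨r, hr, hmem⟩ := exists_smul_mem M hM (xpow p k (c : ℕ))
  obtain ⟨a, ha⟩ : ∃ a : ℕ, r.order = a := by
    refine ⟨r.order.toNat, (ENat.natCast_toNat ?_).symm⟩
    rw [Ne, order_eq_top]; exact hr
  refine ⟨p * a + c, r • xpow p k (c : ℕ), hmem, ?_, ?_⟩
  · rw [val_smul, val_xpow, order_mul, order_expand, order_X_pow, ha]
    push_cast
    rw [nsmul_eq_mul]
  · rw [Nat.mul_add_mod, Nat.mod_eq_of_lt c.2]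

/-- The main theorem: a basis with valuations pairwise incongruent modulo `p`. -/
theorem exists_basis (M : Submodule (PowerSeries k) (RootDisk p k))
    (hM : Module.finrank (PowerSeries k) M = p) :
    ∃ g : Module.Basis (Fin p) (PowerSeries k) M, ∀ i j : Fin p, i ≠ j →
      ¬ Nat.ModEq p (PowerSeries.order (RootDisk.val ((g i : M) : RootDisk p k))).toNat
        (PowerSeries.order (RootDisk.val ((g j : M) : RootDisk p k))).toNat := by
  classical
  obtain ⟨N0, hN0⟩ := exists_pow_smul_mem M hM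
  have hex := exists_class M hM
  let v : Fin p → ℕ := fun c => Nat.find (hex c)
  have hspec : ∀ c, ∃ f : RootDisk p k, f ∈ M ∧ (RootDisk.val f).order = v c ∧ v c % p = c :=
    fun c => Nat.find_spec (hex c)
  choose g hgM hv hvc using hspec
  have hmin : ∀ (c : Fin p) (f : RootDisk p k), f ∈ M → ∀ n : ℕ,
      (RootDisk.val f).order = n → n % p = c → v c ≤ n :=
    fun c f hf n hn hnc => Nat.find_min' (hex c) ⟨f, hf, hn, hnc⟩
  have := finite_S p k
  have : IsNoetherian (PowerSeries k) (RootDisk p k) :=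
    isNoetherian_of_isNoetherianRing_of_finite (PowerSeries k) (RootDisk p k)
  have hspan : Submodule.span (PowerSeries k) (Set.range g) = M := by
    apply le_antisymm (Submodule.span_le.2 (by rintro _ ⟨c, rfl⟩; exact hgM c))
    refine Submodule.le_of_le_smul_of_le_jacobson_bot (IsNoetherian.noetherian M)
      (I := Ideal.span {(X : PowerSeries k)}) ?_ ?_
    · rw [← maximalIdeal_eq_span_X]; exact IsLocalRing.maximalIdeal_le_jacobson _
    · intro f hf
      exact mem_sup M N0 hN0 g hgM v hv hvc hmin (p * (N0 + 1)) f hf le_add_self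
  let g' : Fin p → M := fun c => ⟨g c, hgM c⟩
  have hspan' : ⊤ ≤ Submodule.span (PowerSeries k) (Set.range g') := by
    intro y _
    have hy : (y : RootDisk p k) ∈ Submodule.span (PowerSeries k) (Set.range g) := by
      rw [hspan]; exact y.2
    have h1 : Set.range g = M.subtype '' Set.range g' := by
      ext z; constructor
      · rintro ⟨c, rfl⟩; exact ⟨g' c, ⟨c, rfl⟩, rfl⟩
      · rintro ⟨_, ⟨c, rfl⟩, rfl⟩; exact ⟨c, rfl⟩
    rw [h1, ← Submodule.map_span] at hy
    obtain ⟨y', hy', hyy⟩ := hy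
    have : y' = y := Subtype.ext hyy
    rw [← this]; exact hy'
  refine ⟨basisOfTopLeSpanOfCardEqFinrank g' hspan' (by rw [Fintype.card_fin, hM]), ?_⟩
  intro i j hij hmod
  rw [coe_basisOfTopLeSpanOfCardEqFinrank] at hmod
  have hi : (PowerSeries.order (RootDisk.val ((g' i : M) : RootDisk p k))).toNat = v i := by
    show (PowerSeries.order (RootDisk.val (g i))).toNat = v i
    rw [hv i]; rfl
  have hj : (PowerSeries.order (RootDisk.val ((g' j : M) : RootDisk p k))).toNat = v j := by
    show (PowerSeries.order (RootDisk.val (g j))).toNat = v j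
    rw [hv j]; rfl
  rw [hi, hj] at hmod
  have h2 : v i % p = v j % p := hmod
  rw [hvc i, hvc j] at h2
  exact hij (Fin.ext h2)

end Groth.Agent.Lib.helper6.RootLat
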