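import Mathlib

/-!
# The graded ring `S♮ = ⊕ S_{≥ n} Xⁿ` inside `S[X]` (helper6; for S8275 / S8276)
-/

namespace Groth.Agent.Lib.Helper6.SNat

open Polynomial DirectSum

universe u

section

variable {R A : Type u} [CommRing R] [CommRing A] [Algebra R A]
  (𝒜 : ℕ → Submodule R A) [GradedAlgebra 𝒜]

/-- Homogeneous coefficients for a homogeneous element of an ideal generated by homogeneous
elements. -/
theorem exists_homogeneous_coeffs (G : Finset A) (d : A → ℕ) (hG : ∀ f ∈ G, f ∈ 𝒜 (d f))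
    {m : ℕ} {a : A} (ha : a ∈ 𝒜 m) (haG : a ∈ Ideal.span (G : Set A)) :
    ∃ b : A → A, (∀ f ∈ G, b f ∈ 𝒜 (m - d f)) ∧ (∀ f ∈ G, m < d f → b f = 0) ∧
      a = ∑ f ∈ G, b f * f := by
  classical
  obtain ⟨c, -, hc⟩ := Submodule.mem_span_finset.mp haG
  refine ⟨fun f => if d f ≤ m then (decompose 𝒜 (c f) (m - d f) : A) else 0, ?_, ?_, ?_⟩
  · intro f _
    show (if d f ≤ m then (decompose 𝒜 (c f) (m - d f) : A) else 0) ∈ 𝒜 (m - d f)
    split_ifs
    · exact SetLike.coe_mem _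
    · exact zero_mem _
  · intro f _ hlt
    show (if d f ≤ m then (decompose 𝒜 (c f) (m - d f) : A) else 0) = 0
    rw [if_neg (not_le.mpr hlt)]
  · have h1 : GradedRing.proj 𝒜 m a = a := by
      rw [GradedRing.proj_apply, decompose_of_mem_same 𝒜 ha]
    calc a = GradedRing.proj 𝒜 m a := h1.symm
      _ = GradedRing.proj 𝒜 m (∑ f ∈ G, c f • f) := by rw [hc]
      _ = ∑ f ∈ G, GradedRing.proj 𝒜 m (c f • f) := map_sum _ _ _
      _ = ∑ f ∈ G, (if d f ≤ m then (decompose 𝒜 (c f) (m - d f) : A) else 0) * f :=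
        Finset.sum_congr rfl fun f hf => by
          rw [GradedRing.proj_apply, smul_eq_mul, coe_decompose_mul_of_right_mem 𝒜 m (hG f hf)]
          split_ifs <;> simp

/-- The finite set of generators `f Xʲ`, `1 ≤ j ≤ deg f`. -/
noncomputable def genSet (G : Finset A) (d : A → ℕ) : Finset A[X] := by
  classical
  exact G.biUnion fun f => (Finset.Icc 1 (d f)).image fun j => monomial j f

theorem mem_genSet_iff {G : Finset A} {d : A → ℕ} {p : A[X]} :
    p ∈ genSet G d ↔ ∃ f ∈ G, ∃ j, (1 ≤ j ∧ j ≤ d f) ∧ monomial j f = p := by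
  classical
  unfold genSet
  simp only [Finset.mem_biUnion, Finset.mem_image, Finset.mem_Icc]

theorem monomial_mem_adjoin (G : Finset A) (d : A → ℕ) (hG : ∀ f ∈ G, f ∈ 𝒜 (d f))
    (hd : ∀ f ∈ G, 1 ≤ d f)
    (hgen : ∀ m, 1 ≤ m → ∀ a ∈ 𝒜 m, a ∈ Ideal.span (G : Set A)) :
    ∀ m n, n ≤ m → ∀ a ∈ 𝒜 m, monomial n a ∈ Algebra.adjoin A (genSet G d : Set A[X]) := by
  intro m
  induction m using Nat.strong_induction_on with
  | _ m ih =>
    intro n hnm a ha
    rcases Nat.eq_zero_or_pos n with rfl | hn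
    · rw [monomial_zero_left]
      exact Subalgebra.algebraMap_mem _ a
    · have hm : 1 ≤ m := le_trans hn hnm
      obtain ⟨b, hb, hb0, hab⟩ := exists_homogeneous_coeffs 𝒜 G d hG ha (hgen m hm a ha)
      rw [hab, map_sum]
      refine Subalgebra.sum_mem _ fun f hf => ?_
      by_cases hlt : m < d f
      · rw [hb0 f hf hlt, zero_mul, map_zero]
        exact Subalgebra.zero_mem _
      · rw [not_lt] at hlt
        have hdf := hd f hf
        have hj1 : 1 ≤ min n (d f) := le_min hn hdf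
        have hj_le_n : min n (d f) ≤ n := min_le_left _ _
        have hj_le_d : min n (d f) ≤ d f := min_le_right _ _
        have hj_cases : min n (d f) = n ∨ min n (d f) = d f := by
          rcases le_total n (d f) with h | h
          · left; exact min_eq_left h
          · right; exact min_eq_right h
        have hsplit : monomial n (b f * f) =
            monomial (n - min n (d f)) (b f) * monomial (min n (d f)) f := by
          rw [monomial_mul_monomial, Nat.sub_add_cancel hj_le_n]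
        rw [hsplit]
        refine Subalgebra.mul_mem _ ?_
          (Algebra.subset_adjoin (Finset.mem_coe.mpr (mem_genSet_iff.mpr ⟨f, hf, _, ⟨hj1, hj_le_d⟩, rfl⟩)))
        exact ih (m - d f) (by omega) (n - min n (d f)) (by omega) (b f) (hb f hf)

/-- A Noetherian graded ring has finitely many homogeneous elements of positive degree generating
the irrelevant ideal. -/
theorem exists_homogeneous_generators [IsNoetherianRing A] :
    ∃ (G : Finset A) (d : A → ℕ), (∀ f ∈ G, f ∈ 𝒜 (d f)) ∧ (∀ f ∈ G, 1 ≤ d f) ∧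
      ∀ m, 1 ≤ m → ∀ a ∈ 𝒜 m, a ∈ Ideal.span (G : Set A) := by
  classical
  obtain ⟨S, hS⟩ := (IsNoetherian.noetherian (HomogeneousIdeal.irrelevant 𝒜).toIdeal)
  let G : Finset A := S.biUnion fun s =>
    (decompose 𝒜 s).support.image fun m => (decompose 𝒜 s m : A)
  have hGprop : ∀ f ∈ G, ∃ k, 1 ≤ k ∧ f ∈ 𝒜 k := by
    intro f hf
    simp only [G, Finset.mem_biUnion, Finset.mem_image] at hf
    obtain ⟨s, hs, m, hm, rfl⟩ := hf
    refine ⟨m, ?_, SetLike.coe_mem _⟩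
    by_contra h0
    have hm0 : m = 0 := by omega
    subst hm0
    have hs' : s ∈ (HomogeneousIdeal.irrelevant 𝒜).toIdeal := by
      rw [← hS]; exact Ideal.subset_span hs
    have h00 : (decompose 𝒜 s 0 : A) = 0 := hs'
    rw [DFinsupp.mem_support_iff] at hm
    exact hm (Subtype.ext h00)
  choose! d hd1 hdG using hGprop
  refine ⟨G, d, hdG, hd1, ?_⟩
  intro m hm a ha
  have ha' : a ∈ (HomogeneousIdeal.irrelevant 𝒜).toIdeal :=
    HomogeneousIdeal.mem_irrelevant_of_mem 𝒜 (by omega) ha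
  rw [← hS] at ha'
  refine (Ideal.span_le.mpr ?_) ha'
  intro s hs
  rw [SetLike.mem_coe, ← sum_support_decompose 𝒜 s]
  refine Ideal.sum_mem _ fun k hk => Ideal.subset_span ?_
  exact Finset.mem_coe.mpr (Finset.mem_biUnion.mpr ⟨s, hs, Finset.mem_image.mpr ⟨k, hk, rfl⟩⟩)

variable {B : Type u} [CommRing B] [Algebra R B] (ℬ : ℕ → Submodule R B) [GradedAlgebra ℬ]
  (φ : B →ₐ[R] A[X])

theorem mem_iSup_ge_zero (a : A) : a ∈ ⨆ (m : ℕ) (_ : 0 ≤ m), 𝒜 m := by
  classical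
  rw [← sum_support_decompose 𝒜 a]
  exact Submodule.sum_mem _ fun m _ =>
    Submodule.mem_iSup_of_mem m (Submodule.mem_iSup_of_mem (Nat.zero_le m) (SetLike.coe_mem _))

include ℬ in
/-- constants are in the image of `φ`. -/
theorem exists_preimage_C
    (hdeg : ∀ n : ℕ, Submodule.map φ.toLinearMap (ℬ n) =
      Submodule.map ((monomial n : A →ₗ[A] A[X]).restrictScalars R)
        (⨆ (m : ℕ) (_ : n ≤ m), 𝒜 m)) (a : A) :
    ∃ b ∈ ℬ 0, φ b = C a := by
  have h : (C a : A[X]) ∈ Submodule.map ((monomial 0 : A →ₗ[A] A[X]).restrictScalars R)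
      (⨆ (m : ℕ) (_ : 0 ≤ m), 𝒜 m) :=
    ⟨a, mem_iSup_ge_zero 𝒜 a, monomial_zero_left (a := a)⟩
  rw [← hdeg 0] at h
  obtain ⟨b, hb, hba⟩ := h
  exact ⟨b, hb, hba⟩

include ℬ in
theorem phi_mem_adjoin
    (hdeg : ∀ n : ℕ, Submodule.map φ.toLinearMap (ℬ n) =
      Submodule.map ((monomial n : A →ₗ[A] A[X]).restrictScalars R)
        (⨆ (m : ℕ) (_ : n ≤ m), 𝒜 m))
    (G : Finset A) (d : A → ℕ) (hG : ∀ f ∈ G, f ∈ 𝒜 (d f))
    (hd : ∀ f ∈ G, 1 ≤ d f)
    (hgen : ∀ m, 1 ≤ m → ∀ a ∈ 𝒜 m, a ∈ Ideal.span (G : Set A)) (b : B) :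
    φ b ∈ Algebra.adjoin A (genSet G d : Set A[X]) := by
  classical
  rw [← sum_support_decompose ℬ b, map_sum]
  refine Subalgebra.sum_mem _ fun n _ => ?_
  have h1 : φ (decompose ℬ b n : B) ∈ Submodule.map φ.toLinearMap (ℬ n) :=
    ⟨_, SetLike.coe_mem _, rfl⟩
  rw [hdeg n] at h1
  obtain ⟨a, ha, hab⟩ := h1
  rw [← hab]
  have hle : (⨆ (m : ℕ) (_ : n ≤ m), 𝒜 m) ≤
      Submodule.comap ((monomial n : A →ₗ[A] A[X]).restrictScalars R)
        ((Subalgebra.toSubmodule (Algebra.adjoin A (genSet G d : Set A[X]))).restrictScalars R) := by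
    refine iSup_le fun m => iSup_le fun hnm => ?_
    intro a' ha'
    exact monomial_mem_adjoin 𝒜 G d hG hd hgen m n hnm a' ha'
  exact hle ha

include ℬ in
theorem exists_preimage_of_mem_adjoin
    (hdeg : ∀ n : ℕ, Submodule.map φ.toLinearMap (ℬ n) =
      Submodule.map ((monomial n : A →ₗ[A] A[X]).restrictScalars R)
        (⨆ (m : ℕ) (_ : n ≤ m), 𝒜 m))
    (G : Finset A) (d : A → ℕ) (hG : ∀ f ∈ G, f ∈ 𝒜 (d f))
    (p : A[X]) (hp : p ∈ Algebra.adjoin A (genSet G d : Set A[X])) : ∃ b : B, φ b = p := by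
  classical
  refine Algebra.adjoin_induction (p := fun x _ => ∃ b : B, φ b = x) ?_ ?_ ?_ ?_ hp
  · intro x hx
    obtain ⟨f, hf, j, ⟨_, hj2⟩, rfl⟩ := mem_genSet_iff.mp (Finset.mem_coe.mp hx)
    have h : (monomial j f : A[X]) ∈
        Submodule.map ((monomial j : A →ₗ[A] A[X]).restrictScalars R)
          (⨆ (m : ℕ) (_ : j ≤ m), 𝒜 m) :=
      ⟨f, Submodule.mem_iSup_of_mem (d f) (Submodule.mem_iSup_of_mem hj2 (hG f hf)), rfl⟩
    rw [← hdeg j] at h
    obtain ⟨b, -, hb⟩ := h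
    exact ⟨b, hb⟩
  · intro a
    obtain ⟨b, -, hb⟩ := exists_preimage_C 𝒜 ℬ φ hdeg a
    exact ⟨b, hb⟩
  · rintro x y _ _ ⟨bx, rfl⟩ ⟨b_y, rfl⟩
    exact ⟨bx + b_y, map_add _ _ _⟩
  · rintro x y _ _ ⟨bx, rfl⟩ ⟨b_y, rfl⟩
    exact ⟨bx * b_y, map_mul _ _ _⟩

include ℬ in
theorem exists_ringEquiv (hφ : Function.Injective φ)
    (hdeg : ∀ n : ℕ, Submodule.map φ.toLinearMap (ℬ n) =
      Submodule.map ((monomial n : A →ₗ[A] A[X]).restrictScalars R)
        (⨆ (m : ℕ) (_ : n ≤ m), 𝒜 m))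
    (G : Finset A) (d : A → ℕ) (hG : ∀ f ∈ G, f ∈ 𝒜 (d f))
    (hd : ∀ f ∈ G, 1 ≤ d f)
    (hgen : ∀ m, 1 ≤ m → ∀ a ∈ 𝒜 m, a ∈ Ideal.span (G : Set A)) :
    ∃ e : B ≃+* ↥(Algebra.adjoin A (genSet G d : Set A[X])), ∀ b, (e b : A[X]) = φ b := by
  let f : B →+* ↥(Algebra.adjoin A (genSet G d : Set A[X])) :=
    (φ : B →+* A[X]).codRestrict (Algebra.adjoin A (genSet G d : Set A[X]))
      (fun b => phi_mem_adjoin 𝒜 ℬ φ hdeg G d hG hd hgen b)
  have hf : Function.Bijective f := by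
    constructor
    · intro b b' h
      exact hφ (congrArg Subtype.val h)
    · rintro ⟨p, hp⟩
      obtain ⟨b, hb⟩ := exists_preimage_of_mem_adjoin 𝒜 ℬ φ hdeg G d hG p hp
      exact ⟨b, Subtype.ext hb⟩
  exact ⟨RingEquiv.ofBijective f hf, fun b => rfl⟩

include ℬ in
/-- `A` is a quotient of `B`. -/
theorem exists_surjective_ringHom
    (hdeg : ∀ n : ℕ, Submodule.map φ.toLinearMap (ℬ n) =
      Submodule.map ((monomial n : A →ₗ[A] A[X]).restrictScalars R)
        (⨆ (m : ℕ) (_ : n ≤ m), 𝒜 m)) :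
    ∃ ψ : B →+* A, Function.Surjective ψ := by
  refine ⟨(constantCoeff : A[X] →+* A).comp (φ : B →+* A[X]), fun a => ?_⟩
  obtain ⟨b, -, hb⟩ := exists_preimage_C 𝒜 ℬ φ hdeg a
  refine ⟨b, ?_⟩
  show constantCoeff (φ b) = a
  rw [hb]
  simp

end

end Groth.Agent.Lib.Helper6.SNat
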