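import Mathlib
import Groth.Agent.Lib.Helper6.SNat

/-!
# More on `S♮` (helper6; for S8275)
-/

namespace Groth.Agent.Lib.Helper6.SNat

open Polynomial DirectSum

universe u

variable {R A : Type u} [CommRing R] [CommRing A] [Algebra R A]
  (𝒜 : ℕ → Submodule R A) [GradedAlgebra 𝒜]

theorem mem_span_of_adjoin_eq_top (s : Finset A) (d : A → ℕ) (hsd : ∀ f ∈ s, f ∈ 𝒜 (d f))
    (hs : Algebra.adjoin (𝒜 0) (s : Set A) = ⊤) :
    ∀ m, 1 ≤ m → ∀ a ∈ 𝒜 m, a ∈ Ideal.span (s : Set A) := by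
  have key : ∀ x ∈ Algebra.adjoin (𝒜 0) (s : Set A),
      ∃ c ∈ 𝒜 0, x - c ∈ Ideal.span (s : Set A) := by
    intro x hx
    refine Algebra.adjoin_induction
      (p := fun x _ => ∃ c ∈ 𝒜 0, x - c ∈ Ideal.span (s : Set A)) ?_ ?_ ?_ ?_ hx
    · intro x hx
      exact ⟨0, zero_mem _, by rw [sub_zero]; exact Ideal.subset_span hx⟩
    · intro r
      refine ⟨(r : A), r.2, ?_⟩
      have h : algebraMap (𝒜 0) A r = (r : A) := rfl
      rw [h, sub_self]
      exact zero_mem _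
    · rintro x y _ _ ⟨c, hc, hxc⟩ ⟨c', hc', hyc⟩
      refine ⟨c + c', add_mem hc hc', ?_⟩
      have h : x + y - (c + c') = (x - c) + (y - c') := by ring
      rw [h]
      exact add_mem hxc hyc
    · rintro x y _ _ ⟨c, hc, hxc⟩ ⟨c', hc', hyc⟩
      refine ⟨c * c', ?_, ?_⟩
      · have h := SetLike.mul_mem_graded hc hc'
        simpa using h
      · have h : x * y - c * c' = (x - c) * y + c * (y - c') := by ring
        rw [h]
        exact add_mem (Ideal.mul_mem_right _ _ hxc) (Ideal.mul_mem_left _ _ hyc)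
  intro m hm a ha
  obtain ⟨c, hc, hac⟩ := key a (by rw [hs]; trivial)
  have hhom : (Ideal.span (s : Set A)).IsHomogeneous 𝒜 :=
    Ideal.homogeneous_span 𝒜 _ fun x hx => ⟨d x, hsd x hx⟩
  have h1 := hhom m hac
  have h2 : (decompose 𝒜 (a - c) m : A) = a := by
    have h := map_sub (GradedRing.proj 𝒜 m) a c
    simp only [GradedRing.proj_apply] at h
    rw [h, decompose_of_mem_same 𝒜 ha, decompose_of_mem_ne 𝒜 hc (by omega), sub_zero]
  rwa [h2] at h1

theorem homogenize (S : Finset A) (h1 : ∀ s ∈ S, (decompose 𝒜 s 0 : A) = 0)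
    (h2 : ∀ m, 1 ≤ m → ∀ a ∈ 𝒜 m, a ∈ Ideal.span (S : Set A)) :
    ∃ (G : Finset A) (d : A → ℕ), (∀ f ∈ G, f ∈ 𝒜 (d f)) ∧ (∀ f ∈ G, 1 ≤ d f) ∧
      ∀ m, 1 ≤ m → ∀ a ∈ 𝒜 m, a ∈ Ideal.span (G : Set A) := by
  classical
  let G : Finset A := S.biUnion fun s =>
    (decompose 𝒜 s).support.image fun m => (decompose 𝒜 s m : A)
  have hGprop : ∀ f ∈ G, ∃ k, 1 ≤ k ∧ f ∈ 𝒜 k := by
    intro f hf
    simp only [G, Finset.mem_biUnion, Finset.mem_image] at hf
    obtain ⟨s, hs, m, hm, rfl⟩ := hf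
    refine ⟨m, ?_, SetLike.coe_mem _⟩
    by_contra h0
    have hm0 : m = 0 := by omega
    subst hm0
    rw [DFinsupp.mem_support_iff] at hm
    exact hm (Subtype.ext (h1 s hs))
  choose! d hd1 hdG using hGprop
  refine ⟨G, d, hdG, hd1, ?_⟩
  intro m hm a ha
  refine (Ideal.span_le.mpr ?_) (h2 m hm a ha)
  intro s hs
  rw [SetLike.mem_coe, ← sum_support_decompose 𝒜 s]
  refine Ideal.sum_mem _ fun k hk => Ideal.subset_span ?_
  exact Finset.mem_coe.mpr (Finset.mem_biUnion.mpr ⟨s, hs, Finset.mem_image.mpr ⟨k, hk, rfl⟩⟩)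

theorem finiteType_of_generators (G : Finset A) (d : A → ℕ) (hG : ∀ f ∈ G, f ∈ 𝒜 (d f))
    (hd : ∀ f ∈ G, 1 ≤ d f)
    (hgen : ∀ m, 1 ≤ m → ∀ a ∈ 𝒜 m, a ∈ Ideal.span (G : Set A)) :
    Algebra.FiniteType (𝒜 0) A := by
  classical
  have key : ∀ m, ∀ a ∈ 𝒜 m, a ∈ Algebra.adjoin (𝒜 0) (G : Set A) := by
    intro m
    induction m using Nat.strong_induction_on with
    | _ m ih =>
      intro a ha
      rcases Nat.eq_zero_or_pos m with rfl | hm
      · have h : algebraMap (𝒜 0) A ⟨a, ha⟩ = a := rfl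
        rw [← h]
        exact Subalgebra.algebraMap_mem _ _
      · obtain ⟨b, hb, hb0, hab⟩ := exists_homogeneous_coeffs 𝒜 G d hG ha (hgen m hm a ha)
        rw [hab]
        refine Subalgebra.sum_mem _ fun f hf => ?_
        by_cases hlt : m < d f
        · rw [hb0 f hf hlt, zero_mul]
          exact Subalgebra.zero_mem _
        · rw [not_lt] at hlt
          have hdf := hd f hf
          exact Subalgebra.mul_mem _ (ih (m - d f) (by omega) (b f) (hb f hf))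
            (Algebra.subset_adjoin (Finset.mem_coe.mpr hf))
  refine ⟨⟨G, ?_⟩⟩
  rw [eq_top_iff]
  intro a _
  rw [← sum_support_decompose 𝒜 a]
  exact Subalgebra.sum_mem _ fun m _ => key m _ (SetLike.coe_mem _)

theorem decompose_zero_of_mem_iSup {a : A} (ha : a ∈ ⨆ (m : ℕ) (_ : 1 ≤ m), 𝒜 m) :
    (decompose 𝒜 a 0 : A) = 0 := by
  have hle : (⨆ (m : ℕ) (_ : 1 ≤ m), 𝒜 m) ≤ LinearMap.ker (GradedAlgebra.proj 𝒜 0) := by
    refine iSup_le fun m => iSup_le fun hm => ?_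
    intro x hx
    rw [LinearMap.mem_ker, GradedAlgebra.proj_apply, decompose_of_mem_ne 𝒜 hx (by omega)]
  have h := hle ha
  rwa [LinearMap.mem_ker, GradedAlgebra.proj_apply] at h

variable {B : Type u} [CommRing B] [Algebra R B] (ℬ : ℕ → Submodule R B) [GradedAlgebra ℬ]
  (φ : B →ₐ[R] A[X])

include φ in
theorem finiteType_of_ringEquiv (T : Finset A[X])
    (e : B ≃+* ↥(Algebra.adjoin A (T : Set A[X]))) (he : ∀ b, (e b : A[X]) = φ b)
    (hC : ∀ a : A, ∃ b ∈ ℬ 0, φ b = C a) :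
    Algebra.FiniteType (ℬ 0) B := by
  classical
  let S' : Finset B := T.attach.image fun p =>
    e.symm ⟨p.1, Algebra.subset_adjoin (Finset.mem_coe.mpr p.2)⟩
  have key : ∀ (p : A[X]) (hp : p ∈ Algebra.adjoin A (T : Set A[X])),
      e.symm ⟨p, hp⟩ ∈ Algebra.adjoin (ℬ 0) (S' : Set B) := by
    intro p hp
    refine Algebra.adjoin_induction
      (p := fun x hx => e.symm ⟨x, hx⟩ ∈ Algebra.adjoin (ℬ 0) (S' : Set B)) ?_ ?_ ?_ ?_ hp
    · intro x hx
      exact Algebra.subset_adjoin (Finset.mem_coe.mpr (Finset.mem_image.mpr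
        ⟨⟨x, Finset.mem_coe.mp hx⟩, Finset.mem_attach _ _, rfl⟩))
    · intro a
      obtain ⟨b, hb, hba⟩ := hC a
      have h1 : e.symm ⟨algebraMap A A[X] a, Subalgebra.algebraMap_mem _ a⟩ = b := by
        rw [RingEquiv.symm_apply_eq]
        exact Subtype.ext (by rw [he, hba]; rfl)
      rw [h1]
      have h2 : algebraMap (ℬ 0) B ⟨b, hb⟩ = b := rfl
      rw [← h2]
      exact Subalgebra.algebraMap_mem _ _
    · intro x y hx hy hx' hy'
      have h : (⟨x + y, add_mem hx hy⟩ : ↥(Algebra.adjoin A (T : Set A[X]))) =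
          ⟨x, hx⟩ + ⟨y, hy⟩ := rfl
      rw [h, map_add]
      exact add_mem hx' hy'
    · intro x y hx hy hx' hy'
      have h : (⟨x * y, mul_mem hx hy⟩ : ↥(Algebra.adjoin A (T : Set A[X]))) =
          ⟨x, hx⟩ * ⟨y, hy⟩ := rfl
      rw [h, map_mul]
      exact mul_mem hx' hy'
  refine ⟨⟨S', ?_⟩⟩
  rw [eq_top_iff]
  intro b _
  have h := key (e b : A[X]) (e b).2
  rwa [Subtype.coe_eta, RingEquiv.symm_apply_apply] at h

end Groth.Agent.Lib.Helper6.SNat
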