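import Mathlib
import Groth.Agent.Lib.Helper6.SNat
import Groth.Agent.Lib.Helper6.SNat2

/-! The ring `T = S♮ ⊗_S S₀` and the map `ρ : T → S` (helper6). -/

namespace Groth.Agent.Lib.Helper6.SNat

open Polynomial DirectSum

universe u

section

variable {R A : Type u} [CommRing R] [CommRing A] [Algebra R A]
  (𝒜 : ℕ → Submodule R A) [GradedAlgebra 𝒜]

theorem decompose_eq_zero_of_mem_iSup_ge {n k : ℕ} (hk : k < n) {a : A}
    (ha : a ∈ ⨆ (m : ℕ) (_ : n ≤ m), 𝒜 m) : (decompose 𝒜 a k : A) = 0 := by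
  have hle : (⨆ (m : ℕ) (_ : n ≤ m), 𝒜 m) ≤ LinearMap.ker (GradedAlgebra.proj 𝒜 k) := by
    refine iSup_le fun m => iSup_le fun hm => ?_
    intro x hx
    rw [LinearMap.mem_ker, GradedAlgebra.proj_apply, decompose_of_mem_ne 𝒜 hx (by omega)]
  have h := hle ha
  rwa [LinearMap.mem_ker, GradedAlgebra.proj_apply] at h

theorem mem_iSup_ge_of_mem {n m : ℕ} (h : n ≤ m) {a : A} (ha : a ∈ 𝒜 m) :
    a ∈ ⨆ (m : ℕ) (_ : n ≤ m), 𝒜 m :=
  Submodule.mem_iSup_of_mem m (Submodule.mem_iSup_of_mem h ha)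

variable {B : Type u} [CommRing B] [Algebra R B] (ℬ : ℕ → Submodule R B) [GradedAlgebra ℬ]
  (φ : B →ₐ[R] A[X])

section
variable (hdeg : ∀ n : ℕ, Submodule.map φ.toLinearMap (ℬ n) =
      Submodule.map ((monomial n : A →ₗ[A] A[X]).restrictScalars R)
        (⨆ (m : ℕ) (_ : n ≤ m), 𝒜 m))
include hdeg

theorem exists_preimage_monomial (n : ℕ) (a : A) (ha : a ∈ ⨆ (m : ℕ) (_ : n ≤ m), 𝒜 m) :
    ∃ b ∈ ℬ n, φ b = monomial n a := by
  have h : (monomial n a : A[X]) ∈ Submodule.map ((monomial n : A →ₗ[A] A[X]).restrictScalars R)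
      (⨆ (m : ℕ) (_ : n ≤ m), 𝒜 m) := ⟨a, ha, rfl⟩
  rw [← hdeg n] at h
  obtain ⟨b, hb, hba⟩ := h
  exact ⟨b, hb, hba⟩

theorem exists_coeff_of_mem (n : ℕ) (b : B) (hb : b ∈ ℬ n) :
    ∃ a ∈ ⨆ (m : ℕ) (_ : n ≤ m), 𝒜 m, φ b = monomial n a := by
  have h : φ b ∈ Submodule.map φ.toLinearMap (ℬ n) := ⟨b, hb, rfl⟩
  rw [hdeg n] at h
  obtain ⟨a, ha, hab⟩ := h
  exact ⟨a, ha, hab.symm⟩

variable {T : Type u} [CommRing T] [Algebra R T] (𝒞 : ℕ → Submodule R T) [GradedAlgebra 𝒞]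
    (π : ℬ →+*ᵍ 𝒞) (ρ : 𝒞 →+*ᵍ 𝒜)

theorem rho_surj_deg
    (hρ : ∀ (n : ℕ) (b : B), b ∈ ℬ n → ρ (π b) = GradedRing.proj 𝒜 n ((φ b).coeff n))
    (n : ℕ) (a : A) (ha : a ∈ 𝒜 n) : ∃ c ∈ 𝒞 n, ρ c = a := by
  obtain ⟨b, hb, hba⟩ := exists_preimage_monomial 𝒜 ℬ φ hdeg n a (mem_iSup_ge_of_mem 𝒜 le_rfl ha)
  refine ⟨π b, Graded.map_mem π hb, ?_⟩
  rw [hρ n b hb, hba, coeff_monomial, if_pos rfl, GradedRing.proj_apply,
    decompose_of_mem_same 𝒜 ha]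

theorem rho_surjective
    (hρ : ∀ (n : ℕ) (b : B), b ∈ ℬ n → ρ (π b) = GradedRing.proj 𝒜 n ((φ b).coeff n)) :
    Function.Surjective ρ := by
  classical
  intro a
  choose! c hc hca using rho_surj_deg 𝒜 ℬ φ hdeg 𝒞 π ρ hρ
  refine ⟨∑ n ∈ (decompose 𝒜 a).support, c n (decompose 𝒜 a n), ?_⟩
  rw [map_sum]
  conv_rhs => rw [← sum_support_decompose 𝒜 a]
  exact Finset.sum_congr rfl fun n _ => hca n _ (SetLike.coe_mem _)

/-- Elements of the kernel of `ρ` in degree `n` are sums of classes of `a Xⁿ` with `a`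
homogeneous of degree `> n`. -/
theorem mem_of_rho_eq_zero (hφ : Function.Injective φ) (hπ : Function.Surjective π)
    (hρ : ∀ (n : ℕ) (b : B), b ∈ ℬ n → ρ (π b) = GradedRing.proj 𝒜 n ((φ b).coeff n))
    (J : Ideal T) (n : ℕ)
    (hJ : ∀ m, n < m → ∀ a ∈ 𝒜 m, ∀ b : B, φ b = monomial n a → π b ∈ J)
    (c : T) (hc : c ∈ 𝒞 n) (hρc : ρ c = 0) : c ∈ J := by
  classical
  obtain ⟨b', rfl⟩ := hπ c
  set b : B := (decompose ℬ b' n : B) with hb_def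
  have hb : b ∈ ℬ n := SetLike.coe_mem _
  have hπb : π b = π b' := by
    rw [hb_def, GradedRingHom.map_directSumDecompose ℬ 𝒞 π, decompose_of_mem_same 𝒞 hc]
  obtain ⟨a, ha, hab⟩ := exists_coeff_of_mem 𝒜 ℬ φ hdeg n b hb
  have han : (decompose 𝒜 a n : A) = 0 := by
    have := hρ n b hb
    rw [hπb, hρc, hab, coeff_monomial, if_pos rfl, GradedRing.proj_apply] at this
    exact this.symm
  have hpiece : ∀ m ∈ (decompose 𝒜 a).support,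
      ∃ bm : B, φ bm = monomial n (decompose 𝒜 a m : A) ∧ π bm ∈ J := by
    intro m hm
    have hm' : (decompose 𝒜 a m : A) ≠ 0 := by
      rw [DFinsupp.mem_support_iff] at hm
      intro h
      exact hm (Subtype.ext h)
    have hnm : n < m := by
      by_contra hlt
      push Not at hlt
      rcases hlt.lt_or_eq with h | h
      · exact hm' (decompose_eq_zero_of_mem_iSup_ge 𝒜 h ha)
      · exact hm' (h ▸ han)
    obtain ⟨bm, -, hbm⟩ := exists_preimage_monomial 𝒜 ℬ φ hdeg n _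
      (mem_iSup_ge_of_mem 𝒜 hnm.le (SetLike.coe_mem (decompose 𝒜 a m)))
    exact ⟨bm, hbm, hJ m hnm _ (SetLike.coe_mem _) bm hbm⟩
  choose! bs hbs1 hbs2 using hpiece
  have hsum : b = ∑ m ∈ (decompose 𝒜 a).support, bs m := by
    apply hφ
    rw [hab, map_sum]
    conv_lhs => rw [← sum_support_decompose 𝒜 a]
    rw [map_sum]
    exact Finset.sum_congr rfl fun m hm => (hbs1 m hm).symm
  rw [← hπb, hsum, map_sum]
  exact Ideal.sum_mem _ fun m hm => hbs2 m hm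

section
variable (hker : RingHom.ker π.toRingHom =
      Ideal.span (⇑φ ⁻¹' (⇑(C : A →+* A[X]) '' ((HomogeneousIdeal.irrelevant 𝒜).toIdeal : Set A))))
include hker

theorem pi_eq_zero_of_C {x : A} {i : ℕ} (hi : 0 < i) (hx : x ∈ 𝒜 i) (b₁ : B)
    (hb₁ : φ b₁ = Polynomial.C x) : π b₁ = 0 := by
  have : b₁ ∈ RingHom.ker π.toRingHom := by
    rw [hker]
    refine Ideal.subset_span ⟨x, ?_, hb₁.symm⟩
    exact HomogeneousIdeal.mem_irrelevant_of_mem 𝒜 hi hx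
  exact this

theorem pi_pow_eq_zero (hφ : Function.Injective φ) {n m : ℕ} (hnm : n < m) (a : A)
    (ha : a ∈ 𝒜 m) (b : B) (hb : φ b = monomial n a) : (π b) ^ m = 0 := by
  obtain ⟨b₁, -, hb₁⟩ := exists_preimage_C 𝒜 ℬ φ hdeg a
  have ha' : a ^ (m - 1) ∈ ⨆ (k : ℕ) (_ : n * m ≤ k), 𝒜 k := by
    refine mem_iSup_ge_of_mem 𝒜 ?_ (SetLike.pow_mem_graded (m - 1) ha)
    rw [smul_eq_mul]
    exact Nat.mul_le_mul_right m (by omega)
  obtain ⟨b₂, -, hb₂⟩ := exists_preimage_monomial 𝒜 ℬ φ hdeg (n * m) _ ha'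
  have hbm : b ^ m = b₁ * b₂ := by
    apply hφ
    rw [map_pow, hb, map_mul, hb₁, hb₂, monomial_pow, C_mul_monomial,
      mul_pow_sub_one (by omega : m ≠ 0)]
  have hb₁ker : π b₁ = 0 :=
    pi_eq_zero_of_C 𝒜 ℬ φ hdeg 𝒞 π hker (by omega : 0 < m) ha b₁ hb₁
  rw [← map_pow, hbm, map_mul, hb₁ker, zero_mul]

/-- The kernel of `ρ` is contained in every prime ideal. -/
theorem mem_prime_of_rho_eq_zero (hφ : Function.Injective φ) (hπ : Function.Surjective π)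
    (hρ : ∀ (n : ℕ) (b : B), b ∈ ℬ n → ρ (π b) = GradedRing.proj 𝒜 n ((φ b).coeff n))
    (q : Ideal T) [q.IsPrime] (c : T) (hc : ρ c = 0) : c ∈ q := by
  classical
  rw [← sum_support_decompose 𝒞 c]
  refine Ideal.sum_mem _ fun n _ => ?_
  refine mem_of_rho_eq_zero 𝒜 ℬ φ hdeg 𝒞 π ρ hφ hπ hρ q n ?_ _ (SetLike.coe_mem _) ?_
  · intro m hnm a ha b hb
    refine Ideal.IsPrime.mem_of_pow_mem ‹_› m ?_
    rw [pi_pow_eq_zero 𝒜 ℬ φ hdeg 𝒞 π hker hφ hnm a ha b hb]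
    exact zero_mem _
  · rw [GradedRingHom.map_directSumDecompose 𝒞 𝒜 ρ, hc, decompose_zero]
    rfl

theorem pi_eq_zero_of_gen (hφ : Function.Injective φ) {n₀ : ℕ}
    (hgen : ∀ n : ℕ, n₀ ≤ n → 𝒜 (n + 1) = 𝒜 1 * 𝒜 n) {n m : ℕ} (hn : n₀ ≤ n) (hnm : n < m)
    (a : A) (ha : a ∈ 𝒜 m) (b : B) (hb : φ b = monomial n a) : π b = 0 := by
  obtain ⟨k, rfl⟩ : ∃ k, m = k + 1 := ⟨m - 1, by omega⟩
  rw [hgen k (by omega)] at ha
  have key : ∃ b', φ b' = monomial n a ∧ π b' = 0 := by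
    refine Submodule.mul_induction_on ha ?_ ?_
    · intro x hx y hy
      obtain ⟨b₁, -, hb₁⟩ := exists_preimage_C 𝒜 ℬ φ hdeg x
      obtain ⟨b₂, -, hb₂⟩ := exists_preimage_monomial 𝒜 ℬ φ hdeg n y
        (mem_iSup_ge_of_mem 𝒜 (by omega) hy)
      have hb₁ker : π b₁ = 0 :=
        pi_eq_zero_of_C 𝒜 ℬ φ hdeg 𝒞 π hker (by omega : 0 < 1) hx b₁ hb₁
      exact ⟨b₁ * b₂, by rw [map_mul, hb₁, hb₂, C_mul_monomial],
        by rw [map_mul, hb₁ker, zero_mul]⟩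
    · rintro x y ⟨bx, hbx, hbx'⟩ ⟨b_y, hby, hby'⟩
      exact ⟨bx + b_y, by rw [map_add, hbx, hby, map_add], by rw [map_add, hbx', hby', add_zero]⟩
  obtain ⟨b', hb', hb'0⟩ := key
  rw [hφ (hb.trans hb'.symm)]
  exact hb'0

theorem rho_inj_deg (hφ : Function.Injective φ) (hπ : Function.Surjective π)
    (hρ : ∀ (n : ℕ) (b : B), b ∈ ℬ n → ρ (π b) = GradedRing.proj 𝒜 n ((φ b).coeff n))
    {n₀ : ℕ} (hgen : ∀ n : ℕ, n₀ ≤ n → 𝒜 (n + 1) = 𝒜 1 * 𝒜 n) {n : ℕ} (hn : n₀ ≤ n)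
    (c : T) (hc : c ∈ 𝒞 n) (hρc : ρ c = 0) : c = 0 := by
  have h := mem_of_rho_eq_zero 𝒜 ℬ φ hdeg 𝒞 π ρ hφ hπ hρ ⊥ n ?_ c hc hρc
  · simpa using h
  · intro m hnm a ha b hb
    rw [Ideal.mem_bot]
    exact pi_eq_zero_of_gen 𝒜 ℬ φ hdeg 𝒞 π hker hφ hgen hn hnm a ha b hb

end

end

end

end Groth.Agent.Lib.Helper6.SNat
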