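import Mathlib
import Groth.Agent.Lib.Helper6.SNat3

/-! Generation in degree one for `S♮` vs `S` (helper6). -/

namespace Groth.Agent.Lib.Helper6.SNat

open Polynomial DirectSum

universe u

section

variable {R A : Type u} [CommRing R] [CommRing A] [Algebra R A]

theorem sub_mul_mono {P P' Q Q' : Submodule R A} (h1 : P ≤ P') (h2 : Q ≤ Q') :
    P * Q ≤ P' * Q' :=
  Submodule.mul_le.mpr fun _ hx _ hy => Submodule.mul_mem_mul (h1 hx) (h2 hy)

theorem sub_pow_mono {P P' : Submodule R A} (h1 : P ≤ P') (n : ℕ) : P ^ n ≤ P' ^ n := by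
  induction n with
  | zero => simp
  | succ k ih =>
    rw [pow_succ, pow_succ]
    exact sub_mul_mono ih h1

/-- the `R`-linear map `a ↦ a Xⁿ`. -/
noncomputable abbrev mon (n : ℕ) : A →ₗ[R] A[X] := (monomial n : A →ₗ[A] A[X]).restrictScalars R

theorem map_mon_mul (i j : ℕ) (P Q : Submodule R A) :
    Submodule.map (mon i) P * Submodule.map (mon j) Q = Submodule.map (mon (i + j)) (P * Q) := by
  apply le_antisymm
  · rw [Submodule.mul_le]
    rintro _ ⟨a, ha, rfl⟩ _ ⟨b, hb, rfl⟩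
    refine ⟨a * b, Submodule.mul_mem_mul ha hb, ?_⟩
    show monomial (i + j) (a * b) = monomial i a * monomial j b
    rw [monomial_mul_monomial]
  · rw [Submodule.map_le_iff_le_comap, Submodule.mul_le]
    intro a ha b hb
    have h : (mon (i + j) : A →ₗ[R] A[X]) (a * b) =
        (mon i : A →ₗ[R] A[X]) a * (mon j : A →ₗ[R] A[X]) b :=
      (monomial_mul_monomial i j a b).symm
    rw [Submodule.mem_comap, h]
    exact Submodule.mul_mem_mul ⟨a, ha, rfl⟩ ⟨b, hb, rfl⟩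

theorem map_mon_one : Submodule.map (mon 0) (1 : Submodule R A) = (1 : Submodule R A[X]) := by
  rw [Submodule.one_eq_span, Submodule.one_eq_span, Submodule.map_span, Set.image_singleton]
  rfl

theorem map_mon_pow (P : Submodule R A) (n : ℕ) :
    Submodule.map (mon 1) P ^ n = Submodule.map (mon n) (P ^ n) := by
  induction n with
  | zero => rw [pow_zero, pow_zero, map_mon_one]
  | succ k ih => rw [pow_succ, pow_succ, ih, map_mon_mul]

theorem mon_map_injective (n : ℕ) :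
    Function.Injective (Submodule.map (mon n : A →ₗ[R] A[X])) :=
  Submodule.map_injective_of_injective (monomial_injective n)

variable (𝒜 : ℕ → Submodule R A) [GradedAlgebra 𝒜]

/-- `S_[n] = ⨁_{m ≥ n} S_m`. -/
abbrev Sge (n : ℕ) : Submodule R A := ⨆ (m : ℕ) (_ : n ≤ m), 𝒜 m

theorem le_Sge {n m : ℕ} (h : n ≤ m) : 𝒜 m ≤ Sge 𝒜 n := fun _ ha => mem_iSup_ge_of_mem 𝒜 h ha

theorem Sge_induction {i : ℕ} {P : A → Prop} (h0 : P 0) (hadd : ∀ x y, P x → P y → P (x + y))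
    (hm : ∀ m, i ≤ m → ∀ x ∈ 𝒜 m, P x) {x : A} (hx : x ∈ Sge 𝒜 i) : P x := by
  classical
  have hx' := hx
  rw [← sum_support_decompose 𝒜 x]
  refine Finset.sum_induction _ P hadd h0 fun m _ => ?_
  by_cases hmi : i ≤ m
  · exact hm m hmi _ (SetLike.coe_mem _)
  · rw [decompose_eq_zero_of_mem_iSup_ge 𝒜 (by omega) hx']
    exact h0

theorem Sge_mul_le (i j : ℕ) : Sge 𝒜 i * Sge 𝒜 j ≤ Sge 𝒜 (i + j) := by
  rw [Submodule.mul_le]
  intro x hx y hy
  refine Sge_induction 𝒜 (P := fun x => x * y ∈ Sge 𝒜 (i + j)) ?_ ?_ ?_ hx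
  · simp
  · intro a b ha hb
    rw [add_mul]
    exact add_mem ha hb
  · intro m hm a ha
    refine Sge_induction 𝒜 (P := fun y => a * y ∈ Sge 𝒜 (i + j)) ?_ ?_ ?_ hy
    · simp
    · intro c d hc hd
      rw [mul_add]
      exact add_mem hc hd
    · intro m' hm' b hb
      exact le_Sge 𝒜 (by omega) (SetLike.mul_mem_graded ha hb)

theorem Sge_zero : Sge 𝒜 0 = ⊤ := by
  rw [eq_top_iff]
  intro a _
  exact mem_iSup_ge_zero 𝒜 a

theorem Sge_pow_le (n : ℕ) : Sge 𝒜 1 ^ n ≤ Sge 𝒜 n := by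
  induction n with
  | zero => rw [Sge_zero]; exact le_top
  | succ k ih =>
    rw [pow_succ]
    exact (sub_mul_mono ih le_rfl).trans (Sge_mul_le 𝒜 k 1)

theorem deg_mul_le (i j : ℕ) : 𝒜 i * 𝒜 j ≤ 𝒜 (i + j) :=
  Submodule.mul_le.mpr fun _ hx _ hy => SetLike.mul_mem_graded hx hy

theorem deg_pow_le (n : ℕ) : 𝒜 1 ^ n ≤ 𝒜 n := by
  induction n with
  | zero =>
    rw [pow_zero, Submodule.one_le]
    exact SetLike.one_mem_graded 𝒜
  | succ k ih =>
    rw [pow_succ]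
    exact (sub_mul_mono ih le_rfl).trans (deg_mul_le 𝒜 k 1)

/-- the lowest component of a product. -/
theorem proj_mul_of_mem_Sge {i j : ℕ} {x y : A} (hx : x ∈ Sge 𝒜 i) (hy : y ∈ Sge 𝒜 j) :
    (decompose 𝒜 (x * y) (i + j) : A) = (decompose 𝒜 x i : A) * (decompose 𝒜 y j : A) := by
  refine Sge_induction 𝒜 (P := fun x => (decompose 𝒜 (x * y) (i + j) : A) =
    (decompose 𝒜 x i : A) * (decompose 𝒜 y j : A)) ?_ ?_ ?_ hx
  · simp
  · intro a b ha hb
    simp only [add_mul, decompose_add, DirectSum.add_apply, AddMemClass.coe_add, ha, hb]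
  · intro m hm a ha
    refine Sge_induction 𝒜 (P := fun y => (decompose 𝒜 (a * y) (i + j) : A) =
      (decompose 𝒜 a i : A) * (decompose 𝒜 y j : A)) ?_ ?_ ?_ hy
    · simp
    · intro c d hc hd
      simp only [mul_add, decompose_add, DirectSum.add_apply, AddMemClass.coe_add, hc, hd]
    · intro m' hm' b hb
      have hab : a * b ∈ 𝒜 (m + m') := SetLike.mul_mem_graded ha hb
      by_cases h : m = i ∧ m' = j
      · obtain ⟨rfl, rfl⟩ := h
        rw [decompose_of_mem_same 𝒜 hab, decompose_of_mem_same 𝒜 ha,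
          decompose_of_mem_same 𝒜 hb]
      · rw [decompose_of_mem_ne 𝒜 hab (by omega)]
        by_cases h1 : m = i
        · have h2 : m' ≠ j := fun h2 => h ⟨h1, h2⟩
          rw [decompose_of_mem_ne 𝒜 hb h2, mul_zero]
        · rw [decompose_of_mem_ne 𝒜 ha h1, zero_mul]

theorem proj_mem_of_mem_mul {i j : ℕ} {z : A} (hz : z ∈ Sge 𝒜 i * Sge 𝒜 j) :
    (decompose 𝒜 z (i + j) : A) ∈ 𝒜 i * 𝒜 j := by
  refine Submodule.mul_induction_on hz ?_ ?_
  · intro x hx y hy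
    rw [proj_mul_of_mem_Sge 𝒜 hx hy]
    exact Submodule.mul_mem_mul (SetLike.coe_mem _) (SetLike.coe_mem _)
  · intro x y hx hy
    rw [decompose_add, DirectSum.add_apply, AddMemClass.coe_add]
    exact add_mem hx hy

theorem proj_mem_of_mem_pow (n : ℕ) {z : A} (hz : z ∈ Sge 𝒜 1 ^ n) :
    (decompose 𝒜 z n : A) ∈ 𝒜 1 ^ n := by
  induction n generalizing z with
  | zero =>
    rw [pow_zero] at hz ⊢
    obtain ⟨r, rfl⟩ := Submodule.mem_one.mp hz
    rw [decompose_of_mem_same 𝒜 (SetLike.algebraMap_mem_graded 𝒜 r)]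
    exact Submodule.mem_one.mpr ⟨r, rfl⟩
  | succ k ih =>
    rw [pow_succ] at hz ⊢
    refine Submodule.mul_induction_on hz ?_ ?_
    · intro x hx y hy
      rw [proj_mul_of_mem_Sge 𝒜 (Sge_pow_le 𝒜 k hx) hy]
      exact Submodule.mul_mem_mul (ih hx) (SetLike.coe_mem _)
    · intro x y hx hy
      rw [decompose_add, DirectSum.add_apply, AddMemClass.coe_add]
      exact add_mem hx hy

/-- generation in degree one, first form. -/
theorem Sge_succ_iff (n₀ : ℕ) :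
    (∀ n : ℕ, n₀ ≤ n → Sge 𝒜 (n + 1) = Sge 𝒜 1 * Sge 𝒜 n) ↔
      (∀ n : ℕ, n₀ ≤ n → 𝒜 (n + 1) = 𝒜 1 * 𝒜 n) := by
  constructor
  · intro h n hn
    apply le_antisymm
    · intro a ha
      have h1 : a ∈ Sge 𝒜 1 * Sge 𝒜 n := by
        rw [← h n hn]
        exact le_Sge 𝒜 le_rfl ha
      have h2 := proj_mem_of_mem_mul 𝒜 h1
      rw [add_comm 1 n, decompose_of_mem_same 𝒜 ha] at h2
      exact h2
    · rw [add_comm n 1]
      exact deg_mul_le 𝒜 1 n
  · intro h n hn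
    apply le_antisymm
    · refine iSup_le fun m => iSup_le fun hm => ?_
      obtain ⟨k, rfl⟩ : ∃ k, m = k + 1 := ⟨m - 1, by omega⟩
      rw [h k (by omega)]
      exact sub_mul_mono (le_Sge 𝒜 le_rfl) (le_Sge 𝒜 (by omega))
    · rw [add_comm n 1]
      exact Sge_mul_le 𝒜 1 n

/-- generation in degree one, second form. -/
theorem Sge_pow_iff (n₀ : ℕ) (hn₀ : 1 ≤ n₀) :
    (∀ n : ℕ, n₀ ≤ n → Sge 𝒜 n = Sge 𝒜 1 ^ n) ↔ (∀ n : ℕ, n₀ ≤ n → 𝒜 n = 𝒜 1 ^ n) := by
  constructor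
  · intro h n hn
    apply le_antisymm
    · intro a ha
      have h1 : a ∈ Sge 𝒜 1 ^ n := by
        rw [← h n hn]
        exact le_Sge 𝒜 le_rfl ha
      have h2 := proj_mem_of_mem_pow 𝒜 n h1
      rw [decompose_of_mem_same 𝒜 ha] at h2
      exact h2
    · exact deg_pow_le 𝒜 n
  · intro h n hn
    apply le_antisymm
    · refine iSup_le fun m => iSup_le fun hm => ?_
      obtain ⟨k, rfl⟩ : ∃ k, n = k + 1 := ⟨n - 1, by omega⟩
      obtain ⟨l, rfl⟩ : ∃ l, m = k + (l + 1) := ⟨m - k - 1, by omega⟩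
      rw [h (k + (l + 1)) (by omega), pow_add, pow_succ (Sge 𝒜 1) k]
      refine sub_mul_mono (sub_pow_mono (le_Sge 𝒜 le_rfl) k) ?_
      exact (deg_pow_le 𝒜 (l + 1)).trans (le_Sge 𝒜 (by omega))
    · exact Sge_pow_le 𝒜 n

variable {B : Type u} [CommRing B] [Algebra R B] (ℬ : ℕ → Submodule R B) [GradedAlgebra ℬ]
  (φ : B →ₐ[R] A[X])

theorem natural_succ_iff (hφ : Function.Injective φ)
    (hdeg : ∀ n : ℕ, Submodule.map φ.toLinearMap (ℬ n) =
      Submodule.map ((monomial n : A →ₗ[A] A[X]).restrictScalars R)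
        (⨆ (m : ℕ) (_ : n ≤ m), 𝒜 m)) (n : ℕ) :
    ℬ (n + 1) = ℬ 1 * ℬ n ↔ Sge 𝒜 (n + 1) = Sge 𝒜 1 * Sge 𝒜 n := by
  have hinj : Function.Injective (Submodule.map φ.toLinearMap) :=
    Submodule.map_injective_of_injective hφ
  rw [← hinj.eq_iff, Submodule.map_mul, hdeg, hdeg, hdeg]
  have := map_mon_mul (R := R) 1 n (Sge 𝒜 1) (Sge 𝒜 n)
  rw [add_comm 1 n] at this
  rw [this]
  exact (mon_map_injective (n + 1)).eq_iff

theorem natural_pow_iff (hφ : Function.Injective φ)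
    (hdeg : ∀ n : ℕ, Submodule.map φ.toLinearMap (ℬ n) =
      Submodule.map ((monomial n : A →ₗ[A] A[X]).restrictScalars R)
        (⨆ (m : ℕ) (_ : n ≤ m), 𝒜 m)) (n : ℕ) :
    ℬ n = ℬ 1 ^ n ↔ Sge 𝒜 n = Sge 𝒜 1 ^ n := by
  have hinj : Function.Injective (Submodule.map φ.toLinearMap) :=
    Submodule.map_injective_of_injective hφ
  rw [← hinj.eq_iff, Submodule.map_pow, hdeg, hdeg]
  have := map_mon_pow (R := R) (Sge 𝒜 1) n
  rw [this]
  exact (mon_map_injective n).eq_iff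

end

end Groth.Agent.Lib.Helper6.SNat
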