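import Mathlib

/-!
# Lattice computation for boundary forms (helper6)

For a `ℤ`-module `M` with a basis `𝔟` indexed by `Option J`, `d = D • 𝔟 none`, and `δ ∣ 2 (g-1)`,
the subgroup `H` of `Hom(M, ℤ/δ)` generated by the maps `x ↦ b(d,x) + (1-g) b(x,x)` (`b` symmetric
bilinear) is described explicitly; we compute `Hom(M, ℤ/δ)/H` and `H`.
-/

set_option autoImplicit false

namespace Groth.Agent.Lib.helper6.SymLat

open scoped BigOperators

/-! ### Number-theoretic lemmas in `ZMod δ` -/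

theorem nt1 (δ : ℕ) (e : ℤ) (a : ZMod δ) :
    ((Int.gcd δ e : ℕ) : ZMod δ) ∣ a ↔ ∃ z : ℤ, a = ((e * z : ℤ) : ZMod δ) := by
  constructor
  · rintro ⟨t, rfl⟩
    obtain ⟨t', rfl⟩ := ZMod.intCast_surjective t
    refine ⟨Int.gcdB δ e * t', ?_⟩
    have h := Int.gcd_eq_gcd_ab (δ : ℤ) e
    have h2 : ((Int.gcd δ e : ℕ) : ZMod δ) = (((Int.gcd δ e : ℕ) : ℤ) : ZMod δ) := by
      rw [Int.cast_natCast]
    rw [h2, h]
    push_cast
    rw [ZMod.natCast_self]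
    ring
  · rintro ⟨z, rfl⟩
    obtain ⟨q, hq⟩ := Int.gcd_dvd_right (δ : ℤ) e
    refine ⟨((q * z : ℤ) : ZMod δ), ?_⟩
    have : e * z = ((Int.gcd δ e : ℕ) : ℤ) * (q * z) := by rw [← mul_assoc, ← hq]
    rw [this, Int.cast_mul, Int.cast_natCast]

theorem nt2 (δ : ℕ) (p q : ℤ) (a : ZMod δ) :
    ((Int.gcd δ (Int.gcd p q : ℕ) : ℕ) : ZMod δ) ∣ a ↔
      ∃ β γ : ℤ, a = ((p * β + q * γ : ℤ) : ZMod δ) := by
  rw [nt1]
  constructor
  · rintro ⟨z, rfl⟩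
    refine ⟨Int.gcdA p q * z, Int.gcdB p q * z, ?_⟩
    rw [Int.gcd_eq_gcd_ab p q]
    congr 1
    ring
  · rintro ⟨β, γ, rfl⟩
    obtain ⟨u, hu⟩ := Int.gcd_dvd_left p q
    obtain ⟨v, hv⟩ := Int.gcd_dvd_right p q
    refine ⟨u * β + v * γ, ?_⟩
    congr 1
    have h1 : p * β = ((Int.gcd p q : ℕ) : ℤ) * (u * β) := by rw [← mul_assoc, ← hu]
    have h2 : q * γ = ((Int.gcd p q : ℕ) : ℤ) * (v * γ) := by rw [← mul_assoc, ← hv]
    rw [h1, h2, ← mul_add]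

theorem par (δ : ℕ) (g : ℤ) (hδ : (δ : ℤ) ∣ 2 * (g - 1)) (n : ℤ) :
    ((1 : ZMod δ) - (g : ZMod δ)) * ((n : ZMod δ) * (n : ZMod δ))
      = (1 - (g : ZMod δ)) * (n : ZMod δ) := by
  have h : (((1 - g) * (n * n) : ℤ) : ZMod δ) = (((1 - g) * n : ℤ) : ZMod δ) := by
    rw [ZMod.intCast_eq_intCast_iff_dvd_sub]
    obtain ⟨k, hk⟩ := Int.even_mul_succ_self (n - 1)
    have hk' : (n - 1) * n = k + k := by rw [← hk]; ring
    refine hδ.trans ⟨k, ?_⟩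
    linear_combination (g - 1) * hk'
  push_cast at h
  exact h

theorem two_zero (δ : ℕ) (g : ℤ) (hδ : (δ : ℤ) ∣ 2 * (g - 1)) :
    (2 : ZMod δ) * ((g : ZMod δ) - 1) = 0 := by
  have h := (ZMod.intCast_zmod_eq_zero_iff_dvd (2 * (g - 1)) δ).2 hδ
  push_cast at h
  exact h

theorem cast_eq_zero_iff (δ m : ℕ) (h : m ∣ δ) (a : ZMod δ) :
    ZMod.castHom h (ZMod m) a = 0 ↔ (m : ZMod δ) ∣ a := by
  obtain ⟨z, rfl⟩ := ZMod.intCast_surjective a
  rw [map_intCast, ZMod.intCast_zmod_eq_zero_iff_dvd]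
  constructor
  · rintro ⟨q, rfl⟩
    exact ⟨(q : ZMod δ), by simp⟩
  · rintro ⟨t, ht⟩
    obtain ⟨t', rfl⟩ := ZMod.intCast_surjective t
    have h1 : ((z : ℤ) : ZMod δ) = (((m : ℤ) * t' : ℤ) : ZMod δ) := by rw [ht]; simp
    rw [ZMod.intCast_eq_intCast_iff_dvd_sub] at h1
    have hm : (m : ℤ) ∣ (δ : ℤ) := Int.natCast_dvd_natCast.2 h
    obtain ⟨w, hw⟩ := hm.trans h1
    exact ⟨t' - w, by rw [mul_sub, ← hw]; ring⟩

/-- multiplication by `m` as a map `ZMod (δ / m) →+ ZMod δ`. -/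
def iota (δ m : ℕ) (h : m ∣ δ) : ZMod (δ / m) →+ ZMod δ :=
  ZMod.lift (δ / m) ⟨(AddMonoidHom.mulLeft (m : ZMod δ)).comp (Int.castAddHom (ZMod δ)), by
    show (m : ZMod δ) * (((δ / m : ℕ) : ℤ) : ZMod δ) = 0
    rw [Int.cast_natCast, ← Nat.cast_mul, Nat.mul_div_cancel' h, ZMod.natCast_self]⟩

theorem iota_intCast (δ m : ℕ) (h : m ∣ δ) (z : ℤ) :
    iota δ m h (z : ZMod (δ / m)) = (m : ZMod δ) * (z : ZMod δ) := by
  unfold iota
  rw [ZMod.lift_coe]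
  rfl

theorem iota_injective (δ m : ℕ) (hδ0 : 0 < δ) (h : m ∣ δ) : Function.Injective (iota δ m h) := by
  rw [injective_iff_map_eq_zero]
  intro t ht
  obtain ⟨z, rfl⟩ := ZMod.intCast_surjective t
  rw [iota_intCast] at ht
  have h2 : (((m : ℤ) * z : ℤ) : ZMod δ) = 0 := by push_cast; exact ht
  rw [ZMod.intCast_zmod_eq_zero_iff_dvd] at h2 ⊢
  have hm0 : (m : ℤ) ≠ 0 := by
    intro h0
    have hm : m = 0 := by exact_mod_cast h0
    subst hm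
    simp at h
    omega
  have hδm : (δ : ℤ) = (m : ℤ) * ((δ / m : ℕ) : ℤ) := by
    rw [← Nat.cast_mul, Nat.mul_div_cancel' h]
  rw [hδm] at h2
  exact (mul_dvd_mul_iff_left hm0).1 h2

theorem mem_range_iota (δ m : ℕ) (h : m ∣ δ) (a : ZMod δ) :
    a ∈ (iota δ m h).range ↔ (m : ZMod δ) ∣ a := by
  constructor
  · rintro ⟨t, rfl⟩
    obtain ⟨z, rfl⟩ := ZMod.intCast_surjective t
    rw [iota_intCast]; exact dvd_mul_right _ _
  · rintro ⟨t, rfl⟩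
    obtain ⟨z, rfl⟩ := ZMod.intCast_surjective t
    exact ⟨(z : ZMod (δ / m)), iota_intCast δ m h z⟩

/-! ### The core computation -/

section Core

variable {M : Type*} [AddCommGroup M] [hM : Module ℤ M] {J : Type*} [Fintype J] [DecidableEq J]
  (𝔟 : Module.Basis (Option J) ℤ M) (D : ℤ) (δ : ℕ) (g : ℤ)

/-- The generating set of boundary forms. -/
def gens (d : M) : Set (M →+ ZMod δ) :=
  {φ : M →+ ZMod δ | ∃ b : LinearMap.BilinForm ℤ M, b.IsSymm ∧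
      ∀ x, φ x = ((b d x + (1 - g) * b x x : ℤ) : ZMod δ)}

/-- the hom `x ↦ (p x : ZMod δ) * a` -/
def hom (p : M →ₗ[ℤ] ℤ) (a : ZMod δ) : M →+ ZMod δ :=
  (AddMonoidHom.mulRight a).comp ((Int.castAddHom (ZMod δ)).comp p.toAddMonoidHom)

theorem hom_apply (p : M →ₗ[ℤ] ℤ) (a : ZMod δ) (x : M) :
    hom δ p a x = (p x : ZMod δ) * a := rfl

theorem eval_none (α : ZMod δ) (γ : J → ZMod δ) :
    (hom δ (𝔟.coord none) α + ∑ l, hom δ (𝔟.coord (some l)) (γ l)) (𝔟 none) = α := by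
  rw [AddMonoidHom.add_apply, AddMonoidHom.finsetSum_apply]
  simp [hom_apply, Module.Basis.coord_apply, Module.Basis.repr_self]

theorem eval_some (α : ZMod δ) (γ : J → ZMod δ) (l : J) :
    (hom δ (𝔟.coord none) α + ∑ l, hom δ (𝔟.coord (some l)) (γ l)) (𝔟 (some l)) = γ l := by
  rw [AddMonoidHom.add_apply, AddMonoidHom.finsetSum_apply]
  simp [hom_apply, Module.Basis.coord_apply, Module.Basis.repr_self, Finsupp.single_apply]

theorem decomp (φ : M →+ ZMod δ) :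
    φ = hom δ (𝔟.coord none) (φ (𝔟 none))
      + ∑ l, hom δ (𝔟.coord (some l)) (φ (𝔟 (some l))) := by
  obtain rfl : hM = AddCommGroup.toIntModule M := Subsingleton.elim _ _
  apply AddMonoidHom.toIntLinearMap_injective
  refine 𝔟.ext fun i => ?_
  rcases i with _ | l
  · show φ (𝔟 none) = (hom δ (𝔟.coord none) (φ (𝔟 none))
      + ∑ l, hom δ (𝔟.coord (some l)) (φ (𝔟 (some l)))) (𝔟 none)
    rw [eval_none]
  · show φ (𝔟 (some l)) = (hom δ (𝔟.coord none) (φ (𝔟 none))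
      + ∑ l, hom δ (𝔟.coord (some l)) (φ (𝔟 (some l)))) (𝔟 (some l))
    rw [eval_some 𝔟 δ (φ (𝔟 none)) (fun l => φ (𝔟 (some l))) l]

/-- The explicit description of the subgroup generated by boundary forms. -/
def Good (φ : M →+ ZMod δ) : Prop :=
  (∃ z : ℤ, φ (𝔟 none) = (((D + 1 - g) * z : ℤ) : ZMod δ)) ∧
  ∀ l : J, ∃ β γ : ℤ, φ (𝔟 (some l)) = (((g - 1) * β + D * γ : ℤ) : ZMod δ)

theorem good_of_mem (d : M) (hd : ∀ p : M →ₗ[ℤ] ℤ, p d = D * p (𝔟 none)) (φ : M →+ ZMod δ)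
    (hφ : φ ∈ AddSubgroup.closure (gens δ g d)) : Good 𝔟 D δ g φ := by
  induction hφ using AddSubgroup.closure_induction with
  | mem φ hφ =>
    obtain ⟨b, hb, hφb⟩ := hφ
    have hbd : ∀ x, b d x = D * b (𝔟 none) x := by
      intro x
      have h := hd (b.flip x)
      simpa [LinearMap.flip_apply] using h
    constructor
    · refine ⟨b (𝔟 none) (𝔟 none), ?_⟩
      rw [hφb, hbd]; congr 1; ring
    · intro l
      refine ⟨-(b (𝔟 (some l)) (𝔟 (some l))), b (𝔟 none) (𝔟 (some l)), ?_⟩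
      rw [hφb, hbd]; congr 1; ring
  | zero => exact ⟨⟨0, by simp⟩, fun l => ⟨0, 0, by simp⟩⟩
  | add φ ψ _ _ h1 h2 =>
    obtain ⟨⟨z1, hz1⟩, h1'⟩ := h1
    obtain ⟨⟨z2, hz2⟩, h2'⟩ := h2
    refine ⟨⟨z1 + z2, ?_⟩, fun l => ?_⟩
    · rw [AddMonoidHom.add_apply, hz1, hz2]; push_cast; ring
    · obtain ⟨β1, γ1, e1⟩ := h1' l
      obtain ⟨β2, γ2, e2⟩ := h2' l
      refine ⟨β1 + β2, γ1 + γ2, ?_⟩
      rw [AddMonoidHom.add_apply, e1, e2]; push_cast; ring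
  | neg φ _ h =>
    obtain ⟨⟨z1, hz1⟩, h1'⟩ := h
    refine ⟨⟨-z1, ?_⟩, fun l => ?_⟩
    · rw [AddMonoidHom.neg_apply, hz1]; push_cast; ring
    · obtain ⟨β1, γ1, e1⟩ := h1' l
      refine ⟨-β1, -γ1, ?_⟩
      rw [AddMonoidHom.neg_apply, e1]; push_cast; ring

theorem coord_none_d (d : M) (hd : ∀ p : M →ₗ[ℤ] ℤ, p d = D * p (𝔟 none)) :
    𝔟.coord none d = D := by
  rw [hd]
  simp [Module.Basis.coord_apply, Module.Basis.repr_self]

theorem coord_some_d (d : M) (hd : ∀ p : M →ₗ[ℤ] ℤ, p d = D * p (𝔟 none)) (l : J) :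
    𝔟.coord (some l) d = 0 := by
  rw [hd]
  simp [Module.Basis.coord_apply, Module.Basis.repr_self]

theorem gen1_mem (hδ : (δ : ℤ) ∣ 2 * (g - 1)) (d : M)
    (hd : ∀ p : M →ₗ[ℤ] ℤ, p d = D * p (𝔟 none)) (z : ℤ) :
    hom δ (𝔟.coord none) (((D + 1 - g) * z : ℤ) : ZMod δ) ∈ gens δ g d := by
  refine ⟨LinearMap.BilinForm.linMulLin ((LinearMap.mulLeft ℤ z).comp (𝔟.coord none))
    (𝔟.coord none), ?_, ?_⟩
  · refine ⟨fun x y => ?_⟩
    simp only [LinearMap.BilinForm.linMulLin_apply, LinearMap.comp_apply,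
      LinearMap.mulLeft_apply]
    ring
  · intro x
    rw [hom_apply]
    simp only [LinearMap.BilinForm.linMulLin_apply, LinearMap.comp_apply,
      LinearMap.mulLeft_apply, coord_none_d 𝔟 D d hd]
    have hp := par δ g hδ (𝔟.coord none x)
    push_cast
    linear_combination (-(z : ZMod δ)) * hp

theorem gen2_mem (hδ : (δ : ℤ) ∣ 2 * (g - 1)) (d : M)
    (hd : ∀ p : M →ₗ[ℤ] ℤ, p d = D * p (𝔟 none)) (l : J) (β γ : ℤ) :
    hom δ (𝔟.coord (some l)) (((g - 1) * β + D * γ : ℤ) : ZMod δ) ∈ gens δ g d := by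
  refine ⟨LinearMap.BilinForm.linMulLin ((LinearMap.mulLeft ℤ (-β)).comp (𝔟.coord (some l)))
      (𝔟.coord (some l))
    + (LinearMap.BilinForm.linMulLin ((LinearMap.mulLeft ℤ γ).comp (𝔟.coord none))
        (𝔟.coord (some l))
      + LinearMap.BilinForm.linMulLin ((LinearMap.mulLeft ℤ γ).comp (𝔟.coord (some l)))
        (𝔟.coord none)), ?_, ?_⟩
  · refine ⟨fun x y => ?_⟩
    simp only [LinearMap.add_apply, LinearMap.BilinForm.linMulLin_apply, LinearMap.comp_apply,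
      LinearMap.mulLeft_apply]
    ring
  · intro x
    rw [hom_apply]
    simp only [LinearMap.add_apply, LinearMap.BilinForm.linMulLin_apply, LinearMap.comp_apply,
      LinearMap.mulLeft_apply, coord_none_d 𝔟 D d hd, coord_some_d 𝔟 D d hd]
    have hp := par δ g hδ (𝔟.coord (some l) x)
    have h2 := two_zero δ g hδ
    push_cast
    linear_combination (β : ZMod δ) * hp
      + (γ : ZMod δ) * (𝔟.coord none x : ZMod δ) * (𝔟.coord (some l) x : ZMod δ) * h2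

theorem mem_of_good (hδ : (δ : ℤ) ∣ 2 * (g - 1)) (d : M)
    (hd : ∀ p : M →ₗ[ℤ] ℤ, p d = D * p (𝔟 none))
    (φ : M →+ ZMod δ) (h : Good 𝔟 D δ g φ) : φ ∈ AddSubgroup.closure (gens δ g d) := by
  obtain ⟨⟨z, hz⟩, h2⟩ := h
  choose β γ hβγ using h2
  rw [decomp 𝔟 δ φ]
  refine add_mem ?_ (sum_mem fun l _ => ?_)
  · rw [hz]; exact AddSubgroup.subset_closure (gen1_mem 𝔟 D δ g hδ d hd z)
  · rw [hβγ l]; exact AddSubgroup.subset_closure (gen2_mem 𝔟 D δ g hδ d hd l (β l) (γ l))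

/-- The evaluation map used to compute the quotient. -/
noncomputable def Psi (m1 m2 : ℕ) (h1 : m1 ∣ δ) (h2 : m2 ∣ δ) :
    (M →+ ZMod δ) →+ ZMod m1 × (J → ZMod m2) where
  toFun φ := (ZMod.castHom h1 (ZMod m1) (φ (𝔟 none)),
    fun l => ZMod.castHom h2 (ZMod m2) (φ (𝔟 (some l))))
  map_zero' := Prod.ext (map_zero _) (funext fun _ => map_zero _)
  map_add' _ _ := Prod.ext (map_add _ _ _) (funext fun _ => map_add _ _ _)

theorem Psi_apply_fst (m1 m2 : ℕ) (h1 : m1 ∣ δ) (h2 : m2 ∣ δ) (φ : M →+ ZMod δ) :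
    (Psi 𝔟 δ m1 m2 h1 h2 φ).1 = ZMod.castHom h1 (ZMod m1) (φ (𝔟 none)) := rfl

theorem Psi_apply_snd (m1 m2 : ℕ) (h1 : m1 ∣ δ) (h2 : m2 ∣ δ) (φ : M →+ ZMod δ) (l : J) :
    (Psi 𝔟 δ m1 m2 h1 h2 φ).2 l = ZMod.castHom h2 (ZMod m2) (φ (𝔟 (some l))) := rfl

theorem ker_Psi (hδ : (δ : ℤ) ∣ 2 * (g - 1)) (d : M)
    (hd : ∀ p : M →ₗ[ℤ] ℤ, p d = D * p (𝔟 none))
    (m1 m2 : ℕ) (e1 : m1 = Int.gcd δ (D + 1 - g)) (e2 : m2 = Int.gcd δ (Int.gcd (g - 1) D))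
    (h1 : m1 ∣ δ) (h2 : m2 ∣ δ) :
    (Psi 𝔟 δ m1 m2 h1 h2).ker = AddSubgroup.closure (gens δ g d) := by
  ext φ
  rw [AddMonoidHom.mem_ker]
  constructor
  · intro h
    apply mem_of_good 𝔟 D δ g hδ d hd
    have hh1 : ZMod.castHom h1 (ZMod m1) (φ (𝔟 none)) = 0 := by
      rw [← Psi_apply_fst 𝔟 δ m1 m2 h1 h2, h]; rfl
    have hh2 : ∀ l, ZMod.castHom h2 (ZMod m2) (φ (𝔟 (some l))) = 0 := fun l => by
      rw [← Psi_apply_snd 𝔟 δ m1 m2 h1 h2, h]; rfl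
    have k1 := (cast_eq_zero_iff δ m1 h1 _).1 hh1
    have k2 := fun l => (cast_eq_zero_iff δ m2 h2 _).1 (hh2 l)
    subst e1 e2
    exact ⟨(nt1 δ _ _).1 k1, fun l => (nt2 δ _ _ _).1 (k2 l)⟩
  · intro h
    obtain ⟨hz, hl⟩ := good_of_mem 𝔟 D δ g d hd φ h
    refine Prod.ext ?_ (funext fun l => ?_)
    · refine (cast_eq_zero_iff δ m1 h1 _).2 ?_
      subst e1
      exact (nt1 δ _ _).2 hz
    · refine (cast_eq_zero_iff δ m2 h2 _).2 ?_
      subst e2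
      exact (nt2 δ _ _ _).2 (hl l)

theorem Psi_surj (m1 m2 : ℕ) (h1 : m1 ∣ δ) (h2 : m2 ∣ δ) :
    Function.Surjective (Psi 𝔟 δ m1 m2 h1 h2) := by
  rintro ⟨a, c⟩
  obtain ⟨α, rfl⟩ := ZMod.ringHom_surjective (ZMod.castHom h1 (ZMod m1)) a
  choose γ hγ using fun l => ZMod.ringHom_surjective (ZMod.castHom h2 (ZMod m2)) (c l)
  refine ⟨hom δ (𝔟.coord none) α + ∑ l, hom δ (𝔟.coord (some l)) (γ l), ?_⟩
  refine Prod.ext ?_ (funext fun l => ?_)
  · rw [Psi_apply_fst, eval_none]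
  · rw [Psi_apply_snd, eval_some, hγ]

theorem core_quot (hδ : (δ : ℤ) ∣ 2 * (g - 1)) (d : M)
    (hd : ∀ p : M →ₗ[ℤ] ℤ, p d = D * p (𝔟 none)) :
    Nonempty (((M →+ ZMod δ) ⧸ AddSubgroup.closure (gens δ g d)) ≃+
      (ZMod (Int.gcd δ (D + 1 - g)) × (J → ZMod (Int.gcd δ (Int.gcd (g - 1) D))))) := by
  have h1 : Int.gcd δ (D + 1 - g) ∣ δ := Int.natCast_dvd_natCast.1 (Int.gcd_dvd_left _ _)
  have h2 : Int.gcd δ (Int.gcd (g - 1) D) ∣ δ := Int.natCast_dvd_natCast.1 (Int.gcd_dvd_left _ _)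
  exact ⟨(QuotientAddGroup.quotientAddEquivOfEq
      (ker_Psi 𝔟 D δ g hδ d hd _ _ rfl rfl h1 h2).symm).trans
    (QuotientAddGroup.quotientKerEquivOfSurjective _ (Psi_surj 𝔟 δ _ _ h1 h2))⟩

/-- The parametrisation of the subgroup. -/
noncomputable def Theta (m1 m2 : ℕ) (h1 : m1 ∣ δ) (h2 : m2 ∣ δ) :
    ZMod (δ / m1) × (J → ZMod (δ / m2)) →+ (M →+ ZMod δ) where
  toFun p := hom δ (𝔟.coord none) (iota δ m1 h1 p.1)
    + ∑ l, hom δ (𝔟.coord (some l)) (iota δ m2 h2 (p.2 l))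
  map_zero' := by
    refine AddMonoidHom.ext fun x => ?_
    simp [hom_apply]
  map_add' p q := by
    refine AddMonoidHom.ext fun x => ?_
    simp only [AddMonoidHom.add_apply, AddMonoidHom.finsetSum_apply, hom_apply, Prod.fst_add,
      Prod.snd_add, Pi.add_apply, map_add, mul_add, Finset.sum_add_distrib]
    abel

theorem Theta_apply (m1 m2 : ℕ) (h1 : m1 ∣ δ) (h2 : m2 ∣ δ)
    (p : ZMod (δ / m1) × (J → ZMod (δ / m2))) :
    Theta 𝔟 δ m1 m2 h1 h2 p = hom δ (𝔟.coord none) (iota δ m1 h1 p.1)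
      + ∑ l, hom δ (𝔟.coord (some l)) (iota δ m2 h2 (p.2 l)) := rfl

theorem Theta_inj (hδ0 : 0 < δ) (m1 m2 : ℕ) (h1 : m1 ∣ δ) (h2 : m2 ∣ δ) :
    Function.Injective (Theta 𝔟 δ m1 m2 h1 h2) := by
  rw [injective_iff_map_eq_zero]
  intro p hp
  rw [Theta_apply] at hp
  have e1 := eval_none 𝔟 δ (iota δ m1 h1 p.1) (fun l => iota δ m2 h2 (p.2 l))
  rw [hp, AddMonoidHom.zero_apply] at e1
  refine Prod.ext ?_ (funext fun l => ?_)
  · apply iota_injective δ m1 hδ0 h1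
    show iota δ m1 h1 p.1 = iota δ m1 h1 0
    rw [← e1, map_zero]
  · have e2 := eval_some 𝔟 δ (iota δ m1 h1 p.1) (fun l => iota δ m2 h2 (p.2 l)) l
    rw [hp, AddMonoidHom.zero_apply] at e2
    apply iota_injective δ m2 hδ0 h2
    show iota δ m2 h2 (p.2 l) = iota δ m2 h2 0
    rw [← e2, map_zero]

theorem range_Theta (hδ : (δ : ℤ) ∣ 2 * (g - 1)) (d : M)
    (hd : ∀ p : M →ₗ[ℤ] ℤ, p d = D * p (𝔟 none))
    (m1 m2 : ℕ) (e1 : m1 = Int.gcd δ (D + 1 - g)) (e2 : m2 = Int.gcd δ (Int.gcd (g - 1) D))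
    (h1 : m1 ∣ δ) (h2 : m2 ∣ δ) :
    (Theta 𝔟 δ m1 m2 h1 h2).range = AddSubgroup.closure (gens δ g d) := by
  ext φ
  constructor
  · rintro ⟨p, rfl⟩
    apply mem_of_good 𝔟 D δ g hδ d hd
    rw [Theta_apply]
    have k1 := (mem_range_iota δ m1 h1 _).1 ⟨p.1, rfl⟩
    have k2 := fun l => (mem_range_iota δ m2 h2 _).1 ⟨p.2 l, rfl⟩
    subst e1 e2
    constructor
    · rw [eval_none]
      exact (nt1 δ _ _).1 k1
    · intro l
      rw [eval_some 𝔟 δ _ (fun l => iota δ _ h2 (p.2 l)) l]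
      exact (nt2 δ _ _ _).1 (k2 l)
  · intro h
    obtain ⟨hz, hl⟩ := good_of_mem 𝔟 D δ g d hd φ h
    have k1 : (m1 : ZMod δ) ∣ φ (𝔟 none) := by subst e1; exact (nt1 δ _ _).2 hz
    have k2 : ∀ l, (m2 : ZMod δ) ∣ φ (𝔟 (some l)) := fun l => by
      subst e2; exact (nt2 δ _ _ _).2 (hl l)
    obtain ⟨s, hs⟩ := (mem_range_iota δ m1 h1 _).2 k1
    choose t ht using fun l => (mem_range_iota δ m2 h2 _).2 (k2 l)
    refine ⟨(s, t), ?_⟩
    rw [Theta_apply]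
    simp only [hs, ht]
    exact (decomp 𝔟 δ φ).symm

theorem core_sub (hδ0 : 0 < δ) (hδ : (δ : ℤ) ∣ 2 * (g - 1)) (d : M)
    (hd : ∀ p : M →ₗ[ℤ] ℤ, p d = D * p (𝔟 none)) :
    Nonempty (AddSubgroup.closure (gens δ g d) ≃+
      (ZMod (δ / Int.gcd δ (D + 1 - g)) × (J → ZMod (δ / Int.gcd δ (Int.gcd (g - 1) D))))) := by
  have h1 : Int.gcd δ (D + 1 - g) ∣ δ := Int.natCast_dvd_natCast.1 (Int.gcd_dvd_left _ _)
  have h2 : Int.gcd δ (Int.gcd (g - 1) D) ∣ δ := Int.natCast_dvd_natCast.1 (Int.gcd_dvd_left _ _)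
  exact ⟨(AddEquiv.addSubgroupCongr (range_Theta 𝔟 D δ g hδ d hd _ _ rfl rfl h1 h2)).symm.trans
    (AddMonoidHom.ofInjective (Theta_inj 𝔟 δ hδ0 _ _ h1 h2)).symm⟩

end Core

/-! ### A basis of `ℤ^r` adapted to a vector -/

theorem exists_basis (r : ℕ) (hr : 0 < r) (d : Fin r → ℤ) :
    ∃ 𝔟 : Module.Basis (Option (Fin (r - 1))) ℤ (Fin r → ℤ),
      ∀ p : (Fin r → ℤ) →ₗ[ℤ] ℤ, p d = (Finset.univ.gcd d) * p (𝔟 none) := by
  have : Nonempty (Fin r) := ⟨⟨0, hr⟩⟩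
  obtain ⟨d', hd', hgcd⟩ := Finset.extract_gcd d (Finset.univ_nonempty (α := Fin r))
  obtain ⟨a, ha⟩ := Finset.gcd_eq_sum_mul Finset.univ d'
  rw [hgcd] at ha
  obtain ⟨f, hf⟩ : ∃ f : (Fin r → ℤ) →ₗ[ℤ] ℤ, ∀ x, f x = ∑ i, a i * x i :=
    ⟨∑ i, (LinearMap.mulLeft ℤ (a i)).comp (LinearMap.proj i), fun x => by
      simp [LinearMap.sum_apply]⟩
  have hfd' : f d' = 1 := by
    rw [hf, ha]; exact Finset.sum_congr rfl (fun i _ => mul_comm _ _)
  have hdd : d = d' * fun _ => Finset.univ.gcd d := by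
    funext i
    rw [Pi.mul_apply, hd' i (Finset.mem_univ i), mul_comm]
  have hfz : ∀ (c : Fin r → ℤ) (z : ℤ), f c = 0 → f (c + z • d') = z := by
    intro c z hc
    rw [map_add, map_zsmul, hc, hfd', zero_add]
    simp
  let e : (Fin r → ℤ) ≃ₗ[ℤ] (LinearMap.ker f × ℤ) :=
    { toFun := fun x => (⟨x - f x • d', by
        rw [LinearMap.mem_ker, map_sub, map_smul, hfd', smul_eq_mul, mul_one, sub_self]⟩, f x)
      map_add' := fun x y => by
        refine Prod.ext (Subtype.ext ?_) ?_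
        · simp only [map_add, add_smul, Prod.fst_add, Submodule.coe_add]
          abel
        · simp only [map_add, Prod.snd_add]
      map_smul' := fun z x => by
        refine Prod.ext (Subtype.ext ?_) ?_
        · simp only [map_smul, RingHom.id_apply, Prod.smul_fst, Submodule.coe_smul, smul_sub,
            smul_smul, smul_eq_mul]
        · simp only [map_smul, RingHom.id_apply, Prod.smul_snd]
      invFun := fun p => (p.1 : Fin r → ℤ) + p.2 • d'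
      left_inv := fun x => by simp
      right_inv := fun p => by
        obtain ⟨⟨c, hc⟩, z⟩ := p
        have hc' : f c = 0 := hc
        refine Prod.ext (Subtype.ext ?_) ?_
        · show (c + z • d') - f (c + z • d') • d' = c
          rw [hfz c z hc']; abel
        · exact hfz c z hc' }
  have hfr : Module.finrank ℤ (LinearMap.ker f) = r - 1 := by
    have h := e.finrank_eq
    rw [Module.finrank_prod, Module.finrank_self, Module.finrank_fin_fun] at h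
    omega
  let bC : Module.Basis (Fin (r - 1)) ℤ (LinearMap.ker f) := Module.finBasisOfFinrankEq ℤ _ hfr
  let 𝔟 : Module.Basis (Option (Fin (r - 1))) ℤ (Fin r → ℤ) :=
    ((bC.prod (Module.Basis.singleton PUnit.{1} ℤ)).map e.symm).reindex
      (Equiv.optionEquivSumPUnit.{0, 0} (Fin (r - 1))).symm
  have h𝔟 : 𝔟 none = d' := by
    show ((bC.prod (Module.Basis.singleton PUnit.{1} ℤ)).map e.symm).reindex
      (Equiv.optionEquivSumPUnit.{0, 0} (Fin (r - 1))).symm none = d'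
    rw [Module.Basis.reindex_apply, Equiv.symm_symm, Equiv.optionEquivSumPUnit_none,
      Module.Basis.map_apply]
    show ((bC.prod (Module.Basis.singleton PUnit.{1} ℤ) (Sum.inr PUnit.unit)).1 : Fin r → ℤ)
      + (bC.prod (Module.Basis.singleton PUnit.{1} ℤ) (Sum.inr PUnit.unit)).2 • d' = d'
    rw [Module.Basis.prod_apply_inr_fst, Module.Basis.prod_apply_inr_snd,
      Module.Basis.singleton_apply]
    simp
  refine ⟨𝔟, fun p => ?_⟩
  rw [h𝔟]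
  have h1 : d = (Finset.univ.gcd d) • d' := by
    funext i
    rw [hd' i (Finset.mem_univ i)]
    simp
  conv_lhs => rw [h1]
  rw [map_zsmul]
  simp

end Groth.Agent.Lib.helper6.SymLat
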