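import Mathlib
import Groth.Prelude.Def_PolLaw
import Groth.Prelude.Def_PolLaw2
import Groth.Prelude.Def_SymTen
import Groth.Agent.Lib.Helper6.GammaPol
import Groth.Agent.Lib.Helper6.GammaGen
import Groth.Agent.Lib.Helper6.GammaCoef
import Groth.Agent.Lib.Helper6.GammaUniv

/-!
# `TS^d_A(B)` is the divided power algebra when `d!` is invertible (helper6)

`isGammaD_tsLaw_of_isUnit`: if `d!` is a unit of `A` then `(TS^d_A(B), tsLaw)` is universal among
multiplicative laws of degree `d` out of `B`.  Also `val_cf`, `prod_typ`.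
-/

set_option autoImplicit false
set_option linter.unusedSectionVars false
set_option linter.unusedVariables false

universe u

open scoped TensorProduct
open PiTensorProduct MvPolynomial

namespace Groth.Agent.Lib.helper6.TSFact

open Groth.Agent.Lib.helper6.GammaPol Groth.Agent.Lib.helper6.GammaGen
open Groth.Agent.Lib.helper6.GammaUniv

section
variable {A B : Type u} [CommRing A] [CommRing B] [Algebra A B] (d : ℕ)

theorem prod_X_typ {n : ℕ} (c : Fin d → Fin n) :
    ∏ i, (X (c i) : MvPolynomial (Fin n) A) = monomial (typ c) 1 := by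
  unfold typ
  rw [MvPolynomial.monomial_sum_one]
  rfl

theorem prod_typ {S : Type u} [CommSemiring S] [Algebra A S] {n : ℕ} (s : Fin n → S)
    (c : Fin d → Fin n) : ∏ i, s (c i) = ∏ k, s k ^ (typ c k) := by
  have h := congrArg (MvPolynomial.aeval (R := A) s) (prod_X_typ (A := A) d c)
  rw [map_prod, MvPolynomial.aeval_monomial, map_one, one_mul,
    Finsupp.prod_fintype _ _ (fun i => pow_zero _)] at h
  simp_rw [MvPolynomial.aeval_X] at h
  exact h

/-- the value in the tensor power of a coefficient of `tsLaw` -/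
theorem val_cf {n : ℕ} (b : Fin n → B) (m : Fin n →₀ ℕ) :
    ((cf (tsLaw A B d).law b m : SymTen.TS A B d) : ⨂[A] _ : Fin d, B) =
      ∑ c : Fin d → Fin n,
        (if typ c = m then PiTensorProduct.tprod A (fun i => b (c i)) else 0) := by
  classical
  have h := tsLaw_sum A B d (MvPolynomial (Fin n) A) n (fun j => X j) b
  have h2 := congrArg (cv (N := ⨂[A] _ : Fin d, B) (MvPolynomial (Fin n) A)
    (MvPolynomial.lcoeff A m)) h
  rw [cv_lTensor, map_sum] at h2
  refine Eq.trans ?_ (h2.trans ?_)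
  · rfl
  · refine Finset.sum_congr rfl fun c _ => ?_
    rw [cv_tmul, MvPolynomial.lcoeff_apply, prod_X_typ, MvPolynomial.coeff_monomial]
    split_ifs <;> simp

theorem val_pol (b : Fin d → B) :
    ((pol (tsLaw A B d).law d b : SymTen.TS A B d) : ⨂[A] _ : Fin d, B) =
      ∑ σ : Equiv.Perm (Fin d), PiTensorProduct.tprod A (fun i => b (σ i)) := by
  show ((cf (tsLaw A B d).law b (one' d) : SymTen.TS A B d) : ⨂[A] _ : Fin d, B) = _
  rw [val_cf d b (one' d)]
  exact sum_typ_one (fun c => PiTensorProduct.tprod A (fun i => b (c i)))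

theorem pol_mem_coefSet (b : Fin d → B) :
    pol (tsLaw A B d).law d b ∈ coefSet (tsLaw A B d) :=
  ⟨MvPolynomial (Fin d) A, inferInstance, inferInstance, MvPolynomial.lcoeff A (one' d), gen b, rfl⟩

theorem exists_sym (w : ⨂[A] _ : Fin d, B) :
    ∃ c ∈ Submodule.span A (coefSet (tsLaw A B d)), ((c : SymTen.TS A B d) : ⨂[A] _ : Fin d, B) =
      ∑ σ : Equiv.Perm (Fin d), PiTensorProduct.reindex A (fun _ : Fin d => B) σ w := by
  induction w using PiTensorProduct.induction_on with
  | smul_tprod a b =>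
    refine ⟨a • pol (tsLaw A B d).law d b,
      Submodule.smul_mem _ a (Submodule.subset_span (pol_mem_coefSet d b)), ?_⟩
    show a • ((pol (tsLaw A B d).law d b : SymTen.TS A B d) : ⨂[A] _ : Fin d, B) = _
    rw [val_pol d b, Finset.smul_sum]
    refine Fintype.sum_equiv (Equiv.inv (Equiv.Perm (Fin d))) _ _ (fun σ => ?_)
    rw [map_smul, PiTensorProduct.reindex_tprod]
    rfl
  | add x y hx hy =>
    obtain ⟨cx, hcx, hx'⟩ := hx
    obtain ⟨cy, hcy, hy'⟩ := hy
    refine ⟨cx + cy, Submodule.add_mem _ hcx hcy, ?_⟩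
    show ((cx : SymTen.TS A B d) : ⨂[A] _ : Fin d, B) + cy = _
    rw [hx', hy', ← Finset.sum_add_distrib]
    refine Finset.sum_congr rfl fun σ _ => ?_
    rw [map_add]

theorem span_coefSet_of_isUnit (hd : IsUnit ((d.factorial : ℕ) : A)) :
    Submodule.span A (coefSet (tsLaw A B d)) = ⊤ := by
  rw [eq_top_iff]
  intro u _
  obtain ⟨c, hc, hcv⟩ := exists_sym d (u : ⨂[A] _ : Fin d, B)
  obtain ⟨v, hv⟩ := hd.exists_left_inv
  have hu : ∀ σ : Equiv.Perm (Fin d),
      PiTensorProduct.reindex A (fun _ : Fin d => B) σ (u : ⨂[A] _ : Fin d, B) = u :=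
    (SymTen.mem_TS_iff A B d _).mp u.2
  have h1 : ((c : SymTen.TS A B d) : ⨂[A] _ : Fin d, B) =
      ((d.factorial : ℕ) : A) • (u : ⨂[A] _ : Fin d, B) := by
    rw [hcv, Finset.sum_congr rfl (fun σ _ => hu σ), Finset.sum_const, Finset.card_univ,
      Fintype.card_perm, Fintype.card_fin, Nat.cast_smul_eq_nsmul]
  have h2 : u = v • c := by
    apply Subtype.ext
    show (u : ⨂[A] _ : Fin d, B) = v • ((c : SymTen.TS A B d) : ⨂[A] _ : Fin d, B)
    rw [h1, smul_smul, hv, one_smul]
  rw [h2]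
  exact Submodule.smul_mem _ v hc

theorem exists_lin_of_isUnit (hd : IsUnit ((d.factorial : ℕ) : A)) {C' : Type u} [CommRing C']
    [Algebra A C'] (F : PolLaw.MulLaw A B C' d) :
    ∃ f : SymTen.TS A B d →ₗ[A] C', ∀ (S : Type u) [CommSemiring S] [Algebra A S]
      (x : S ⊗[A] B), f.lTensor S ((tsLaw A B d).law.toFun' S x) = F.law.toFun' S x := by
  classical
  obtain ⟨v, hv⟩ := hd.exists_left_inv
  refine ⟨v • (psi F.law d ∘ₗ (SymTen.TS A B d).val.toLinearMap), fun S _ _ x => ?_⟩
  obtain ⟨n, s, b, rfl⟩ := exists_repr_fin S x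
  obtain ⟨Fb, h0, hkp⟩ := kp F.law b
  have e1 : (v • (psi F.law d ∘ₗ (SymTen.TS A B d).val.toLinearMap)).lTensor S
      ((tsLaw A B d).law.toFun' S (∑ j, s j ⊗ₜ[A] b j)) =
      v • ∑ c : Fin d → Fin n, (∏ i, s (c i)) ⊗ₜ[A] pol F.law d (fun i => b (c i)) := by
    rw [LinearMap.lTensor_smul, LinearMap.smul_apply, LinearMap.lTensor_comp,
      LinearMap.comp_apply, tsLaw_sum, map_sum]
    congr 1
    refine Finset.sum_congr rfl fun c _ => ?_
    rw [LinearMap.lTensor_tmul, psi_tprod]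
  rw [e1, hkp S s]
  have hsub : Fb ⊆ Fb ∪ Finset.univ.image (typ : (Fin d → Fin n) → (Fin n →₀ ℕ)) :=
    Finset.subset_union_left
  rw [Finset.sum_subset hsub (fun m _ hm => by rw [h0 m hm, TensorProduct.tmul_zero])]
  have hmaps : ∀ c ∈ (Finset.univ : Finset (Fin d → Fin n)),
      typ c ∈ Fb ∪ Finset.univ.image (typ : (Fin d → Fin n) → (Fin n →₀ ℕ)) := fun c _ =>
    Finset.mem_union_right _ (Finset.mem_image_of_mem _ (Finset.mem_univ c))
  rw [← Finset.sum_fiberwise_of_maps_to hmaps, Finset.smul_sum]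
  refine Finset.sum_congr rfl fun m _ => ?_
  have e2 : ∑ c ∈ Finset.univ.filter (fun c : Fin d → Fin n => typ c = m),
      (∏ i, s (c i)) ⊗ₜ[A] pol F.law d (fun i => b (c i)) =
      (∏ k, s k ^ m k) ⊗ₜ[A] (((d.factorial : ℕ) : A) • cf F.law b m) := by
    rw [Nat.cast_smul_eq_nsmul, ← euler F.law F.homog b m, TensorProduct.tmul_sum,
      Finset.sum_filter]
    refine Finset.sum_congr rfl fun c _ => ?_
    by_cases hc : typ c = m
    · rw [if_pos hc, if_pos hc, prod_typ (A := A) d s c, hc]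
    · rw [if_neg hc, if_neg hc, TensorProduct.tmul_zero]
  rw [e2, TensorProduct.tmul_smul, smul_smul, hv, one_smul]

theorem isGammaD_tsLaw_of_isUnit (hd : IsUnit ((d.factorial : ℕ) : A)) :
    PolLaw.IsGammaD (tsLaw A B d) :=
  isGammaD_of_span_of_lin _ (span_coefSet_of_isUnit d hd)
    (fun C' _ _ F => exists_lin_of_isUnit d hd F)

end

end Groth.Agent.Lib.helper6.TSFact
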