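import Groth.Agent.Lib.Helper6.NilpotentNoetherian
import Groth.Agent.Lib.Helper6.FSch
import Mathlib.AlgebraicGeometry.Noetherian

/-!
# Nilpotent thickenings of locally Noetherian schemes
-/

set_option autoImplicit false
universe u

open CategoryTheory CategoryTheory.Limits AlgebraicGeometry

namespace Groth.Agent.Lib.helper6

/-- If `Z ⟶ X` is a closed immersion whose kernel is nilpotent and finitely generated on a cover
by affine opens, and `Z` is locally Noetherian, then `X` is locally Noetherian. -/
theorem isLocallyNoetherian_of_thickening {Z X : Scheme.{u}} (i : Z ⟶ X) [IsClosedImmersion i]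
    [IsLocallyNoetherian Z] (N : ℕ) (hN : i.ker ^ N = ⊥) {ι : Type*} (W : ι → X.affineOpens)
    (hW : (⨆ a, (W a : X.Opens)) = ⊤) (hfg : ∀ a, (i.ker.ideal (W a)).FG) :
    IsLocallyNoetherian X := by
  refine isLocallyNoetherian_of_affine_cover hW fun a => ?_
  have hker : i.ker.ideal (W a) = RingHom.ker (i.app (W a)).hom := Scheme.Hom.ker_apply i (W a)
  have hsurj : Function.Surjective (i.app (W a)).hom := i.app_surjective (W a) (W a).2
  have hZ : IsNoetherianRing Γ(Z, i ⁻¹ᵁ (W a)) :=
    IsLocallyNoetherian.component_noetherian ⟨i ⁻¹ᵁ (W a), (W a).2.preimage i⟩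
  have hquot : IsNoetherianRing (Γ(X, W a) ⧸ i.ker.ideal (W a)) := by
    rw [hker]
    exact isNoetherianRing_of_ringEquiv _
      (RingHom.quotientKerEquivOfSurjective hsurj).symm
  have hpow : (i.ker.ideal (W a)) ^ N = ⊥ := by
    have := congrArg (fun K : X.IdealSheafData => K.ideal (W a)) hN
    simpa using this
  exact isNoetherianRing_of_fg_of_pow_eq_bot _ (hfg a) N hpow

/-- For a closed immersion `f`, the inverse image of the kernel of `f` along `f` vanishes. -/
theorem ker_comap_self {Z X : Scheme.{u}} (f : Z ⟶ X) [IsClosedImmersion f] :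
    f.ker.comap f = ⊥ := by
  have h : IsPullback (𝟙 Z) (𝟙 Z) f f := IsKernelPair.id_of_mono f
  rw [← ker_of_isPullback h, Scheme.Hom.ker_eq_bot_of_isIso]

end Groth.Agent.Lib.helper6
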